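import Cfsg.Agent.Mult.Slices
import Cfsg.Agent.Fi23C.Mul3D

set_option autoImplicit false
set_option Elab.async false
set_option maxRecDepth 100000
set_option linter.all false

namespace Cfsg.Agent.Fi23C
open Cfsg.Agent.CGT

open Cfsg.Agent.Mult

set_option Elab.async false
theorem u3_f1 : rulesD 15 m_ts u3_ds [51, 3, 37, 8, 2, 36, 11589, 1, 0] (takeL 9 (dropL 14 u3_D.fusRules)) = true := by decide +kernel
theorem u3_o : sylP u3_D 15 m_ts u3_ds [(57, [0x40000, 0x1000, 0x100, 0x10]), (10199, [0x400]), (277, [0x84000, 0x41a04]), (48, [0x1000000, 0x100000, 0x5140]), (71, [0x2400000, 0x50000]), (0, [0x2445561])] [] 13 = true := by decide +kernel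
theorem u3_ok : u3_D.okB = true := by decide +kernel
theorem u3_t0 : u3_D.vecsK (u3_D.M u3_c) u3_c.F [.assoc 0x40000 0x400 1, .assoc 0x40000 0x400 0x40, .assoc 0x40000 0x4000 0x400, .assoc 0x40000 0x10000 0x400, .assoc 0x40000 0x10000 0x4000, .assoc 0x100000 0x4000 0x400, .assoc 0x100000 0x4000 0x1000, .assoc 0x400000 0x100 0x40, .assoc 0x1000000 4 1, .assoc 0x1000000 0x10 4, .assoc 0x1000000 0x40 1, .assoc 0x1000000 0x40 4, .assoc 0x1000000 0x400 4, .assoc 0x1000000 0x4000 4, .assoc 0x40000 0x400 4, .assoc 0x40000 0x4000 1, .assoc 0x40000 0x4000 4, .assoc 0x40000 0x4000 0x40, .assoc 0x40000 0x10000 1, .assoc 0x100000 0x40 4, .assoc 0x100000 0x4000 4, .assoc 0x400000 0x10 4, .assoc 0x400000 0x40 4, .assoc 0x80 0x40 1, .assoc 0x200 0x100 0x40, .assoc 0x8000 0x4000 1, .assoc 0x10000 0x400 1, .assoc 0x20000 0x10000 0x400, .assoc 0x80000 0x40000 1, .assoc 0x100000 4 1, .assoc 0x400000 4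 1, .assoc 0x400000 0x10 1, .assoc 0x400 4 1, .assoc 0x4000 0x400 1, .assoc 0x10 0x20 0x10, .assoc 4 2 1, .assoc 0x400 0x10 1, .assoc 0x100000 8 4, .assoc 0x400 0x40 4, .assoc 0x8000 0x4000 4, .assoc 0x100000 0x10 4, .assoc 0x40000 4 1, .assoc 0x40000 0x100 0x40, .assoc 0x400 8 4, .assoc 0x10000 0x40 1, .assoc 0x10000 0x400 0x10, .assoc 0x4000 0x40 1, .assoc 0x4000 0x400 4, .assoc 0x800 0x400 4, .assoc 0x40000 0x40 4, .assoc 0x4000 4 1, .assoc 0x4000 0x40 4, .assoc 0x10000 0x40 4, .assoc 0x40000 0x10 4, .assoc 0x10000 4 1, .assoc 0x400 0x100 0x40, .assoc 0x40 0x10 1, .assoc 0x40000 0x10 1, .assoc 0x10000 0x10 4, .assoc 0x4000 0x10 4, .assoc 0x40 4 1, .assoc 0x1000 0x400 0x10, .assoc 0x40 8 4, .assoc 0x400 0x10 4, .assoc 8 4 1, .assoc 0x40 0x10 4, .assoc 0x1000 0x40 0x10, .assoc 0x1000 0x10 4, .assoc 0x1000 4 1, .assoc 0x100 0x40 4, .assoc 0x10 8 4, .assoc 0x100 0x40 1, .assoc 0x10 4 1,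 .assoc 0x100 4 1, .fus 13 [7, 1] [1, 7, 8], .fus 13 [5, 3] [3, 5, 6], .fus 13 [3, 0] [0, 3, 4], .fus 13 [3, 2] [2, 3, 4, 8], .fus 13 [1, 0] [0, 1, 3]] (fun l => beqL l u3_v0) = true := by decide +kernel
theorem u3_t1 : u3_D.vecsK (u3_D.M u3_c) u3_c.F [.fus 13 [0, 0, 0] [], .fus 13 [2, 0] [0, 2, 3, 3, 4, 6], .fus 14 [15, 10] [10, 15, 16], .fus 14 [13, 10] [10, 13, 15, 15, 16, 16], .fus 14 [14, 11] [11, 14, 15, 15], .fus 14 [13, 9] [9, 13, 15, 15]] (fun l => beqL l u3_v1) = true := by decide +kernel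
theorem u3_t2 : u3_D.vecsK (u3_D.M u3_c) u3_c.F [.fus 14 [12, 12, 12] [], .fus 15 [21, 17] [17, 21, 22], .fus 15 [19, 17] [17, 19, 20], .fus 15 [18, 18, 18] [20, 20, 22]] (fun l => beqL l u3_v2) = true := by decide +kernel

end Cfsg.Agent.Fi23C
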