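import Cfsg.Agent.Fi23C.Cert
import Cfsg.Agent.CGT.Out

set_option autoImplicit false
set_option Elab.async false
set_option maxRecDepth 100000
set_option linter.all false

namespace Cfsg.Agent.Fi23C
open Cfsg.Agent.CGT

noncomputable def g_Ws : List (List ℕ) := [[12, 8, 10, 16, 0, 12, 0, 6, 4, 0, 4, 14, 10, 12, 4, 10, 6, 14, 2, 16, 8, 10, 6, 4, 16, 0, 12, 6, 18, 2, 12], [18, 6, 14, 12, 8, 6, 16, 18, 4, 6, 16, 8, 10, 6, 8, 4, 6, 16, 18, 6, 8, 2, 4, 6, 16, 0, 2, 4, 6, 8, 10, 12, 14, 10, 8, 0, 2, 4, 6, 16, 18, 6, 8, 4, 6, 16, 8, 10, 12, 6, 8, 10, 4, 6, 8, 2, 4, 6, 16, 18, 12, 10, 4, 6, 8, 2, 4, 6, 16, 0, 2, 4, 6, 8, 10, 12, 6, 8, 4, 6, 16, 18, 4, 2, 6, 4, 8, 6, 10, 8, 16, 6, 4, 2, 10, 8, 6, 16, 4, 6,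 8, 10, 0, 4, 6, 4], [0, 4, 0, 18, 16, 6, 8, 2, 4, 6, 16, 18, 10, 8, 6, 16, 14, 10, 12, 6, 8, 10, 4, 6, 8, 0, 2, 4, 6, 16, 18, 10, 4, 6, 8, 2, 4, 6, 16, 0, 2, 4, 6, 8, 10, 12, 14, 16, 10, 12, 8, 10, 4, 6, 8, 2, 4, 6, 16, 18, 16, 10, 6, 8, 2, 4, 6, 16, 0, 2, 4, 6, 8, 10, 12, 2, 0, 4, 2, 8, 6, 16, 10, 0, 2, 4, 6, 8, 16, 0, 2, 4, 6, 8, 16, 0, 2, 4, 6, 8, 16, 0, 2, 4, 6, 8, 16, 0, 2, 4, 6, 8, 16, 18, 8, 10, 16, 4, 6, 8, 6, 4], [4, 6, 4, 6, 18, 16, 6, 16, 18, 10, 8, 10, 6, 4, 2, 16, 18, 8, 6, 16, 10, 12, 8, 10, 6, 8, 4, 6, 16, 18, 8, 2, 4, 6, 16, 0, 2, 4, 6, 8, 10, 12, 18, 10, 8, 16, 6, 4, 2, 4, 8, 6, 16, 4, 6, 8, 10, 0, 2, 4, 6, 8, 16, 0, 2, 4, 6, 8, 16, 0, 2, 4, 6, 8, 16, 0, 2, 4, 6, 8, 16, 0, 2, 4,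 6, 8, 16, 18, 10, 0, 2, 4, 6, 8, 16, 0, 2, 4, 6, 8, 16, 0, 2, 4, 6, 8, 16, 0, 2, 4, 6, 8, 16, 0, 2, 4, 6, 8, 4, 6, 8, 10, 0, 4, 6, 8, 4], [4, 6, 8, 2, 6, 4, 6, 16, 18, 8, 6, 16, 10, 12, 8, 10, 4, 6, 8, 0, 2, 4, 6, 16, 18, 16, 10, 4, 6, 8, 2, 4, 6, 16, 0, 2, 4, 6, 8, 10, 12, 6, 8, 0, 2, 4, 6, 16, 18, 4, 2, 16, 6, 4, 8, 6, 10, 8, 16, 6, 4, 2, 18, 6, 8, 16, 10, 4, 8, 6, 4, 16, 18, 0, 2, 4, 6, 8, 16, 0, 2, 4, 6, 8, 16, 0, 2, 4, 6, 8, 16, 0, 2, 4, 6, 8, 16, 0, 2, 4, 6, 8, 16, 10, 8, 6, 16, 18, 6, 16, 6, 8, 4], [4, 6, 16, 18, 2, 4, 8, 6, 10, 8, 16, 6, 4, 2, 6, 10, 8, 6, 16, 4, 6, 18, 16, 6, 8, 10, 0, 2, 4, 6, 8, 16, 0, 2, 4, 6, 8, 16, 0, 2, 4, 6, 8, 16, 0, 2, 4, 6, 8, 16, 0, 2, 4, 6, 8, 16, 18, 0, 2, 4,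 6, 8, 16, 0, 2, 4, 6, 8, 16, 0, 2, 4, 6, 8, 16, 0, 2, 4, 6, 8, 16, 0, 2, 4, 6, 8, 16, 8, 6, 16, 4, 6, 8, 10, 8, 6, 16, 0, 16, 6, 4, 8, 6, 16, 0, 2, 4, 6, 8, 16, 0, 2, 4, 6, 8, 16, 0, 2, 4, 6, 8, 16, 0, 2, 4, 6, 8, 16, 0, 2, 4, 6, 8, 16, 6], [10, 18, 4, 6, 16, 18, 2, 4, 8, 6, 10, 8, 16, 6, 4, 2, 6, 8, 18, 16, 10, 8, 6, 4, 16, 18, 0, 2, 4, 6, 8, 16, 0, 2, 4, 6, 8, 16, 0, 2, 4, 6, 8, 16, 0, 2, 4, 6, 8, 16, 0, 2, 4, 6, 8, 16, 10, 8, 6, 16, 18, 6, 8, 10, 0, 2, 4, 6, 8, 16, 0, 2, 4, 6, 8, 16, 0, 2, 4, 6, 8, 16, 0, 2, 4, 6, 8, 16, 0, 2, 4, 6, 8, 6, 8, 10, 8, 6, 16, 0, 4, 6, 8, 6], [0, 4, 6, 16, 18, 2, 4, 8, 6, 10, 8, 16, 6, 4, 2, 10, 4, 8, 6, 4, 16, 18, 0, 2, 4, 6, 8, 16, 0, 2, 4, 6, 8, 16, 0, 2, 4, 6,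 8, 16, 0, 2, 4, 6, 8, 16, 0, 2, 4, 6, 8, 16, 10, 8, 6, 16, 18, 10, 0, 2, 4, 6, 8, 16, 0, 2, 4, 6, 8, 16, 0, 2, 4, 6, 8, 16, 0, 2, 4, 6, 8, 16, 0, 2, 4, 6, 8, 16, 4, 6, 8, 10, 4, 6, 16, 0, 16, 6, 4, 8, 6, 16, 0, 2, 4, 6, 8, 16, 0, 2, 4, 6, 8, 16, 0, 2, 4, 6, 8, 16, 0, 2, 4, 6, 8, 16, 0, 2, 4, 6, 8, 16, 6], [10, 18, 4, 6, 16, 18, 2, 4, 8, 6, 10, 8, 16, 6, 4, 2, 6, 8, 18, 16, 10, 8, 6, 4, 16, 18, 0, 2, 4, 6, 8, 16, 0, 2, 4, 6, 8, 16, 0, 2, 4, 6, 8, 16, 0, 2, 4, 6, 8, 16, 0, 2, 4, 6, 8, 16, 10, 8, 6, 16, 18, 6, 8, 10, 0, 2, 4, 6, 8, 16, 0, 2, 4, 6, 8, 16, 0, 2, 4, 6, 8, 16, 0, 2, 4, 6, 8, 16, 0, 2, 4, 6, 8, 6, 8, 10, 8, 6, 16, 0, 4, 6, 8, 6], [8, 6, 2, 4, 0, 6, 16, 18, 8, 6, 10, 8, 16, 6, 4, 2, 18, 8,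 10, 0, 2, 4, 6, 8, 16, 0, 2, 4, 6, 8, 16, 0, 2, 4, 6, 8, 16, 0, 2, 4, 6, 8, 16, 0, 2, 4, 6, 8, 6, 8, 10, 18, 16, 6, 8, 4, 6, 16, 18, 6, 8, 10, 8, 4, 6, 16, 4, 6, 8, 4, 6, 4], [10, 0, 2, 4, 6, 8, 16, 0, 2, 4, 6, 8, 16, 0, 2, 4, 6, 8, 16, 0, 2, 4, 6, 8, 16, 0, 2, 4, 6, 8, 16, 8, 6, 16, 18, 10, 0, 2, 4, 6, 8, 16, 0, 2, 4, 6, 8, 16, 0, 2, 4, 6, 8, 16, 0, 2, 4, 6, 8, 16, 0, 2, 4, 6, 8, 16, 8, 10, 4, 6, 8, 6, 4], [10, 0, 2, 4, 6, 8, 16, 0, 2, 4, 6, 8, 16, 0, 2, 4, 6, 8, 16, 0, 2, 4, 6, 8, 16, 0, 2, 4, 6, 8, 16, 8, 6, 16, 18, 10, 0, 2, 4, 6, 8, 16, 0, 2, 4, 6, 8, 16, 0, 2, 4, 6, 8, 16, 0, 2, 4, 6, 8, 16, 0, 2, 4, 6, 8, 16, 8, 10, 4, 6, 8, 6, 4], [10, 18, 0, 2, 4, 6, 8, 16, 0, 2, 4, 6, 8, 16, 0, 2, 4, 6,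 8, 16, 0, 2, 4, 6, 8, 16, 0, 2, 4, 6, 8, 16, 10, 18, 16, 6, 8, 4, 6, 16, 18, 16, 6, 8, 10, 4, 6, 16], [0, 2, 16, 6, 8, 16, 2, 10, 0, 2, 4, 6, 8, 16, 0, 2, 4, 6, 8, 16, 0, 2, 4, 6, 8, 16, 0, 2, 4, 6, 8, 16, 0, 2, 4, 6, 8, 16, 6, 16, 4, 6, 8, 10, 6, 8, 6], [8], [6, 8, 10, 0, 2, 4, 6, 8, 16, 0, 2, 4, 6, 8, 16, 0, 2, 4, 6, 8, 16, 0, 2, 4, 6, 8, 16, 0, 2, 4, 6, 8, 4, 6, 8, 10, 6, 8, 4, 6, 16, 6, 8], [6, 8, 4, 6, 16, 0, 6, 8, 6], [8, 6, 16, 0, 2, 4, 6, 8, 16, 0, 2, 4, 6, 8, 16, 0, 2, 4, 6, 8, 16, 0, 2, 4, 6, 8, 16, 0, 2, 4, 6, 8, 16, 6, 8, 6, 4], [6, 16, 0, 6, 8, 4, 6, 4], [6, 8, 4, 6, 4], [0, 16, 6, 4, 8, 6, 16, 0, 2, 4, 6, 8, 16, 0, 2, 4, 6, 8, 16, 0, 2, 4, 6, 8, 16, 0, 2, 4, 6, 8, 16, 0, 2, 4, 6, 8,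 16, 8, 6], [8], [6, 8, 4, 6, 4], [6, 8, 4, 6, 4], [4, 6, 8], [4], [4], [4, 6, 4], [0], [2], [4], [6], [8], [10], [12], [14], [16], [18]]
theorem g_s0 : slpB 15 m_ts (chainBase [] c_ls) g_Ws [[1, 5, 0, 3, 5, 4, 0, 0, 5, 1], [1, 3, 1, 2, 2, 4, 3, 2, 4, 4, 4, 3], [7, 9, 7, 9, 8, 6, 6, 8, 8], [7, 9, 6, 8, 8, 9, 9, 8, 8], [7, 9, 6, 8, 8], [7, 9, 6, 8, 8, 8, 9], [9, 7, 9, 7, 9, 7, 9, 6, 9, 6, 6], [10, 18, 12, 19, 17], [10, 18, 12, 19, 17], [18, 11, 17, 13, 10, 15, 19], [25, 21, 25, 25, 21, 24, 20, 24, 23, 25, 23, 24, 24], [21, 25, 20, 21, 25, 25, 20], [25, 20, 25, 21, 20, 23, 20, 25, 22, 25], [27, 29, 30, 28, 31, 29, 31], [26, 31, 29, 26, 29, 26, 26, 29, 31, 26], [30, 28, 28, 26], [33, 35, 35, 33, 36,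 33], [33, 33, 35, 34, 36, 35, 37, 36], [41, 39, 40, 41, 41, 40, 41], [41, 41, 40, 40, 38], [38, 38, 39], [41, 39, 40], [44, 45, 44, 44, 42], [45, 45, 43], [43, 45, 48], [32, 32, 32], [10, 18, 11, 11, 19, 10, 20, 20, 24, 20, 20, 20, 26, 28, 30, 34, 33, 45, 54, 50], [50], [50, 54, 50], [42], [28, 31, 28, 27, 34, 40, 42], [7, 8, 7, 7, 8, 6, 8, 7, 7, 9, 10, 19, 11, 11, 21, 24, 21, 24, 26, 34, 32, 32, 45, 54], [0, 6, 9, 7, 7, 8, 6, 9, 9, 6, 11, 18, 10, 24, 24, 20, 25, 25, 21, 27, 31, 28, 26, 34, 33, 44, 50, 54, 50], [34, 33, 40, 54, 50], [20, 20, 24, 21, 24, 27, 35, 32, 40, 45, 50]] 3 38 = true := by decide +kernel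
theorem g_top {G : Type*} [Group G] {φ : G →* Equiv.Perm ℕ} {γ : ℕ → G}
    (C : Cert φ γ 15 l0_ns m_ts [0, 2, 4, 6, 8, 10, 12, 14, 16, 18] c_ls) : gw γ (g_Ws.take 3) = ⊤ := by
  have h0 : SlpTo γ (gw γ (g_Ws.take 3)) g_Ws 3 := fun i hi =>
    ev_mem_gw γ (by interval_cases i <;> decide +kernel)
  rw [eq_top_iff, ← C.gen]
  exact SlpTo.gp_le (SlpTo.step C.M C.base (by decide +kernel) h0 g_s0) (by decide +kernel)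

end Cfsg.Agent.Fi23C
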