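import Cfsg.Agent.Fi23C.OutU
import Cfsg.Agent.CGT.Out3

set_option autoImplicit false
set_option Elab.async false
set_option maxRecDepth 100000
set_option linter.all false

namespace Cfsg.Agent.Fi23C
open Cfsg.Agent.CGT

noncomputable def od : OutD := ⟨15, m_ts, (chainBase [] c_ls), [12, 8, 10, 16, 0, 12, 0, 6, 4, 0, 4, 14, 10, 12, 4, 10, 6, 14, 2, 16, 8, 10, 6, 4, 16, 0, 12, 6, 18, 2, 12], [18, 6, 14, 12, 8, 6, 16, 18, 4, 6, 16, 8, 10, 6, 8, 4, 6, 16, 18, 6, 8, 2, 4, 6, 16, 0, 2, 4, 6, 8, 10, 12, 14, 10, 8, 0, 2, 4, 6, 16, 18, 6, 8, 4, 6, 16, 8, 10, 12, 6, 8, 10, 4, 6, 8, 2, 4, 6, 16, 18, 12, 10, 4, 6, 8, 2, 4, 6, 16, 0, 2, 4, 6, 8, 10, 12, 6, 8, 4, 6, 16, 18, 4, 2, 6, 4, 8, 6, 10, 8, 16, 6, 4, 2, 10,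 8, 6, 16, 4, 6, 8, 10, 0, 4, 6, 4], [0, 4, 0, 18, 16, 6, 8, 2, 4, 6, 16, 18, 10, 8, 6, 16, 14, 10, 12, 6, 8, 10, 4, 6, 8, 0, 2, 4, 6, 16, 18, 10, 4, 6, 8, 2, 4, 6, 16, 0, 2, 4, 6, 8, 10, 12, 14, 16, 10, 12, 8, 10, 4, 6, 8, 2, 4, 6, 16, 18, 16, 10, 6, 8, 2, 4, 6, 16, 0, 2, 4, 6, 8, 10, 12, 2, 0, 4, 2, 8, 6, 16, 10, 0, 2, 4, 6, 8, 16, 0, 2, 4, 6, 8, 16, 0, 2, 4, 6, 8, 16, 0, 2, 4, 6, 8, 16, 0, 2, 4, 6, 8, 16, 18, 8, 10, 16, 4, 6, 8, 6, 4], [18, 6, 14, 12, 8, 6, 16, 18, 4, 6, 16, 8, 10, 6, 8, 4, 6, 16, 18, 6, 8, 2, 4, 6, 16, 0, 2, 4, 6, 8, 10, 12, 14, 10, 8, 0, 2, 4, 6, 16, 18, 6, 8, 4, 6, 16, 8, 10, 12, 6, 8, 10, 4, 6, 8, 2, 4, 6, 16, 18, 12, 10, 4, 6, 8, 2, 4, 6, 16, 0, 2, 4, 6, 8, 10, 12, 6, 8, 4, 6,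 16, 18, 4, 2, 6, 4, 8, 6, 10, 8, 16, 6, 4, 2, 10, 8, 6, 16, 4, 6, 8, 10, 0, 4, 6, 4], 23, 2, 1, 3, 10, [1, 5], [[0, 6, 16, 18, 16, 18, 6, 16, 8, 10, 6, 8, 4, 6, 16, 18, 6, 16, 8, 10, 6, 8, 2, 4, 6, 16, 0, 2, 4, 6, 8, 10, 12, 14, 18, 16, 6, 8, 0, 2, 4, 6, 16, 18, 6, 16, 12, 10, 4, 6, 8, 2, 4, 6, 16, 0, 2, 4, 6, 8, 10, 12, 10, 6, 8, 4, 6, 0, 2, 4, 6, 16, 18, 8, 6, 10, 8, 16, 6, 4, 2, 6, 10, 8, 6, 4, 16, 6, 18, 16, 4, 6, 8, 10, 0, 2, 4, 6, 8, 16, 0, 2, 4, 6, 8, 16, 0, 2, 4, 6, 8, 16, 0, 2, 4, 6, 8, 16, 0, 2, 4, 6, 8, 16, 18, 8, 10, 0, 2, 4, 6, 8, 16, 0, 2, 4, 6, 8, 16, 0, 2, 4, 6, 8, 16, 0, 2, 4, 6, 8, 16, 0, 2, 4, 6, 8, 16, 4, 6, 8, 10, 4, 6, 16, 0, 8, 4, 6, 4], [18, 10, 8, 6, 16, 12, 10, 4, 6, 8, 0, 2,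 4, 6, 16, 18, 16, 10, 4, 6, 8, 2, 4, 6, 16, 0, 2, 4, 6, 8, 10, 12, 14, 8, 6, 16, 10, 12, 8, 10, 4, 6, 8, 0, 2, 4, 6, 16, 18, 8, 10, 6, 8, 2, 4, 6, 16, 0, 2, 4, 6, 8, 10, 12, 0, 8, 16, 6, 4, 2, 4, 6, 10, 8, 6, 4, 16, 18, 6, 16, 8, 10, 0, 2, 4, 6, 8, 16, 0, 2, 4, 6, 8, 16, 0, 2, 4, 6, 8, 16, 0, 2, 4, 6, 8, 16, 0, 2, 4, 6, 8, 16, 18, 4, 6, 8, 10, 6, 16, 6, 8, 6], [0, 2, 16, 12, 10, 8, 6, 16, 12, 10, 4, 6, 8, 0, 2, 4, 6, 16, 18, 16, 10, 4, 6, 8, 2, 4, 6, 16, 0, 2, 4, 6, 8, 10, 12, 14, 16, 4, 6, 8, 2, 4, 6, 16, 18, 8, 10, 6, 8, 2, 4, 6, 16, 0, 2, 4, 6, 8, 10, 12, 16, 18, 8, 6, 10, 8, 16, 6, 4, 2, 8, 6, 16, 18, 10, 0, 2, 4, 6, 8, 16, 0, 2, 4, 6, 8, 16, 0, 2, 4, 6, 8, 16, 0, 2, 4, 6, 8, 16, 0, 2, 4, 6, 8, 16,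 6, 8, 10, 18, 16, 6, 8, 4, 6, 16, 18, 0, 2, 4, 6, 8, 16, 0, 2, 4, 6, 8, 16, 0, 2, 4, 6, 8, 16, 0, 2, 4, 6, 8, 16, 0, 2, 4, 6, 8, 16, 6, 8, 10]], [[0, 0, 5, 0, 0, 5, 0, 0, 5, 0, 0, 5, 0, 0, 5, 0, 0, 5, 0, 0, 5, 0, 0, 5, 0, 0, 5, 0, 0, 5, 0, 0, 5], [0, 3, 5, 0, 3, 5, 0, 3, 5, 0, 3, 5, 0, 3, 5, 0, 3, 5, 0, 3, 5, 0, 3, 5, 0, 3, 5, 0, 3, 5, 0, 3, 5]], [[[12, 8, 10, 16, 0, 12, 0, 6, 4, 0, 4, 14, 10, 12, 4, 10, 6, 14, 2, 16, 8, 10, 6, 4, 16, 0, 12, 6, 18, 2, 12], [18, 6, 14, 12, 8, 6, 16, 18, 4, 6, 16, 8, 10, 6, 8, 4, 6, 16, 18, 6, 8, 2, 4, 6, 16, 0, 2, 4, 6, 8, 10, 12, 14, 10, 8, 0, 2, 4, 6, 16, 18, 6, 8, 4, 6, 16, 8, 10, 12, 6, 8, 10, 4, 6, 8, 2, 4, 6, 16, 18, 12, 10, 4, 6, 8, 2, 4, 6, 16, 0, 2, 4, 6, 8,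 10, 12, 6, 8, 4, 6, 16, 18, 4, 2, 6, 4, 8, 6, 10, 8, 16, 6, 4, 2, 10, 8, 6, 16, 4, 6, 8, 10, 0, 4, 6, 4], [0, 4, 0, 18, 16, 6, 8, 2, 4, 6, 16, 18, 10, 8, 6, 16, 14, 10, 12, 6, 8, 10, 4, 6, 8, 0, 2, 4, 6, 16, 18, 10, 4, 6, 8, 2, 4, 6, 16, 0, 2, 4, 6, 8, 10, 12, 14, 16, 10, 12, 8, 10, 4, 6, 8, 2, 4, 6, 16, 18, 16, 10, 6, 8, 2, 4, 6, 16, 0, 2, 4, 6, 8, 10, 12, 2, 0, 4, 2, 8, 6, 16, 10, 0, 2, 4, 6, 8, 16, 0, 2, 4, 6, 8, 16, 0, 2, 4, 6, 8, 16, 0, 2, 4, 6, 8, 16, 0, 2, 4, 6, 8, 16, 18, 8, 10, 16, 4, 6, 8, 6, 4]]]⟩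
theorem od_b : od.basic 4089470473293004800 0 = true := by decide +kernel
theorem od_c : conjB 15 m_ts (chainBase [] c_ls) [12, 10, 8, 6, 4, 2, 0, 16, 6, 4, 2, 8, 10, 12, 18, 16, 6, 4, 8, 6, 10, 8, 12, 10, 16, 18] od.u cu_S.u od.Cl cu_S.Cl = true := by decide +kernel
theorem od_k1_0 : od.cands 1 ((([] :: od.Cl).drop 0).take 3) [[0, 810753, 1, 1, 3, 1, 1, 1, 1, 1, 1], [1, 1, 1, 1, 1, 1, 1, 1, 1, 1, 1], [1, 1, 1, 1, 1, 1, 1, 1, 1, 1, 1]] = true := by decide +kernel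
theorem od_k1_1 : od.cands 1 ((([] :: od.Cl).drop 3).take 1) [[1, 1, 1, 1, 1, 1, 1, 1, 1, 1, 1]] = true := by decide +kernel
theorem od_k5_0 : od.cands 5 ((([] :: od.Cl).drop 0).take 2) [[1, 1, 1, 1, 1, 1, 1, 1, 1, 1, 1], [810753, 1, 1, 1, 1, 1, 1, 1, 1, 1, 1]] = true := by decide +kernel
theorem od_k5_1 : od.cands 5 ((([] :: od.Cl).drop 2).take 2) [[1, 1, 1, 1, 1, 1, 1, 1, 1, 1, 1], [1, 1, 1, 1, 1, 1, 1, 1, 1, 1, 1]] = true := by decide +kernel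

end Cfsg.Agent.Fi23C
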