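import Cfsg.Agent.Fi23C.OutUD0

set_option autoImplicit false
set_option Elab.async false
set_option maxRecDepth 100000
set_option linter.all false

namespace Cfsg.Agent.Fi23C
open Cfsg.Agent.CGT

theorem cu_r7 : cu_S.run (.cons [18, 6, 16, 4, 6, 8, 2, 4, 6, 16, 18, 12, 10, 8, 2, 4, 6, 16, 0, 2, 4, 6, 8, 10, 12, 14] (.cons [14, 16, 4, 6, 14, 10, 12, 8, 10, 6, 8, 4, 6, 14, 16, 14, 8, 10, 4, 6, 8, 2, 4, 6, 14, 0, 2, 4, 6, 8, 10, 12] (.cons [2, 10, 12, 14, 6, 8, 4, 6, 10] .nil .nil) .nil) (.cons [10, 12, 8, 10, 6, 8, 2, 4, 6, 16, 18, 12, 10, 8, 2, 4, 6, 16, 0, 2, 4, 6, 8, 10, 12, 14] (.cons [6, 14, 16, 10, 8, 4, 6, 14, 12, 8, 10, 4, 6, 8, 2, 4, 6, 14, 16, 12, 8, 10, 6, 8, 2, 4, 6, 14, 0, 2, 4, 6, 8, 10, 12]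 (.cons [2, 4, 0, 2, 6, 12, 8, 6, 4, 6, 8, 10, 12, 8, 6, 12, 14, 4, 6, 2] .nil .nil) .nil) (.cons [16, 8, 10, 4, 6, 8, 0, 2, 4, 6, 16, 18, 10, 8, 2, 4, 6, 16, 0, 2, 4, 6, 8, 10, 12, 14] (.cons [14, 16, 10, 0, 2, 4, 6, 14, 16, 8, 6, 14, 10, 12, 8, 10, 6, 8, 4, 6, 14, 16, 8, 2, 4, 6, 14, 0, 2, 4, 6, 8, 10, 12] .nil .nil) (.cons [10, 12, 8, 10, 6, 8, 0, 2, 4, 6, 16, 18, 10, 8, 2, 4, 6, 16, 0, 2, 4, 6, 8, 10, 12, 14] (.cons [2, 6, 14, 16, 4, 6, 14, 12, 8, 10, 6, 8, 4, 6, 14, 16, 12, 8, 10, 6, 8, 2, 4, 6, 14, 0, 2, 4, 6, 8, 10, 12] (.cons [0, 4, 8, 6, 4, 2] .nil .nil) .nil) (.cons [16, 12, 8, 10, 6, 8, 0, 2, 4, 6, 16, 18, 10, 8, 2, 4, 6, 16, 0, 2, 4, 6, 8, 10, 12, 14] (.cons [4, 6, 14, 12, 8, 10, 6, 8, 2, 4,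 6, 14, 16, 14, 10, 6, 8, 4, 6, 14, 0, 2, 4, 6, 8, 10, 12] .nil .nil) (.cons [6, 16, 8, 10, 6, 8, 0, 2, 4, 6, 16, 18, 10, 8, 2, 4, 6, 16, 0, 2, 4, 6, 8, 10, 12, 14] (.cons [16, 10, 8, 4, 6, 14, 12, 6, 8, 10, 4, 6, 8, 2, 4, 6, 14, 16, 8, 10, 4, 6, 8, 2, 4, 6, 14, 0, 2, 4, 6, 8, 10, 12] .nil .nil) (.cons [16, 12, 8, 10, 4, 6, 8, 2, 4, 6, 16, 18, 10, 8, 2, 4, 6, 16, 0, 2, 4, 6, 8, 10, 12, 14] (.cons [14, 12, 8, 10, 6, 8, 0, 2, 4, 6, 14, 16, 4, 6, 8, 2, 4, 6, 14, 0, 2, 4, 6, 8, 10, 12] (.cons [12, 14, 12, 6, 4, 0, 2, 4, 8, 10] .nil .nil) .nil) (.cons [16, 14, 12, 8, 10, 6, 8, 2, 4, 6, 16, 18, 10, 8, 2, 4, 6, 16, 0, 2, 4, 6, 8, 10, 12, 14] (.cons [8, 10, 6, 8, 2, 4, 6, 14, 16, 14, 6, 8, 4, 6, 14, 2, 4, 6, 8,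 10, 12] .nil .nil) (.cons [18, 16, 10, 12, 8, 10, 6, 8, 4, 6, 16, 18, 10, 8, 2, 4, 6, 16, 0, 2, 4, 6, 8, 10, 12, 14] (.cons [6, 14, 16, 8, 10, 14, 6, 0, 2, 4, 6, 14, 8, 10, 12, 6, 8, 10, 4, 6, 8, 2, 4, 6, 14, 16, 14, 6, 8, 4, 6, 14, 0, 2, 4, 6, 8, 10, 12] (.cons [6, 12, 2, 4, 6, 8, 4, 10, 12, 8, 6, 4, 12, 14] .nil .nil) .nil) (.cons [18, 16, 14, 12, 8, 10, 6, 8, 4, 6, 16, 18, 10, 8, 2, 4, 6, 16, 0, 2, 4, 6, 8, 10, 12, 14] (.cons [16, 14, 6, 8, 4, 6, 14, 16, 12, 10, 8, 6, 14, 10, 12, 8, 10, 4, 6, 8, 2, 4, 6, 14, 16, 10, 4, 6, 8, 2, 4, 6, 14, 0, 2, 4, 6, 8, 10, 12] (.cons [4, 10, 6, 8, 6, 4, 10, 0, 2, 4, 8, 6] .nil .nil) .nil) (.cons [18, 6, 16, 12, 8, 10, 6, 8, 4, 6, 16, 18, 10, 8, 2, 4, 6, 16, 0, 2, 4,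 6, 8, 10, 12, 14] (.cons [8, 2, 10, 16, 14, 8, 6, 14, 16, 4, 6, 14, 8, 10, 12, 6, 8, 10, 4, 6, 8, 2, 4, 6, 14, 16, 6, 8, 4, 6, 14, 0, 2, 4, 6, 8, 10, 12] .nil .nil) (.cons [18, 4, 6, 16, 8, 10, 6, 8, 4, 6, 16, 18, 10, 8, 2, 4, 6, 16, 0, 2, 4, 6, 8, 10, 12, 14] (.cons [16, 14, 6, 8, 4, 6, 14, 16, 10, 8, 4, 6, 14, 10, 12, 8, 10, 4, 6, 8, 2, 4, 6, 14, 16, 10, 4, 6, 8, 2, 4, 6, 14, 0, 2, 4, 6, 8, 10, 12] .nil .nil) (.cons [16, 14, 12, 8, 10, 6, 8, 0, 2, 4, 6, 16, 18, 8, 2, 4, 6, 16, 0, 2, 4, 6, 8, 10, 12, 14] (.cons [16, 6, 14, 6, 8, 10, 4, 6, 8, 2, 4, 6, 14, 16, 14, 10, 6, 8, 2, 4, 6, 14, 0, 2, 4, 6, 8, 10, 12] .nil .nil) (.cons [12, 14, 10, 12, 8, 10, 6, 8, 2, 4, 6, 16, 18, 8, 2, 4, 6, 16, 0, 2, 4, 6, 8,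 10, 12, 14] (.cons [16, 14, 4, 6, 8, 2, 4, 6, 14, 16, 6, 14, 10, 4, 6, 8, 2, 4, 6, 14, 0, 2, 4, 6, 8, 10, 12] (.cons [8, 4, 12, 6, 4, 2, 8, 6] .nil .nil) .nil) (.cons [18, 6, 16, 12, 8, 10, 6, 8, 2, 4, 6, 16, 18, 8, 2, 4, 6, 16, 0, 2, 4, 6, 8, 10, 12, 14] (.cons [10, 8, 6, 14, 16, 8, 4, 6, 14, 10, 12, 8, 10, 4, 6, 8, 2, 4, 6, 14, 16, 12, 10, 6, 8, 2, 4, 6, 14, 0, 2, 4, 6, 8, 10, 12] (.cons [4, 2, 8, 6, 4, 12, 6, 8, 14, 12, 6, 4, 2, 8, 10, 12, 14] .nil .nil) .nil) (.cons [12, 10, 8, 4, 6, 16, 18, 16, 14, 10, 12, 8, 10, 6, 8, 4, 6, 16, 0, 2, 4, 6, 8, 10, 12, 14] (.cons [16, 12, 10, 8, 4, 6, 14, 10, 12, 8, 10, 4, 6, 8, 2, 4, 6, 14, 16, 12, 10, 8, 2, 4, 6, 14, 0, 2, 4, 6, 8, 10, 12] (.cons [12, 10, 0, 4,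 6, 4, 2, 12, 6, 4] .nil .nil) .nil) (.cons [12, 10, 8, 6, 16, 18, 8, 6, 16, 10, 12, 8, 10, 6, 8, 4, 6, 16, 0, 2, 4, 6, 8, 10, 12, 14] (.cons [8, 6, 14, 16, 6, 14, 12, 10, 4, 6, 8, 2, 4, 6, 14, 0, 2, 4, 6, 8, 10, 12] (.cons [0, 2, 4, 8, 10, 12, 6, 8, 10, 4, 6, 12, 14, 8, 6, 4, 2] .nil .nil) .nil) (.cons [8, 10, 6, 8, 2, 4, 6, 16, 18, 10, 12, 8, 10, 6, 8, 4, 6, 16, 0, 2, 4, 6, 8, 10, 12, 14] (.cons [14, 16, 8, 6, 14, 12, 8, 10, 2, 4, 6, 8, 0, 2, 4, 6, 14, 16, 8, 10, 4, 6, 8, 2, 4, 6, 14, 0, 2, 4, 6, 8, 10, 12] (.cons [12, 14, 2, 4, 6, 4, 0, 2, 8, 6, 10, 4] (.cons [4, 1] .nil .nil) .nil) .nil) (.cons [14, 12, 10, 8, 2, 4, 6, 16, 18, 10, 12, 8, 10, 6, 8, 4, 6, 16, 0, 2, 4, 6, 8, 10, 12, 14] .nil (.cons [16,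 6, 8, 0, 2, 4, 6, 16, 18, 14, 12, 8, 10, 6, 8, 4, 6, 16, 0, 2, 4, 6, 8, 10, 12, 14] (.cons [16, 14, 6, 14, 8, 10, 4, 6, 8, 2, 4, 6, 14, 16, 12, 8, 10, 6, 8, 4, 6, 14, 0, 2, 4, 6, 8, 10, 12] .nil .nil) (.cons [10, 4, 6, 8, 2, 4, 6, 16, 18, 14, 12, 8, 10, 6, 8, 4, 6, 16, 0, 2, 4, 6, 8, 10, 12, 14] (.cons [16, 14, 4, 6, 8, 2, 4, 6, 14, 16, 12, 10, 6, 8, 2, 4, 6, 14, 0, 2, 4, 6, 8, 10, 12] (.cons [0, 2, 4, 6, 12, 2, 8, 10, 6, 4, 0, 2, 4, 12, 14] .nil .nil) .nil) (.cons [12, 10, 6, 8, 2, 4, 6, 16, 18, 16, 12, 8, 10, 6, 8, 4, 6, 16, 0, 2, 4, 6, 8, 10, 12, 14] (.cons [6, 14, 16, 8, 4, 6, 14, 10, 12, 6, 8, 10, 4, 6, 8, 2, 4, 6, 14, 16, 12, 10, 6, 8, 2, 4, 6, 14, 0, 2, 4, 6, 8, 10, 12] .nil .nil) (.cons [16, 4,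 6, 8, 0, 2, 4, 6, 16, 18, 12, 8, 10, 6, 8, 4, 6, 16, 0, 2, 4, 6, 8, 10, 12, 14] (.cons [8, 2, 4, 6, 14, 16, 8, 2, 4, 6, 14, 10, 12, 6, 8, 10, 4, 6, 8, 2, 4, 6, 14, 16, 14, 12, 10, 4, 6, 8, 2, 4, 6, 14, 0, 2, 4, 6, 8, 10, 12] (.cons [6, 12, 14, 2, 4, 8, 12, 6, 4, 0, 2, 4, 6, 8, 10] .nil .nil) .nil) (.cons [18, 16, 12, 10, 6, 8, 4, 6, 16, 18, 12, 8, 10, 6, 8, 4, 6, 16, 0, 2, 4, 6, 8, 10, 12, 14] (.cons [14, 16, 10, 8, 2, 4, 6, 14, 12, 6, 8, 10, 4, 6, 8, 2, 4, 6, 14, 16, 8, 10, 6, 8, 2, 4, 6, 14, 0, 2, 4, 6, 8, 10, 12] .nil .nil) (.cons [14, 12, 10, 6, 8, 2, 4, 6, 16, 18, 16, 8, 10, 6, 8, 4, 6, 16, 0, 2, 4, 6, 8, 10, 12, 14] (.cons [4, 6, 14, 16, 8, 10, 6, 4, 8, 6, 14, 10, 12, 8, 10, 4, 6, 8, 0, 2, 4, 6,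 14, 16, 10, 8, 2, 4, 6, 14, 0, 2, 4, 6, 8, 10, 12] (.cons [14, 8, 2, 0, 12, 6, 4, 2, 10, 6, 8, 4, 6, 10] .nil .nil) .nil) (.cons [16, 8, 10, 4, 6, 8, 2, 4, 6, 16, 18, 8, 10, 6, 8, 4, 6, 16, 0, 2, 4, 6, 8, 10, 12, 14] (.cons [16, 6, 8, 4, 6, 14, 10, 12, 8, 10, 6, 8, 2, 4, 6, 14, 16, 10, 6, 8, 2, 4, 6, 14, 0, 2, 4, 6, 8, 10, 12] (.cons [6, 8, 0, 2, 4, 6, 12, 14, 2, 4, 12, 6, 8, 10, 4, 6, 2, 4, 0, 2] .nil .nil) .nil) (.cons [8, 6, 16, 4, 6, 8, 2, 4, 6, 16, 18, 8, 10, 6, 8, 4, 6, 16, 0, 2, 4, 6, 8, 10, 12, 14] (.cons [8, 2, 4, 6, 14, 16, 6, 8, 4, 6, 14, 8, 10, 12, 6, 8, 10, 4, 6, 8, 2, 4, 6, 14, 16, 14, 12, 10, 4, 6, 8, 2, 4, 6, 14, 0, 2, 4, 6, 8, 10, 12] .nil .nil) (.cons [16, 12, 8, 10, 6, 8, 2, 4, 6, 16,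 18, 8, 10, 6, 8, 4, 6, 16, 0, 2, 4, 6, 8, 10, 12, 14] (.cons [10, 12, 8, 10, 6, 8, 2, 4, 6, 14, 10, 12, 8, 10, 6, 8, 0, 2, 4, 6, 14, 16, 12, 10, 8, 2, 4, 6, 14, 0, 2, 4, 6, 8, 10, 12] (.cons [14, 2, 4, 0, 2] .nil .nil) .nil) (.cons [18, 16, 12, 10, 6, 8, 2, 4, 6, 16, 18, 8, 10, 6, 8, 4, 6, 16, 0, 2, 4, 6, 8, 10, 12, 14] (.cons [14, 8, 6, 4, 2, 14, 12, 8, 10, 6, 8, 4, 6, 14, 16, 12, 10, 6, 8, 4, 6, 14, 0, 2, 4, 6, 8, 10, 12] (.cons [10, 12, 14, 4, 6, 8, 10] .nil .nil) .nil) (.cons [18, 16, 12, 8, 10, 6, 8, 4, 6, 16, 18, 8, 10, 6, 8, 4, 6, 16, 0, 2, 4, 6, 8, 10, 12, 14] (.cons [2, 4, 6, 14, 16, 8, 10, 6, 4, 2, 14, 16, 8, 6, 14, 10, 12, 8, 10, 6, 8, 4, 6, 14, 16, 8, 2, 4, 6, 14, 0, 2, 4, 6, 8, 10, 12] (.cons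 [4, 2, 8, 4, 12, 6, 8, 4, 2, 10, 8] .nil .nil) .nil) (.cons [18, 6, 16, 8, 10, 6, 8, 4, 6, 16, 18, 8, 10, 6, 8, 4, 6, 16, 0, 2, 4, 6, 8, 10, 12, 14] (.cons [14, 16, 6, 14, 8, 10, 12, 6, 8, 10, 4, 6, 8, 2, 4, 6, 14, 16, 14, 12, 10, 4, 6, 8, 2, 4, 6, 14, 0, 2, 4, 6, 8, 10, 12] .nil .nil) (.cons [16, 4, 6, 8, 2, 4, 6, 16, 18, 16, 14, 12, 10, 6, 8, 4, 6, 16, 0, 2, 4, 6, 8, 10, 12, 14] .nil (.cons [16, 8, 10, 6, 8, 4, 6, 16, 18, 16, 14, 12, 10, 6, 8, 4, 6, 16, 0, 2, 4, 6, 8, 10, 12, 14] (.cons [10, 8, 6, 14, 16, 6, 14, 12, 10, 4, 6, 8, 2, 4, 6, 14, 0, 2, 4, 6, 8, 10, 12] (.cons [12, 14, 6, 8, 10, 8, 6, 4, 0, 2] .nil .nil) .nil) (.cons [16, 12, 10, 6, 8, 4, 6, 16, 18, 16, 14, 12, 10, 6, 8, 4, 6, 16, 0, 2, 4,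 6, 8, 10, 12, 14] (.cons [14, 16, 8, 0, 2, 4, 6, 14, 10, 12, 8, 10, 6, 8, 2, 4, 6, 14, 16, 12, 10, 4, 6, 8, 2, 4, 6, 14, 0, 2, 4, 6, 8, 10, 12] (.cons [0, 2, 8, 10, 6, 14, 12, 6, 4, 14, 12] .nil .nil) .nil) (.cons [12, 10, 6, 8, 0, 2, 4, 6, 16, 18, 14, 12, 10, 6, 8, 4, 6, 16, 0, 2, 4, 6, 8, 10, 12, 14] (.cons [14, 16, 8, 6, 14, 10, 8, 0, 6, 4, 2, 0, 10, 14, 12, 8, 10, 6, 8, 4, 6, 14, 16, 12, 10, 6, 8, 4, 6, 14, 2, 4, 6, 8, 10, 12] (.cons [4, 6, 8, 12, 6, 4, 0, 2, 6, 8, 10, 12] .nil .nil) .nil) (.cons [16, 12, 10, 6, 8, 2, 4, 6, 16, 18, 16, 12, 10, 6, 8, 4, 6, 16, 0, 2, 4, 6, 8, 10, 12, 14] (.cons [4, 6, 14, 16, 8, 10, 6, 4, 6, 14, 8, 10, 12, 6, 8, 10, 4, 6, 8, 2, 4, 6, 14, 16, 14, 6, 8, 4, 6, 14, 0, 2,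 4, 6, 8, 10, 12] (.cons [14, 6, 0, 2, 4, 6, 8, 10] .nil .nil) .nil) (.cons [18, 16, 12, 10, 6, 8, 4, 6, 16, 18, 16, 12, 10, 6, 8, 4, 6, 16, 0, 2, 4, 6, 8, 10, 12, 14] (.cons [6, 14, 10, 8, 16, 6, 4, 2, 0, 4, 10, 14, 12, 8, 10, 6, 8, 4, 6, 14, 16, 12, 10, 6, 8, 4, 6, 14, 2, 4, 6, 8, 10, 12] (.cons [6, 2, 4, 6, 0, 2, 8, 10] .nil .nil) .nil) (.cons [12, 8, 10, 6, 8, 0, 2, 4, 6, 16, 18, 12, 10, 6, 8, 4, 6, 16, 0, 2, 4, 6, 8, 10, 12, 14] (.cons [2, 4, 6, 14, 16, 10, 8, 14, 6, 4, 8, 0, 2, 4, 6, 14, 10, 12, 8, 10, 6, 8, 4, 6, 14, 16, 8, 10, 6, 8, 2, 4, 6, 14, 0, 2, 4, 6, 8, 10, 12] .nil .nil) (.cons [16, 12, 10, 4, 6, 8, 2, 4, 6, 16, 18, 12, 10, 6, 8, 4, 6, 16, 0, 2, 4, 6, 8, 10, 12, 14] (.cons [14, 16, 6, 14,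 10, 8, 16, 6, 4, 2, 0, 14, 12, 8, 10, 6, 8, 4, 6, 14, 16, 12, 8, 10, 6, 8, 4, 6, 14, 2, 4, 6, 8, 10, 12] (.cons [8, 10, 8, 6, 12, 14, 4, 6] .nil .nil) .nil) (.cons [6, 16, 10, 4, 6, 8, 2, 4, 6, 16, 18, 12, 10, 6, 8, 4, 6, 16, 0, 2, 4, 6, 8, 10, 12, 14] (.cons [2, 4, 6, 14, 16, 6, 8, 0, 2, 4, 6, 14, 10, 12, 8, 10, 4, 6, 8, 2, 4, 6, 14, 16, 12, 10, 4, 6, 8, 2, 4, 6, 14, 0, 2, 4, 6, 8, 10, 12] (.cons [14, 4, 10, 2, 8, 4, 12, 6, 8, 4, 2, 10, 8] .nil .nil) .nil) (.cons [8, 10, 4, 6, 8, 0, 2, 4, 6, 16, 18, 16, 10, 6, 8, 4, 6, 16, 0, 2, 4, 6, 8, 10, 12, 14] (.cons [6, 8, 2, 4, 6, 14, 16, 4, 6, 8, 10, 14, 6, 4, 8, 6, 14, 10, 12, 8, 10, 4, 6, 8, 0, 2, 4, 6, 14, 16, 10, 8, 2, 4, 6, 14, 0, 2, 4, 6, 8, 10, 12] (.cons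 [8, 0, 2, 4, 6, 12, 14, 6, 8, 4, 6, 2, 4, 0, 2, 4, 6, 8, 10] .nil .nil) .nil) (.cons [12, 8, 10, 4, 6, 8, 2, 4, 6, 16, 18, 16, 10, 6, 8, 4, 6, 16, 0, 2, 4, 6, 8, 10, 12, 14] (.cons [10, 6, 8, 14, 16, 6, 14, 10, 12, 8, 10, 4, 6, 8, 2, 4, 6, 14, 16, 12, 10, 8, 2, 4, 6, 14, 0, 2, 4, 6, 8, 10, 12] (.cons [6, 8, 12, 6, 4, 2, 4, 12, 6, 8, 4, 6, 10] .nil .nil) .nil) (.cons [14, 12, 10, 4, 6, 8, 2, 4, 6, 16, 18, 16, 10, 6, 8, 4, 6, 16, 0, 2, 4, 6, 8, 10, 12, 14] (.cons [4, 2, 14, 6, 4, 10, 16, 6, 14, 12, 8, 10, 6, 8, 4, 6, 14, 16, 2, 4, 6, 14, 0, 2, 4, 6, 8, 10, 12] .nil .nil) (.cons [6, 16, 8, 10, 6, 8, 2, 4, 6, 16, 18, 16, 10, 6, 8, 4, 6, 16, 0, 2, 4, 6, 8, 10, 12, 14] (.cons [6, 14, 16, 6, 8, 4, 6, 14, 10,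 8, 6, 4, 2, 14, 12, 8, 10, 6, 8, 4, 6, 14, 16, 12, 10, 6, 8, 4, 6, 14, 0, 2, 4, 6, 8, 10, 12] (.cons [6, 0, 2, 4, 12, 6, 14, 12, 6, 8, 10, 8, 6, 12, 14, 4, 6, 0, 2] .nil .nil) .nil) (.cons [16, 14, 12, 8, 10, 6, 8, 4, 6, 16, 18, 16, 10, 6, 8, 4, 6, 16, 0, 2, 4, 6, 8, 10, 12, 14] (.cons [0, 2, 4, 6, 14, 16, 14, 6, 8, 4, 6, 14, 10, 12, 6, 8, 10, 4, 6, 8, 2, 4, 6, 14, 16, 12, 10, 6, 8, 2, 4, 6, 14, 0, 2, 4, 6, 8, 10, 12] .nil .nil) (.cons [6, 16, 12, 8, 10, 6, 8, 4, 6, 16, 18, 16, 10, 6, 8, 4, 6, 16, 0, 2, 4, 6, 8, 10, 12, 14] (.cons [16, 8, 4, 6, 14, 8, 10, 4, 6, 8, 0, 2, 4, 6, 14, 16, 8, 10, 6, 8, 2, 4, 6, 14, 0, 2, 4, 6, 8, 10, 12] (.cons [14, 10, 12, 6, 4, 0, 2, 6, 12, 4, 14, 12] .nil .nil) .nil) (.cons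 [18, 16, 12, 8, 10, 6, 8, 4, 6, 16, 18, 16, 10, 6, 8, 4, 6, 16, 0, 2, 4, 6, 8, 10, 12, 14] (.cons [4, 6, 14, 10, 8, 6, 4, 2, 0, 14, 10, 12, 8, 10, 6, 8, 4, 6, 14, 16, 8, 10, 6, 8, 4, 6, 14, 2, 4, 6, 8, 10, 12] .nil .nil) (.cons [18, 6, 16, 8, 10, 6, 8, 4, 6, 16, 18, 16, 10, 6, 8, 4, 6, 16, 0, 2, 4, 6, 8, 10, 12, 14] (.cons [6, 14, 4, 6, 8, 0, 2, 4, 6, 14, 16, 10, 8, 6, 14, 10, 12, 6, 8, 10, 4, 6, 8, 2, 4, 6, 14, 16, 10, 4, 6, 8, 2, 4, 6, 14, 0, 2, 4, 6, 8, 10, 12] (.cons [6, 12, 14, 0, 6, 4, 2, 4, 12, 6, 8, 4, 6, 10] .nil .nil) .nil) (.cons [6, 8, 10, 4, 6, 8, 0, 2, 4, 6, 16, 18, 10, 6, 8, 4, 6, 16, 0, 2, 4, 6, 8, 10, 12, 14] (.cons [14, 16, 8, 4, 6, 14, 8, 10, 4, 6, 8, 0, 2, 4, 6, 14, 16, 14, 12, 10,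 4, 6, 8, 2, 4, 6, 14, 0, 2, 4, 6, 8, 10, 12] .nil .nil) (.cons [12, 8, 10, 4, 6, 8, 0, 2, 4, 6, 16, 18, 10, 6, 8, 4, 6, 16, 0, 2, 4, 6, 8, 10, 12, 14] (.cons [8, 4, 6, 14, 16, 12, 10, 8, 6, 14, 10, 12, 8, 10, 4, 6, 8, 2, 4, 6, 14, 16, 12, 10, 4, 6, 8, 2, 4, 6, 14, 0, 2, 4, 6, 8, 10, 12] (.cons [12, 4, 6, 10, 2, 12, 14] .nil .nil) .nil) (.cons [14, 12, 8, 10, 6, 8, 0, 2, 4, 6, 16, 18, 10, 6, 8, 4, 6, 16, 0, 2, 4, 6, 8, 10, 12, 14] .nil (.cons [16, 6, 8, 10, 4, 6, 8, 2, 4, 6, 16, 18, 10, 6, 8, 4, 6, 16, 0, 2, 4, 6, 8, 10, 12, 14] (.cons [16, 14, 12, 10, 4, 6, 8, 0, 2, 4, 6, 14, 16, 8, 10, 4, 6, 8, 2, 4, 6, 14, 0, 2, 4, 6, 8, 10, 12] .nil .nil) (.cons [6, 16, 12, 10, 4, 6, 8, 2, 4, 6, 16, 18, 10, 6, 8, 4,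 6, 16, 0, 2, 4, 6, 8, 10, 12, 14] (.cons [10, 4, 6, 8, 2, 4, 6, 14, 0, 2, 4, 6, 8, 10, 12] (.cons [6, 4, 12, 0, 2, 4, 14, 12] .nil .nil) .nil) (.cons [8, 6, 16, 10, 4, 6, 8, 2, 4, 6, 16, 18, 10, 6, 8, 4, 6, 16, 0, 2, 4, 6, 8, 10, 12, 14] (.cons [4, 6, 14, 16, 8, 6, 14, 10, 12, 8, 10, 2, 4, 6, 8, 0, 2, 4, 6, 14, 16, 14, 10, 4, 6, 8, 2, 4, 6, 14, 0, 2, 4, 6, 8, 10, 12] (.cons [8, 2, 0, 4, 2, 14, 12, 6, 8, 4, 6, 10] (.cons [3, 1, 3, 1] .nil .nil) .nil) .nil) (.cons [16, 12, 8, 10, 6, 8, 0, 2, 4, 6, 16, 18, 16, 6, 8, 4, 6, 16, 0, 2, 4, 6, 8, 10, 12, 14] (.cons [6, 14, 10, 12, 8, 10, 6, 8, 4, 6, 14, 16, 6, 8, 10, 4, 6, 8, 2, 4, 6, 14, 0, 2, 4, 6, 8, 10, 12] .nil .nil) (.cons [14, 12, 8, 10, 4, 6, 8, 2, 4,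 6, 16, 18, 16, 6, 8, 4, 6, 16, 0, 2, 4, 6, 8, 10, 12, 14] (.cons [6, 14, 16, 10, 8, 6, 4, 2, 8, 4, 6, 14, 10, 12, 8, 10, 6, 8, 4, 6, 14, 16, 12, 8, 10, 6, 8, 2, 4, 6, 14, 0, 2, 4, 6, 8, 10, 12] (.cons [6, 8, 0, 2, 4, 6, 12, 14, 10, 8, 4, 6, 4, 2, 4, 8, 6, 10, 4] .nil .nil) .nil) (.cons [16, 12, 8, 10, 4, 6, 8, 2, 4, 6, 16, 18, 16, 6, 8, 4, 6, 16, 0, 2, 4, 6, 8, 10, 12, 14] (.cons [16, 6, 4, 8, 10, 6, 8, 0, 14, 6, 4, 2, 10, 12, 8, 10, 6, 8, 4, 6, 14, 16, 12, 10, 6, 8, 4, 6, 14, 0, 2, 4, 6, 8, 10, 12] .nil .nil) (.cons [16, 14, 12, 10, 4, 6, 8, 2, 4, 6, 16, 18, 16, 6, 8, 4, 6, 16, 0, 2, 4, 6, 8, 10, 12, 14] (.cons [14, 16, 8, 6, 14, 10, 12, 8, 10, 6, 8, 4, 6, 14, 16, 8, 2, 4, 6, 14, 0, 2, 4, 6, 8, 10, 12]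 .nil .nil) (.cons [14, 10, 12, 8, 10, 6, 8, 2, 4, 6, 16, 18, 16, 6, 8, 4, 6, 16, 0, 2, 4, 6, 8, 10, 12, 14] (.cons [6, 8, 4, 6, 14, 16, 10, 6, 2, 4, 6, 14, 8, 10, 12, 6, 8, 10, 4, 6, 8, 2, 4, 6, 14, 16, 14, 6, 8, 4, 6, 14, 0, 2, 4, 6, 8, 10, 12] (.cons [6, 4, 6, 14, 12, 6, 8, 10, 8, 6, 12, 14, 4, 6, 0, 2] .nil .nil) .nil) (.cons [16, 10, 12, 8, 10, 6, 8, 2, 4, 6, 16, 18, 16, 6, 8, 4, 6, 16, 0, 2, 4, 6, 8, 10, 12, 14] (.cons [2, 4, 6, 14, 16, 8, 6, 14, 10, 12, 8, 10, 2, 4, 6, 8, 0, 2, 4, 6, 14, 16, 14, 12, 10, 4, 6, 8, 2, 4, 6, 14, 0, 2, 4, 6, 8, 10, 12] (.cons [8, 6, 4, 2, 4, 6, 12, 14] .nil .nil) .nil) (.cons [16, 14, 12, 8, 10, 6, 8, 2, 4, 6, 16, 18, 16, 6, 8, 4, 6, 16, 0, 2, 4, 6, 8, 10, 12, 14] (.cons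 [4, 6, 14, 12, 10, 8, 6, 4, 2, 0, 10, 14, 12, 8, 10, 6, 8, 4, 6, 14, 16, 12, 10, 6, 8, 4, 6, 14, 2, 4, 6, 8, 10, 12] (.cons [6, 12, 8, 4, 6, 4, 2, 8, 10, 12, 6, 4, 12, 14] .nil .nil) .nil) (.cons [6, 16, 12, 8, 10, 6, 8, 2, 4, 6, 16, 18, 16, 6, 8, 4, 6, 16, 0, 2, 4, 6, 8, 10, 12, 14] .nil (.cons [6, 16, 10, 12, 8, 10, 6, 8, 4, 6, 16, 18, 16, 6, 8, 4, 6, 16, 0, 2, 4, 6, 8, 10, 12, 14] (.cons [16, 8, 6, 14, 10, 12, 8, 10, 6, 8, 4, 6, 14, 16, 8, 10, 4, 6, 8, 2, 4, 6, 14, 0, 2, 4, 6, 8, 10, 12] (.cons [14, 10, 4, 2, 0, 6, 4, 2, 8, 6] (.cons [2, 2, 1, 4, 0] .nil .nil) .nil) .nil) (.cons [16, 6, 8, 10, 4, 6, 8, 0, 2, 4, 6, 16, 18, 6, 8, 4, 6, 16, 0, 2, 4, 6, 8, 10, 12, 14] (.cons [6, 14, 16, 4, 6, 14, 10, 12,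 8, 10, 6, 8, 2, 4, 6, 14, 16, 6, 8, 2, 4, 6, 14, 0, 2, 4, 6, 8, 10, 12] (.cons [6, 4, 2, 14, 12] .nil .nil) .nil) (.cons [14, 10, 12, 8, 10, 6, 8, 0, 2, 4, 6, 16, 18, 6, 8, 4, 6, 16, 0, 2, 4, 6, 8, 10, 12, 14] (.cons [14, 10, 12, 6, 8, 10, 4, 6, 8, 2, 4, 6, 14, 16, 6, 8, 2, 4, 6, 14, 0, 2, 4, 6, 8, 10, 12] (.cons [2, 4, 0, 2, 10, 8, 6, 12, 6, 4, 14, 12] .nil .nil) .nil) (.cons [12, 8, 10, 6, 8, 0, 2, 4, 6, 16, 18, 14, 12, 10, 8, 4, 6, 16, 0, 2, 4, 6, 8, 10, 12, 14] (.cons [4, 6, 14, 16, 6, 8, 4, 6, 14, 10, 12, 8, 10, 4, 6, 8, 2, 4, 6, 14, 16, 14, 12, 10, 4, 6, 8, 2, 4, 6, 14, 0, 2, 4, 6, 8, 10, 12] (.cons [8, 0, 2, 10, 6, 12, 14, 4, 6] .nil .nil) .nil) (.cons [14, 12, 8, 10, 6, 8, 0, 2, 4, 6, 16, 18,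 12, 10, 8, 4, 6, 16, 0, 2, 4, 6, 8, 10, 12, 14] (.cons [14, 6, 8, 4, 6, 14, 16, 10, 8, 6, 14, 10, 12, 8, 10, 4, 6, 8, 2, 4, 6, 14, 16, 14, 12, 8, 10, 4, 6, 8, 2, 4, 6, 14, 0, 2, 4, 6, 8, 10, 12] (.cons [4, 6, 10, 2, 0, 4, 2, 6, 8] .nil .nil) .nil) (.cons [10, 8, 6, 16, 4, 6, 8, 2, 4, 6, 16, 18, 12, 10, 8, 4, 6, 16, 0, 2, 4, 6, 8, 10, 12, 14] (.cons [2, 12, 6, 4, 8, 6, 14, 10, 12, 8, 10, 6, 8, 4, 6, 14, 16, 14, 8, 10, 6, 8, 2, 4, 6, 14, 0, 2, 4, 6, 8, 10, 12] (.cons [12, 4, 6, 8, 0, 2, 4, 6, 12, 14, 10, 8, 6, 4, 0, 2, 8, 6, 10, 4] .nil .nil) .nil) (.cons [8, 6, 16, 12, 10, 4, 6, 8, 2, 4, 6, 16, 18, 10, 8, 4, 6, 16, 0, 2, 4, 6, 8, 10, 12, 14] (.cons [14, 16, 8, 4, 6, 14, 12, 10, 8, 6, 4, 2, 0, 14, 10, 12,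 8, 10, 6, 8, 4, 6, 14, 16, 8, 10, 6, 8, 4, 6, 14, 2, 4, 6, 8, 10, 12] .nil .nil) (.cons [12, 10, 8, 6, 16, 4, 6, 8, 2, 4, 6, 16, 18, 10, 8, 4, 6, 16, 0, 2, 4, 6, 8, 10, 12, 14] (.cons [16, 12, 10, 8, 6, 14, 4, 6, 8, 2, 4, 6, 14, 16, 12, 6, 8, 10, 4, 6, 8, 2, 4, 6, 14, 0, 2, 4, 6, 8, 10, 12] .nil .nil) (.cons [16, 6, 8, 10, 4, 6, 8, 2, 4, 6, 16, 18, 14, 12, 10, 8, 6, 16, 0, 2, 4, 6, 8, 10, 12, 14] (.cons [4, 6, 8, 0, 2, 4, 6, 14, 16, 12, 8, 10, 6, 8, 4, 6, 14, 0, 2, 4, 6, 8, 10, 12] (.cons [0, 2, 4, 6, 10, 8, 10, 6, 12, 14, 4, 8, 6, 4, 2] .nil .nil) .nil) (.cons [16, 18, 6, 16, 8, 10, 6, 8, 4, 6, 16, 18, 14, 12, 10, 8, 6, 16, 0, 2, 4, 6, 8, 10, 12, 14] (.cons [8, 6, 4, 2, 6, 14, 8, 10, 6, 8, 4, 6, 14,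 16, 12, 10, 6, 8, 4, 6, 14, 0, 2, 4, 6, 8, 10, 12] .nil .nil) (.cons [14, 12, 10, 8, 6, 16, 4, 6, 8, 2, 4, 6, 16, 18, 10, 8, 6, 16, 0, 2, 4, 6, 8, 10, 12, 14] (.cons [14, 16, 10, 8, 6, 14, 10, 12, 8, 10, 4, 6, 8, 0, 2, 4, 6, 14, 16, 10, 4, 6, 8, 2, 4, 6, 14, 0, 2, 4, 6, 8, 10, 12] (.cons [8, 6, 12, 14, 4, 12, 6, 4, 2, 4, 8, 10] .nil .nil) .nil) (.cons [16, 4, 6, 8, 2, 4, 6, 16, 12, 14, 10, 12, 8, 10, 6, 8, 4, 6, 16, 2, 4, 6, 8, 10, 12, 14] (.cons [10, 8, 6, 14, 16, 12, 10, 8, 4, 6, 14, 8, 10, 12, 6, 8, 10, 4, 6, 8, 2, 4, 6, 14, 16, 10, 4, 6, 8, 2, 4, 6, 14, 0, 2, 4, 6, 8, 10, 12] (.cons [2, 4, 0, 2, 6, 8, 10, 4, 6, 8, 12, 6, 4, 2, 14, 4, 6, 8, 6, 10, 4] .nil .nil) .nil) (.cons [12, 10, 8, 6, 16, 18, 8,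 6, 16, 14, 10, 12, 8, 10, 6, 8, 4, 6, 16, 2, 4, 6, 8, 10, 12, 14] .nil (.cons [10, 12, 8, 10, 4, 6, 8, 0, 2, 4, 6, 16, 18, 16, 6, 8, 4, 6, 16, 2, 4, 6, 8, 10, 12, 14] (.cons [8, 4, 6, 14, 16, 6, 8, 4, 6, 14, 10, 12, 8, 10, 4, 6, 8, 2, 4, 6, 14, 16, 12, 10, 6, 8, 2, 4, 6, 14, 0, 2, 4, 6, 8, 10, 12] .nil .nil) (.cons [16, 12, 8, 10, 4, 6, 8, 0, 2, 4, 6, 16, 18, 16, 6, 8, 4, 6, 16, 2, 4, 6, 8, 10, 12, 14] (.cons [4, 6, 14, 16, 8, 6, 14, 10, 12, 6, 8, 10, 4, 6, 8, 2, 4, 6, 14, 16, 12, 10, 4, 6, 8, 2, 4, 6, 14, 0, 2, 4, 6, 8, 10, 12] (.cons [8, 6, 12, 14, 4, 10, 0, 2, 4, 6, 8, 12, 6, 4, 2, 8, 10] .nil .nil) .nil) (.cons [16, 14, 12, 10, 4, 6, 8, 0, 2, 4, 6, 16, 18, 16, 6, 8, 4, 6, 16, 2, 4, 6, 8, 10, 12, 14]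 (.cons [6, 14, 10, 12, 8, 10, 6, 8, 4, 6, 14, 16, 14, 12, 10, 6, 8, 2, 4, 6, 14, 0, 2, 4, 6, 8, 10, 12] (.cons [14, 12, 4, 2, 0, 8, 6, 4, 2, 12, 6, 4, 14, 12] (.cons [2, 0, 2, 2, 0, 3] .nil .nil) .nil) .nil) (.cons [16, 14, 12, 8, 10, 4, 6, 8, 2, 4, 6, 16, 18, 16, 6, 8, 4, 6, 16, 2, 4, 6, 8, 10, 12, 14] (.cons [6, 14, 10, 8, 6, 4, 2, 0, 8, 6, 14, 12, 8, 10, 6, 8, 4, 6, 14, 16, 12, 10, 8, 4, 6, 14, 2, 4, 6, 8, 10, 12] (.cons [12, 4, 6, 2, 4, 8, 10, 12, 6, 4, 12, 14] .nil .nil) .nil) (.cons [4, 6, 8, 10, 2, 4, 6, 8, 0, 2, 4, 6, 16, 18, 6, 8, 4, 6, 16, 2, 4, 6, 8, 10, 12, 14] (.cons [10, 8, 2, 4, 14, 16, 6, 14, 10, 12, 8, 10, 4, 6, 8, 2, 4, 6, 14, 16, 12, 10, 8, 2, 4, 6, 14, 0, 2, 4, 6, 8, 10, 12] (.cons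 [14, 4, 6, 12, 0, 8, 10, 6, 4, 2, 12] .nil .nil) .nil) (.cons [8, 6, 16, 18, 12, 14, 8, 10, 12, 6, 8, 10, 4, 6, 8, 2, 4, 6, 16, 0, 2, 4, 6, 8, 10, 12, 14] .nil (.cons [2, 4, 6, 16, 18, 14, 8, 10, 12, 6, 8, 10, 4, 6, 8, 2, 4, 6, 16, 0, 2, 4, 6, 8, 10, 12, 14] (.cons [8, 2, 4, 6, 14, 6, 8, 10, 4, 6, 8, 2, 4, 6, 14, 16, 12, 10, 6, 8, 2, 4, 6, 14, 0, 2, 4, 6, 8, 10, 12] (.cons [8, 6, 12, 14, 4, 12, 6, 8, 10, 4, 6, 2, 4, 0, 2] .nil .nil) .nil) (.cons [8, 4, 6, 16, 18, 12, 14, 10, 12, 6, 8, 10, 4, 6, 8, 2, 4, 6, 16, 0, 2, 4, 6, 8, 10, 12, 14] (.cons [10, 8, 4, 6, 14, 10, 12, 6, 8, 10, 4, 6, 8, 0, 2, 4, 6, 14, 16, 12, 10, 4, 6, 8, 2, 4, 6, 14, 0, 2, 4, 6, 8, 10, 12] (.cons [6, 12, 14, 10, 6, 2, 4, 6, 0, 2] .nil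 .nil) .nil) (.cons [0, 2, 4, 6, 16, 18, 14, 10, 12, 6, 8, 10, 4, 6, 8, 2, 4, 6, 16, 0, 2, 4, 6, 8, 10, 12, 14] (.cons [8, 10, 4, 6, 8, 2, 4, 6, 14, 16, 10, 12, 8, 10, 4, 6, 8, 2, 4, 6, 14, 0, 2, 4, 6, 8, 10, 12] .nil .nil) (.cons [6, 8, 4, 6, 16, 18, 14, 10, 12, 6, 8, 10, 4, 6, 8, 2, 4, 6, 16, 0, 2, 4, 6, 8, 10, 12, 14] (.cons [6, 8, 2, 4, 6, 14, 16, 14, 12, 8, 10, 6, 8, 2, 4, 6, 14, 0, 2, 4, 6, 8, 10, 12] .nil .nil) (.cons [10, 8, 2, 4, 6, 16, 18, 10, 12, 6, 8, 10, 4, 6, 8, 2, 4, 6, 16, 0, 2, 4, 6, 8, 10, 12, 14] (.cons [8, 4, 6, 14, 8, 10, 12, 6, 8, 10, 4, 6, 8, 2, 4, 6, 14, 16, 14, 10, 4, 6, 8, 2, 4, 6, 14, 0, 2, 4, 6, 8, 10, 12] (.cons [12, 6, 4, 2, 6, 8, 10, 8, 12] (.cons [1, 4, 1, 2, 1] .nil .nil)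 .nil) .nil) (.cons [10, 6, 8, 4, 6, 16, 18, 14, 12, 6, 8, 10, 4, 6, 8, 2, 4, 6, 16, 0, 2, 4, 6, 8, 10, 12, 14] (.cons [6, 8, 10, 4, 6, 8, 2, 4, 6, 14, 16, 14, 12, 10, 6, 8, 2, 4, 6, 14, 0, 2, 4, 6, 8, 10, 12] .nil .nil) (.cons [16, 6, 8, 4, 6, 16, 18, 14, 12, 6, 8, 10, 4, 6, 8, 2, 4, 6, 16, 0, 2, 4, 6, 8, 10, 12, 14] (.cons [6, 14, 8, 10, 4, 6, 8, 2, 4, 6, 14, 16, 14, 12, 8, 10, 4, 6, 8, 2, 4, 6, 14, 0, 2, 4, 6, 8, 10, 12] (.cons [2, 14, 12, 6, 8, 4, 6, 12, 14, 10, 8, 6, 4, 2, 8, 10] .nil .nil) .nil) (.cons [12, 10, 8, 2, 4, 6, 16, 18, 12, 6, 8, 10, 4, 6, 8, 2, 4, 6, 16, 0, 2, 4, 6, 8, 10, 12, 14] (.cons [16, 4, 0, 2, 14, 16, 4, 6, 14, 10, 12, 8, 10, 6, 8, 4, 6, 14, 16, 6, 8, 2, 4, 6, 14, 0, 2, 4, 6,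 8, 10, 12] .nil .nil) (.cons [10, 6, 8, 0, 2, 4, 6, 16, 18, 6, 8, 10, 4, 6, 8, 2, 4, 6, 16, 0, 2, 4, 6, 8, 10, 12, 14] (.cons [4, 6, 14, 16, 8, 2, 6, 4, 8, 0, 2, 4, 6, 14, 10, 12, 8, 10, 6, 8, 4, 6, 14, 16, 8, 10, 6, 8, 2, 4, 6, 14, 0, 2, 4, 6, 8, 10, 12] (.cons [0, 2, 4, 6, 12, 4, 10, 8, 6, 2, 4, 0, 2, 8, 10, 12, 14] .nil .nil) .nil) (.cons [16, 6, 8, 0, 2, 4, 6, 16, 18, 6, 8, 10, 4, 6, 8, 2, 4, 6, 16, 0, 2, 4, 6, 8, 10, 12, 14] (.cons [8, 0, 2, 4, 6, 14, 16, 6, 8, 4, 6, 14, 10, 8, 6, 4, 2, 14, 10, 12, 8, 10, 6, 8, 4, 6, 14, 16, 10, 6, 8, 4, 6, 14, 0, 2, 4, 6, 8, 10, 12] (.cons [14, 6, 8, 10, 0, 4, 6, 2, 4, 0, 2, 12] .nil .nil) .nil) (.cons [16, 8, 10, 6, 8, 4, 6, 16, 18, 6, 8, 10, 4, 6, 8, 2, 4, 6,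 16, 0, 2, 4, 6, 8, 10, 12, 14] (.cons [2, 6, 14, 12, 8, 10, 6, 8, 4, 6, 14, 16, 8, 10, 6, 8, 4, 6, 14, 2, 4, 6, 8, 10, 12] (.cons [10, 8, 12, 6, 4, 2, 14, 6, 8, 4, 6, 8, 10] .nil .nil) .nil) (.cons [10, 8, 6, 16, 18, 16, 12, 14, 10, 12, 8, 10, 4, 6, 8, 2, 4, 6, 16, 0, 2, 4, 6, 8, 10, 12, 14] (.cons [6, 14, 16, 4, 6, 14, 8, 10, 6, 8, 0, 2, 4, 6, 14, 16, 8, 2, 4, 6, 14, 0, 2, 4, 6, 8, 10, 12] .nil .nil) (.cons [10, 8, 2, 4, 6, 16, 18, 14, 10, 12, 8, 10, 4, 6, 8, 2, 4, 6, 16, 0, 2, 4, 6, 8, 10, 12, 14] .nil (.cons [12, 10, 8, 4, 6, 16, 18, 14, 10, 12, 8, 10, 4, 6, 8, 2, 4, 6, 16, 0, 2, 4, 6, 8, 10, 12, 14] .nil (.cons [16, 6, 8, 4, 6, 16, 18, 16, 10, 12, 8, 10, 4, 6, 8, 2, 4, 6, 16, 0, 2, 4, 6, 8, 10, 12,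 14] (.cons [14, 12, 8, 10, 6, 8, 4, 6, 14, 16, 14, 10, 6, 8, 4, 6, 14, 2, 4, 6, 8, 10, 12] (.cons [2, 4, 2, 6, 8, 10, 8, 4, 12, 6, 8, 10] .nil .nil) .nil) (.cons [14, 12, 10, 8, 6, 16, 18, 16, 10, 12, 8, 10, 4, 6, 8, 2, 4, 6, 16, 0, 2, 4, 6, 8, 10, 12, 14] (.cons [12, 8, 10, 4, 6, 8, 0, 2, 4, 6, 14, 16, 14, 10, 6, 8, 4, 6, 14, 0, 2, 4, 6, 8, 10, 12] (.cons [14, 6, 8, 4, 6, 12, 6, 14, 12, 4, 2, 6, 8, 10, 12] .nil .nil) .nil) (.cons [4, 6, 8, 2, 4, 6, 16, 18, 10, 12, 8, 10, 4, 6, 8, 2, 4, 6, 16, 0, 2, 4, 6, 8, 10, 12, 14] (.cons [16, 6, 14, 6, 8, 10, 4, 6, 8, 2, 4, 6, 14, 16, 10, 4, 6, 8, 2, 4, 6, 14, 0, 2, 4, 6, 8, 10, 12] .nil .nil) (.cons [8, 10, 6, 8, 4, 6, 16, 18, 10, 12, 8, 10, 4, 6, 8, 2, 4, 6, 16,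 0, 2, 4, 6, 8, 10, 12, 14] (.cons [4, 6, 8, 2, 4, 6, 14, 16, 10, 8, 2, 4, 6, 14, 8, 10, 12, 6, 8, 10, 4, 6, 8, 2, 4, 6, 14, 16, 10, 4, 6, 8, 2, 4, 6, 14, 0, 2, 4, 6, 8, 10, 12] (.cons [14, 12, 4, 2, 0, 6, 4, 2, 12, 6, 8, 10] .nil .nil) .nil) (.cons [16, 10, 6, 8, 4, 6, 16, 18, 10, 12, 8, 10, 4, 6, 8, 2, 4, 6, 16, 0, 2, 4, 6, 8, 10, 12, 14] (.cons [6, 14, 16, 4, 6, 14, 12, 8, 10, 6, 8, 4, 6, 14, 16, 6, 14, 12, 10, 4, 6, 8, 2, 4, 6, 14, 0, 2, 4, 6, 8, 10, 12] .nil .nil) (.cons [16, 6, 8, 4, 6, 16, 18, 16, 14, 12, 8, 10, 4, 6, 8, 2, 4, 6, 16, 0, 2, 4, 6, 8, 10, 12, 14] (.cons [16, 8, 6, 14, 8, 10, 4, 6, 8, 2, 4, 6, 14, 16, 12, 10, 4, 6, 8, 2, 4, 6, 14, 0, 2, 4, 6, 8, 10, 12] .nil .nil) (.cons [10, 8, 0,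 2, 4, 6, 16, 18, 14, 12, 8, 10, 4, 6, 8, 2, 4, 6, 16, 0, 2, 4, 6, 8, 10, 12, 14] .nil (.cons [16, 10, 6, 8, 4, 6, 16, 18, 14, 12, 8, 10, 4, 6, 8, 2, 4, 6, 16, 0, 2, 4, 6, 8, 10, 12, 14] (.cons [6, 14, 16, 12, 10, 8, 6, 14, 2, 4, 6, 8, 10, 12] (.cons [6, 12, 4, 8, 6, 8, 4, 12, 14, 6, 0, 2, 8, 10] .nil .nil) .nil) (.cons [12, 10, 8, 2, 4, 6, 16, 18, 16, 12, 8, 10, 4, 6, 8, 2, 4, 6, 16, 0, 2, 4, 6, 8, 10, 12, 14] (.cons [16, 8, 6, 14, 10, 16, 8, 6, 4, 2, 0, 14, 10, 12, 8, 10, 6, 8, 4, 6, 14, 16, 8, 10, 6, 8, 4, 6, 14, 2, 4, 6, 8, 10, 12] (.cons [10, 0, 12, 4, 2, 8, 6, 12, 14, 8, 6, 4, 12] .nil .nil) .nil) (.cons [16, 10, 6, 8, 4, 6, 16, 18, 16, 12, 8, 10, 4, 6, 8, 2, 4, 6, 16, 0, 2, 4, 6, 8, 10, 12, 14]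 (.cons [10, 8, 6, 14, 12, 10, 2, 4, 6, 8, 0, 2, 4, 6, 14, 16, 8, 10, 4, 6, 8, 2, 4, 6, 14, 0, 2, 4, 6, 8, 10, 12] .nil .nil) (.cons [12, 10, 6, 8, 2, 4, 6, 16, 18, 12, 8, 10, 4, 6, 8, 2, 4, 6, 16, 0, 2, 4, 6, 8, 10, 12, 14] (.cons [6, 14, 16, 10, 2, 4, 6, 14, 8, 10, 12, 6, 8, 10, 4, 6, 8, 0, 2, 4, 6, 14, 16, 6, 8, 4, 6, 14, 0, 2, 4, 6, 8, 10, 12] .nil .nil) (.cons [16, 10, 6, 8, 2, 4, 6, 16, 18, 12, 8, 10, 4, 6, 8, 2, 4, 6, 16, 0, 2, 4, 6, 8, 10, 12, 14] (.cons [8, 10, 12, 6, 8, 10, 4, 6, 8, 2, 4, 6, 14, 16, 4, 6, 8, 2, 4, 6, 14, 0, 2, 4, 6, 8, 10, 12] (.cons [14, 8, 10, 12, 8, 6, 4, 0, 2] (.cons [3, 5, 0, 4, 2] .nil .nil) .nil) .nil) (.cons [12, 10, 6, 8, 2, 4, 6, 16, 18, 16, 8, 10, 4, 6, 8, 2, 4, 6,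 16, 0, 2, 4, 6, 8, 10, 12, 14] (.cons [4, 6, 8, 0, 2, 4, 6, 14, 16, 6, 8, 2, 4, 6, 14, 10, 12, 6, 8, 10, 4, 6, 8, 2, 4, 6, 14, 16, 12, 10, 6, 8, 2, 4, 6, 14, 0, 2, 4, 6, 8, 10, 12] (.cons [10, 8, 6, 4, 6, 2, 4] .nil .nil) .nil) (.cons [8, 10, 6, 8, 0, 2, 4, 6, 16, 18, 8, 10, 4, 6, 8, 2, 4, 6, 16, 0, 2, 4, 6, 8, 10, 12, 14] (.cons [6, 14, 16, 8, 12, 10, 6, 14, 8, 6, 4, 14, 10, 12, 8, 10, 6, 8, 2, 4, 6, 14, 16, 14, 10, 6, 8, 4, 6, 14, 0, 2, 4, 6, 8, 10, 12] (.cons [8, 4, 6, 12, 14, 8, 6, 4, 2, 8] .nil .nil) .nil) (.cons [12, 10, 6, 8, 0, 2, 4, 6, 16, 18, 8, 10, 4, 6, 8, 2, 4, 6, 16, 0, 2, 4, 6, 8, 10, 12, 14] (.cons [4, 6, 8, 0, 2, 4, 6, 14, 16, 10, 8, 6, 14, 12, 10, 8, 0, 6, 4, 2, 0, 10, 14, 12, 8, 10,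 6, 8, 4, 6, 14, 16, 12, 10, 6, 8, 4, 6, 14, 2, 4, 6, 8, 10, 12] (.cons [2, 4, 6, 12, 10, 8, 6, 10, 2, 4, 0, 2, 12, 14, 6, 4] .nil .nil) .nil) (.cons [18, 16, 4, 6, 8, 2, 4, 6, 16, 18, 8, 10, 4, 6, 8, 2, 4, 6, 16, 0, 2, 4, 6, 8, 10, 12, 14] (.cons [16, 10, 8, 6, 14, 8, 10, 12, 6, 8, 10, 4, 6, 8, 0, 2, 4, 6, 14, 16, 8, 10, 4, 6, 8, 2, 4, 6, 14, 0, 2, 4, 6, 8, 10, 12] .nil .nil) (.cons [10, 12, 8, 10, 6, 8, 4, 6, 16, 18, 8, 10, 4, 6, 8, 2, 4, 6, 16, 0, 2, 4, 6, 8, 10, 12, 14] (.cons [4, 6, 14, 10, 12, 6, 8, 10, 4, 6, 8, 0, 2, 4, 6, 14, 16, 8, 10, 4, 6, 8, 2, 4, 6, 14, 0, 2, 4, 6, 8, 10, 12] (.cons [8, 6, 12, 14, 4, 6, 12, 8, 10, 6, 4, 2, 12] .nil .nil) .nil) (.cons [12, 10, 6, 8, 4, 6, 16, 18, 16, 14, 12,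 10, 4, 6, 8, 2, 4, 6, 16, 0, 2, 4, 6, 8, 10, 12, 14] (.cons [16, 8, 6, 14, 10, 12, 8, 10, 6, 8, 4, 6, 14, 16, 8, 10, 4, 6, 8, 2, 4, 6, 14, 0, 2, 4, 6, 8, 10, 12] (.cons [6, 8, 4, 6, 12, 14, 10, 4, 6, 8, 12, 6, 4, 0, 2, 8, 10] .nil .nil) .nil) (.cons [16, 10, 6, 8, 2, 4, 6, 16, 18, 14, 12, 10, 4, 6, 8, 2, 4, 6, 16, 0, 2, 4, 6, 8, 10, 12, 14] (.cons [6, 14, 8, 10, 4, 6, 8, 2, 4, 6, 14, 16, 14, 12, 8, 10, 6, 8, 2, 4, 6, 14, 0, 2, 4, 6, 8, 10, 12] .nil .nil) (.cons [4, 6, 8, 2, 4, 6, 16, 18, 6, 16, 12, 10, 4, 6, 8, 2, 4, 6, 16, 0, 2, 4, 6, 8, 10, 12, 14] (.cons [14, 6, 8, 10, 4, 6, 8, 0, 2, 4, 6, 14, 16, 10, 6, 8, 2, 4, 6, 14, 0, 2, 4, 6, 8, 10, 12] (.cons [12, 2, 4, 6, 2, 4, 0, 2, 8, 10, 6, 4, 12, 14] .nil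 .nil) .nil) (.cons [10, 6, 8, 2, 4, 6, 16, 18, 6, 16, 12, 10, 4, 6, 8, 2, 4, 6, 16, 0, 2, 4, 6, 8, 10, 12, 14] .nil (.cons [16, 6, 8, 0, 2, 4, 6, 16, 18, 16, 12, 10, 4, 6, 8, 2, 4, 6, 16, 0, 2, 4, 6, 8, 10, 12, 14] (.cons [10, 4, 6, 14, 16, 8, 6, 4, 2, 6, 14, 16, 8, 6, 14, 10, 12, 8, 10, 6, 8, 4, 6, 14, 16, 8, 2, 4, 6, 14, 0, 2, 4, 6, 8, 10, 12] .nil .nil) (.cons [12, 10, 6, 8, 2, 4, 6, 16, 18, 16, 12, 10, 4, 6, 8, 2, 4, 6, 16, 0, 2, 4, 6, 8, 10, 12, 14] (.cons [4, 6, 14, 16, 8, 4, 6, 14, 12, 10, 8, 6, 4, 2, 0, 14, 12, 8, 10, 6, 8, 4, 6, 14, 16, 12, 8, 10, 6, 8, 4, 6, 14, 2, 4, 6, 8, 10, 12] (.cons [10, 8, 4, 6, 12, 14, 6, 8, 4, 12, 6, 4, 0, 2, 8, 6, 10, 4] .nil .nil) .nil) (.cons [12, 10, 6, 8, 0, 2,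 4, 6, 16, 18, 12, 10, 4, 6, 8, 2, 4, 6, 16, 0, 2, 4, 6, 8, 10, 12, 14] (.cons [16, 4, 6, 14, 10, 2, 4, 6, 8, 0, 2, 4, 6, 14, 16, 8, 10, 4, 6, 8, 2, 4, 6, 14, 0, 2, 4, 6, 8, 10, 12] .nil .nil) (.cons [14, 12, 10, 6, 8, 2, 4, 6, 16, 18, 12, 10, 4, 6, 8, 2, 4, 6, 16, 0, 2, 4, 6, 8, 10, 12, 14] (.cons [14, 6, 10, 8, 2, 14, 16, 4, 6, 14, 12, 8, 10, 4, 6, 8, 2, 4, 6, 14, 16, 12, 10, 8, 2, 4, 6, 14, 0, 2, 4, 6, 8, 10, 12] .nil .nil) (.cons [14, 12, 8, 10, 6, 8, 4, 6, 16, 18, 12, 10, 4, 6, 8, 2, 4, 6, 16, 0, 2, 4, 6, 8, 10, 12, 14] .nil (.cons [16, 12, 10, 6, 8, 4, 6, 16, 18, 6, 16, 10, 4, 6, 8, 2, 4, 6, 16, 0, 2, 4, 6, 8, 10, 12, 14] (.cons [16, 10, 6, 14, 4, 8, 6, 14, 10, 12, 8, 10, 4, 6, 8, 2, 4, 6, 14, 16,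 14, 6, 8, 4, 6, 14, 0, 2, 4, 6, 8, 10, 12] (.cons [2, 4, 6, 12, 14, 6, 4, 2, 12, 6, 8, 10] .nil .nil) .nil) (.cons [2, 4, 6, 8, 0, 2, 4, 6, 16, 18, 16, 10, 4, 6, 8, 2, 4, 6, 16, 0, 2, 4, 6, 8, 10, 12, 14] (.cons [2, 4, 6, 8, 0, 2, 4, 6, 14, 16, 6, 8, 4, 6, 14, 10, 12, 6, 8, 10, 4, 6, 8, 2, 4, 6, 14, 16, 14, 12, 10, 4, 6, 8, 2, 4, 6, 14, 0, 2, 4, 6, 8, 10, 12] (.cons [0, 2, 8, 10, 6, 4, 8, 6, 12, 6, 4, 14, 12] (.cons [0, 5, 5, 0, 5] (.cons [3] (.cons [0] (.leaf 4) .nil) .nil) .nil) .nil) .nil) (.cons [14, 12, 10, 8, 0, 2, 4, 6, 16, 18, 16, 10, 4, 6, 8, 2, 4, 6, 16, 0, 2, 4, 6, 8, 10, 12, 14] (.cons [16, 8, 4, 6, 14, 10, 12, 6, 8, 10, 4, 6, 8, 2, 4, 6, 14, 16, 8, 10, 6, 8, 2, 4, 6, 14, 0, 2, 4, 6, 8, 10,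 12] (.cons [6, 12, 14, 12, 0, 2, 6, 8, 10, 8, 12] .nil .nil) .nil) (.cons [6, 16, 4, 6, 8, 2, 4, 6, 16, 18, 16, 10, 4, 6, 8, 2, 4, 6, 16, 0, 2, 4, 6, 8, 10, 12, 14] (.cons [16, 8, 4, 6, 14, 10, 12, 8, 10, 6, 8, 4, 6, 14, 16, 8, 10, 4, 6, 8, 2, 4, 6, 14, 0, 2, 4, 6, 8, 10, 12] (.cons [12, 14, 8, 6, 4, 6, 8, 0, 2, 10, 8] .nil .nil) .nil) (.cons [18, 16, 4, 6, 8, 2, 4, 6, 16, 18, 16, 10, 4, 6, 8, 2, 4, 6, 16, 0, 2, 4, 6, 8, 10, 12, 14] (.cons [14, 16, 8, 6, 14, 10, 8, 0, 6, 4, 2, 0, 10, 14, 12, 8, 10, 6, 8, 4, 6, 14, 16, 12, 10, 6, 8, 4, 6, 14, 2, 4, 6, 8, 10, 12] (.cons [4, 12, 6, 8, 10, 14, 12, 0, 8, 6, 4, 2, 4, 12, 14] .nil .nil) .nil) (.cons [14, 12, 8, 10, 6, 8, 4, 6, 16, 18, 16, 10, 4, 6, 8, 2, 4,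 6, 16, 0, 2, 4, 6, 8, 10, 12, 14] (.cons [16, 12, 10, 8, 6, 14, 8, 10, 12, 6, 8, 10, 4, 6, 8, 2, 4, 6, 14, 16, 10, 4, 6, 8, 2, 4, 6, 14, 0, 2, 4, 6, 8, 10, 12] (.cons [8, 10, 12, 6, 4, 12, 6, 8, 10, 6, 12, 14, 4, 8, 6, 4, 2] .nil .nil) .nil) (.cons [16, 2, 4, 6, 8, 0, 2, 4, 6, 16, 18, 10, 4, 6, 8, 2, 4, 6, 16, 0, 2, 4, 6, 8, 10, 12, 14] (.cons [6, 8, 10, 2, 4, 6, 8, 0, 2, 4, 6, 14, 16, 12, 10, 6, 8, 2, 4, 6, 14, 0, 2, 4, 6, 8, 10, 12] .nil .nil) (.cons [14, 12, 10, 6, 8, 0, 2, 4, 6, 16, 18, 10, 4, 6, 8, 2, 4, 6, 16, 0, 2, 4, 6, 8, 10, 12, 14] (.cons [14, 16, 10, 2, 8, 4, 6, 14, 12, 8, 10, 4, 6, 8, 2, 4, 6, 14, 16, 14, 12, 10, 4, 6, 8, 2, 4, 6, 14, 0, 2, 4, 6, 8, 10, 12] (.cons [14, 6, 2, 4, 6, 8, 0, 2,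 10, 8] .nil .nil) .nil) (.cons [6, 16, 10, 4, 6, 8, 2, 4, 6, 16, 18, 10, 4, 6, 8, 2, 4, 6, 16, 0, 2, 4, 6, 8, 10, 12, 14] (.cons [16, 10, 8, 6, 14, 10, 4, 6, 8, 2, 4, 6, 14, 16, 8, 10, 4, 6, 8, 2, 4, 6, 14, 0, 2, 4, 6, 8, 10, 12] (.cons [14, 2, 4, 0, 2, 4, 8, 10] .nil .nil) .nil) (.cons [8, 6, 16, 4, 6, 8, 2, 4, 6, 16, 18, 10, 4, 6, 8, 2, 4, 6, 16, 0, 2, 4, 6, 8, 10, 12, 14] (.cons [16, 14, 6, 8, 2, 4, 6, 14, 16, 10, 8, 4, 6, 14, 10, 12, 8, 10, 4, 6, 8, 2, 4, 6, 14, 16, 10, 4, 6, 8, 2, 4, 6, 14, 0, 2, 4, 6, 8, 10, 12] .nil .nil) (.cons [16, 12, 8, 10, 6, 8, 2, 4, 6, 16, 18, 10, 4, 6, 8, 2, 4, 6, 16, 0, 2, 4, 6, 8, 10, 12, 14] (.cons [14, 16, 12, 10, 8, 4, 6, 14, 12, 8, 10, 4, 6, 8, 2, 4, 6, 14, 16, 8,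 10, 6, 8, 2, 4, 6, 14, 0, 2, 4, 6, 8, 10, 12] (.cons [6, 12, 6, 4, 6, 0, 2, 4, 8, 10, 12, 14] .nil .nil) .nil) (.cons [18, 16, 8, 10, 6, 8, 2, 4, 6, 16, 18, 10, 4, 6, 8, 2, 4, 6, 16, 0, 2, 4, 6, 8, 10, 12, 14] (.cons [6, 14, 16, 12, 10, 8, 6, 14, 10, 12, 8, 10, 4, 6, 8, 2, 4, 6, 14, 16, 12, 8, 10, 6, 8, 2, 4, 6, 14, 0, 2, 4, 6, 8, 10, 12] .nil .nil) (.cons [18, 16, 12, 10, 6, 8, 2, 4, 6, 16, 18, 10, 4, 6, 8, 2, 4, 6, 16, 0, 2, 4, 6, 8, 10, 12, 14] (.cons [6, 14, 16, 12, 10, 8, 4, 6, 14, 2, 4, 6, 8, 10, 12] (.cons [6, 12, 6, 8, 10, 8, 6, 12, 14, 4, 6, 0, 2] .nil .nil) .nil) (.cons [14, 10, 12, 8, 10, 6, 8, 4, 6, 16, 18, 10, 4, 6, 8, 2, 4, 6, 16, 0, 2, 4, 6, 8, 10, 12, 14] .nil (.cons [16, 10, 12, 8, 10,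 6, 8, 4, 6, 16, 18, 10, 4, 6, 8, 2, 4, 6, 16, 0, 2, 4, 6, 8, 10, 12, 14] (.cons [4, 6, 8, 2, 4, 6, 14, 16, 6, 8, 4, 6, 14, 12, 10, 8, 6, 4, 2, 14, 10, 12, 8, 10, 6, 8, 4, 6, 14, 16, 10, 6, 8, 4, 6, 14, 0, 2, 4, 6, 8, 10, 12] (.cons [6, 8, 10, 6, 4, 12, 6, 8, 10, 14, 12, 6, 4, 0, 2, 12, 14] (.cons [0, 5, 5, 0, 5] .nil .nil) .nil) .nil) (.cons [14, 12, 10, 8, 2, 4, 6, 16, 18, 8, 6, 16, 4, 6, 8, 2, 4, 6, 16, 0, 2, 4, 6, 8, 10, 12, 14] (.cons [10, 8, 6, 14, 10, 12, 8, 10, 4, 6, 8, 0, 2, 4, 6, 14, 16, 14, 12, 10, 4, 6, 8, 2, 4, 6, 14, 0, 2, 4, 6, 8, 10, 12] (.cons [8, 6, 4, 8, 6, 12, 14, 6, 8, 10, 0, 12, 6, 4, 2, 4] .nil .nil) .nil) (.cons [16, 14, 12, 10, 6, 8, 4, 6, 16, 18, 6, 16, 4, 6, 8, 2, 4, 6, 16, 0,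 2, 4, 6, 8, 10, 12, 14] (.cons [2, 16, 0, 6, 14, 10, 12, 8, 10, 6, 8, 4, 6, 14, 16, 8, 10, 6, 8, 4, 6, 14, 2, 4, 6, 8, 10, 12] (.cons [12, 14, 6, 4, 2, 4, 6, 8, 10] .nil .nil) .nil) (.cons [12, 8, 10, 4, 6, 8, 2, 4, 6, 16, 18, 16, 4, 6, 8, 2, 4, 6, 16, 0, 2, 4, 6, 8, 10, 12, 14] (.cons [14, 16, 10, 8, 4, 6, 14, 12, 6, 8, 10, 4, 6, 8, 2, 4, 6, 14, 16, 10, 6, 8, 2, 4, 6, 14, 0, 2, 4, 6, 8, 10, 12] (.cons [4, 6, 12, 14, 8, 10, 0, 2, 8, 6, 4, 0, 2] .nil .nil) .nil) (.cons [14, 12, 10, 4, 6, 8, 2, 4, 6, 16, 18, 16, 4, 6, 8, 2, 4, 6, 16, 0, 2, 4, 6, 8, 10, 12, 14] (.cons [6, 14, 10, 12, 8, 10, 6, 8, 4, 6, 14, 16, 14, 12, 10, 6, 8, 2, 4, 6, 14, 0, 2, 4, 6, 8, 10, 12] (.cons [0, 2, 6, 8, 14, 4, 6, 12, 14, 8,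 6, 4, 12] (.cons [0, 4, 1, 2, 0] .nil .nil) .nil) .nil) (.cons [14, 12, 10, 4, 6, 8, 0, 2, 4, 6, 16, 18, 4, 6, 8, 2, 4, 6, 16, 0, 2, 4, 6, 8, 10, 12, 14] (.cons [4, 6, 14, 10, 12, 8, 10, 6, 8, 2, 4, 6, 14, 16, 14, 10, 6, 8, 2, 4, 6, 14, 0, 2, 4, 6, 8, 10, 12] (.cons [14, 6, 8, 2, 10, 8, 6, 4, 0, 2] .nil .nil) .nil) (.cons [16, 12, 8, 10, 6, 8, 0, 2, 4, 6, 16, 18, 4, 6, 8, 2, 4, 6, 16, 0, 2, 4, 6, 8, 10, 12, 14] (.cons [16, 0, 2, 4, 6, 14, 8, 10, 6, 8, 0, 2, 4, 6, 14, 16, 10, 4, 6, 8, 2, 4, 6, 14, 0, 2, 4, 6, 8, 10, 12] .nil .nil) (.cons [12, 6, 8, 10, 4, 6, 8, 2, 4, 6, 16, 18, 4, 6, 8, 2, 4, 6, 16, 0, 2, 4, 6, 8, 10, 12, 14] (.cons [16, 14, 6, 8, 4, 6, 14, 16, 8, 10, 6, 8, 4, 6, 14, 0, 2, 4, 6, 8, 10,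 12] (.cons [8, 12, 6, 4, 0, 2, 6, 8, 10, 12] .nil .nil) .nil) (.cons [16, 14, 12, 8, 10, 6, 8, 2, 4, 6, 16, 18, 4, 6, 8, 2, 4, 6, 16, 0, 2, 4, 6, 8, 10, 12, 14] (.cons [4, 6, 14, 8, 10, 6, 8, 0, 2, 4, 6, 14, 16, 10, 8, 2, 4, 6, 14, 0, 2, 4, 6, 8, 10, 12] (.cons [12, 6, 8, 2, 4, 6, 12, 14, 10, 6, 8, 12, 6, 4, 2, 4, 8, 10] .nil .nil) .nil) (.cons [12, 14, 10, 12, 8, 10, 6, 8, 4, 6, 16, 18, 4, 6, 8, 2, 4, 6, 16, 0, 2, 4, 6, 8, 10, 12, 14] (.cons [14, 16, 8, 6, 14, 12, 10, 8, 6, 4, 2, 14, 12, 8, 10, 6, 8, 4, 6, 14, 16, 12, 10, 6, 8, 4, 6, 14, 0, 2, 4, 6, 8, 10, 12] (.cons [14, 12, 4, 6, 8, 10, 6, 4, 2, 8, 6] .nil .nil) .nil) (.cons [4, 6, 16, 12, 8, 10, 6, 8, 4, 6, 16, 18, 4, 6, 8, 2, 4, 6, 16, 0, 2, 4, 6,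 8, 10, 12, 14] (.cons [4, 6, 14, 16, 8, 6, 10, 8, 0, 2, 4, 6, 14, 12, 8, 10, 4, 6, 8, 0, 2, 4, 6, 14, 16, 12, 10, 8, 2, 4, 6, 14, 0, 2, 4, 6, 8, 10, 12] (.cons [12, 6, 4, 2, 10, 12, 14, 8, 6, 8, 10] .nil .nil) .nil) (.cons [10, 8, 2, 4, 6, 16, 18, 12, 14, 10, 12, 8, 10, 6, 8, 2, 4, 6, 16, 0, 2, 4, 6, 8, 10, 12, 14] (.cons [14, 6, 8, 4, 6, 14, 10, 12, 8, 10, 6, 8, 2, 4, 6, 14, 16, 8, 10, 6, 8, 2, 4, 6, 14, 0, 2, 4, 6, 8, 10, 12] .nil .nil) (.cons [10, 8, 4, 6, 16, 18, 6, 16, 14, 10, 12, 8, 10, 6, 8, 2, 4, 6, 16, 0, 2, 4, 6, 8, 10, 12, 14] (.cons [14, 16, 6, 14, 8, 10, 6, 8, 0, 2, 4, 6, 14, 16, 6, 14, 12, 10, 4, 6, 8, 2, 4, 6, 14, 0, 2, 4, 6, 8, 10, 12] (.cons [14, 4, 6, 8, 10, 2, 4, 6, 0, 2, 4] .nil .nil)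 .nil) (.cons [12, 10, 8, 4, 6, 16, 18, 16, 14, 10, 12, 8, 10, 6, 8, 2, 4, 6, 16, 0, 2, 4, 6, 8, 10, 12, 14] (.cons [16, 10, 6, 8, 0, 14, 6, 4, 2, 10, 12, 8, 10, 6, 8, 4, 6, 14, 16, 12, 10, 6, 8, 4, 6, 14, 0, 2, 4, 6, 8, 10, 12] (.cons [8, 6, 4, 0, 2, 4, 6, 8, 10] .nil .nil) .nil) (.cons [12, 10, 8, 4, 6, 16, 18, 6, 16, 10, 12, 8, 10, 6, 8, 2, 4, 6, 16, 0, 2, 4, 6, 8, 10, 12, 14] (.cons [16, 8, 6, 14, 4, 6, 8, 10, 12] (.cons [6, 12, 14, 10, 2, 4, 6, 8, 10, 12, 6, 4, 2] .nil .nil) .nil) (.cons [10, 6, 8, 0, 2, 4, 6, 16, 18, 10, 12, 8, 10, 6, 8, 2, 4, 6, 16, 0, 2, 4, 6, 8, 10, 12, 14] (.cons [8, 10, 6, 8, 2, 4, 6, 14, 16, 10, 12, 8, 10, 4, 6, 8, 2, 4, 6, 14, 0, 2, 4, 6, 8, 10, 12] .nil .nil) (.cons [8, 10,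 6, 8, 2, 4, 6, 16, 18, 10, 12, 8, 10, 6, 8, 2, 4, 6, 16, 0, 2, 4, 6, 8, 10, 12, 14] (.cons [4, 6, 8, 2, 4, 6, 14, 16, 14, 6, 8, 4, 6, 14, 10, 12, 6, 8, 10, 4, 6, 8, 2, 4, 6, 14, 16, 8, 10, 4, 6, 8, 2, 4, 6, 14, 0, 2, 4, 6, 8, 10, 12] (.cons [10, 4, 2, 6, 4, 12, 14] .nil .nil) .nil) (.cons [16, 8, 10, 6, 8, 4, 6, 16, 18, 10, 12, 8, 10, 6, 8, 2, 4, 6, 16, 0, 2, 4, 6, 8, 10, 12, 14] (.cons [8, 6, 0, 4, 2, 0, 6, 14, 8, 10, 6, 8, 4, 6, 14, 16, 12, 8, 10, 6, 8, 4, 6, 14, 2, 4, 6, 8, 10, 12] .nil .nil) (.cons [16, 10, 6, 8, 2, 4, 6, 16, 18, 14, 12, 8, 10, 6, 8, 2, 4, 6, 16, 0, 2, 4, 6, 8, 10, 12, 14] .nil (.cons [14, 12, 10, 8, 2, 4, 6, 16, 18, 14, 12, 8, 10, 6, 8, 2, 4, 6, 16, 0, 2, 4, 6, 8, 10, 12, 14] (.cons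 [10, 8, 0, 2, 4, 6, 14, 16, 6, 14, 4, 6, 8, 2, 4, 6, 14, 0, 2, 4, 6, 8, 10, 12] (.cons [12, 14, 6, 0, 2, 4, 6, 8, 10, 12, 6, 4, 2] .nil .nil) .nil) (.cons [12, 10, 6, 8, 4, 6, 16, 18, 6, 16, 12, 8, 10, 6, 8, 2, 4, 6, 16, 0, 2, 4, 6, 8, 10, 12, 14] (.cons [8, 14, 6, 4, 6, 14, 16, 8, 6, 14, 10, 12, 8, 10, 6, 8, 0, 2, 4, 6, 14, 16, 8, 10, 6, 8, 2, 4, 6, 14, 0, 2, 4, 6, 8, 10, 12] (.cons [8, 0, 2, 4, 6, 12, 6, 8, 10, 4, 6, 2, 4, 0, 2, 12, 14] .nil .nil) .nil) (.cons [12, 10, 6, 8, 2, 4, 6, 16, 18, 16, 12, 8, 10, 6, 8, 2, 4, 6, 16, 0, 2, 4, 6, 8, 10, 12, 14] (.cons [4, 6, 14, 16, 8, 6, 14, 10, 12, 8, 10, 4, 6, 8, 2, 4, 6, 14, 16, 12, 8, 10, 6, 8, 2, 4, 6, 14, 0, 2, 4, 6, 8, 10, 12] .nil .nil) (.cons [6, 16,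 4, 6, 8, 2, 4, 6, 16, 18, 12, 8, 10, 6, 8, 2, 4, 6, 16, 0, 2, 4, 6, 8, 10, 12, 14] (.cons [16, 8, 0, 14, 6, 4, 2, 10, 12, 8, 10, 6, 8, 4, 6, 14, 16, 12, 10, 6, 8, 4, 6, 14, 0, 2, 4, 6, 8, 10, 12] (.cons [6, 2, 4, 0, 2, 10, 8, 4, 6, 8, 10] .nil .nil) .nil) (.cons [16, 8, 10, 6, 8, 2, 4, 6, 16, 18, 12, 8, 10, 6, 8, 2, 4, 6, 16, 0, 2, 4, 6, 8, 10, 12, 14] (.cons [10, 12, 8, 10, 6, 8, 4, 6, 14, 16, 14, 12, 10, 6, 8, 2, 4, 6, 14, 0, 2, 4, 6, 8, 10, 12] .nil .nil) (.cons [16, 12, 8, 10, 6, 8, 4, 6, 16, 18, 12, 8, 10, 6, 8, 2, 4, 6, 16, 0, 2, 4, 6, 8, 10, 12, 14] (.cons [14, 12, 8, 10, 6, 8, 2, 4, 6, 14, 16, 8, 10, 6, 8, 4, 6, 14, 2, 4, 6, 8, 10, 12] .nil .nil) (.cons [16, 14, 12, 10, 6, 8, 4, 6, 16, 18, 12,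 8, 10, 6, 8, 2, 4, 6, 16, 0, 2, 4, 6, 8, 10, 12, 14] (.cons [14, 16, 4, 6, 14, 10, 12, 8, 10, 6, 8, 4, 6, 14, 16, 12, 10, 4, 6, 8, 2, 4, 6, 14, 0, 2, 4, 6, 8, 10, 12] (.cons [8, 10, 12, 6, 8] .nil .nil) .nil) (.cons [12, 8, 10, 6, 8, 4, 6, 16, 18, 6, 16, 8, 10, 6, 8, 2, 4, 6, 16, 0, 2, 4, 6, 8, 10, 12, 14] (.cons [8, 6, 14, 16, 10, 8, 6, 4, 2, 8, 4, 6, 14, 10, 12, 8, 10, 6, 8, 4, 6, 14, 16, 12, 8, 10, 6, 8, 2, 4, 6, 14, 0, 2, 4, 6, 8, 10, 12] .nil .nil) (.cons [16, 8, 10, 6, 8, 4, 6, 16, 18, 6, 16, 8, 10, 6, 8, 2, 4, 6, 16, 0, 2, 4, 6, 8, 10, 12, 14] (.cons [8, 10, 6, 8, 2, 4, 6, 14, 16, 12, 8, 10, 6, 8, 4, 6, 14, 0, 2, 4, 6, 8, 10, 12] (.cons [8, 2, 4, 6, 12, 14, 6, 8, 10, 12, 6, 4, 6, 2] .nil .nil)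 .nil) (.cons [16, 12, 10, 6, 8, 2, 4, 6, 16, 18, 16, 8, 10, 6, 8, 2, 4, 6, 16, 0, 2, 4, 6, 8, 10, 12, 14] (.cons [4, 6, 14, 16, 10, 8, 6, 14, 10, 12, 8, 10, 4, 6, 8, 0, 2, 4, 6, 14, 16, 8, 10, 4, 6, 8, 2, 4, 6, 14, 0, 2, 4, 6, 8, 10, 12] (.cons [6, 12, 10, 8, 14, 0, 6, 4, 2, 12, 8, 6, 4, 12] .nil .nil) .nil) (.cons [14, 12, 8, 10, 6, 8, 4, 6, 16, 18, 16, 8, 10, 6, 8, 2, 4, 6, 16, 0, 2, 4, 6, 8, 10, 12, 14] (.cons [8, 6, 14, 16, 10, 8, 12, 10, 6, 14, 6, 4, 2, 8, 4, 6, 14, 10, 12, 8, 10, 6, 8, 4, 6, 14, 16, 8, 2, 4, 6, 14, 0, 2, 4, 6, 8, 10, 12] (.cons [8, 10, 12, 8, 6, 12, 2, 4, 0, 2, 14, 12] (.cons [0, 0, 0, 3, 3] .nil .nil) .nil) .nil) (.cons [6, 16, 8, 10, 6, 8, 4, 6, 16, 18, 16, 8, 10, 6, 8, 2, 4,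 6, 16, 0, 2, 4, 6, 8, 10, 12, 14] (.cons [16, 2, 4, 6, 14, 10, 12, 8, 10, 6, 8, 0, 2, 4, 6, 14, 16, 10, 6, 8, 2, 4, 6, 14, 0, 2, 4, 6, 8, 10, 12] (.cons [4, 12, 6, 8, 14, 12, 6, 4, 2, 4, 8, 10, 12, 14] .nil .nil) .nil) (.cons [6, 8, 10, 4, 6, 8, 2, 4, 6, 16, 18, 8, 10, 6, 8, 2, 4, 6, 16, 0, 2, 4, 6, 8, 10, 12, 14] .nil (.cons [18, 16, 10, 4, 6, 8, 2, 4, 6, 16, 18, 8, 10, 6, 8, 2, 4, 6, 16, 0, 2, 4, 6, 8, 10, 12, 14] .nil (.cons [18, 6, 16, 4, 6, 8, 2, 4, 6, 16, 18, 8, 10, 6, 8, 2, 4, 6, 16, 0, 2, 4, 6, 8, 10, 12, 14] .nil (.cons [14, 12, 8, 10, 6, 8, 2, 4, 6, 16, 18, 8, 10, 6, 8, 2, 4, 6, 16, 0, 2, 4, 6, 8, 10, 12, 14] (.cons [16, 14, 6, 8, 10, 4, 6, 8, 2, 4, 6, 14, 16, 14, 6, 8, 2, 4, 6, 14, 0, 2, 4,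 6, 8, 10, 12] .nil .nil) (.cons [16, 12, 8, 10, 6, 8, 2, 4, 6, 16, 18, 8, 10, 6, 8, 2, 4, 6, 16, 0, 2, 4, 6, 8, 10, 12, 14] (.cons [16, 0, 2, 4, 6, 14, 8, 10, 6, 8, 4, 6, 14, 16, 6, 14, 8, 10, 6, 8, 2, 4, 6, 14, 0, 2, 4, 6, 8, 10, 12] .nil .nil) (.cons [16, 10, 12, 8, 10, 6, 8, 4, 6, 16, 18, 8, 10, 6, 8, 2, 4, 6, 16, 0, 2, 4, 6, 8, 10, 12, 14] (.cons [6, 14, 16, 2, 4, 2, 8, 6, 14, 16, 4, 6, 14, 10, 12, 8, 10, 6, 8, 4, 6, 14, 16, 6, 8, 2, 4, 6, 14, 0, 2, 4, 6, 8, 10, 12] .nil .nil) (.cons [6, 16, 12, 8, 10, 6, 8, 4, 6, 16, 18, 8, 10, 6, 8, 2, 4, 6, 16, 0, 2, 4, 6, 8, 10, 12, 14] (.cons [14, 12, 6, 8, 10, 4, 6, 8, 2, 4, 6, 14, 16, 8, 10, 6, 8, 4, 6, 14, 0, 2, 4, 6, 8, 10, 12] (.cons [12, 14, 10, 8, 6, 4,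 2, 8, 10] .nil .nil) .nil) (.cons [4, 6, 16, 8, 10, 6, 8, 4, 6, 16, 18, 8, 10, 6, 8, 2, 4, 6, 16, 0, 2, 4, 6, 8, 10, 12, 14] (.cons [6, 8, 4, 6, 14, 16, 4, 6, 8, 10, 14, 6, 4, 8, 6, 14, 10, 12, 8, 10, 4, 6, 8, 0, 2, 4, 6, 14, 16, 10, 8, 2, 4, 6, 14, 0, 2, 4, 6, 8, 10, 12] (.cons [2, 4, 6, 10] .nil .nil) .nil) (.cons [12, 10, 6, 8, 2, 4, 6, 16, 18, 16, 14, 12, 10, 6, 8, 2, 4, 6, 16, 0, 2, 4, 6, 8, 10, 12, 14] (.cons [4, 6, 8, 2, 4, 6, 14, 16, 10, 8, 4, 6, 14, 8, 10, 12, 6, 8, 10, 4, 6, 8, 2, 4, 6, 14, 16, 12, 10, 4, 6, 8, 2, 4, 6, 14, 0, 2, 4, 6, 8, 10, 12] .nil .nil) (.cons [16, 10, 6, 8, 0, 2, 4, 6, 16, 18, 14, 12, 10, 6, 8, 2, 4, 6, 16, 0, 2, 4, 6, 8, 10, 12, 14] (.cons [14, 8, 6, 4, 2, 0, 6, 14, 8,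 10, 6, 8, 4, 6, 14, 16, 12, 8, 10, 6, 8, 4, 6, 14, 2, 4, 6, 8, 10, 12] (.cons [14, 4, 10, 8, 6, 4, 2, 12, 14, 8, 6, 4, 12] .nil .nil) .nil) (.cons [8, 10, 4, 6, 8, 2, 4, 6, 16, 18, 14, 12, 10, 6, 8, 2, 4, 6, 16, 0, 2, 4, 6, 8, 10, 12, 14] (.cons [6, 14, 16, 8, 6, 14, 8, 10, 2, 4, 6, 8, 0, 2, 4, 6, 14, 16, 12, 8, 10, 4, 6, 8, 2, 4, 6, 14, 0, 2, 4, 6, 8, 10, 12] (.cons [8, 6, 12, 14, 8, 4, 6, 8, 10, 2, 4, 6, 0, 2, 4] .nil .nil) .nil) (.cons [16, 10, 4, 6, 8, 2, 4, 6, 16, 18, 14, 12, 10, 6, 8, 2, 4, 6, 16, 0, 2, 4, 6, 8, 10, 12, 14] (.cons [10, 8, 6, 14, 10, 4, 6, 8, 2, 4, 6, 14, 16, 12, 6, 8, 10, 4, 6, 8, 2, 4, 6, 14, 0, 2, 4, 6, 8, 10, 12] (.cons [4, 6, 12, 14, 2, 4, 12, 10, 8, 6, 4, 0, 2, 4, 8, 10] .nil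 .nil) .nil) (.cons [12, 8, 10, 6, 8, 2, 4, 6, 16, 18, 14, 12, 10, 6, 8, 2, 4, 6, 16, 0, 2, 4, 6, 8, 10, 12, 14] (.cons [16, 14, 0, 2, 6, 4, 12, 14, 16, 6, 14, 8, 10, 6, 8, 4, 6, 14, 16, 2, 4, 6, 14, 0, 2, 4, 6, 8, 10, 12] (.cons [4, 6, 8, 0, 2, 4, 6, 12, 14, 10, 8, 4, 12, 6, 4, 2, 4, 8, 6, 10, 4] .nil .nil) .nil) (.cons [16, 12, 10, 6, 8, 2, 4, 6, 16, 18, 14, 12, 10, 6, 8, 2, 4, 6, 16, 0, 2, 4, 6, 8, 10, 12, 14] (.cons [12, 10, 8, 6, 14, 6, 8, 10, 4, 6, 8, 2, 4, 6, 14, 16, 10, 6, 8, 4, 6, 14, 0, 2, 4, 6, 8, 10, 12] (.cons [8, 2, 4, 6, 12, 14, 2, 10, 8, 6, 4, 0, 2, 4, 8, 10] .nil .nil) .nil) (.cons [16, 14, 12, 10, 6, 8, 4, 6, 16, 18, 14, 12, 10, 6, 8, 2, 4, 6, 16, 0, 2, 4, 6, 8, 10, 12, 14] (.cons [16,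 10, 8, 4, 6, 14, 10, 12, 8, 10, 4, 6, 8, 2, 4, 6, 14, 16, 14, 12, 10, 6, 8, 2, 4, 6, 14, 0, 2, 4, 6, 8, 10, 12] .nil .nil) (.cons [16, 12, 10, 6, 8, 2, 4, 6, 16, 18, 16, 12, 10, 6, 8, 2, 4, 6, 16, 0, 2, 4, 6, 8, 10, 12, 14] (.cons [0, 2, 4, 6, 14, 16, 10, 8, 6, 12, 10, 8, 2, 4, 6, 14, 12, 8, 10, 4, 6, 8, 0, 2, 4, 6, 14, 16, 12, 10, 8, 2, 4, 6, 14, 0, 2, 4, 6, 8, 10, 12] (.cons [6, 8, 2, 4, 6, 12, 6, 8, 4, 6, 2, 4, 0, 2, 8, 10, 12, 14] .nil .nil) .nil) (.cons [18, 16, 10, 6, 8, 2, 4, 6, 16, 18, 16, 12, 10, 6, 8, 2, 4, 6, 16, 0, 2, 4, 6, 8, 10, 12, 14] (.cons [10, 8, 6, 14, 16, 2, 4, 6, 14, 12, 6, 8, 10, 4, 6, 8, 2, 4, 6, 14, 16, 12, 10, 6, 8, 2, 4, 6, 14, 0, 2, 4, 6, 8, 10, 12] (.cons [14, 2, 4, 6, 12,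 14, 8, 10, 6, 4, 2, 12, 6, 4] .nil .nil) .nil) (.cons [16, 14, 12, 10, 6, 8, 4, 6, 16, 18, 16, 12, 10, 6, 8, 2, 4, 6, 16, 0, 2, 4, 6, 8, 10, 12, 14] (.cons [8, 2, 4, 6, 14, 16, 8, 4, 6, 14, 10, 12, 8, 10, 2, 4, 6, 8, 0, 2, 4, 6, 14, 16, 10, 4, 6, 8, 2, 4, 6, 14, 0, 2, 4, 6, 8, 10, 12] (.cons [4, 6, 10, 2, 12, 14] .nil .nil) .nil) (.cons [18, 16, 12, 10, 6, 8, 4, 6, 16, 18, 16, 12, 10, 6, 8, 2, 4, 6, 16, 0, 2, 4, 6, 8, 10, 12, 14] (.cons [6, 14, 16, 10, 8, 6, 14, 12, 10, 4, 6, 8, 0, 2, 4, 6, 14, 16, 14, 12, 10, 4, 6, 8, 2, 4, 6, 14, 0, 2, 4, 6, 8, 10, 12] (.cons [2, 4, 6, 12, 14, 8, 12, 6, 8, 10, 4, 6, 2] .nil .nil) .nil) (.cons [12, 8, 10, 4, 6, 8, 2, 4, 6, 16, 18, 12, 10, 6, 8, 2, 4, 6, 16, 0, 2, 4,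 6, 8, 10, 12, 14] (.cons [10, 0, 2, 4, 6, 14, 8, 6, 4, 2, 14, 10, 12, 8, 10, 6, 8, 4, 6, 14, 16, 10, 6, 8, 4, 6, 14, 0, 2, 4, 6, 8, 10, 12] (.cons [10, 8, 6, 4, 12, 2, 6, 8, 10, 4, 6, 12, 14] .nil .nil) .nil) (.cons [14, 12, 8, 10, 6, 8, 2, 4, 6, 16, 18, 12, 10, 6, 8, 2, 4, 6, 16, 0, 2, 4, 6, 8, 10, 12, 14] (.cons [6, 14, 10, 4, 6, 8, 2, 4, 6, 14, 16, 10, 8, 4, 6, 14, 0, 2, 4, 6, 8, 10, 12] .nil .nil) (.cons [16, 14, 12, 10, 6, 8, 2, 4, 6, 16, 18, 12, 10, 6, 8, 2, 4, 6, 16, 0, 2, 4, 6, 8, 10, 12, 14] (.cons [8, 2, 4, 6, 14, 16, 10, 8, 6, 14, 12, 10, 8, 6, 4, 2, 0, 14, 12, 8, 10, 6, 8, 4, 6, 14, 16, 12, 8, 10, 6, 8, 4, 6, 14, 2, 4, 6, 8, 10, 12] (.cons [2, 4, 2, 6, 8, 10, 4, 6, 12, 14] .nil .nil) .nil)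 (.cons [16, 8, 10, 4, 6, 8, 2, 4, 6, 16, 18, 16, 10, 6, 8, 2, 4, 6, 16, 0, 2, 4, 6, 8, 10, 12, 14] (.cons [6, 14, 16, 6, 8, 4, 6, 14, 10, 12, 8, 10, 4, 6, 8, 2, 4, 6, 14, 16, 14, 10, 6, 8, 2, 4, 6, 14, 0, 2, 4, 6, 8, 10, 12] (.cons [4, 6, 12, 10, 8, 14, 0, 4, 12, 6, 4, 2, 8, 6] .nil .nil) .nil) (.cons [14, 12, 8, 10, 6, 8, 2, 4, 6, 16, 18, 16, 10, 6, 8, 2, 4, 6, 16, 0, 2, 4, 6, 8, 10, 12, 14] (.cons [16, 8, 6, 14, 10, 4, 6, 8, 2, 4, 6, 14, 16, 8, 10, 6, 8, 2, 4, 6, 14, 0, 2, 4, 6, 8, 10, 12] (.cons [2, 4, 8, 10, 6, 8, 10, 4, 6, 12, 14, 8, 6, 4, 2] .nil .nil) .nil) (.cons [16, 12, 8, 10, 6, 8, 2, 4, 6, 16, 18, 16, 10, 6, 8, 2, 4, 6, 16, 0, 2, 4, 6, 8, 10, 12, 14] (.cons [16, 4, 6, 14, 8, 10, 4, 6, 8, 2,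 4, 6, 14, 16, 10, 6, 8, 2, 4, 6, 14, 0, 2, 4, 6, 8, 10, 12] (.cons [10, 4, 8, 2, 12, 6, 8] .nil .nil) .nil) (.cons [16, 10, 12, 8, 10, 6, 8, 4, 6, 16, 18, 16, 10, 6, 8, 2, 4, 6, 16, 0, 2, 4, 6, 8, 10, 12, 14] (.cons [2, 4, 6, 14, 16, 8, 10, 6, 8, 2, 4, 6, 14, 12, 8, 10, 6, 8, 0, 2, 4, 6, 14, 16, 12, 10, 8, 2, 4, 6, 14, 0, 2, 4, 6, 8, 10, 12] (.cons [12, 8, 6, 4, 0, 2, 12, 6, 4, 12, 14] .nil .nil) .nil) (.cons [16, 14, 12, 8, 10, 6, 8, 4, 6, 16, 18, 16, 10, 6, 8, 2, 4, 6, 16, 0, 2, 4, 6, 8, 10, 12, 14] .nil (.cons [6, 16, 8, 10, 6, 8, 0, 2, 4, 6, 16, 18, 10, 6, 8, 2, 4, 6, 16, 0, 2, 4, 6, 8, 10, 12, 14] (.cons [16, 8, 2, 4, 6, 14, 10, 12, 8, 10, 4, 6, 8, 2, 4, 6, 14, 16, 8, 10, 4, 6, 8, 2, 4, 6, 14, 0,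 2, 4, 6, 8, 10, 12] .nil .nil) (.cons [14, 12, 8, 10, 4, 6, 8, 2, 4, 6, 16, 18, 10, 6, 8, 2, 4, 6, 16, 0, 2, 4, 6, 8, 10, 12, 14] (.cons [16, 4, 6, 14, 12, 8, 10, 6, 8, 2, 4, 6, 14, 16, 6, 14, 12, 10, 4, 6, 8, 2, 4, 6, 14, 0, 2, 4, 6, 8, 10, 12] (.cons [4, 6, 12, 14, 8, 6, 4, 0, 2, 4, 10, 8] (.cons [4, 0, 3, 3, 0] .nil .nil) .nil) .nil) (.cons [16, 12, 8, 10, 4, 6, 8, 2, 4, 6, 16, 18, 10, 6, 8, 2, 4, 6, 16, 0, 2, 4, 6, 8, 10, 12, 14] (.cons [8, 6, 14, 12, 10, 4, 6, 8, 2, 4, 6, 14, 16, 14, 12, 8, 10, 4, 6, 8, 2, 4, 6, 14, 0, 2, 4, 6, 8, 10, 12] (.cons [12, 6, 4, 2, 6, 8, 10, 8, 12] .nil .nil) .nil) (.cons [14, 10, 12, 8, 10, 6, 8, 2, 4, 6, 16, 18, 10, 6, 8, 2, 4, 6, 16, 0, 2, 4, 6, 8, 10, 12, 14] (.cons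 [10, 8, 6, 14, 10, 12, 6, 8, 10, 4, 6, 8, 2, 4, 6, 14, 16, 8, 10, 4, 6, 8, 2, 4, 6, 14, 0, 2, 4, 6, 8, 10, 12] (.cons [8, 0, 2, 4, 6, 12, 14, 8, 4, 6, 4, 2, 8, 6, 10, 4] (.cons [1, 1, 3, 3, 0, 2] .nil .nil) .nil) .nil) (.cons [16, 18, 6, 16, 8, 10, 6, 8, 4, 6, 16, 18, 10, 6, 8, 2, 4, 6, 16, 0, 2, 4, 6, 8, 10, 12, 14] (.cons [14, 16, 10, 8, 12, 10, 6, 4, 2, 14, 8, 6, 4, 10, 16, 6, 14, 12, 8, 10, 6, 8, 4, 6, 14, 16, 2, 4, 6, 14, 0, 2, 4, 6, 8, 10, 12] (.cons [2, 4, 6, 0, 2, 12, 14, 10, 6, 4, 2, 12, 6, 8, 10, 4, 6, 12, 14, 8, 6, 4, 2] .nil .nil) .nil) (.cons [16, 10, 12, 8, 10, 6, 8, 2, 4, 6, 16, 18, 16, 6, 8, 2, 4, 6, 16, 0, 2, 4, 6, 8, 10, 12, 14] (.cons [16, 12, 10, 0, 6, 4, 2, 8, 4, 6, 14, 10, 12, 8,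 10, 6, 8, 4, 6, 14, 16, 8, 2, 4, 6, 14, 0, 2, 4, 6, 8, 10, 12] .nil .nil) (.cons [6, 16, 12, 8, 10, 6, 8, 2, 4, 6, 16, 18, 16, 6, 8, 2, 4, 6, 16, 0, 2, 4, 6, 8, 10, 12, 14] (.cons [16, 6, 4, 2, 14, 8, 6, 4, 10, 16, 6, 14, 12, 8, 10, 6, 8, 4, 6, 14, 16, 2, 4, 6, 14, 0, 2, 4, 6, 8, 10, 12] (.cons [10, 8, 6, 8, 4, 2, 14, 6, 8, 4, 6, 8, 10] .nil .nil) .nil) (.cons [18, 16, 10, 12, 8, 10, 6, 8, 4, 6, 16, 18, 16, 6, 8, 2, 4, 6, 16, 0, 2, 4, 6, 8, 10, 12, 14] (.cons [4, 6, 14, 16, 8, 6, 14, 12, 8, 10, 4, 6, 8, 2, 4, 6, 14, 16, 8, 10, 4, 6, 8, 2, 4, 6, 14, 0, 2, 4, 6, 8, 10, 12] (.cons [12, 6, 4, 12, 14, 6, 8, 0, 2, 10, 8] .nil .nil) .nil) (.cons [6, 16, 14, 12, 8, 10, 6, 8, 4, 6, 16, 18, 16, 6, 8, 2, 4, 6, 16,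 0, 2, 4, 6, 8, 10, 12, 14] (.cons [10, 8, 4, 6, 14, 16, 8, 4, 6, 14, 8, 10, 12, 6, 8, 10, 4, 6, 8, 2, 4, 6, 14, 16, 8, 10, 4, 6, 8, 2, 4, 6, 14, 0, 2, 4, 6, 8, 10, 12] (.cons [4, 12, 6, 8, 10] .nil .nil) .nil) (.cons [18, 16, 14, 12, 8, 10, 6, 8, 4, 6, 16, 18, 16, 6, 8, 2, 4, 6, 16, 0, 2, 4, 6, 8, 10, 12, 14] (.cons [14, 16, 6, 14, 6, 8, 10, 4, 6, 8, 0, 2, 4, 6, 14, 16, 10, 6, 8, 2, 4, 6, 14, 0, 2, 4, 6, 8, 10, 12] .nil .nil) (.cons [12, 6, 8, 10, 4, 6, 8, 0, 2, 4, 6, 16, 18, 6, 8, 2, 4, 6, 16, 0, 2, 4, 6, 8, 10, 12, 14] (.cons [12, 6, 8, 10, 4, 6, 8, 0, 2, 4, 6, 14, 16, 12, 10, 6, 8, 2, 4, 6, 14, 0, 2, 4, 6, 8, 10, 12] .nil .nil) (.cons [16, 6, 8, 10, 4, 6, 8, 0, 2, 4, 6, 16, 18, 6, 8, 2, 4, 6, 16, 0,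 2, 4, 6, 8, 10, 12, 14] (.cons [8, 6, 14, 16, 10, 8, 10, 6, 2, 4, 6, 14, 8, 10, 12, 6, 8, 10, 4, 6, 8, 0, 2, 4, 6, 14, 16, 6, 8, 4, 6, 14, 0, 2, 4, 6, 8, 10, 12] (.cons [14, 12, 8, 10, 6, 4, 2, 6, 4, 12] .nil .nil) .nil) (.cons [14, 10, 12, 8, 10, 6, 8, 0, 2, 4, 6, 16, 18, 6, 8, 2, 4, 6, 16, 0, 2, 4, 6, 8, 10, 12, 14] (.cons [16, 14, 10, 6, 8, 4, 6, 14, 10, 12, 8, 10, 4, 6, 8, 2, 4, 6, 14, 16, 10, 8, 2, 4, 6, 14, 0, 2, 4, 6, 8, 10, 12] (.cons [4, 0, 2, 0, 4, 12, 6, 8, 4, 2, 10, 8] .nil .nil) .nil) (.cons [6, 16, 12, 8, 10, 6, 8, 0, 2, 4, 6, 16, 18, 6, 8, 2, 4, 6, 16, 0, 2, 4, 6, 8, 10, 12, 14] (.cons [8, 4, 6, 14, 16, 8, 4, 6, 14, 10, 12, 8, 10, 4, 6, 8, 2, 4, 6, 14, 16, 10, 4, 6, 8, 2, 4, 6, 14, 0, 2,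 4, 6, 8, 10, 12] (.cons [6, 12, 14, 8, 10, 12, 6, 4, 6, 2, 4] .nil .nil) .nil) (.cons [10, 12, 6, 8, 10, 4, 6, 8, 2, 4, 6, 16, 18, 6, 8, 2, 4, 6, 16, 0, 2, 4, 6, 8, 10, 12, 14] (.cons [8, 0, 2, 4, 6, 14, 16, 10, 8, 4, 6, 14, 8, 10, 12, 6, 8, 10, 4, 6, 8, 2, 4, 6, 14, 16, 14, 12, 10, 4, 6, 8, 2, 4, 6, 14, 0, 2, 4, 6, 8, 10, 12] (.cons [4, 6, 12, 14, 4, 12, 6, 8, 10, 4, 6, 2, 4, 0, 2] .nil .nil) .nil) (.cons [18, 16, 6, 8, 10, 4, 6, 8, 2, 4, 6, 16, 18, 6, 8, 2, 4, 6, 16, 0, 2, 4, 6, 8, 10, 12, 14] .nil (.cons [16, 10, 12, 8, 10, 4, 6, 8, 2, 4, 6, 16, 18, 6, 8, 2, 4, 6, 16, 0, 2, 4, 6, 8, 10, 12, 14] (.cons [16, 6, 8, 2, 4, 6, 14, 10, 12, 8, 10, 6, 8, 2, 4, 6, 14, 16, 10, 4, 6, 8, 2, 4, 6, 14, 0, 2, 4, 6,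 8, 10, 12] (.cons [8, 6, 12, 8, 6, 4, 6, 0, 2, 4, 8, 10, 12, 14] .nil .nil) .nil) (.cons [18, 6, 16, 12, 8, 10, 6, 8, 2, 4, 6, 16, 18, 6, 8, 2, 4, 6, 16, 0, 2, 4, 6, 8, 10, 12, 14] (.cons [0, 2, 4, 6, 14, 16, 8, 4, 6, 14, 10, 12, 8, 10, 2, 4, 6, 8, 0, 2, 4, 6, 14, 16, 8, 10, 4, 6, 8, 2, 4, 6, 14, 0, 2, 4, 6, 8, 10, 12] (.cons [12, 6, 2, 0, 12, 4, 2, 6, 8, 10, 8, 12] (.cons [0, 2, 5, 1, 4, 0] .nil .nil) .nil) .nil) (.cons [0, 2, 4, 6, 16, 8, 10, 6, 8, 4, 6, 16, 18, 6, 8, 2, 4, 6, 16, 0, 2, 4, 6, 8, 10, 12, 14] (.cons [16, 14, 6, 8, 4, 6, 14, 16, 10, 8, 6, 14, 10, 12, 8, 10, 4, 6, 8, 2, 4, 6, 14, 16, 12, 10, 4, 6, 8, 2, 4, 6, 14, 0, 2, 4, 6, 8, 10, 12] (.cons [2, 12, 6, 4, 0, 2, 4, 14, 12] .nil .nil) .nil)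 (.cons [16, 18, 4, 6, 16, 8, 10, 6, 8, 4, 6, 16, 18, 6, 8, 2, 4, 6, 16, 0, 2, 4, 6, 8, 10, 12, 14] (.cons [8, 4, 6, 14, 16, 10, 8, 4, 6, 14, 12, 8, 10, 4, 6, 8, 2, 4, 6, 14, 16, 10, 4, 6, 8, 2, 4, 6, 14, 0, 2, 4, 6, 8, 10, 12] (.cons [12, 14, 2, 4, 6, 2, 4, 0, 2, 8, 4, 6, 8, 10] .nil .nil) .nil) (.cons [12, 8, 10, 6, 8, 0, 2, 4, 6, 16, 18, 14, 12, 10, 8, 2, 4, 6, 16, 0, 2, 4, 6, 8, 10, 12, 14] (.cons [10, 8, 6, 14, 16, 8, 4, 6, 14, 10, 12, 6, 8, 10, 4, 6, 8, 2, 4, 6, 14, 16, 14, 12, 10, 6, 8, 2, 4, 6, 14, 0, 2, 4, 6, 8, 10, 12] (.cons [2, 14, 6, 4, 8, 12] .nil .nil) .nil) (.cons [16, 8, 10, 4, 6, 8, 2, 4, 6, 16, 18, 14, 12, 10, 8, 2, 4, 6, 16, 0, 2, 4, 6, 8, 10, 12, 14] (.cons [16, 14, 6, 8, 10, 4, 6,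 8, 2, 4, 6, 14, 16, 12, 8, 10, 4, 6, 8, 2, 4, 6, 14, 0, 2, 4, 6, 8, 10, 12] (.cons [12, 14, 10, 8, 6, 4, 0, 2, 8, 4, 6, 8, 10] (.cons [1, 2, 1, 3, 3] .nil .nil) .nil) .nil) (.cons [14, 12, 8, 10, 6, 8, 2, 4, 6, 16, 18, 14, 12, 10, 8, 2, 4, 6, 16, 0, 2, 4, 6, 8, 10, 12, 14] (.cons [16, 8, 6, 14, 10, 12, 6, 8, 10, 4, 6, 8, 2, 4, 6, 14, 16, 10, 6, 8, 2, 4, 6, 14, 0, 2, 4, 6, 8, 10, 12] (.cons [10, 4, 6, 8, 0, 4, 12, 6, 4, 2, 8, 10] .nil .nil) .nil) (.cons [18, 16, 12, 8, 10, 6, 8, 4, 6, 16, 18, 14, 12, 10, 8, 2, 4, 6, 16, 0, 2, 4, 6, 8, 10, 12, 14] (.cons [16, 8, 6, 14, 10, 12, 8, 10, 4, 6, 8, 0, 2, 4, 6, 14, 16, 10, 8, 2, 4, 6, 14, 0, 2, 4, 6, 8, 10, 12] (.cons [6, 8, 2, 4, 6, 4, 0, 2, 4, 6, 8, 10] .nil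 .nil) .nil) (.cons [18, 6, 16, 8, 10, 6, 8, 4, 6, 16, 18, 14, 12, 10, 8, 2, 4, 6, 16, 0, 2, 4, 6, 8, 10, 12, 14] .nil (.cons [12, 8, 10, 4, 6, 8, 0, 2, 4, 6, 16, 18, 12, 10, 8, 2, 4, 6, 16, 0, 2, 4, 6, 8, 10, 12, 14] (.cons [14, 6, 8, 2, 4, 6, 14, 16, 10, 8, 6, 14, 10, 12, 6, 8, 10, 4, 6, 8, 2, 4, 6, 14, 16, 12, 10, 4, 6, 8, 2, 4, 6, 14, 0, 2, 4, 6, 8, 10, 12] (.cons [2, 4, 12, 6, 8, 4, 10, 2, 6, 12, 14, 4, 8, 6, 4, 2] .nil .nil) .nil) (.cons [16, 12, 10, 4, 6, 8, 0, 2, 4, 6, 16, 18, 12, 10, 8, 2, 4, 6, 16, 0, 2, 4, 6, 8, 10, 12, 14] (.cons [6, 8, 4, 6, 14, 16, 10, 8, 14, 6, 4, 8, 0, 2, 4, 6, 14, 10, 12, 8, 10, 6, 8, 4, 6, 14, 16, 8, 10, 6, 8, 2, 4, 6, 14, 0, 2, 4, 6, 8, 10, 12] (.cons [8, 2, 4, 6, 12,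 14, 10, 8, 4, 12, 6, 4, 2, 4, 8, 10] .nil .nil) .nil) (.cons [18, 16, 12, 10, 6, 8, 0, 2, 4, 6, 16, 18, 12, 10, 8, 2, 4, 6, 16, 0, 2, 4, 6, 8, 10, 12, 14] (.cons [16, 4, 6, 14, 10, 12, 8, 10, 4, 6, 8, 0, 2, 4, 6, 14, 16, 10, 4, 6, 8, 2, 4, 6, 14, 0, 2, 4, 6, 8, 10, 12] (.cons [2, 4, 6, 12, 14, 6, 4, 2, 4, 0, 6, 8, 10, 12, 6, 4, 2] .nil .nil) .nil) (.cons [12, 14, 10, 12, 8, 10, 6, 8, 4, 6, 16, 18, 12, 10, 8, 2, 4, 6, 16, 0, 2, 4, 6, 8, 10, 12, 14] .nil (.cons [16, 14, 12, 10, 4, 6, 8, 0, 2, 4, 6, 16, 18, 10, 8, 2, 4, 6, 16, 0, 2, 4, 6, 8, 10, 12, 14] .nil (.cons [18, 16, 12, 8, 10, 6, 8, 0, 2, 4, 6, 16, 18, 10, 8, 2, 4, 6, 16, 0, 2, 4, 6, 8, 10, 12, 14] .nil (.cons [6, 16, 12, 8, 10, 4, 6, 8, 2, 4, 6,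 16, 18, 10, 8, 2, 4, 6, 16, 0, 2, 4, 6, 8, 10, 12, 14] (.cons [12, 6, 8, 10, 2, 4, 6, 8, 0, 2, 4, 6, 14, 16, 14, 6, 8, 4, 6, 14, 2, 4, 6, 8, 10, 12] (.cons [4, 6, 12, 14, 4, 2, 6, 8, 10, 0, 4, 8, 6, 4, 2] .nil .nil) .nil) (.cons [8, 6, 16, 8, 10, 4, 6, 8, 2, 4, 6, 16, 18, 10, 8, 2, 4, 6, 16, 0, 2, 4, 6, 8, 10, 12, 14] (.cons [6, 14, 16, 8, 6, 4, 2, 8, 4, 6, 14, 10, 12, 8, 10, 6, 8, 4, 6, 14, 16, 12, 8, 10, 6, 8, 2, 4, 6, 14, 0, 2, 4, 6, 8, 10, 12] (.cons [6, 2, 4, 8, 6, 10, 4] .nil .nil) .nil) (.cons [18, 6, 16, 12, 8, 10, 6, 8, 2, 4, 6, 16, 18, 10, 8, 2, 4, 6, 16, 0, 2, 4, 6, 8, 10, 12, 14] (.cons [2, 4, 6, 14, 16, 10, 6, 8, 10, 6, 14, 0, 6, 4, 2, 8, 4, 6, 14, 10, 12, 8, 10, 6, 8, 4, 6, 14, 16, 8, 2,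 4, 6, 14, 0, 2, 4, 6, 8, 10, 12] (.cons [0, 2, 12, 14, 6, 4, 8, 12] .nil .nil) .nil) (.cons [4, 6, 16, 10, 12, 8, 10, 6, 8, 4, 6, 16, 18, 10, 8, 2, 4, 6, 16, 0, 2, 4, 6, 8, 10, 12, 14] (.cons [8, 2, 4, 6, 14, 16, 8, 4, 6, 14, 10, 12, 8, 10, 2, 4, 6, 8, 0, 2, 4, 6, 14, 16, 8, 10, 4, 6, 8, 2, 4, 6, 14, 0, 2, 4, 6, 8, 10, 12] .nil .nil) (.cons [18, 4, 6, 16, 12, 8, 10, 6, 8, 4, 6, 16, 18, 10, 8, 2, 4, 6, 16, 0, 2, 4, 6, 8, 10, 12, 14] (.cons [6, 14, 16, 12, 8, 10, 14, 6, 2, 4, 6, 14, 8, 10, 12, 6, 8, 10, 4, 6, 8, 2, 4, 6, 14, 16, 14, 6, 8, 4, 6, 14, 0, 2, 4, 6, 8, 10, 12] .nil .nil) (.cons [0, 2, 4, 6, 16, 8, 10, 6, 8, 4, 6, 16, 18, 10, 8, 2, 4, 6, 16, 0, 2, 4, 6, 8, 10, 12, 14] (.cons [14, 8, 10, 12, 6,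 8, 10, 4, 6, 8, 2, 4, 6, 14, 16, 14, 4, 6, 8, 2, 4, 6, 14, 0, 2, 4, 6, 8, 10, 12] (.cons [8, 6, 10, 4, 0, 2, 12, 6, 4, 12, 14] .nil .nil) .nil) (.cons [12, 14, 10, 12, 8, 10, 6, 8, 0, 2, 4, 6, 16, 18, 8, 2, 4, 6, 16, 0, 2, 4, 6, 8, 10, 12, 14] (.cons [6, 14, 16, 8, 12, 10, 6, 14, 0, 6, 4, 2, 8, 4, 6, 14, 10, 12, 8, 10, 6, 8, 4, 6, 14, 16, 8, 2, 4, 6, 14, 0, 2, 4, 6, 8, 10, 12] (.cons [12, 8, 6, 4, 12, 6, 2, 4, 8, 10, 6, 4, 12, 14] .nil .nil) .nil) (.cons [18, 16, 14, 12, 8, 10, 6, 8, 0, 2, 4, 6, 16, 18, 8, 2, 4, 6, 16, 0, 2, 4, 6, 8, 10, 12, 14] (.cons [10, 8, 2, 4, 6, 14, 16, 6, 8, 4, 6, 14, 8, 10, 12, 6, 8, 10, 4, 6, 8, 2, 4, 6, 14, 16, 12, 10, 4, 6, 8, 2, 4, 6, 14, 0, 2, 4, 6, 8, 10, 12] (.cons [14,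 4, 6, 4, 2, 4, 8, 10] .nil .nil) .nil) (.cons [4, 6, 16, 12, 8, 10, 6, 8, 0, 2, 4, 6, 16, 18, 8, 2, 4, 6, 16, 0, 2, 4, 6, 8, 10, 12, 14] (.cons [8, 6, 14, 16, 8, 4, 6, 14, 12, 8, 10, 4, 6, 8, 2, 4, 6, 14, 16, 10, 4, 6, 8, 2, 4, 6, 14, 0, 2, 4, 6, 8, 10, 12] (.cons [14, 2, 4, 6, 8, 0, 2, 10, 4, 0, 2, 8, 6] .nil .nil) .nil) (.cons [18, 4, 6, 16, 8, 10, 6, 8, 0, 2, 4, 6, 16, 18, 8, 2, 4, 6, 16, 0, 2, 4, 6, 8, 10, 12, 14] (.cons [14, 10, 12, 8, 10, 6, 8, 4, 6, 14, 16, 4, 6, 8, 2, 4, 6, 14, 0, 2, 4, 6, 8, 10, 12] (.cons [2, 4, 6, 12, 8, 6, 8, 4, 2, 10, 12, 14, 8] (.cons [1, 2, 2, 5] .nil .nil) .nil) .nil) (.cons [6, 16, 14, 10, 12, 8, 10, 6, 8, 2, 4, 6, 16, 18, 8, 2, 4, 6, 16, 0, 2, 4, 6, 8, 10, 12, 14] (.cons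 [14, 16, 6, 10, 8, 0, 2, 4, 6, 14, 12, 8, 10, 4, 6, 8, 2, 4, 6, 14, 16, 12, 10, 8, 2, 4, 6, 14, 0, 2, 4, 6, 8, 10, 12] (.cons [12, 2, 4, 6, 8, 0, 2, 4, 6, 12, 14, 10, 8, 6, 4, 2, 8, 6, 10, 4] .nil .nil) .nil) (.cons [16, 10, 4, 6, 8, 0, 2, 4, 6, 16, 18, 12, 8, 10, 6, 8, 4, 6, 16, 0, 2, 4, 6, 8, 10, 12, 14] (.cons [0, 2, 14, 6, 4, 8, 10, 12, 14, 16, 6, 14, 8, 10, 6, 8, 4, 6, 14, 16, 2, 4, 6, 14, 0, 2, 4, 6, 8, 10, 12] (.cons [8, 6, 4, 2, 4, 12, 14, 6, 8, 4, 6, 10] .nil .nil) .nil) (.cons [18, 16, 12, 10, 6, 8, 2, 4, 6, 16, 18, 12, 8, 10, 6, 8, 4, 6, 16, 0, 2, 4, 6, 8, 10, 12, 14] .nil (.cons [8, 10, 2, 4, 6, 8, 0, 2, 4, 6, 16, 18, 8, 10, 6, 8, 4, 6, 16, 0, 2, 4, 6, 8, 10, 12, 14] (.cons [4, 6, 14, 8, 10,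 6, 8, 0, 2, 4, 6, 14, 16, 8, 10, 4, 6, 8, 2, 4, 6, 14, 0, 2, 4, 6, 8, 10, 12] (.cons [6, 8, 0, 2, 4, 10, 8, 6, 4, 12, 14] .nil .nil) .nil) (.cons [12, 8, 10, 4, 6, 8, 0, 2, 4, 6, 16, 18, 8, 10, 6, 8, 4, 6, 16, 0, 2, 4, 6, 8, 10, 12, 14] (.cons [12, 10, 8, 6, 14, 4, 6, 8, 2, 4, 6, 14, 16, 12, 8, 10, 4, 6, 8, 2, 4, 6, 14, 0, 2, 4, 6, 8, 10, 12] .nil .nil) (.cons [16, 6, 8, 10, 4, 6, 8, 2, 4, 6, 16, 18, 8, 10, 6, 8, 4, 6, 16, 0, 2, 4, 6, 8, 10, 12, 14] (.cons [8, 0, 2, 4, 6, 14, 16, 8, 4, 6, 14, 10, 12, 6, 8, 10, 4, 6, 8, 0, 2, 4, 6, 14, 16, 8, 10, 4, 6, 8, 2, 4, 6, 14, 0, 2, 4, 6, 8, 10, 12] .nil .nil) (.cons [14, 12, 8, 10, 4, 6, 8, 2, 4, 6, 16, 18, 8, 10, 6, 8, 4, 6, 16, 0, 2, 4, 6, 8, 10, 12, 14] (.cons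 [14, 6, 8, 2, 4, 6, 14, 16, 10, 8, 2, 4, 6, 14, 0, 2, 4, 6, 8, 10, 12] .nil .nil) (.cons [10, 8, 6, 16, 4, 6, 8, 2, 4, 6, 16, 18, 8, 10, 6, 8, 4, 6, 16, 0, 2, 4, 6, 8, 10, 12, 14] (.cons [16, 4, 6, 14, 10, 12, 6, 8, 10, 4, 6, 8, 0, 2, 4, 6, 14, 16, 8, 10, 4, 6, 8, 2, 4, 6, 14, 0, 2, 4, 6, 8, 10, 12] (.cons [8, 0, 2, 4, 6, 12, 14, 6, 8, 10, 12, 6, 4, 6, 0, 2] .nil .nil) .nil) (.cons [18, 16, 12, 8, 10, 6, 8, 2, 4, 6, 16, 18, 8, 10, 6, 8, 4, 6, 16, 0, 2, 4, 6, 8, 10, 12, 14] .nil (.cons [16, 8, 10, 4, 6, 8, 2, 4, 6, 16, 18, 16, 12, 10, 6, 8, 4, 6, 16, 0, 2, 4, 6, 8, 10, 12, 14] (.cons [2, 4, 6, 14, 12, 10, 8, 6, 14, 16, 8, 4, 6, 14, 10, 12, 8, 10, 6, 8, 2, 4, 6, 14, 16, 14, 12, 10, 6, 8, 2, 4, 6, 14, 0,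 2, 4, 6, 8, 10, 12] (.cons [0, 2, 4, 6, 12, 14, 8, 10, 0, 12, 6, 4, 2, 4] .nil .nil) .nil) (.cons [16, 6, 8, 10, 4, 6, 8, 2, 4, 6, 16, 18, 12, 10, 6, 8, 4, 6, 16, 0, 2, 4, 6, 8, 10, 12, 14] (.cons [10, 8, 6, 14, 10, 4, 6, 8, 2, 4, 6, 14, 16, 12, 10, 6, 8, 4, 6, 14, 0, 2, 4, 6, 8, 10, 12] (.cons [8, 6, 4, 0, 2, 6, 4, 6, 12, 14, 8, 6, 10] .nil .nil) .nil) (.cons [10, 8, 6, 16, 10, 4, 6, 8, 2, 4, 6, 16, 18, 10, 6, 8, 4, 6, 16, 0, 2, 4, 6, 8, 10, 12, 14] (.cons [2, 4, 6, 8, 0, 2, 4, 6, 14, 16, 10, 6, 8, 4, 6, 14, 10, 12, 8, 10, 4, 6, 8, 0, 2, 4, 6, 14, 16, 10, 4, 6, 8, 2, 4, 6, 14, 0, 2, 4, 6, 8, 10, 12] (.cons [8, 0, 2, 4, 12, 6, 8, 10, 14, 12, 0, 8, 6, 4, 2, 4, 12, 14] .nil .nil) .nil) (.cons [14, 12, 8,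 10, 4, 6, 8, 0, 2, 4, 6, 16, 18, 16, 6, 8, 4, 6, 16, 0, 2, 4, 6, 8, 10, 12, 14] .nil (.cons [4, 6, 16, 8, 10, 4, 6, 8, 2, 4, 6, 16, 18, 16, 6, 8, 4, 6, 16, 0, 2, 4, 6, 8, 10, 12, 14] (.cons [14, 16, 10, 8, 6, 14, 10, 12, 8, 10, 4, 6, 8, 0, 2, 4, 6, 14, 16, 12, 8, 10, 6, 8, 2, 4, 6, 14, 0, 2, 4, 6, 8, 10, 12] (.cons [2, 4, 12, 0, 2, 4, 14, 8, 12] .nil .nil) .nil) (.cons [16, 6, 8, 10, 2, 4, 6, 8, 0, 2, 4, 6, 16, 18, 6, 8, 4, 6, 16, 0, 2, 4, 6, 8, 10, 12, 14] (.cons [10, 8, 4, 6, 14, 8, 10, 12, 6, 8, 10, 4, 6, 8, 2, 4, 6, 14, 16, 14, 8, 10, 4, 6, 8, 2, 4, 6, 14, 0, 2, 4, 6, 8, 10, 12] (.cons [6, 12, 14, 0, 6, 10, 8, 4, 12, 6, 4, 2, 4, 8, 10] .nil .nil) .nil) (.cons [10, 12, 8, 10, 2, 4, 6, 8, 0, 2, 4, 6,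 16, 18, 6, 8, 4, 6, 16, 0, 2, 4, 6, 8, 10, 12, 14] (.cons [8, 4, 6, 14, 16, 8, 4, 6, 8, 2, 4, 6, 14, 8, 10, 12, 6, 8, 10, 4, 6, 8, 2, 4, 6, 14, 16, 6, 8, 2, 4, 6, 14, 0, 2, 4, 6, 8, 10, 12] (.cons [8, 6, 12, 14, 8, 12, 6, 0, 2, 8, 10, 4, 6, 0, 2] .nil .nil) .nil) (.cons [14, 12, 6, 8, 10, 4, 6, 8, 0, 2, 4, 6, 16, 18, 6, 8, 4, 6, 16, 0, 2, 4, 6, 8, 10, 12, 14] (.cons [2, 4, 6, 14, 16, 6, 8, 4, 6, 14, 10, 12, 8, 10, 4, 6, 8, 2, 4, 6, 14, 16, 14, 12, 10, 6, 8, 2, 4, 6, 14, 0, 2, 4, 6, 8, 10, 12] (.cons [14, 12, 6, 4, 8, 10, 12, 6, 4] .nil .nil) .nil) (.cons [14, 10, 12, 8, 10, 4, 6, 8, 0, 2, 4, 6, 16, 18, 6, 8, 4, 6, 16, 0, 2, 4, 6, 8, 10, 12, 14] (.cons [14, 16, 6, 4, 0, 2, 4, 6, 14, 12, 8, 10, 6, 8, 4,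 6, 14, 16, 14, 12, 10, 6, 8, 2, 4, 6, 14, 0, 2, 4, 6, 8, 10, 12] (.cons [4, 6, 8, 2, 4, 6, 12, 10, 6, 8, 4, 6, 10, 4, 2, 12, 14] .nil .nil) .nil) (.cons [16, 14, 12, 6, 8, 10, 4, 6, 8, 2, 4, 6, 16, 18, 6, 8, 4, 6, 16, 0, 2, 4, 6, 8, 10, 12, 14] (.cons [12, 4, 6, 8, 10, 14, 0, 8, 6, 14, 16, 4, 6, 14, 8, 10, 12, 6, 8, 10, 4, 6, 8, 2, 4, 6, 14, 16, 6, 8, 4, 6, 14, 0, 2, 4, 6, 8, 10, 12] (.cons [4, 6, 12, 14, 4, 6, 8, 10, 4, 8, 6, 4, 2] .nil .nil) .nil) (.cons [14, 12, 8, 10, 4, 6, 8, 0, 2, 4, 6, 16, 18, 12, 10, 8, 4, 6, 16, 0, 2, 4, 6, 8, 10, 12, 14] (.cons [10, 6, 8, 4, 6, 14, 16, 2, 4, 6, 14, 8, 10, 12, 6, 8, 10, 4, 6, 8, 2, 4, 6, 14, 16, 14, 8, 10, 4, 6, 8, 2, 4, 6, 14, 0, 2, 4, 6, 8, 10, 12] (.cons [0,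 4, 8, 6, 4, 2, 12, 6, 8, 10, 8] .nil .nil) .nil) (.cons [16, 12, 6, 8, 10, 4, 6, 8, 2, 4, 6, 16, 18, 12, 10, 8, 4, 6, 16, 0, 2, 4, 6, 8, 10, 12, 14] (.cons [4, 6, 14, 16, 8, 6, 14, 10, 4, 6, 8, 2, 4, 6, 14, 16, 12, 10, 4, 6, 8, 2, 4, 6, 14, 0, 2, 4, 6, 8, 10, 12] (.cons [8, 6, 2, 4, 12, 6, 8, 2, 4, 10, 12, 8, 6, 12, 14, 4, 6, 0, 2] .nil .nil) .nil) (.cons [10, 8, 6, 16, 12, 10, 4, 6, 8, 2, 4, 6, 16, 18, 10, 8, 4, 6, 16, 0, 2, 4, 6, 8, 10, 12, 14] (.cons [16, 14, 6, 8, 0, 2, 4, 6, 14, 16, 14, 12, 10, 6, 8, 2, 4, 6, 14, 0, 2, 4, 6, 8, 10, 12] (.cons [12, 14, 6, 12, 8, 10, 6, 4, 2, 12, 6, 4] .nil .nil) .nil) (.cons [12, 10, 8, 6, 16, 10, 4, 6, 8, 2, 4, 6, 16, 18, 12, 10, 8, 6, 16, 0, 2, 4, 6, 8, 10, 12,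 14] (.cons [14, 16, 8, 4, 6, 14, 2, 4, 6, 8, 10, 12] (.cons [12, 14, 4, 6, 2, 4, 6, 8, 10, 8] .nil .nil) .nil) (.cons [12, 10, 8, 6, 16, 18, 8, 6, 16, 12, 14, 10, 12, 8, 10, 6, 8, 4, 6, 16, 2, 4, 6, 8, 10, 12, 14] (.cons [10, 8, 6, 14, 16, 8, 4, 6, 14, 10, 12, 8, 10, 6, 8, 2, 4, 6, 14, 16, 8, 10, 4, 6, 8, 2, 4, 6, 14, 0, 2, 4, 6, 8, 10, 12] .nil .nil) (.cons [12, 4, 6, 8, 10, 2, 4, 6, 8, 0, 2, 4, 6, 16, 18, 6, 8, 4, 6, 16, 2, 4, 6, 8, 10, 12, 14] (.cons [14, 16, 2, 4, 6, 14, 8, 10, 12, 6, 8, 10, 4, 6, 8, 2, 4, 6, 14, 16, 10, 4, 6, 8, 2, 4, 6, 14, 0, 2, 4, 6, 8, 10, 12] (.cons [10, 8, 0, 2, 4, 6, 12, 14, 4, 6, 8, 10, 12, 4, 8, 6, 4, 2] .nil .nil) .nil) (.cons [14, 12, 10, 8, 6, 16, 18, 8, 10, 12, 6, 8,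 10, 4, 6, 8, 2, 4, 6, 16, 0, 2, 4, 6, 8, 10, 12, 14] (.cons [6, 14, 10, 12, 8, 10, 2, 4, 6, 8, 0, 2, 4, 6, 14, 16, 8, 10, 4, 6, 8, 2, 4, 6, 14, 0, 2, 4, 6, 8, 10, 12] (.cons [12, 14, 10, 0, 2, 4, 6, 8, 12, 6, 4, 2, 8, 10] .nil .nil) .nil) (.cons [12, 10, 8, 6, 16, 18, 12, 14, 10, 12, 6, 8, 10, 4, 6, 8, 2, 4, 6, 16, 0, 2, 4, 6, 8, 10, 12, 14] (.cons [0, 2, 4, 6, 14, 8, 6, 4, 2, 14, 10, 12, 8, 10, 6, 8, 4, 6, 14, 16, 10, 6, 8, 4, 6, 14, 0, 2, 4, 6, 8, 10, 12] (.cons [8, 0, 2, 4, 6, 12, 10, 6, 8, 10, 6, 4, 2, 12, 14, 6, 4] .nil .nil) .nil) (.cons [10, 6, 8, 0, 2, 4, 6, 16, 18, 12, 6, 8, 10, 4, 6, 8, 2, 4, 6, 16, 0, 2, 4, 6, 8, 10, 12, 14] (.cons [6, 14, 16, 4, 6, 14, 12, 8, 10, 4, 6, 8, 2, 4, 6, 14, 16,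 10, 4, 6, 8, 2, 4, 6, 14, 0, 2, 4, 6, 8, 10, 12] .nil .nil) (.cons [12, 10, 8, 0, 2, 4, 6, 16, 18, 12, 6, 8, 10, 4, 6, 8, 2, 4, 6, 16, 0, 2, 4, 6, 8, 10, 12, 14] (.cons [4, 6, 14, 16, 10, 8, 2, 4, 6, 14, 10, 12, 8, 10, 4, 6, 8, 2, 4, 6, 14, 16, 12, 10, 6, 8, 2, 4, 6, 14, 0, 2, 4, 6, 8, 10, 12] (.cons [0, 2, 4, 6, 12, 14, 0, 12, 2, 10, 8, 4, 6, 4, 2, 8, 10] .nil .nil) .nil) (.cons [14, 12, 10, 8, 2, 4, 6, 16, 18, 12, 6, 8, 10, 4, 6, 8, 2, 4, 6, 16, 0, 2, 4, 6, 8, 10, 12, 14] (.cons [16, 2, 4, 6, 14, 12, 8, 10, 6, 8, 4, 6, 14, 16, 6, 14, 12, 8, 10, 6, 8, 2, 4, 6, 14, 0, 2, 4, 6, 8, 10, 12] (.cons [12, 6, 8, 4, 6, 12, 14, 4, 12, 6, 4, 2, 8, 10] .nil .nil) .nil) (.cons [16, 14, 12, 10, 6, 8, 4, 6, 16, 18,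 6, 8, 10, 4, 6, 8, 2, 4, 6, 16, 0, 2, 4, 6, 8, 10, 12, 14] (.cons [12, 10, 4, 6, 8, 0, 2, 4, 6, 14, 16, 8, 10, 4, 6, 8, 2, 4, 6, 14, 0, 2, 4, 6, 8, 10, 12] .nil .nil) (.cons [10, 6, 8, 4, 6, 16, 18, 16, 14, 10, 12, 8, 10, 4, 6, 8, 2, 4, 6, 16, 0, 2, 4, 6, 8, 10, 12, 14] (.cons [16, 14, 6, 8, 10, 2, 4, 6, 8, 0, 2, 4, 6, 14, 16, 12, 10, 6, 8, 2, 4, 6, 14, 0, 2, 4, 6, 8, 10, 12] .nil .nil) (.cons [12, 10, 6, 8, 4, 6, 16, 18, 14, 10, 12, 8, 10, 4, 6, 8, 2, 4, 6, 16, 0, 2, 4, 6, 8, 10, 12, 14] .nil (.cons [10, 4, 6, 8, 2, 4, 6, 16, 18, 10, 12, 8, 10, 4, 6, 8, 2, 4, 6, 16, 0, 2, 4, 6, 8, 10, 12, 14] .nil (.cons [14, 12, 10, 8, 2, 4, 6, 16, 18, 10, 12, 8, 10, 4, 6, 8, 2, 4, 6, 16, 0, 2, 4, 6, 8, 10, 12, 14]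 (.cons [8, 6, 14, 16, 14, 6, 8, 10, 6, 4, 2, 4, 6, 14, 12, 8, 10, 6, 8, 4, 6, 14, 16, 14, 12, 10, 6, 8, 2, 4, 6, 14, 0, 2, 4, 6, 8, 10, 12] (.cons [10, 8, 6, 12, 14, 4, 2, 4, 6, 8, 12, 6, 8, 10, 4, 6, 0, 2] .nil .nil) .nil) (.cons [16, 12, 10, 6, 8, 4, 6, 16, 18, 10, 12, 8, 10, 4, 6, 8, 2, 4, 6, 16, 0, 2, 4, 6, 8, 10, 12, 14] (.cons [14, 4, 6, 8, 10, 14, 8, 6, 14, 16, 4, 6, 14, 8, 10, 12, 6, 8, 10, 4, 6, 8, 2, 4, 6, 14, 16, 6, 8, 4, 6, 14, 0, 2, 4, 6, 8, 10, 12] (.cons [14, 12, 6, 8, 0, 2, 4, 6, 12, 14, 8, 6, 8, 10, 4, 6, 0, 2] .nil .nil) .nil) (.cons [12, 10, 8, 0, 2, 4, 6, 16, 18, 14, 12, 8, 10, 4, 6, 8, 2, 4, 6, 16, 0, 2, 4, 6, 8, 10, 12, 14] (.cons [16, 2, 4, 0, 2, 6, 14, 8, 4, 6, 8, 10, 14, 8, 6,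 14, 16, 4, 6, 14, 8, 10, 12, 6, 8, 10, 4, 6, 8, 2, 4, 6, 14, 16, 6, 8, 4, 6, 14, 0, 2, 4, 6, 8, 10, 12] (.cons [12, 14, 10, 8, 12, 6, 4, 0, 2, 8, 10] .nil .nil) .nil) (.cons [10, 4, 6, 8, 2, 4, 6, 16, 18, 16, 12, 8, 10, 4, 6, 8, 2, 4, 6, 16, 0, 2, 4, 6, 8, 10, 12, 14] (.cons [8, 2, 4, 6, 14, 16, 10, 6, 8, 4, 6, 14, 10, 12, 8, 10, 4, 6, 8, 2, 4, 6, 14, 16, 12, 10, 4, 6, 8, 2, 4, 6, 14, 0, 2, 4, 6, 8, 10, 12] .nil .nil) (.cons [12, 10, 6, 8, 2, 4, 6, 16, 18, 16, 12, 8, 10, 4, 6, 8, 2, 4, 6, 16, 0, 2, 4, 6, 8, 10, 12, 14] .nil (.cons [14, 12, 10, 8, 2, 4, 6, 16, 18, 16, 12, 8, 10, 4, 6, 8, 2, 4, 6, 16, 0, 2, 4, 6, 8, 10, 12, 14] (.cons [14, 16, 8, 4, 6, 14, 10, 12, 8, 10, 6, 8, 4, 6, 14, 16, 12, 10, 8, 2,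 4, 6, 14, 0, 2, 4, 6, 8, 10, 12] .nil .nil) (.cons [16, 12, 10, 6, 8, 4, 6, 16, 18, 16, 12, 8, 10, 4, 6, 8, 2, 4, 6, 16, 0, 2, 4, 6, 8, 10, 12, 14] (.cons [2, 4, 6, 14, 16, 8, 10, 14, 6, 0, 2, 4, 6, 14, 8, 10, 12, 6, 8, 10, 4, 6, 8, 2, 4, 6, 14, 16, 14, 6, 8, 4, 6, 14, 0, 2, 4, 6, 8, 10, 12] (.cons [14, 4, 2, 8, 6] .nil .nil) .nil) (.cons [14, 12, 10, 6, 8, 2, 4, 6, 16, 18, 12, 8, 10, 4, 6, 8, 2, 4, 6, 16, 0, 2, 4, 6, 8, 10, 12, 14] (.cons [16, 2, 4, 6, 14, 8, 10, 4, 6, 8, 2, 4, 6, 14, 16, 8, 10, 4, 6, 8, 2, 4, 6, 14, 0, 2, 4, 6, 8, 10, 12] (.cons [8, 6, 4, 2, 6, 8, 6, 4, 6, 12, 14, 8, 6, 10] .nil .nil) .nil) (.cons [18, 16, 4, 6, 8, 2, 4, 6, 16, 18, 16, 8, 10, 4, 6, 8, 2, 4, 6, 16, 0, 2, 4, 6, 8, 10,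 12, 14] (.cons [16, 2, 14, 16, 4, 6, 14, 10, 12, 8, 10, 6, 8, 4, 6, 14, 16, 14, 4, 6, 8, 2, 4, 6, 14, 0, 2, 4, 6, 8, 10, 12] .nil .nil) (.cons [18, 16, 10, 6, 8, 2, 4, 6, 16, 18, 16, 8, 10, 4, 6, 8, 2, 4, 6, 16, 0, 2, 4, 6, 8, 10, 12, 14] (.cons [4, 6, 14, 16, 4, 6, 8, 2, 4, 6, 14, 10, 12, 6, 8, 10, 4, 6, 8, 2, 4, 6, 14, 16, 10, 6, 8, 2, 4, 6, 14, 0, 2, 4, 6, 8, 10, 12] (.cons [10, 12, 6, 4, 0, 2, 6, 12, 4, 14, 12] .nil .nil) .nil) (.cons [18, 16, 8, 10, 6, 8, 4, 6, 16, 18, 16, 8, 10, 4, 6, 8, 2, 4, 6, 16, 0, 2, 4, 6, 8, 10, 12, 14] (.cons [2, 4, 6, 8, 0, 2, 4, 6, 14, 16, 14, 10, 6, 8, 4, 6, 14, 10, 12, 8, 10, 4, 6, 8, 2, 4, 6, 14, 16, 14, 8, 10, 4, 6, 8, 2, 4, 6, 14, 0, 2, 4, 6, 8, 10, 12] (.cons [8,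 4, 6, 14, 12, 8, 6, 4, 2, 6, 8, 10, 12, 14, 6, 4] .nil .nil) .nil) (.cons [16, 8, 10, 6, 8, 0, 2, 4, 6, 16, 18, 8, 10, 4, 6, 8, 2, 4, 6, 16, 0, 2, 4, 6, 8, 10, 12, 14] (.cons [16, 6, 8, 4, 6, 14, 10, 12, 8, 10, 4, 6, 8, 0, 2, 4, 6, 14, 16, 10, 4, 6, 8, 2, 4, 6, 14, 0, 2, 4, 6, 8, 10, 12] (.cons [12, 14, 0, 2, 0, 4, 12, 6, 8, 4, 2, 10, 8] .nil .nil) .nil) (.cons [18, 16, 10, 6, 8, 0, 2, 4, 6, 16, 18, 8, 10, 4, 6, 8, 2, 4, 6, 16, 0, 2, 4, 6, 8, 10, 12, 14] (.cons [2, 4, 6, 14, 16, 8, 10, 6, 14, 16, 6, 8, 2, 4, 6, 14, 10, 12, 8, 10, 6, 8, 0, 2, 4, 6, 14, 16, 8, 2, 4, 6, 14, 0, 2, 4, 6, 8, 10, 12] (.cons [10, 6, 8, 4, 6, 12, 4, 2, 8, 10, 14, 12] .nil .nil) .nil) (.cons [10, 12, 8, 10, 6, 8, 2, 4, 6, 16, 18,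 8, 10, 4, 6, 8, 2, 4, 6, 16, 0, 2, 4, 6, 8, 10, 12, 14] (.cons [16, 6, 14, 8, 10, 6, 8, 4, 6, 14, 16, 14, 10, 4, 6, 8, 2, 4, 6, 14, 0, 2, 4, 6, 8, 10, 12] (.cons [14, 4, 6, 4, 0, 2, 4, 8, 10] .nil .nil) .nil) (.cons [14, 12, 8, 10, 6, 8, 2, 4, 6, 16, 18, 8, 10, 4, 6, 8, 2, 4, 6, 16, 0, 2, 4, 6, 8, 10, 12, 14] .nil (.cons [16, 14, 12, 8, 10, 6, 8, 4, 6, 16, 18, 8, 10, 4, 6, 8, 2, 4, 6, 16, 0, 2, 4, 6, 8, 10, 12, 14] (.cons [16, 14, 12, 8, 10, 6, 8, 4, 6, 14, 16, 14, 10, 6, 8, 2, 4, 6, 14, 0, 2, 4, 6, 8, 10, 12] .nil .nil) (.cons [10, 8, 0, 2, 4, 6, 16, 18, 6, 16, 14, 12, 10, 4, 6, 8, 2, 4, 6, 16, 0, 2, 4, 6, 8, 10, 12, 14] (.cons [16, 14, 6, 0, 4, 2, 6, 14, 8, 10, 6, 8, 4, 6, 14, 16, 12, 10, 6, 8, 4, 6,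 14, 0, 2, 4, 6, 8, 10, 12] (.cons [10, 4, 6, 2, 4, 14, 12, 6, 8, 4, 6, 12, 14, 12, 6, 8, 10, 4, 6, 2] .nil .nil) .nil) (.cons [16, 10, 4, 6, 8, 2, 4, 6, 16, 18, 14, 12, 10, 4, 6, 8, 2, 4, 6, 16, 0, 2, 4, 6, 8, 10, 12, 14] (.cons [14, 6, 8, 10, 2, 4, 6, 8, 0, 2, 4, 6, 14, 16, 12, 10, 6, 8, 2, 4, 6, 14, 0, 2, 4, 6, 8, 10, 12] (.cons [4, 6, 12, 10, 8, 2, 4, 6, 4, 2, 8, 10, 12, 14] .nil .nil) .nil) (.cons [18, 16, 10, 6, 8, 2, 4, 6, 16, 18, 16, 12, 10, 4, 6, 8, 2, 4, 6, 16, 0, 2, 4, 6, 8, 10, 12, 14] (.cons [16, 2, 4, 6, 14, 8, 6, 4, 2, 14, 12, 8, 10, 6, 8, 4, 6, 14, 16, 12, 10, 6, 8, 4, 6, 14, 0, 2, 4, 6, 8, 10, 12] (.cons [14, 4, 6, 8, 12, 6, 4, 0, 2, 6, 8, 10, 12] .nil .nil) .nil) (.cons [18, 16, 12, 10,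 6, 8, 4, 6, 16, 18, 16, 12, 10, 4, 6, 8, 2, 4, 6, 16, 0, 2, 4, 6, 8, 10, 12, 14] (.cons [6, 8, 0, 2, 4, 6, 14, 16, 10, 6, 8, 4, 6, 14, 10, 12, 8, 10, 4, 6, 8, 2, 4, 6, 14, 16, 10, 6, 8, 2, 4, 6, 14, 0, 2, 4, 6, 8, 10, 12] (.cons [14, 6, 8, 10, 6, 4, 2, 8, 6] .nil .nil) .nil) (.cons [8, 10, 4, 6, 8, 0, 2, 4, 6, 16, 18, 12, 10, 4, 6, 8, 2, 4, 6, 16, 0, 2, 4, 6, 8, 10, 12, 14] (.cons [2, 4, 6, 8, 0, 2, 4, 6, 14, 16, 12, 10, 8, 6, 14, 8, 10, 12, 6, 8, 10, 4, 6, 8, 2, 4, 6, 14, 16, 10, 4, 6, 8, 2, 4, 6, 14, 0, 2, 4, 6, 8, 10, 12] .nil .nil) (.cons [10, 12, 8, 10, 6, 8, 2, 4, 6, 16, 18, 12, 10, 4, 6, 8, 2, 4, 6, 16, 0, 2, 4, 6, 8, 10, 12, 14] (.cons [10, 12, 6, 8, 10, 2, 4, 6, 8, 0, 2, 4, 6, 14, 16, 8, 10,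 4, 6, 8, 2, 4, 6, 14, 0, 2, 4, 6, 8, 10, 12] (.cons [6, 10, 8, 12, 14, 6, 4, 2, 8, 6] .nil .nil) .nil) (.cons [16, 12, 8, 10, 6, 8, 2, 4, 6, 16, 18, 12, 10, 4, 6, 8, 2, 4, 6, 16, 0, 2, 4, 6, 8, 10, 12, 14] (.cons [4, 6, 8, 2, 4, 6, 14, 16, 12, 10, 6, 8, 4, 6, 14, 0, 2, 4, 6, 8, 10, 12] (.cons [12, 6, 8, 0, 2, 4, 6, 12, 14, 0, 2, 4, 6, 8, 10, 12, 6, 4, 2] .nil .nil) .nil) (.cons [10, 4, 6, 8, 0, 2, 4, 6, 16, 18, 6, 16, 10, 4, 6, 8, 2, 4, 6, 16, 0, 2, 4, 6, 8, 10, 12, 14] (.cons [0, 2, 4, 6, 14, 16, 10, 6, 8, 4, 6, 14, 10, 12, 8, 10, 4, 6, 8, 0, 2, 4, 6, 14, 16, 10, 4, 6, 8, 2, 4, 6, 14, 0, 2, 4, 6, 8, 10, 12] (.cons [0, 2, 4, 10, 14, 8, 12] (.cons [1, 5, 2, 1, 3] .nil .nil) .nil) .nil) (.cons [18, 16,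 12, 10, 6, 8, 4, 6, 16, 18, 6, 16, 10, 4, 6, 8, 2, 4, 6, 16, 0, 2, 4, 6, 8, 10, 12, 14] (.cons [14, 16, 4, 6, 14, 12, 8, 10, 6, 8, 0, 2, 4, 6, 14, 16, 10, 8, 2, 4, 6, 14, 0, 2, 4, 6, 8, 10, 12] (.cons [14, 8, 0, 2, 6, 10, 8] .nil .nil) .nil) (.cons [12, 8, 10, 6, 8, 0, 2, 4, 6, 16, 18, 16, 10, 4, 6, 8, 2, 4, 6, 16, 0, 2, 4, 6, 8, 10, 12, 14] (.cons [16, 0, 2, 4, 6, 14, 8, 10, 6, 8, 2, 4, 6, 14, 16, 8, 10, 6, 8, 2, 4, 6, 14, 0, 2, 4, 6, 8, 10, 12] (.cons [2, 4, 6, 12, 8, 6, 4, 2, 12, 14, 6, 8, 4, 6, 10] .nil .nil) .nil) (.cons [14, 12, 10, 6, 8, 0, 2, 4, 6, 16, 18, 16, 10, 4, 6, 8, 2, 4, 6, 16, 0, 2, 4, 6, 8, 10, 12, 14] (.cons [2, 4, 6, 14, 10, 12, 8, 10, 6, 8, 2, 4, 6, 14, 16, 14, 6, 8, 2, 4, 6, 14,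 0, 2, 4, 6, 8, 10, 12] (.cons [8, 6, 12, 14, 0, 4, 8, 6, 4, 2, 12, 6, 8, 10, 8] .nil .nil) .nil) (.cons [16, 8, 10, 4, 6, 8, 2, 4, 6, 16, 18, 16, 10, 4, 6, 8, 2, 4, 6, 16, 0, 2, 4, 6, 8, 10, 12, 14] (.cons [16, 6, 4, 8, 10, 6, 14, 12, 8, 10, 6, 8, 4, 6, 14, 16, 14, 12, 8, 10, 6, 8, 2, 4, 6, 14, 0, 2, 4, 6, 8, 10, 12] (.cons [12, 14, 8, 6, 12, 8, 10, 6, 4, 2, 14, 12] .nil .nil) .nil) (.cons [14, 10, 12, 8, 10, 6, 8, 4, 6, 16, 18, 16, 10, 4, 6, 8, 2, 4, 6, 16, 0, 2, 4, 6, 8, 10, 12, 14] (.cons [8, 6, 14, 16, 4, 6, 14, 10, 12, 8, 10, 6, 8, 0, 2, 4, 6, 14, 16, 8, 10, 6, 8, 2, 4, 6, 14, 0, 2, 4, 6, 8, 10, 12] .nil .nil) (.cons [18, 16, 12, 8, 10, 6, 8, 4, 6, 16, 18, 16, 10, 4, 6, 8, 2, 4, 6, 16, 0, 2, 4, 6,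 8, 10, 12, 14] .nil (.cons [4, 6, 16, 8, 10, 6, 8, 4, 6, 16, 18, 16, 10, 4, 6, 8, 2, 4, 6, 16, 0, 2, 4, 6, 8, 10, 12, 14] (.cons [16, 6, 10, 8, 0, 2, 4, 6, 14, 10, 12, 8, 10, 4, 6, 8, 2, 4, 6, 14, 16, 12, 10, 8, 2, 4, 6, 14, 0, 2, 4, 6, 8, 10, 12] .nil .nil) (.cons [18, 6, 16, 8, 10, 6, 8, 4, 6, 16, 18, 16, 10, 4, 6, 8, 2, 4, 6, 16, 0, 2, 4, 6, 8, 10, 12, 14] (.cons [8, 10, 4, 6, 8, 2, 4, 6, 14, 16, 6, 8, 4, 6, 14, 8, 10, 12, 6, 8, 10, 4, 6, 8, 2, 4, 6, 14, 16, 12, 10, 4, 6, 8, 2, 4, 6, 14, 0, 2, 4, 6, 8, 10, 12] .nil .nil) (.cons [10, 12, 8, 10, 6, 8, 0, 2, 4, 6, 16, 18, 10, 4, 6, 8, 2, 4, 6, 16, 0, 2, 4, 6, 8, 10, 12, 14] .nil (.cons [18, 16, 12, 10, 4, 6, 8, 2, 4, 6, 16, 18, 10, 4, 6, 8, 2, 4, 6, 16,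 0, 2, 4, 6, 8, 10, 12, 14] (.cons [6, 14, 16, 10, 8, 2, 4, 6, 14, 10, 12, 6, 8, 10, 4, 6, 8, 2, 4, 6, 14, 16, 10, 6, 8, 2, 4, 6, 14, 0, 2, 4, 6, 8, 10, 12] (.cons [8, 10, 12, 14, 6, 4, 8, 2, 6, 8] .nil .nil) .nil) (.cons [16, 10, 12, 8, 10, 6, 8, 2, 4, 6, 16, 18, 10, 4, 6, 8, 2, 4, 6, 16, 0, 2, 4, 6, 8, 10, 12, 14] (.cons [10, 4, 6, 8, 2, 4, 6, 14, 16, 14, 8, 10, 6, 8, 2, 4, 6, 14, 0, 2, 4, 6, 8, 10, 12] .nil .nil) (.cons [12, 14, 10, 12, 8, 10, 6, 8, 4, 6, 16, 18, 10, 4, 6, 8, 2, 4, 6, 16, 0, 2, 4, 6, 8, 10, 12, 14] (.cons [14, 12, 6, 8, 10, 4, 6, 8, 2, 4, 6, 14, 16, 14, 10, 4, 6, 8, 2, 4, 6, 14, 0, 2, 4, 6, 8, 10, 12] (.cons [2, 4, 6, 8, 6, 12, 4, 10, 14, 8, 12] .nil .nil) .nil) (.cons [6, 16, 10, 12,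 8, 10, 6, 8, 4, 6, 16, 18, 10, 4, 6, 8, 2, 4, 6, 16, 0, 2, 4, 6, 8, 10, 12, 14] (.cons [16, 10, 4, 6, 14, 8, 6, 14, 10, 12, 8, 10, 4, 6, 8, 2, 4, 6, 14, 16, 14, 6, 8, 4, 6, 14, 0, 2, 4, 6, 8, 10, 12] (.cons [8, 0, 2, 4, 6, 12, 10, 6, 8, 10, 6, 4, 2, 12, 14, 6, 4] .nil .nil) .nil) (.cons [18, 16, 10, 12, 8, 10, 6, 8, 4, 6, 16, 18, 10, 4, 6, 8, 2, 4, 6, 16, 0, 2, 4, 6, 8, 10, 12, 14] (.cons [6, 8, 2, 4, 6, 14, 16, 10, 12, 8, 10, 6, 8, 2, 4, 6, 14, 10, 12, 8, 10, 6, 8, 0, 2, 4, 6, 14, 16, 12, 10, 8, 2, 4, 6, 14, 0, 2, 4, 6, 8, 10, 12] (.cons [0, 2, 4, 14, 12] .nil .nil) .nil) (.cons [6, 16, 14, 12, 8, 10, 6, 8, 4, 6, 16, 18, 10, 4, 6, 8, 2, 4, 6, 16, 0, 2, 4, 6, 8, 10, 12, 14] (.cons [14, 10, 6, 8, 4, 6,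 14, 16, 14, 10, 4, 6, 8, 2, 4, 6, 14, 0, 2, 4, 6, 8, 10, 12] (.cons [14, 2, 4, 6, 8, 12, 6, 8, 10, 4, 6, 0, 2] .nil .nil) .nil) (.cons [16, 18, 6, 16, 8, 10, 6, 8, 4, 6, 16, 18, 10, 4, 6, 8, 2, 4, 6, 16, 0, 2, 4, 6, 8, 10, 12, 14] (.cons [8, 2, 4, 6, 14, 16, 8, 2, 4, 6, 14, 10, 12, 6, 8, 10, 4, 6, 8, 2, 4, 6, 14, 16, 8, 10, 4, 6, 8, 2, 4, 6, 14, 0, 2, 4, 6, 8, 10, 12] .nil .nil) (.cons [16, 6, 8, 10, 4, 6, 8, 2, 4, 6, 16, 18, 16, 4, 6, 8, 2, 4, 6, 16, 0, 2, 4, 6, 8, 10, 12, 14] (.cons [4, 6, 14, 16, 2, 4, 6, 14, 10, 12, 8, 10, 4, 6, 8, 2, 4, 6, 14, 16, 12, 10, 6, 8, 2, 4, 6, 14, 0, 2, 4, 6, 8, 10, 12] .nil .nil) (.cons [4, 6, 16, 12, 8, 10, 6, 8, 4, 6, 16, 18, 16, 4, 6, 8, 2, 4, 6, 16, 0, 2, 4, 6, 8,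 10, 12, 14] (.cons [4, 6, 14, 16, 8, 4, 6, 14, 10, 12, 8, 10, 4, 6, 8, 0, 2, 4, 6, 14, 16, 8, 10, 4, 6, 8, 2, 4, 6, 14, 0, 2, 4, 6, 8, 10, 12] (.cons [8, 4, 6, 10, 8, 14, 12, 6, 8, 4, 10, 2, 12, 14, 6, 4] .nil .nil) .nil) .nil)))))))))))))))))))))))))))))))))))))))))))))))))))))))))))))))))))))))))))))))))))))))))))))))))))))))))))))))))))))))))))))))))))))))))))))))))))))))))))))))))))))))))))))))))))))))))))))))))))))))))))))))))))))))))))))))))))))))))))))))))))))))))))))))))))))))))))))))))))))))))))))))))))))))))))))))))))))) (⟨cu_l0.b, cu_l0.S, [], cu_R7, 0⟩ :: cu_tl) (0 :: cu_lk) Pd.nil 0 = true := by decide +kernel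
theorem cu_r8 : cu_S.run (.cons [14, 10, 12, 8, 10, 6, 8, 0, 2, 4, 6, 16, 18, 4, 6, 8, 2, 4, 6, 16, 0, 2, 4, 6, 8, 10, 12, 14] (.cons [14, 6, 8, 2, 4, 14, 16, 6, 14, 10, 12, 8, 10, 4, 6, 8, 2, 4, 6, 14, 16, 12, 10, 8, 2, 4, 6, 14, 0, 2, 4, 6, 8, 10, 12] (.cons [4, 6, 12, 14, 8, 4, 6, 4, 2, 4, 8, 6, 10, 4] .nil .nil) .nil) (.cons [18, 16, 10, 12, 8, 10, 6, 8, 2, 4, 6, 16, 18, 4, 6, 8, 2, 4, 6, 16, 0, 2, 4, 6, 8, 10, 12, 14] (.cons [16, 6, 14, 12, 10, 4, 6, 8, 2, 4, 6, 14, 16, 12, 10, 4, 6, 8, 2, 4, 6, 14, 0, 2, 4, 6, 8, 10, 12] (.cons [6, 0, 2, 4, 6, 8, 10, 14, 12, 8, 6, 12, 14, 4, 6, 2] .nil .nil) .nil) (.cons [16, 18, 6, 16, 8, 10, 6, 8, 2, 4, 6, 16, 18, 4, 6, 8, 2, 4, 6, 16, 0, 2, 4, 6, 8, 10, 12, 14]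 (.cons [12, 10, 8, 2, 4, 6, 14, 16, 8, 4, 6, 14, 10, 12, 8, 10, 4, 6, 8, 2, 4, 6, 14, 16, 14, 12, 10, 6, 8, 2, 4, 6, 14, 0, 2, 4, 6, 8, 10, 12] (.cons [6, 8, 0, 2, 4, 6, 12, 10, 8, 4, 6, 4, 2, 8, 10, 12, 14] .nil .nil) .nil) (.cons [0, 2, 4, 6, 16, 8, 10, 6, 8, 4, 6, 16, 18, 4, 6, 8, 2, 4, 6, 16, 0, 2, 4, 6, 8, 10, 12, 14] .nil (.cons [18, 16, 6, 8, 0, 2, 4, 6, 16, 18, 14, 12, 8, 10, 6, 8, 2, 4, 6, 16, 0, 2, 4, 6, 8, 10, 12, 14] (.cons [16, 14, 10, 6, 8, 0, 2, 4, 6, 14, 16, 6, 14, 12, 10, 4, 6, 8, 2, 4, 6, 14, 0, 2, 4, 6, 8, 10, 12] (.cons [8, 6, 12, 6, 14, 2, 8, 10, 6, 4, 0, 2, 4, 12] .nil .nil) .nil) (.cons [18, 16, 12, 10, 6, 8, 4, 6, 16, 18, 14, 12, 8, 10, 6, 8, 2, 4, 6, 16, 0, 2, 4, 6, 8, 10, 12,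 14] (.cons [0, 2, 4, 6, 14, 10, 12, 8, 10, 6, 8, 4, 6, 14, 16, 14, 6, 8, 2, 4, 6, 14, 0, 2, 4, 6, 8, 10, 12] (.cons [12, 14, 2, 0, 6, 12, 4, 6, 2, 8, 10, 6, 8, 12] .nil .nil) .nil) (.cons [6, 16, 4, 6, 8, 0, 2, 4, 6, 16, 18, 12, 8, 10, 6, 8, 2, 4, 6, 16, 0, 2, 4, 6, 8, 10, 12, 14] (.cons [6, 14, 16, 8, 10, 6, 4, 2, 6, 14, 16, 8, 6, 14, 10, 12, 8, 10, 6, 8, 4, 6, 14, 16, 8, 2, 4, 6, 14, 0, 2, 4, 6, 8, 10, 12] .nil .nil) (.cons [16, 8, 10, 6, 8, 0, 2, 4, 6, 16, 18, 12, 8, 10, 6, 8, 2, 4, 6, 16, 0, 2, 4, 6, 8, 10, 12, 14] (.cons [2, 4, 6, 14, 12, 8, 10, 6, 8, 4, 6, 14, 16, 14, 8, 10, 4, 6, 8, 2, 4, 6, 14, 0, 2, 4, 6, 8, 10, 12] .nil .nil) (.cons [16, 12, 10, 6, 8, 0, 2, 4, 6, 16, 18, 12, 8, 10, 6, 8, 2,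 4, 6, 16, 0, 2, 4, 6, 8, 10, 12, 14] (.cons [0, 2, 4, 6, 14, 16, 4, 6, 8, 10, 14, 6, 4, 8, 6, 14, 10, 12, 8, 10, 4, 6, 8, 0, 2, 4, 6, 14, 16, 10, 8, 2, 4, 6, 14, 0, 2, 4, 6, 8, 10, 12] (.cons [12, 14, 10, 0, 4, 6, 2, 4, 0, 2, 12] .nil .nil) .nil) (.cons [14, 12, 10, 4, 6, 8, 2, 4, 6, 16, 18, 12, 8, 10, 6, 8, 2, 4, 6, 16, 0, 2, 4, 6, 8, 10, 12, 14] (.cons [14, 6, 4, 2, 10, 12, 8, 10, 6, 8, 4, 6, 14, 16, 12, 10, 6, 8, 4, 6, 14, 0, 2, 4, 6, 8, 10, 12] (.cons [10, 2, 4, 6, 8, 0, 2, 4, 6, 12, 14, 6, 8, 4, 12, 6, 4, 0, 2, 8, 6, 10, 4] .nil .nil) .nil) (.cons [16, 14, 12, 8, 10, 6, 8, 4, 6, 16, 18, 12, 8, 10, 6, 8, 2, 4, 6, 16, 0, 2, 4, 6, 8, 10, 12, 14] (.cons [8, 10, 6, 8, 4, 6, 14, 16, 10, 4, 6, 8, 2, 4,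 6, 14, 0, 2, 4, 6, 8, 10, 12] (.cons [8, 4, 6, 2, 4, 6, 0, 2, 8, 10, 12, 14] .nil .nil) .nil) (.cons [18, 16, 8, 10, 6, 8, 4, 6, 16, 18, 6, 16, 8, 10, 6, 8, 2, 4, 6, 16, 0, 2, 4, 6, 8, 10, 12, 14] (.cons [8, 4, 6, 14, 16, 10, 8, 4, 6, 14, 8, 10, 12, 6, 8, 10, 4, 6, 8, 0, 2, 4, 6, 14, 16, 12, 10, 4, 6, 8, 2, 4, 6, 14, 0, 2, 4, 6, 8, 10, 12] (.cons [4, 6, 12, 8, 6, 2, 4, 6, 0, 2, 8, 10, 12, 14] .nil .nil) .nil) (.cons [18, 16, 12, 10, 6, 8, 4, 6, 16, 18, 6, 16, 8, 10, 6, 8, 2, 4, 6, 16, 0, 2, 4, 6, 8, 10, 12, 14] (.cons [12, 10, 8, 6, 14, 16, 6, 8, 4, 6, 14, 10, 8, 6, 4, 2, 0, 10, 14, 12, 8, 10, 6, 8, 4, 6, 14, 16, 12, 10, 6, 8, 4, 6, 14, 2, 4, 6, 8, 10, 12] (.cons [4, 6, 12, 14, 8, 2, 0, 12, 6, 8, 4, 6,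 2, 8, 10] .nil .nil) .nil) (.cons [16, 8, 10, 4, 6, 8, 2, 4, 6, 16, 18, 16, 8, 10, 6, 8, 2, 4, 6, 16, 0, 2, 4, 6, 8, 10, 12, 14] (.cons [6, 14, 16, 8, 6, 10, 8, 4, 6, 14, 12, 8, 10, 4, 6, 8, 0, 2, 4, 6, 14, 16, 12, 10, 8, 2, 4, 6, 14, 0, 2, 4, 6, 8, 10, 12] .nil .nil) (.cons [18, 16, 8, 10, 6, 8, 0, 2, 4, 6, 16, 18, 8, 10, 6, 8, 2, 4, 6, 16, 0, 2, 4, 6, 8, 10, 12, 14] (.cons [16, 0, 2, 4, 6, 14, 12, 8, 10, 6, 8, 0, 2, 4, 6, 14, 16, 10, 8, 2, 4, 6, 14, 0, 2, 4, 6, 8, 10, 12] .nil .nil) (.cons [14, 12, 8, 10, 4, 6, 8, 2, 4, 6, 16, 18, 8, 10, 6, 8, 2, 4, 6, 16, 0, 2, 4, 6, 8, 10, 12, 14] (.cons [14, 16, 6, 8, 10, 4, 0, 2, 6, 14, 8, 4, 6, 14, 10, 12, 8, 10, 6, 8, 4, 6, 14, 16, 8, 2, 4, 6, 14, 0, 2, 4, 6,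 8, 10, 12] (.cons [8, 2, 4, 6, 12, 14, 4, 6, 8, 10, 12, 6, 2, 4, 6, 2] .nil .nil) .nil) (.cons [16, 14, 12, 10, 4, 6, 8, 2, 4, 6, 16, 18, 8, 10, 6, 8, 2, 4, 6, 16, 0, 2, 4, 6, 8, 10, 12, 14] (.cons [16, 8, 4, 10, 0, 2, 4, 6, 14, 12, 8, 10, 6, 8, 4, 6, 14, 16, 14, 12, 10, 6, 8, 2, 4, 6, 14, 0, 2, 4, 6, 8, 10, 12] .nil .nil) (.cons [18, 6, 16, 10, 4, 6, 8, 2, 4, 6, 16, 18, 8, 10, 6, 8, 2, 4, 6, 16, 0, 2, 4, 6, 8, 10, 12, 14] (.cons [6, 14, 8, 10, 6, 8, 0, 2, 4, 6, 14, 16, 14, 12, 10, 4, 6, 8, 2, 4, 6, 14, 0, 2, 4, 6, 8, 10, 12] (.cons [2, 4, 10, 12, 14, 12, 6, 4] .nil .nil) .nil) (.cons [4, 6, 16, 8, 10, 6, 8, 2, 4, 6, 16, 18, 8, 10, 6, 8, 2, 4, 6, 16, 0, 2, 4, 6, 8, 10, 12, 14] (.cons [14, 10, 6, 8, 4,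 6, 14, 16, 8, 10, 4, 6, 8, 2, 4, 6, 14, 0, 2, 4, 6, 8, 10, 12] .nil .nil) (.cons [2, 4, 6, 16, 8, 10, 6, 8, 4, 6, 16, 18, 8, 10, 6, 8, 2, 4, 6, 16, 0, 2, 4, 6, 8, 10, 12, 14] (.cons [6, 8, 2, 4, 6, 14, 16, 10, 8, 6, 14, 12, 10, 4, 6, 8, 2, 4, 6, 14, 16, 10, 4, 6, 8, 2, 4, 6, 14, 0, 2, 4, 6, 8, 10, 12] (.cons [4, 0, 2, 6, 8, 10, 8, 6, 4, 12, 6, 8, 10, 14, 12, 6, 4, 2, 12, 14] .nil .nil) .nil) (.cons [18, 16, 6, 8, 0, 2, 4, 6, 16, 18, 16, 14, 12, 10, 6, 8, 2, 4, 6, 16, 0, 2, 4, 6, 8, 10, 12, 14] (.cons [6, 14, 8, 10, 2, 4, 6, 8, 0, 2, 4, 6, 14, 16, 12, 10, 4, 6, 8, 2, 4, 6, 14, 0, 2, 4, 6, 8, 10, 12] .nil .nil) (.cons [14, 12, 8, 10, 6, 8, 4, 6, 16, 18, 16, 14, 12, 10, 6, 8, 2, 4, 6, 16, 0, 2, 4, 6, 8,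 10, 12, 14] (.cons [8, 4, 6, 14, 16, 14, 8, 10, 4, 6, 8, 2, 4, 6, 14, 0, 2, 4, 6, 8, 10, 12] (.cons [6, 8, 12, 6, 4, 2, 14, 4, 6, 8, 6, 10, 4] (.cons [0, 0, 4, 0, 3] .nil .nil) .nil) .nil) (.cons [18, 6, 16, 4, 6, 8, 2, 4, 6, 16, 18, 14, 12, 10, 6, 8, 2, 4, 6, 16, 0, 2, 4, 6, 8, 10, 12, 14] (.cons [8, 10, 6, 8, 2, 4, 6, 14, 16, 12, 8, 10, 4, 6, 8, 2, 4, 6, 14, 0, 2, 4, 6, 8, 10, 12] (.cons [2, 0, 6, 4, 2, 12, 6, 8, 10, 8] .nil .nil) .nil) (.cons [14, 12, 8, 10, 6, 8, 2, 4, 6, 16, 18, 14, 12, 10, 6, 8, 2, 4, 6, 16, 0, 2, 4, 6, 8, 10, 12, 14] (.cons [6, 14, 16, 10, 6, 8, 2, 4, 6, 14, 10, 12, 6, 8, 10, 4, 6, 8, 2, 4, 6, 14, 16, 10, 6, 8, 2, 4, 6, 14, 0, 2, 4, 6, 8, 10, 12] (.cons [2, 4, 0, 2, 6, 8, 14, 4,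 6, 12, 14, 8, 6, 4, 12] .nil .nil) .nil) (.cons [12, 10, 2, 4, 6, 8, 0, 2, 4, 6, 16, 18, 12, 10, 6, 8, 2, 4, 6, 16, 0, 2, 4, 6, 8, 10, 12, 14] .nil (.cons [18, 8, 6, 16, 4, 6, 8, 2, 4, 6, 16, 18, 12, 10, 6, 8, 2, 4, 6, 16, 0, 2, 4, 6, 8, 10, 12, 14] (.cons [6, 14, 6, 8, 10, 4, 6, 8, 0, 2, 4, 6, 14, 16, 12, 10, 6, 8, 2, 4, 6, 14, 0, 2, 4, 6, 8, 10, 12] (.cons [6, 10, 8, 10, 6, 4, 2, 8, 6] .nil .nil) .nil) (.cons [8, 6, 16, 10, 4, 6, 8, 2, 4, 6, 16, 18, 16, 10, 6, 8, 2, 4, 6, 16, 0, 2, 4, 6, 8, 10, 12, 14] (.cons [10, 6, 8, 0, 2, 4, 6, 14, 16, 10, 4, 6, 8, 2, 4, 6, 14, 0, 2, 4, 6, 8, 10, 12] (.cons [6, 4, 2, 10, 4, 14, 12, 6, 8, 4, 6, 10] .nil .nil) .nil) (.cons [18, 6, 16, 10, 4, 6, 8, 2, 4, 6, 16, 18,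 16, 10, 6, 8, 2, 4, 6, 16, 0, 2, 4, 6, 8, 10, 12, 14] (.cons [14, 4, 6, 8, 2, 10, 14, 8, 6, 14, 16, 4, 6, 14, 8, 10, 12, 6, 8, 10, 4, 6, 8, 2, 4, 6, 14, 16, 6, 8, 4, 6, 14, 0, 2, 4, 6, 8, 10, 12] .nil .nil) (.cons [6, 8, 10, 2, 4, 6, 8, 0, 2, 4, 6, 16, 18, 10, 6, 8, 2, 4, 6, 16, 0, 2, 4, 6, 8, 10, 12, 14] (.cons [8, 6, 14, 8, 10, 12, 6, 8, 10, 4, 6, 8, 2, 4, 6, 14, 16, 8, 10, 6, 8, 2, 4, 6, 14, 0, 2, 4, 6, 8, 10, 12] (.cons [8, 2, 4, 6, 12, 14, 0, 6, 4, 2, 12, 6, 8, 10] .nil .nil) .nil) (.cons [16, 10, 12, 8, 10, 4, 6, 8, 2, 4, 6, 16, 18, 10, 6, 8, 2, 4, 6, 16, 0, 2, 4, 6, 8, 10, 12, 14] (.cons [14, 16, 6, 14, 12, 8, 10, 6, 8, 0, 2, 4, 6, 14, 16, 12, 10, 8, 2, 4, 6, 14, 0, 2, 4, 6, 8, 10, 12] (.cons [6,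 12, 14, 10, 8, 6, 4, 0, 2, 8, 4, 6, 8, 10] .nil .nil) .nil) (.cons [18, 16, 12, 8, 10, 4, 6, 8, 2, 4, 6, 16, 18, 10, 6, 8, 2, 4, 6, 16, 0, 2, 4, 6, 8, 10, 12, 14] (.cons [6, 14, 16, 6, 8, 10, 6, 14, 6, 4, 2, 8, 4, 6, 14, 10, 12, 8, 10, 6, 8, 4, 6, 14, 16, 8, 2, 4, 6, 14, 0, 2, 4, 6, 8, 10, 12] .nil .nil) (.cons [18, 6, 16, 12, 8, 10, 6, 8, 2, 4, 6, 16, 18, 10, 6, 8, 2, 4, 6, 16, 0, 2, 4, 6, 8, 10, 12, 14] (.cons [14, 16, 10, 8, 6, 4, 2, 14, 8, 6, 4, 10, 16, 6, 14, 12, 8, 10, 6, 8, 4, 6, 14, 16, 2, 4, 6, 14, 0, 2, 4, 6, 8, 10, 12] (.cons [14, 12, 4, 6, 12, 8, 10, 6, 4, 0, 2, 4, 12] .nil .nil) .nil) (.cons [18, 4, 6, 16, 8, 10, 6, 8, 2, 4, 6, 16, 18, 10, 6, 8, 2, 4, 6, 16, 0, 2, 4, 6, 8, 10, 12, 14] (.cons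 [10, 8, 4, 6, 14, 8, 10, 4, 6, 8, 2, 4, 6, 14, 16, 10, 6, 8, 2, 4, 6, 14, 0, 2, 4, 6, 8, 10, 12] (.cons [10, 6, 8, 4, 12, 6, 8, 4, 2, 4, 10, 8] .nil .nil) .nil) (.cons [16, 18, 6, 16, 8, 10, 6, 8, 2, 4, 6, 16, 18, 10, 6, 8, 2, 4, 6, 16, 0, 2, 4, 6, 8, 10, 12, 14] (.cons [4, 6, 14, 16, 4, 6, 8, 10, 14, 6, 4, 8, 6, 14, 10, 12, 8, 10, 4, 6, 8, 0, 2, 4, 6, 14, 16, 10, 8, 2, 4, 6, 14, 0, 2, 4, 6, 8, 10, 12] (.cons [6, 12, 14, 10, 8, 12, 6, 8, 4, 2, 10, 8] .nil .nil) .nil) (.cons [16, 18, 4, 6, 16, 8, 10, 6, 8, 4, 6, 16, 18, 10, 6, 8, 2, 4, 6, 16, 0, 2, 4, 6, 8, 10, 12, 14] (.cons [14, 16, 10, 8, 6, 14, 10, 12, 8, 10, 4, 6, 8, 2, 4, 6, 14, 16, 8, 10, 4, 6, 8, 2, 4, 6, 14, 0, 2, 4, 6, 8, 10, 12] (.cons [6, 12,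 10, 14, 12, 6, 4, 2, 8, 6] .nil .nil) .nil) (.cons [12, 14, 10, 12, 8, 10, 6, 8, 2, 4, 6, 16, 18, 16, 6, 8, 2, 4, 6, 16, 0, 2, 4, 6, 8, 10, 12, 14] (.cons [0, 2, 4, 6, 14, 16, 8, 6, 14, 10, 12, 6, 8, 10, 4, 6, 8, 2, 4, 6, 14, 16, 14, 8, 10, 6, 8, 2, 4, 6, 14, 0, 2, 4, 6, 8, 10, 12] (.cons [6, 12, 10, 8, 6, 4, 2, 4, 12, 14, 6, 8, 4, 6, 10] .nil .nil) .nil) (.cons [18, 16, 6, 8, 10, 4, 6, 8, 0, 2, 4, 6, 16, 18, 6, 8, 2, 4, 6, 16, 0, 2, 4, 6, 8, 10, 12, 14] (.cons [16, 6, 14, 10, 12, 8, 10, 6, 8, 4, 6, 14, 16, 14, 6, 8, 2, 4, 6, 14, 0, 2, 4, 6, 8, 10, 12] .nil .nil) (.cons [18, 16, 12, 6, 8, 10, 4, 6, 8, 2, 4, 6, 16, 18, 6, 8, 2, 4, 6, 16, 0, 2, 4, 6, 8, 10, 12, 14] (.cons [8, 2, 4, 6, 14, 16, 8, 2, 4, 6,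 14, 10, 8, 6, 4, 2, 14, 10, 12, 8, 10, 6, 8, 4, 6, 14, 16, 10, 6, 8, 4, 6, 14, 0, 2, 4, 6, 8, 10, 12] (.cons [6, 12, 14, 2, 4, 12, 6, 4, 0, 2, 8, 6, 10, 4] .nil .nil) .nil) (.cons [2, 4, 6, 16, 8, 10, 4, 6, 8, 2, 4, 6, 16, 18, 6, 8, 2, 4, 6, 16, 0, 2, 4, 6, 8, 10, 12, 14] (.cons [8, 2, 4, 6, 14, 10, 12, 8, 10, 6, 8, 4, 6, 14, 16, 14, 10, 6, 8, 2, 4, 6, 14, 0, 2, 4, 6, 8, 10, 12] (.cons [2, 4, 6, 8, 12, 6, 2, 0, 4, 2, 6, 12, 14, 8, 4, 6, 10] (.cons [3, 1, 3, 5, 1] .nil .nil) .nil) .nil) (.cons [8, 6, 16, 14, 10, 12, 8, 10, 6, 8, 4, 6, 16, 18, 6, 8, 2, 4, 6, 16, 0, 2, 4, 6, 8, 10, 12, 14] (.cons [14, 16, 6, 14, 12, 8, 10, 2, 4, 6, 8, 0, 2, 4, 6, 14, 16, 10, 4, 6, 8, 2, 4, 6, 14, 0, 2, 4, 6, 8, 10, 12] (.cons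 [10, 8, 6, 12, 6, 2, 4, 0, 2, 6, 8, 10, 12, 14, 6, 4] .nil .nil) .nil) (.cons [18, 6, 16, 14, 10, 12, 8, 10, 6, 8, 4, 6, 16, 18, 6, 8, 2, 4, 6, 16, 0, 2, 4, 6, 8, 10, 12, 14] (.cons [16, 12, 10, 8, 6, 14, 0, 6, 4, 2, 8, 4, 6, 14, 10, 12, 8, 10, 6, 8, 4, 6, 14, 16, 8, 2, 4, 6, 14, 0, 2, 4, 6, 8, 10, 12] (.cons [4, 6, 12, 8, 6, 4, 12, 8, 6, 8, 10, 12, 14] .nil .nil) .nil) (.cons [2, 4, 6, 16, 10, 12, 8, 10, 6, 8, 4, 6, 16, 18, 6, 8, 2, 4, 6, 16, 0, 2, 4, 6, 8, 10, 12, 14] .nil (.cons [16, 18, 6, 16, 10, 12, 8, 10, 6, 8, 4, 6, 16, 18, 6, 8, 2, 4, 6, 16, 0, 2, 4, 6, 8, 10, 12, 14] (.cons [16, 4, 6, 14, 8, 10, 12, 6, 8, 10, 4, 6, 8, 0, 2, 4, 6, 14, 16, 6, 8, 2, 4, 6, 14, 0, 2, 4, 6, 8, 10, 12] .nil .nil) (.cons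 [16, 18, 2, 4, 6, 16, 8, 10, 6, 8, 4, 6, 16, 18, 6, 8, 2, 4, 6, 16, 0, 2, 4, 6, 8, 10, 12, 14] (.cons [16, 4, 6, 14, 8, 10, 6, 8, 4, 6, 14, 16, 6, 14, 10, 4, 6, 8, 2, 4, 6, 14, 0, 2, 4, 6, 8, 10, 12] (.cons [4, 6, 8, 0, 2, 10, 8, 6, 4, 12, 14] .nil .nil) .nil) (.cons [16, 12, 10, 4, 6, 8, 0, 2, 4, 6, 16, 18, 14, 12, 10, 8, 2, 4, 6, 16, 0, 2, 4, 6, 8, 10, 12, 14] (.cons [16, 0, 2, 4, 6, 14, 10, 12, 8, 10, 6, 8, 2, 4, 6, 14, 16, 12, 10, 4, 6, 8, 2, 4, 6, 14, 0, 2, 4, 6, 8, 10, 12] .nil .nil) (.cons [6, 16, 8, 10, 6, 8, 0, 2, 4, 6, 16, 18, 14, 12, 10, 8, 2, 4, 6, 16, 0, 2, 4, 6, 8, 10, 12, 14] (.cons [14, 16, 0, 2, 4, 6, 14, 8, 10, 4, 6, 8, 2, 4, 6, 14, 16, 12, 10, 6, 8, 2, 4, 6, 14, 0, 2, 4, 6, 8, 10, 12]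 .nil .nil) (.cons [8, 6, 16, 10, 4, 6, 8, 2, 4, 6, 16, 18, 14, 12, 10, 8, 2, 4, 6, 16, 0, 2, 4, 6, 8, 10, 12, 14] .nil (.cons [6, 16, 12, 8, 10, 6, 8, 0, 2, 4, 6, 16, 18, 12, 10, 8, 2, 4, 6, 16, 0, 2, 4, 6, 8, 10, 12, 14] (.cons [16, 14, 6, 8, 0, 2, 4, 6, 14, 16, 6, 8, 10, 4, 6, 8, 2, 4, 6, 14, 0, 2, 4, 6, 8, 10, 12] (.cons [12, 14, 4, 0, 2, 4, 6, 12, 8, 6, 4, 2, 8, 10, 12] .nil .nil) .nil) (.cons [18, 16, 12, 8, 10, 4, 6, 8, 2, 4, 6, 16, 18, 12, 10, 8, 2, 4, 6, 16, 0, 2, 4, 6, 8, 10, 12, 14] (.cons [8, 2, 4, 6, 14, 16, 6, 8, 2, 4, 6, 14, 10, 12, 6, 8, 10, 4, 6, 8, 2, 4, 6, 14, 16, 12, 10, 4, 6, 8, 2, 4, 6, 14, 0, 2, 4, 6, 8, 10, 12] (.cons [12, 8, 6, 12, 14, 4, 0, 2, 4, 6] .nil .nil) .nil) (.cons [2,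 4, 6, 16, 8, 10, 6, 8, 2, 4, 6, 16, 18, 12, 10, 8, 2, 4, 6, 16, 0, 2, 4, 6, 8, 10, 12, 14] (.cons [0, 2, 4, 6, 14, 16, 12, 10, 8, 6, 14, 10, 12, 6, 8, 10, 4, 6, 8, 2, 4, 6, 14, 16, 12, 10, 4, 6, 8, 2, 4, 6, 14, 0, 2, 4, 6, 8, 10, 12] (.cons [14, 4, 6, 4, 2, 4, 6, 8, 10, 8] .nil .nil) .nil) (.cons [16, 12, 14, 10, 12, 8, 10, 6, 8, 4, 6, 16, 18, 12, 10, 8, 2, 4, 6, 16, 0, 2, 4, 6, 8, 10, 12, 14] (.cons [16, 14, 6, 8, 4, 6, 14, 16, 10, 8, 4, 6, 14, 10, 12, 8, 10, 4, 6, 8, 2, 4, 6, 14, 16, 14, 8, 10, 4, 6, 8, 2, 4, 6, 14, 0, 2, 4, 6, 8, 10, 12] (.cons [4, 2, 4, 12, 6, 8, 10, 4, 6, 2, 4, 0, 2] .nil .nil) .nil) (.cons [4, 6, 16, 10, 12, 8, 10, 6, 8, 4, 6, 16, 18, 12, 10, 8, 2, 4, 6, 16, 0, 2, 4, 6, 8, 10, 12,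 14] (.cons [12, 10, 8, 2, 4, 6, 14, 16, 14, 10, 12, 8, 10, 6, 8, 4, 6, 14, 0, 2, 4, 6, 8, 10, 12] (.cons [14, 12, 8, 6, 4, 12, 6, 8, 10, 8, 6, 12, 14, 4, 6, 0, 2] .nil .nil) .nil) (.cons [18, 4, 6, 16, 12, 8, 10, 6, 8, 4, 6, 16, 18, 12, 10, 8, 2, 4, 6, 16, 0, 2, 4, 6, 8, 10, 12, 14] (.cons [16, 8, 6, 14, 12, 6, 8, 10, 4, 6, 8, 2, 4, 6, 14, 16, 14, 8, 10, 4, 6, 8, 2, 4, 6, 14, 0, 2, 4, 6, 8, 10, 12] (.cons [6, 4, 2, 8, 6, 12, 14, 8, 6, 4, 12] .nil .nil) .nil) (.cons [18, 6, 16, 8, 10, 4, 6, 8, 0, 2, 4, 6, 16, 18, 10, 8, 2, 4, 6, 16, 0, 2, 4, 6, 8, 10, 12, 14] .nil (.cons [18, 16, 14, 12, 8, 10, 6, 8, 0, 2, 4, 6, 16, 18, 10, 8, 2, 4, 6, 16, 0, 2, 4, 6, 8, 10, 12, 14] .nil (.cons [18, 8, 6, 16, 8, 10, 4,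 6, 8, 2, 4, 6, 16, 18, 10, 8, 2, 4, 6, 16, 0, 2, 4, 6, 8, 10, 12, 14] (.cons [16, 10, 8, 0, 2, 4, 6, 14, 10, 12, 8, 10, 4, 6, 8, 2, 4, 6, 14, 16, 10, 6, 8, 2, 4, 6, 14, 0, 2, 4, 6, 8, 10, 12] (.cons [8, 0, 2, 4, 6, 12, 14, 4, 10, 8, 6, 4, 0, 2, 4, 6, 8, 10] .nil .nil) .nil) (.cons [18, 8, 6, 16, 12, 10, 4, 6, 8, 2, 4, 6, 16, 18, 10, 8, 2, 4, 6, 16, 0, 2, 4, 6, 8, 10, 12, 14] (.cons [16, 2, 4, 0, 2, 10, 6, 8, 4, 6, 14, 16, 10, 6, 8, 4, 6, 14, 10, 12, 8, 10, 4, 6, 8, 2, 4, 6, 14, 16, 14, 12, 10, 6, 8, 2, 4, 6, 14, 0, 2, 4, 6, 8, 10, 12] (.cons [6, 8, 12, 6, 4, 2, 6, 4, 6, 12, 14, 8, 6, 10] .nil .nil) .nil) (.cons [12, 10, 8, 6, 16, 10, 4, 6, 8, 2, 4, 6, 16, 18, 10, 8, 2, 4, 6, 16, 0, 2, 4, 6, 8, 10, 12,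 14] (.cons [14, 16, 6, 14, 8, 10, 2, 4, 6, 8, 0, 2, 4, 6, 14, 16, 8, 10, 4, 6, 8, 2, 4, 6, 14, 0, 2, 4, 6, 8, 10, 12] .nil .nil) (.cons [2, 4, 6, 16, 10, 12, 8, 10, 6, 8, 4, 6, 16, 18, 10, 8, 2, 4, 6, 16, 0, 2, 4, 6, 8, 10, 12, 14] (.cons [4, 6, 8, 2, 4, 6, 14, 16, 10, 12, 8, 10, 6, 8, 4, 6, 14, 10, 12, 8, 10, 6, 8, 0, 2, 4, 6, 14, 16, 12, 10, 8, 2, 4, 6, 14, 0, 2, 4, 6, 8, 10, 12] (.cons [4, 6, 12, 14, 6, 8, 2, 10, 8, 6, 4, 0, 2] .nil .nil) .nil) (.cons [8, 10, 2, 4, 6, 8, 0, 2, 4, 6, 16, 18, 12, 8, 10, 6, 8, 4, 6, 16, 0, 2, 4, 6, 8, 10, 12, 14] (.cons [6, 14, 16, 2, 4, 6, 14, 12, 8, 10, 6, 8, 4, 6, 14, 16, 8, 10, 6, 8, 2, 4, 6, 14, 0, 2, 4, 6, 8, 10, 12] (.cons [4, 6, 12, 14, 10, 8, 4, 6, 4, 0, 2, 8,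 4, 6, 8, 10] .nil .nil) .nil) (.cons [14, 12, 8, 10, 4, 6, 8, 2, 4, 6, 16, 18, 16, 8, 10, 6, 8, 4, 6, 16, 0, 2, 4, 6, 8, 10, 12, 14] (.cons [8, 6, 14, 16, 10, 8, 6, 14, 8, 10, 12, 6, 8, 10, 4, 6, 8, 2, 4, 6, 14, 16, 8, 10, 4, 6, 8, 2, 4, 6, 14, 0, 2, 4, 6, 8, 10, 12] (.cons [6, 12, 4, 14, 8, 12, 6, 8, 10] .nil .nil) .nil) (.cons [14, 12, 10, 2, 4, 6, 8, 0, 2, 4, 6, 16, 18, 8, 10, 6, 8, 4, 6, 16, 0, 2, 4, 6, 8, 10, 12, 14] (.cons [6, 14, 16, 8, 6, 14, 12, 8, 10, 4, 6, 8, 2, 4, 6, 14, 16, 12, 8, 10, 4, 6, 8, 2, 4, 6, 14, 0, 2, 4, 6, 8, 10, 12] (.cons [4, 0, 2, 10, 8] .nil .nil) .nil) (.cons [16, 6, 8, 10, 4, 6, 8, 2, 4, 6, 16, 18, 16, 12, 10, 6, 8, 4, 6, 16, 0, 2, 4, 6, 8, 10, 12, 14] (.cons [10, 8, 0,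 2, 4, 6, 14, 16, 8, 2, 4, 6, 14, 10, 12, 8, 10, 4, 6, 8, 0, 2, 4, 6, 14, 16, 8, 10, 6, 8, 2, 4, 6, 14, 0, 2, 4, 6, 8, 10, 12] .nil .nil) (.cons [10, 12, 6, 8, 10, 4, 6, 8, 0, 2, 4, 6, 16, 18, 10, 6, 8, 4, 6, 16, 0, 2, 4, 6, 8, 10, 12, 14] (.cons [16, 4, 6, 14, 10, 8, 6, 4, 2, 0, 8, 6, 14, 12, 8, 10, 6, 8, 4, 6, 14, 16, 12, 10, 8, 4, 6, 14, 2, 4, 6, 8, 10, 12] (.cons [6, 10, 4, 2, 12, 6, 4, 12, 14] .nil .nil) .nil) (.cons [18, 16, 12, 6, 8, 10, 4, 6, 8, 2, 4, 6, 16, 18, 10, 6, 8, 4, 6, 16, 0, 2, 4, 6, 8, 10, 12, 14] (.cons [14, 12, 6, 8, 10, 4, 6, 8, 2, 4, 6, 14, 16, 10, 6, 8, 2, 4, 6, 14, 0, 2, 4, 6, 8, 10, 12] (.cons [8, 4, 6, 12, 14, 8, 10, 6, 4, 0, 2, 4, 6] .nil .nil) .nil) (.cons [18, 16, 6, 8, 10,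 2, 4, 6, 8, 0, 2, 4, 6, 16, 18, 6, 8, 4, 6, 16, 0, 2, 4, 6, 8, 10, 12, 14] (.cons [2, 8, 14, 16, 6, 14, 10, 12, 8, 10, 6, 8, 4, 6, 14, 16, 12, 8, 10, 6, 8, 2, 4, 6, 14, 0, 2, 4, 6, 8, 10, 12] .nil .nil) (.cons [10, 8, 6, 16, 10, 4, 6, 8, 2, 4, 6, 16, 18, 14, 12, 10, 8, 4, 6, 16, 0, 2, 4, 6, 8, 10, 12, 14] .nil (.cons [18, 16, 6, 8, 10, 4, 6, 8, 0, 2, 4, 6, 16, 18, 12, 10, 8, 4, 6, 16, 0, 2, 4, 6, 8, 10, 12, 14] (.cons [16, 14, 6, 8, 4, 6, 14, 10, 12, 6, 8, 10, 4, 6, 8, 2, 4, 6, 14, 16, 8, 10, 6, 8, 2, 4, 6, 14, 0, 2, 4, 6, 8, 10, 12] (.cons [4, 2, 6, 4, 12, 14, 6, 8, 0, 2, 4, 10, 8] .nil .nil) .nil) (.cons [16, 8, 10, 4, 6, 8, 2, 4, 6, 16, 12, 14, 10, 12, 8, 10, 6, 8, 4, 6, 16, 2, 4, 6, 8, 10, 12, 14]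 (.cons [6, 14, 16, 8, 6, 10, 4, 0, 2, 6, 14, 8, 4, 6, 14, 10, 12, 8, 10, 6, 8, 4, 6, 14, 16, 8, 2, 4, 6, 14, 0, 2, 4, 6, 8, 10, 12] .nil .nil) (.cons [18, 16, 10, 6, 8, 4, 6, 16, 18, 14, 12, 6, 8, 10, 4, 6, 8, 2, 4, 6, 16, 0, 2, 4, 6, 8, 10, 12, 14] (.cons [4, 6, 14, 8, 10, 6, 8, 4, 6, 14, 16, 10, 12, 8, 10, 6, 8, 2, 4, 6, 14, 0, 2, 4, 6, 8, 10, 12] (.cons [12, 2, 4, 6, 0, 12, 4, 2, 14, 6, 8, 4, 6, 12, 14, 10, 8, 6, 4, 2, 8, 10] .nil .nil) .nil) (.cons [18, 16, 10, 6, 8, 2, 4, 6, 16, 18, 12, 6, 8, 10, 4, 6, 8, 2, 4, 6, 16, 0, 2, 4, 6, 8, 10, 12, 14] (.cons [16, 10, 8, 6, 14, 10, 12, 8, 10, 4, 6, 8, 2, 4, 6, 14, 16, 8, 10, 4, 6, 8, 2, 4, 6, 14, 0, 2, 4, 6, 8, 10, 12] .nil .nil) (.cons [12, 8, 10, 6, 8,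 4, 6, 16, 18, 14, 10, 12, 8, 10, 4, 6, 8, 2, 4, 6, 16, 0, 2, 4, 6, 8, 10, 12, 14] (.cons [6, 14, 16, 2, 4, 6, 14, 8, 10, 6, 8, 4, 6, 14, 16, 10, 6, 8, 2, 4, 6, 14, 0, 2, 4, 6, 8, 10, 12] (.cons [12, 6, 8, 10, 0, 2, 4, 0, 2, 12, 14, 6, 4] .nil .nil) .nil) (.cons [16, 8, 10, 6, 8, 4, 6, 16, 18, 14, 10, 12, 8, 10, 4, 6, 8, 2, 4, 6, 16, 0, 2, 4, 6, 8, 10, 12, 14] (.cons [6, 14, 4, 6, 8, 2, 4, 6, 14, 16, 14, 12, 10, 4, 6, 8, 2, 4, 6, 14, 0, 2, 4, 6, 8, 10, 12] .nil .nil) (.cons [18, 16, 10, 6, 8, 4, 6, 16, 18, 16, 10, 12, 8, 10, 4, 6, 8, 2, 4, 6, 16, 0, 2, 4, 6, 8, 10, 12, 14] (.cons [14, 16, 8, 4, 6, 14, 12, 6, 8, 10, 4, 6, 8, 2, 4, 6, 14, 16, 10, 4, 6, 8, 2, 4, 6, 14, 0, 2, 4, 6, 8, 10, 12] (.cons [12, 14,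 6, 8, 6, 4, 10, 0, 2, 4, 8, 6] .nil .nil) .nil) (.cons [12, 10, 4, 6, 8, 2, 4, 6, 16, 18, 10, 12, 8, 10, 4, 6, 8, 2, 4, 6, 16, 0, 2, 4, 6, 8, 10, 12, 14] (.cons [14, 16, 6, 14, 10, 12, 8, 10, 6, 8, 2, 4, 6, 14, 16, 8, 10, 4, 6, 8, 2, 4, 6, 14, 0, 2, 4, 6, 8, 10, 12] (.cons [0, 2, 6, 4, 12, 6, 8, 10, 14, 12, 6, 4, 2, 4, 12, 14] .nil .nil) .nil) (.cons [12, 10, 4, 6, 8, 0, 2, 4, 6, 16, 18, 12, 8, 10, 4, 6, 8, 2, 4, 6, 16, 0, 2, 4, 6, 8, 10, 12, 14] (.cons [10, 8, 4, 6, 14, 16, 14, 6, 8, 4, 6, 14, 10, 12, 6, 8, 10, 4, 6, 8, 2, 4, 6, 14, 16, 12, 10, 4, 6, 8, 2, 4, 6, 14, 0, 2, 4, 6, 8, 10, 12] (.cons [4, 6, 14, 12, 6, 2, 8, 4, 6, 10, 0, 2, 12, 14] .nil .nil) .nil) (.cons [6, 16, 4, 6, 8, 0, 2, 4, 6, 16, 18,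 12, 8, 10, 4, 6, 8, 2, 4, 6, 16, 0, 2, 4, 6, 8, 10, 12, 14] .nil (.cons [14, 12, 10, 6, 8, 0, 2, 4, 6, 16, 18, 12, 8, 10, 4, 6, 8, 2, 4, 6, 16, 0, 2, 4, 6, 8, 10, 12, 14] (.cons [14, 16, 10, 8, 6, 14, 12, 10, 4, 6, 8, 0, 2, 4, 6, 14, 16, 12, 10, 4, 6, 8, 2, 4, 6, 14, 0, 2, 4, 6, 8, 10, 12] (.cons [6, 10, 8, 6, 2, 0, 4, 2, 6, 12, 14, 8, 6, 4, 12] .nil .nil) .nil) (.cons [4, 6, 16, 8, 10, 6, 8, 4, 6, 16, 18, 16, 8, 10, 4, 6, 8, 2, 4, 6, 16, 0, 2, 4, 6, 8, 10, 12, 14] (.cons [4, 6, 14, 16, 10, 8, 4, 6, 14, 12, 8, 10, 4, 6, 8, 0, 2, 4, 6, 14, 16, 10, 4, 6, 8, 2, 4, 6, 14, 0, 2, 4, 6, 8, 10, 12] (.cons [6, 12, 14, 6, 2, 4, 6, 8, 10, 12, 6, 4, 2] .nil .nil) .nil) (.cons [16, 6, 8, 10, 4, 6, 8, 2, 4, 6, 16,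 18, 8, 10, 4, 6, 8, 2, 4, 6, 16, 0, 2, 4, 6, 8, 10, 12, 14] (.cons [8, 6, 14, 16, 4, 6, 14, 8, 10, 6, 8, 4, 6, 14, 16, 14, 6, 8, 2, 4, 6, 14, 0, 2, 4, 6, 8, 10, 12] (.cons [2, 4, 6, 12, 14, 0, 2, 6, 4, 8, 12, 6, 4, 0, 2, 4, 8, 10] .nil .nil) .nil) (.cons [6, 16, 12, 10, 4, 6, 8, 2, 4, 6, 16, 18, 8, 10, 4, 6, 8, 2, 4, 6, 16, 0, 2, 4, 6, 8, 10, 12, 14] (.cons [6, 14, 10, 12, 6, 8, 10, 4, 6, 8, 0, 2, 4, 6, 14, 16, 8, 10, 6, 8, 2, 4, 6, 14, 0, 2, 4, 6, 8, 10, 12] (.cons [8, 10, 6, 12, 6, 4, 14, 12] .nil .nil) .nil) (.cons [14, 10, 12, 8, 10, 6, 8, 2, 4, 6, 16, 18, 8, 10, 4, 6, 8, 2, 4, 6, 16, 0, 2, 4, 6, 8, 10, 12, 14] (.cons [8, 6, 14, 16, 10, 8, 6, 12, 10, 8, 2, 4, 6, 14, 10, 12, 8, 10, 4, 6, 8, 2, 4, 6,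 14, 16, 12, 10, 8, 2, 4, 6, 14, 0, 2, 4, 6, 8, 10, 12] (.cons [12, 4, 2, 6, 8, 4, 6, 12, 14, 10, 8, 6, 4, 2, 8, 10] .nil .nil) .nil) (.cons [2, 4, 6, 8, 0, 2, 4, 6, 16, 18, 16, 14, 12, 10, 4, 6, 8, 2, 4, 6, 16, 0, 2, 4, 6, 8, 10, 12, 14] .nil (.cons [12, 8, 10, 6, 8, 0, 2, 4, 6, 16, 18, 14, 12, 10, 4, 6, 8, 2, 4, 6, 16, 0, 2, 4, 6, 8, 10, 12, 14] (.cons [4, 6, 8, 2, 4, 6, 14, 16, 10, 8, 6, 4, 2, 6, 8, 4, 6, 14, 10, 12, 8, 10, 6, 8, 4, 6, 14, 16, 12, 10, 4, 6, 8, 2, 4, 6, 14, 0, 2, 4, 6, 8, 10, 12] (.cons [2, 4, 6, 12, 14, 2, 0, 6, 10, 8, 4, 12, 6, 4, 2, 4, 8, 10] .nil .nil) .nil) (.cons [8, 10, 6, 8, 0, 2, 4, 6, 16, 18, 6, 16, 12, 10, 4, 6, 8, 2, 4, 6, 16, 0, 2, 4, 6, 8, 10, 12, 14] .nil (.cons [12, 8,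 10, 6, 8, 2, 4, 6, 16, 18, 6, 16, 12, 10, 4, 6, 8, 2, 4, 6, 16, 0, 2, 4, 6, 8, 10, 12, 14] (.cons [6, 14, 16, 8, 6, 14, 10, 12, 8, 10, 4, 6, 8, 0, 2, 4, 6, 14, 16, 12, 8, 10, 6, 8, 2, 4, 6, 14, 0, 2, 4, 6, 8, 10, 12] (.cons [14, 12, 6, 4, 2, 10, 6, 12, 14, 8, 4, 6, 10] .nil .nil) .nil) (.cons [16, 12, 8, 10, 6, 8, 2, 4, 6, 16, 18, 16, 12, 10, 4, 6, 8, 2, 4, 6, 16, 0, 2, 4, 6, 8, 10, 12, 14] (.cons [14, 8, 6, 4, 2, 0, 12, 6, 14, 8, 10, 6, 8, 4, 6, 14, 16, 12, 8, 10, 6, 8, 4, 6, 14, 2, 4, 6, 8, 10, 12] (.cons [14, 2, 12, 6, 4, 2, 10, 8, 6, 8, 10] .nil .nil) .nil) (.cons [14, 12, 8, 10, 4, 6, 8, 2, 4, 6, 16, 18, 12, 10, 4, 6, 8, 2, 4, 6, 16, 0, 2, 4, 6, 8, 10, 12, 14] (.cons [16, 8, 6, 14, 10, 12, 8, 10,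 4, 6, 8, 2, 4, 6, 14, 16, 12, 10, 6, 8, 2, 4, 6, 14, 0, 2, 4, 6, 8, 10, 12] (.cons [8, 6, 12, 14, 4, 6, 8, 12, 6, 4, 2, 8, 10] .nil .nil) .nil) (.cons [18, 16, 12, 10, 4, 6, 8, 2, 4, 6, 16, 18, 12, 10, 4, 6, 8, 2, 4, 6, 16, 0, 2, 4, 6, 8, 10, 12, 14] (.cons [6, 14, 16, 12, 10, 8, 4, 6, 14, 10, 12, 8, 10, 4, 6, 8, 2, 4, 6, 14, 16, 10, 8, 2, 4, 6, 14, 0, 2, 4, 6, 8, 10, 12] .nil .nil) (.cons [14, 12, 10, 4, 6, 8, 2, 4, 6, 16, 18, 6, 16, 10, 4, 6, 8, 2, 4, 6, 16, 0, 2, 4, 6, 8, 10, 12, 14] .nil (.cons [10, 12, 8, 10, 6, 8, 0, 2, 4, 6, 16, 18, 16, 10, 4, 6, 8, 2, 4, 6, 16, 0, 2, 4, 6, 8, 10, 12, 14] (.cons [14, 8, 10, 4, 6, 8, 2, 4, 6, 14, 16, 14, 8, 10, 6, 8, 2, 4, 6, 14, 0, 2, 4, 6, 8, 10, 12] .nil .nil)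 (.cons [16, 12, 8, 10, 4, 6, 8, 2, 4, 6, 16, 18, 16, 10, 4, 6, 8, 2, 4, 6, 16, 0, 2, 4, 6, 8, 10, 12, 14] (.cons [10, 8, 4, 6, 14, 10, 12, 6, 8, 10, 4, 6, 8, 2, 4, 6, 14, 16, 8, 10, 4, 6, 8, 2, 4, 6, 14, 0, 2, 4, 6, 8, 10, 12] .nil .nil) (.cons [18, 16, 12, 10, 4, 6, 8, 2, 4, 6, 16, 18, 16, 10, 4, 6, 8, 2, 4, 6, 16, 0, 2, 4, 6, 8, 10, 12, 14] (.cons [8, 6, 14, 16, 10, 6, 8, 2, 4, 6, 14, 12, 8, 10, 6, 8, 0, 2, 4, 6, 14, 16, 12, 10, 8, 2, 4, 6, 14, 0, 2, 4, 6, 8, 10, 12] (.cons [14, 12, 8, 6, 4, 0, 2] .nil .nil) .nil) (.cons [4, 6, 16, 12, 8, 10, 6, 8, 4, 6, 16, 18, 16, 10, 4, 6, 8, 2, 4, 6, 16, 0, 2, 4, 6, 8, 10, 12, 14] (.cons [0, 2, 4, 6, 14, 16, 8, 6, 14, 10, 4, 6, 8, 2, 4, 6, 14, 16, 10, 4, 6, 8, 2,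 4, 6, 14, 0, 2, 4, 6, 8, 10, 12] .nil .nil) (.cons [12, 6, 8, 10, 4, 6, 8, 0, 2, 4, 6, 16, 18, 10, 4, 6, 8, 2, 4, 6, 16, 0, 2, 4, 6, 8, 10, 12, 14] (.cons [14, 16, 10, 8, 4, 6, 14, 12, 6, 8, 10, 4, 6, 8, 2, 4, 6, 14, 16, 10, 6, 8, 2, 4, 6, 14, 0, 2, 4, 6, 8, 10, 12] (.cons [0, 14, 2, 4, 8, 6, 10, 12, 6, 8, 4, 2, 6, 10, 8] .nil .nil) .nil) (.cons [10, 12, 8, 10, 4, 6, 8, 0, 2, 4, 6, 16, 18, 10, 4, 6, 8, 2, 4, 6, 16, 0, 2, 4, 6, 8, 10, 12, 14] (.cons [14, 16, 10, 8, 6, 14, 12, 6, 8, 10, 4, 6, 8, 2, 4, 6, 14, 16, 14, 12, 10, 4, 6, 8, 2, 4, 6, 14, 0, 2, 4, 6, 8, 10, 12] (.cons [4, 6, 12, 14, 12, 6, 8, 10] .nil .nil) .nil) (.cons [14, 10, 12, 8, 10, 6, 8, 0, 2, 4, 6, 16, 18, 10, 4, 6, 8, 2, 4, 6, 16, 0, 2,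 4, 6, 8, 10, 12, 14] (.cons [16, 12, 10, 8, 6, 14, 12, 6, 8, 10, 4, 6, 8, 2, 4, 6, 14, 16, 12, 8, 10, 4, 6, 8, 2, 4, 6, 14, 0, 2, 4, 6, 8, 10, 12] (.cons [6, 12, 4, 8, 6, 4, 0, 2, 8, 10, 6, 4, 12, 14] .nil .nil) .nil) (.cons [16, 14, 12, 8, 10, 6, 8, 0, 2, 4, 6, 16, 18, 10, 4, 6, 8, 2, 4, 6, 16, 0, 2, 4, 6, 8, 10, 12, 14] (.cons [12, 10, 8, 6, 14, 16, 14, 10, 6, 8, 4, 6, 14, 0, 2, 4, 6, 8, 10, 12] (.cons [4, 6, 12, 14, 8, 4, 2, 12, 6, 4, 0, 2, 8, 10] .nil .nil) .nil) (.cons [6, 16, 12, 8, 10, 4, 6, 8, 2, 4, 6, 16, 18, 10, 4, 6, 8, 2, 4, 6, 16, 0, 2, 4, 6, 8, 10, 12, 14] .nil (.cons [6, 16, 10, 12, 8, 10, 6, 8, 2, 4, 6, 16, 18, 10, 4, 6, 8, 2, 4, 6, 16, 0, 2, 4, 6, 8, 10, 12, 14] (.cons [14, 16, 12, 10,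 8, 6, 14, 12, 8, 10, 4, 6, 8, 2, 4, 6, 14, 16, 14, 10, 4, 6, 8, 2, 4, 6, 14, 0, 2, 4, 6, 8, 10, 12] .nil .nil) (.cons [18, 4, 6, 16, 12, 8, 10, 6, 8, 4, 6, 16, 18, 16, 4, 6, 8, 2, 4, 6, 16, 0, 2, 4, 6, 8, 10, 12, 14] (.cons [0, 2, 4, 6, 14, 16, 10, 8, 2, 4, 6, 14, 10, 12, 6, 8, 10, 4, 6, 8, 2, 4, 6, 14, 16, 10, 6, 8, 2, 4, 6, 14, 0, 2, 4, 6, 8, 10, 12] (.cons [6, 12, 8, 2, 4, 6, 4, 2, 8, 10, 12, 14] .nil .nil) .nil) (.cons [18, 16, 6, 8, 10, 4, 6, 8, 0, 2, 4, 6, 16, 18, 4, 6, 8, 2, 4, 6, 16, 0, 2, 4, 6, 8, 10, 12, 14] (.cons [8, 2, 4, 6, 14, 16, 8, 10, 6, 4, 2, 4, 6, 14, 12, 8, 10, 6, 8, 4, 6, 14, 16, 14, 12, 10, 6, 8, 2, 4, 6, 14, 0, 2, 4, 6, 8, 10, 12] (.cons [12, 6, 8, 4, 6, 12, 14, 8, 12, 6, 2, 8,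 10, 4, 6, 0, 2] .nil .nil) .nil) (.cons [14, 10, 12, 6, 8, 10, 4, 6, 8, 2, 4, 6, 16, 18, 4, 6, 8, 2, 4, 6, 16, 0, 2, 4, 6, 8, 10, 12, 14] .nil (.cons [6, 16, 14, 12, 8, 10, 4, 6, 8, 2, 4, 6, 16, 18, 4, 6, 8, 2, 4, 6, 16, 0, 2, 4, 6, 8, 10, 12, 14] (.cons [8, 2, 4, 6, 14, 16, 10, 8, 4, 6, 14, 8, 10, 12, 6, 8, 10, 4, 6, 8, 2, 4, 6, 14, 16, 10, 4, 6, 8, 2, 4, 6, 14, 0, 2, 4, 6, 8, 10, 12] (.cons [2, 4, 10, 2, 8, 6, 12, 14, 6, 8, 10, 12, 6, 4, 6, 2, 4] .nil .nil) .nil) (.cons [4, 6, 16, 12, 8, 10, 4, 6, 8, 2, 4, 6, 16, 18, 4, 6, 8, 2, 4, 6, 16, 0, 2, 4, 6, 8, 10, 12, 14] (.cons [16, 14, 12, 8, 10, 6, 8, 4, 6, 14, 16, 14, 10, 6, 8, 2, 4, 6, 14, 0, 2, 4, 6, 8, 10, 12] (.cons [8, 6, 12, 14, 8, 0, 2, 4, 6, 12,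 8, 10, 6, 4, 2, 14, 12] .nil .nil) .nil) (.cons [18, 6, 16, 14, 12, 8, 10, 6, 8, 2, 4, 6, 16, 18, 4, 6, 8, 2, 4, 6, 16, 0, 2, 4, 6, 8, 10, 12, 14] (.cons [16, 8, 14, 6, 4, 2, 14, 16, 8, 6, 14, 10, 12, 8, 10, 6, 8, 4, 6, 14, 16, 8, 2, 4, 6, 14, 0, 2, 4, 6, 8, 10, 12] .nil .nil) (.cons [4, 6, 16, 14, 10, 12, 8, 10, 6, 8, 4, 6, 16, 18, 4, 6, 8, 2, 4, 6, 16, 0, 2, 4, 6, 8, 10, 12, 14] (.cons [10, 8, 6, 14, 12, 8, 10, 4, 6, 8, 2, 4, 6, 14, 16, 8, 10, 6, 8, 2, 4, 6, 14, 0, 2, 4, 6, 8, 10, 12] .nil .nil) (.cons [8, 6, 16, 14, 10, 12, 8, 10, 6, 8, 4, 6, 16, 18, 4, 6, 8, 2, 4, 6, 16, 0, 2, 4, 6, 8, 10, 12, 14] (.cons [16, 8, 6, 14, 8, 10, 4, 6, 8, 2, 4, 6, 14, 16, 10, 6, 8, 2, 4, 6, 14, 0, 2, 4, 6, 8, 10, 12]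 (.cons [8, 10, 0, 2, 8, 6, 4, 12, 6, 8, 10, 14, 4, 6, 12, 14, 8, 6, 4, 0, 2] (.cons [3, 3, 1, 2, 0] .nil .nil) .nil) .nil) (.cons [16, 8, 10, 6, 8, 0, 2, 4, 6, 16, 18, 14, 12, 8, 10, 6, 8, 2, 4, 6, 16, 0, 2, 4, 6, 8, 10, 12, 14] .nil (.cons [12, 8, 10, 4, 6, 8, 2, 4, 6, 16, 18, 16, 12, 8, 10, 6, 8, 2, 4, 6, 16, 0, 2, 4, 6, 8, 10, 12, 14] (.cons [0, 2, 4, 6, 14, 16, 12, 10, 8, 6, 14, 10, 12, 6, 8, 10, 4, 6, 8, 2, 4, 6, 14, 16, 8, 10, 6, 8, 2, 4, 6, 14, 0, 2, 4, 6, 8, 10, 12] (.cons [2, 6, 4, 0, 2, 8, 10, 12] .nil .nil) .nil) (.cons [14, 10, 12, 8, 10, 6, 8, 4, 6, 16, 18, 16, 12, 8, 10, 6, 8, 2, 4, 6, 16, 0, 2, 4, 6, 8, 10, 12, 14] (.cons [6, 14, 6, 8, 10, 4, 6, 8, 2, 4, 6, 14, 16, 4, 6, 8, 2, 4, 6, 14,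 0, 2, 4, 6, 8, 10, 12] .nil .nil) (.cons [16, 12, 8, 10, 6, 8, 0, 2, 4, 6, 16, 18, 12, 8, 10, 6, 8, 2, 4, 6, 16, 0, 2, 4, 6, 8, 10, 12, 14] (.cons [16, 14, 6, 8, 10, 4, 6, 8, 0, 2, 4, 6, 14, 16, 10, 6, 8, 4, 6, 14, 0, 2, 4, 6, 8, 10, 12] (.cons [12, 4, 2, 10, 8, 6, 12, 14, 8, 6, 4, 12] .nil .nil) .nil) (.cons [18, 16, 10, 12, 8, 10, 6, 8, 4, 6, 16, 18, 12, 8, 10, 6, 8, 2, 4, 6, 16, 0, 2, 4, 6, 8, 10, 12, 14] (.cons [14, 16, 4, 6, 14, 12, 8, 10, 6, 8, 4, 6, 14, 16, 8, 10, 4, 6, 8, 2, 4, 6, 14, 0, 2, 4, 6, 8, 10, 12] (.cons [0, 2, 4, 6, 12, 2, 8, 10, 6, 4, 0, 2, 4, 12, 14] .nil .nil) .nil) (.cons [16, 6, 8, 10, 4, 6, 8, 2, 4, 6, 16, 18, 16, 8, 10, 6, 8, 2, 4, 6, 16, 0, 2, 4, 6, 8, 10, 12, 14] (.cons [6,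 14, 16, 4, 6, 14, 10, 12, 6, 8, 10, 4, 6, 8, 2, 4, 6, 14, 16, 8, 10, 4, 6, 8, 2, 4, 6, 14, 0, 2, 4, 6, 8, 10, 12] (.cons [12, 4, 8, 14, 0, 2, 12, 6, 8, 10, 8] .nil .nil) .nil) (.cons [16, 14, 10, 12, 8, 10, 6, 8, 4, 6, 16, 18, 16, 8, 10, 6, 8, 2, 4, 6, 16, 0, 2, 4, 6, 8, 10, 12, 14] (.cons [14, 16, 12, 10, 8, 4, 6, 14, 10, 12, 6, 8, 10, 4, 6, 8, 2, 4, 6, 14, 16, 10, 6, 8, 2, 4, 6, 14, 0, 2, 4, 6, 8, 10, 12] (.cons [14, 8, 10, 12, 6, 2, 4, 6, 2] .nil .nil) .nil) (.cons [8, 6, 16, 10, 4, 6, 8, 0, 2, 4, 6, 16, 18, 8, 10, 6, 8, 2, 4, 6, 16, 0, 2, 4, 6, 8, 10, 12, 14] (.cons [14, 10, 6, 8, 4, 6, 14, 16, 14, 6, 8, 4, 6, 14, 0, 2, 4, 6, 8, 10, 12] (.cons [8, 0, 2, 12, 6, 4, 2, 10, 8, 6, 8, 10] .nil .nil) .nil)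 (.cons [18, 6, 16, 10, 4, 6, 8, 0, 2, 4, 6, 16, 18, 8, 10, 6, 8, 2, 4, 6, 16, 0, 2, 4, 6, 8, 10, 12, 14] (.cons [16, 14, 12, 10, 4, 6, 8, 0, 2, 4, 6, 14, 16, 10, 4, 6, 8, 2, 4, 6, 14, 0, 2, 4, 6, 8, 10, 12] (.cons [8, 2, 4, 6, 8, 14, 12, 6, 2, 8, 4, 6, 10, 0, 2, 12, 14] .nil .nil) .nil) (.cons [4, 6, 16, 8, 10, 4, 6, 8, 2, 4, 6, 16, 18, 8, 10, 6, 8, 2, 4, 6, 16, 0, 2, 4, 6, 8, 10, 12, 14] (.cons [14, 16, 6, 14, 12, 8, 10, 6, 8, 0, 2, 4, 6, 14, 16, 8, 10, 6, 8, 2, 4, 6, 14, 0, 2, 4, 6, 8, 10, 12] .nil .nil) (.cons [10, 8, 6, 16, 10, 4, 6, 8, 2, 4, 6, 16, 18, 8, 10, 6, 8, 2, 4, 6, 16, 0, 2, 4, 6, 8, 10, 12, 14] .nil (.cons [18, 2, 4, 6, 16, 8, 10, 6, 8, 4, 6, 16, 18, 8, 10, 6, 8, 2, 4, 6, 16, 0, 2, 4, 6,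 8, 10, 12, 14] (.cons [6, 14, 6, 8, 10, 4, 6, 8, 2, 4, 6, 14, 16, 14, 8, 10, 4, 6, 8, 2, 4, 6, 14, 0, 2, 4, 6, 8, 10, 12] .nil .nil) (.cons [10, 2, 4, 6, 8, 0, 2, 4, 6, 16, 18, 16, 14, 12, 10, 6, 8, 2, 4, 6, 16, 0, 2, 4, 6, 8, 10, 12, 14] (.cons [16, 14, 10, 6, 8, 0, 2, 4, 6, 14, 16, 14, 12, 10, 6, 8, 2, 4, 6, 14, 0, 2, 4, 6, 8, 10, 12] (.cons [12, 2, 8, 4, 6, 4, 0, 2, 12, 14] .nil .nil) .nil) (.cons [18, 16, 10, 4, 6, 8, 2, 4, 6, 16, 18, 16, 14, 12, 10, 6, 8, 2, 4, 6, 16, 0, 2, 4, 6, 8, 10, 12, 14] (.cons [8, 10, 6, 8, 2, 4, 6, 14, 16, 12, 8, 10, 4, 6, 8, 2, 4, 6, 14, 0, 2, 4, 6, 8, 10, 12] (.cons [12, 14, 2, 4, 0, 2, 12, 6, 8, 4, 6, 2, 8, 10] .nil .nil) .nil) (.cons [12, 8, 10, 4, 6, 8, 0, 2, 4, 6,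 16, 18, 14, 12, 10, 6, 8, 2, 4, 6, 16, 0, 2, 4, 6, 8, 10, 12, 14] (.cons [2, 4, 14, 6, 16, 14, 8, 4, 6, 14, 10, 12, 8, 10, 6, 8, 4, 6, 14, 16, 8, 2, 4, 6, 14, 0, 2, 4, 6, 8, 10, 12] (.cons [4, 6, 12, 2, 4, 0, 2, 6, 8, 10, 12, 14, 6, 4] (.cons [4, 1, 1, 1, 3] .nil .nil) .nil) .nil) (.cons [18, 16, 8, 10, 4, 6, 8, 2, 4, 6, 16, 18, 16, 12, 10, 6, 8, 2, 4, 6, 16, 0, 2, 4, 6, 8, 10, 12, 14] (.cons [8, 4, 6, 14, 16, 10, 8, 6, 14, 8, 10, 12, 6, 8, 10, 4, 6, 8, 2, 4, 6, 14, 16, 8, 10, 4, 6, 8, 2, 4, 6, 14, 0, 2, 4, 6, 8, 10, 12] (.cons [8, 6, 4, 8, 10, 12, 6, 8, 10, 4, 6, 12, 14, 8, 6, 4, 0, 2] .nil .nil) .nil) (.cons [18, 16, 10, 12, 8, 10, 6, 8, 4, 6, 16, 18, 16, 12, 10, 6, 8, 2, 4, 6, 16, 0, 2, 4, 6, 8, 10,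 12, 14] (.cons [14, 12, 8, 10, 6, 8, 4, 6, 14, 16, 12, 8, 10, 4, 6, 8, 2, 4, 6, 14, 0, 2, 4, 6, 8, 10, 12] (.cons [4, 6, 12, 14, 8, 10, 2, 12, 6, 4, 6, 2, 4] .nil .nil) .nil) (.cons [6, 16, 8, 10, 4, 6, 8, 0, 2, 4, 6, 16, 18, 12, 10, 6, 8, 2, 4, 6, 16, 0, 2, 4, 6, 8, 10, 12, 14] (.cons [14, 16, 8, 2, 4, 6, 14, 10, 12, 8, 10, 4, 6, 8, 2, 4, 6, 14, 16, 8, 10, 6, 8, 2, 4, 6, 14, 0, 2, 4, 6, 8, 10, 12] (.cons [6, 12, 14, 4, 8, 6, 4, 10, 0, 2, 4, 6, 8, 10] .nil .nil) .nil) (.cons [6, 16, 14, 12, 8, 10, 6, 8, 2, 4, 6, 16, 18, 12, 10, 6, 8, 2, 4, 6, 16, 0, 2, 4, 6, 8, 10, 12, 14] (.cons [16, 14, 6, 0, 4, 2, 0, 8, 6, 14, 12, 8, 10, 6, 8, 4, 6, 14, 16, 12, 10, 8, 4, 6, 14, 2, 4, 6, 8, 10, 12] (.cons [10, 8, 6,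 4, 2, 12, 14, 6, 8, 4, 6, 10] .nil .nil) .nil) (.cons [18, 16, 12, 8, 10, 6, 8, 0, 2, 4, 6, 16, 18, 16, 10, 6, 8, 2, 4, 6, 16, 0, 2, 4, 6, 8, 10, 12, 14] (.cons [2, 4, 6, 14, 12, 6, 8, 10, 4, 6, 8, 2, 4, 6, 14, 16, 6, 8, 2, 4, 6, 14, 0, 2, 4, 6, 8, 10, 12] (.cons [12, 14, 6, 10, 2, 4, 0, 2] .nil .nil) .nil) (.cons [4, 6, 16, 8, 10, 4, 6, 8, 2, 4, 6, 16, 18, 16, 10, 6, 8, 2, 4, 6, 16, 0, 2, 4, 6, 8, 10, 12, 14] (.cons [8, 4, 6, 14, 16, 8, 6, 8, 0, 2, 4, 6, 14, 8, 10, 12, 6, 8, 10, 4, 6, 8, 2, 4, 6, 14, 16, 6, 8, 2, 4, 6, 14, 0, 2, 4, 6, 8, 10, 12] .nil .nil) (.cons [14, 12, 6, 8, 10, 4, 6, 8, 0, 2, 4, 6, 16, 18, 10, 6, 8, 2, 4, 6, 16, 0, 2, 4, 6, 8, 10, 12, 14] (.cons [6, 8, 4, 6, 14, 16, 10, 8, 4, 6,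 14, 8, 10, 12, 6, 8, 10, 4, 6, 8, 2, 4, 6, 14, 16, 14, 8, 10, 4, 6, 8, 2, 4, 6, 14, 0, 2, 4, 6, 8, 10, 12] (.cons [10, 8, 6, 10, 8] .nil .nil) .nil) (.cons [6, 16, 12, 8, 10, 4, 6, 8, 0, 2, 4, 6, 16, 18, 10, 6, 8, 2, 4, 6, 16, 0, 2, 4, 6, 8, 10, 12, 14] (.cons [4, 6, 14, 8, 6, 4, 2, 0, 14, 12, 8, 10, 6, 8, 4, 6, 14, 16, 12, 8, 10, 6, 8, 4, 6, 14, 2, 4, 6, 8, 10, 12] (.cons [12, 4, 0, 2, 14, 8, 12] .nil .nil) .nil) (.cons [8, 6, 16, 6, 8, 10, 4, 6, 8, 2, 4, 6, 16, 18, 10, 6, 8, 2, 4, 6, 16, 0, 2, 4, 6, 8, 10, 12, 14] (.cons [12, 10, 8, 4, 6, 14, 16, 4, 6, 8, 10, 14, 6, 4, 8, 6, 14, 10, 12, 8, 10, 4, 6, 8, 0, 2, 4, 6, 14, 16, 10, 8, 2, 4, 6, 14, 0, 2, 4, 6, 8, 10, 12] .nil .nil) (.cons [18, 16, 14, 12,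 8, 10, 4, 6, 8, 2, 4, 6, 16, 18, 10, 6, 8, 2, 4, 6, 16, 0, 2, 4, 6, 8, 10, 12, 14] (.cons [6, 14, 16, 10, 8, 6, 14, 8, 10, 12, 6, 8, 10, 4, 6, 8, 2, 4, 6, 14, 16, 10, 4, 6, 8, 2, 4, 6, 14, 0, 2, 4, 6, 8, 10, 12] (.cons [2, 6, 12, 4, 6, 4, 8, 10, 12, 6, 4, 12, 14] .nil .nil) .nil) (.cons [18, 8, 6, 16, 8, 10, 4, 6, 8, 2, 4, 6, 16, 18, 10, 6, 8, 2, 4, 6, 16, 0, 2, 4, 6, 8, 10, 12, 14] (.cons [4, 6, 14, 8, 10, 6, 8, 2, 4, 6, 14, 16, 6, 14, 12, 10, 4, 6, 8, 2, 4, 6, 14, 0, 2, 4, 6, 8, 10, 12] .nil .nil) (.cons [0, 2, 4, 6, 16, 12, 8, 10, 6, 8, 4, 6, 16, 18, 10, 6, 8, 2, 4, 6, 16, 0, 2, 4, 6, 8, 10, 12, 14] (.cons [4, 6, 14, 16, 8, 6, 14, 8, 10, 12, 6, 8, 10, 4, 6, 8, 2, 4, 6, 14, 16, 14, 12, 10, 4, 6, 8,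 2, 4, 6, 14, 0, 2, 4, 6, 8, 10, 12] (.cons [8, 6, 4, 2, 6, 8] .nil .nil) .nil) (.cons [2, 4, 6, 16, 12, 8, 10, 6, 8, 2, 4, 6, 16, 18, 16, 6, 8, 2, 4, 6, 16, 0, 2, 4, 6, 8, 10, 12, 14] (.cons [4, 6, 14, 16, 8, 6, 14, 12, 8, 10, 4, 6, 8, 2, 4, 6, 14, 16, 8, 10, 4, 6, 8, 2, 4, 6, 14, 0, 2, 4, 6, 8, 10, 12] (.cons [6, 12, 6, 8, 10, 8, 6, 12, 14, 4, 6, 0, 2] .nil .nil) .nil) (.cons [18, 6, 16, 14, 10, 12, 8, 10, 6, 8, 4, 6, 16, 18, 16, 6, 8, 2, 4, 6, 16, 0, 2, 4, 6, 8, 10, 12, 14] (.cons [14, 16, 10, 8, 4, 6, 14, 12, 8, 10, 4, 6, 8, 0, 2, 4, 6, 14, 16, 10, 4, 6, 8, 2, 4, 6, 14, 0, 2, 4, 6, 8, 10, 12] .nil .nil) (.cons [16, 10, 12, 6, 8, 10, 4, 6, 8, 0, 2, 4, 6, 16, 18, 6, 8, 2, 4, 6, 16, 0, 2, 4, 6, 8, 10,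 12, 14] .nil (.cons [18, 16, 12, 6, 8, 10, 4, 6, 8, 0, 2, 4, 6, 16, 18, 6, 8, 2, 4, 6, 16, 0, 2, 4, 6, 8, 10, 12, 14] .nil (.cons [0, 2, 4, 6, 16, 8, 10, 6, 8, 0, 2, 4, 6, 16, 18, 6, 8, 2, 4, 6, 16, 0, 2, 4, 6, 8, 10, 12, 14] (.cons [6, 14, 12, 8, 10, 6, 8, 2, 4, 6, 14, 16, 10, 4, 6, 8, 2, 4, 6, 14, 0, 2, 4, 6, 8, 10, 12] (.cons [6, 10, 4, 12, 6, 4, 12, 14] .nil .nil) .nil) (.cons [18, 6, 16, 14, 10, 12, 8, 10, 6, 8, 2, 4, 6, 16, 18, 6, 8, 2, 4, 6, 16, 0, 2, 4, 6, 8, 10, 12, 14] (.cons [4, 6, 14, 16, 12, 10, 8, 6, 14, 8, 10, 4, 6, 8, 2, 4, 6, 14, 16, 10, 4, 6, 8, 2, 4, 6, 14, 0, 2, 4, 6, 8, 10, 12] (.cons [4, 12, 6, 8, 10, 6, 12, 14, 0, 4, 8, 6, 4, 2] (.cons [4, 2, 1] .nil .nil) .nil) .nil) (.cons [8,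 4, 6, 16, 10, 12, 8, 10, 6, 8, 2, 4, 6, 16, 18, 6, 8, 2, 4, 6, 16, 0, 2, 4, 6, 8, 10, 12, 14] (.cons [0, 10, 14, 12, 8, 10, 6, 8, 4, 6, 14, 16, 12, 10, 6, 8, 4, 6, 14, 2, 4, 6, 8, 10, 12] (.cons [4, 0, 2, 4, 12, 14, 8] .nil .nil) .nil) (.cons [18, 6, 16, 12, 8, 10, 6, 8, 2, 4, 6, 16, 18, 14, 12, 10, 8, 2, 4, 6, 16, 0, 2, 4, 6, 8, 10, 12, 14] (.cons [16, 4, 6, 14, 8, 10, 6, 8, 2, 4, 6, 14, 16, 14, 8, 10, 6, 8, 2, 4, 6, 14, 0, 2, 4, 6, 8, 10, 12] .nil .nil) (.cons [8, 6, 16, 14, 12, 8, 10, 4, 6, 8, 2, 4, 6, 16, 18, 10, 8, 2, 4, 6, 16, 0, 2, 4, 6, 8, 10, 12, 14] .nil (.cons [18, 2, 4, 6, 16, 8, 10, 4, 6, 8, 2, 4, 6, 16, 18, 10, 8, 2, 4, 6, 16, 0, 2, 4, 6, 8, 10, 12, 14] (.cons [8, 6, 14, 10, 12, 8, 10, 4,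 6, 8, 2, 4, 6, 14, 16, 14, 8, 10, 6, 8, 2, 4, 6, 14, 0, 2, 4, 6, 8, 10, 12] (.cons [12, 4, 6, 8, 2, 4, 6, 12, 14, 10, 6, 8, 12, 6, 4, 2, 4, 8, 10] .nil .nil) .nil) (.cons [16, 18, 4, 6, 16, 12, 8, 10, 6, 8, 2, 4, 6, 16, 18, 10, 8, 2, 4, 6, 16, 0, 2, 4, 6, 8, 10, 12, 14] (.cons [6, 8, 10, 2, 4, 6, 8, 0, 2, 4, 6, 14, 16, 14, 6, 8, 4, 6, 14, 2, 4, 6, 8, 10, 12] (.cons [14, 4, 10, 0, 2, 4, 6, 8, 12, 6, 4, 2, 8, 10] .nil .nil) .nil) (.cons [16, 18, 2, 4, 6, 16, 8, 10, 6, 8, 2, 4, 6, 16, 18, 10, 8, 2, 4, 6, 16, 0, 2, 4, 6, 8, 10, 12, 14] (.cons [12, 10, 8, 6, 14, 16, 8, 10, 14, 6, 2, 4, 6, 14, 8, 10, 12, 6, 8, 10, 4, 6, 8, 0, 2, 4, 6, 14, 16, 6, 8, 4, 6, 14, 0, 2, 4, 6, 8, 10, 12] (.cons [8, 2, 4, 6, 12, 14,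 2, 4, 6, 8, 10, 12, 6, 4, 2] .nil .nil) .nil) (.cons [0, 2, 4, 6, 16, 14, 12, 8, 10, 6, 8, 4, 6, 16, 18, 10, 8, 2, 4, 6, 16, 0, 2, 4, 6, 8, 10, 12, 14] .nil (.cons [18, 4, 6, 16, 14, 12, 8, 10, 6, 8, 0, 2, 4, 6, 16, 18, 8, 2, 4, 6, 16, 0, 2, 4, 6, 8, 10, 12, 14] (.cons [8, 6, 14, 16, 10, 8, 4, 6, 14, 12, 8, 10, 4, 6, 8, 2, 4, 6, 14, 16, 12, 8, 10, 6, 8, 2, 4, 6, 14, 0, 2, 4, 6, 8, 10, 12] (.cons [6, 4, 0, 2, 6, 8, 4, 6, 12, 14, 8, 6, 10] .nil .nil) .nil) (.cons [6, 16, 6, 8, 10, 4, 6, 8, 0, 2, 4, 6, 16, 18, 8, 10, 6, 8, 4, 6, 16, 0, 2, 4, 6, 8, 10, 12, 14] (.cons [6, 8, 0, 2, 4, 6, 14, 16, 10, 8, 12, 10, 6, 14, 6, 4, 2, 8, 4, 6, 14, 10, 12, 8, 10, 6, 8, 4, 6, 14, 16, 8, 2, 4, 6, 14, 0, 2, 4, 6, 8, 10,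 12] (.cons [8, 6, 10, 0, 2, 4, 0, 2, 12, 14, 6, 4] .nil .nil) .nil) (.cons [8, 10, 12, 6, 8, 10, 4, 6, 8, 0, 2, 4, 6, 16, 18, 10, 6, 8, 4, 6, 16, 0, 2, 4, 6, 8, 10, 12, 14] (.cons [6, 14, 16, 2, 4, 6, 14, 12, 8, 10, 6, 8, 4, 6, 14, 16, 6, 8, 2, 4, 6, 14, 0, 2, 4, 6, 8, 10, 12] (.cons [10, 8, 4, 6, 12, 14, 6, 4, 10, 8, 6, 4, 0, 2, 4, 8, 10] .nil .nil) .nil) (.cons [18, 6, 16, 12, 6, 8, 10, 4, 6, 8, 2, 4, 6, 16, 18, 10, 6, 8, 4, 6, 16, 0, 2, 4, 6, 8, 10, 12, 14] (.cons [14, 16, 14, 12, 10, 6, 8, 4, 6, 14, 10, 12, 8, 10, 4, 6, 8, 2, 4, 6, 14, 16, 10, 6, 8, 2, 4, 6, 14, 0, 2, 4, 6, 8, 10, 12] (.cons [8, 2, 4, 6, 12, 14, 6, 4, 8, 12, 6, 4, 0, 2, 4, 8, 10] .nil .nil) .nil) (.cons [18, 8, 6, 16, 6, 8, 10, 4,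 6, 8, 2, 4, 6, 16, 18, 10, 6, 8, 4, 6, 16, 0, 2, 4, 6, 8, 10, 12, 14] (.cons [6, 14, 10, 4, 6, 8, 2, 4, 6, 14, 16, 10, 8, 2, 4, 6, 14, 0, 2, 4, 6, 8, 10, 12] (.cons [14, 6, 12, 6, 4, 2, 6, 8, 10, 14, 12] .nil .nil) .nil) (.cons [16, 10, 12, 6, 8, 10, 2, 4, 6, 8, 0, 2, 4, 6, 16, 18, 6, 8, 4, 6, 16, 0, 2, 4, 6, 8, 10, 12, 14] (.cons [16, 8, 14, 6, 4, 2, 0, 10, 12, 8, 10, 6, 8, 4, 6, 14, 16, 12, 8, 10, 6, 8, 4, 6, 14, 2, 4, 6, 8, 10, 12] .nil .nil) (.cons [12, 10, 2, 4, 6, 8, 0, 2, 4, 6, 16, 18, 12, 8, 10, 4, 6, 8, 2, 4, 6, 16, 0, 2, 4, 6, 8, 10, 12, 14] .nil (.cons [16, 8, 10, 2, 4, 6, 8, 0, 2, 4, 6, 16, 18, 8, 10, 4, 6, 8, 2, 4, 6, 16, 0, 2, 4, 6, 8, 10, 12, 14] (.cons [14, 16, 10, 8, 6, 14, 12, 8, 10,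 4, 6, 8, 2, 4, 6, 14, 16, 12, 8, 10, 4, 6, 8, 2, 4, 6, 14, 0, 2, 4, 6, 8, 10, 12] (.cons [8, 14, 12, 6, 2, 4, 0, 2, 8, 10, 12, 14] .nil .nil) .nil) (.cons [0, 2, 4, 6, 16, 8, 10, 6, 8, 4, 6, 16, 18, 8, 10, 4, 6, 8, 2, 4, 6, 16, 0, 2, 4, 6, 8, 10, 12, 14] (.cons [14, 8, 10, 12, 6, 8, 10, 4, 6, 8, 2, 4, 6, 14, 16, 10, 4, 6, 8, 2, 4, 6, 14, 0, 2, 4, 6, 8, 10, 12] .nil .nil) (.cons [14, 10, 12, 8, 10, 6, 8, 4, 6, 16, 18, 6, 16, 12, 10, 4, 6, 8, 2, 4, 6, 16, 0, 2, 4, 6, 8, 10, 12, 14] (.cons [16, 10, 14, 6, 4, 8, 6, 14, 10, 12, 8, 10, 4, 6, 8, 0, 2, 4, 6, 14, 16, 10, 8, 2, 4, 6, 14, 0, 2, 4, 6, 8, 10, 12] (.cons [8, 10, 6, 4, 12, 6, 8, 10, 14, 4, 6, 12, 14, 8, 6, 4, 0, 2] .nil .nil) .nil) (.cons [14, 10, 12,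 8, 10, 4, 6, 8, 2, 4, 6, 16, 18, 12, 10, 4, 6, 8, 2, 4, 6, 16, 0, 2, 4, 6, 8, 10, 12, 14] (.cons [6, 8, 2, 4, 6, 14, 16, 14, 10, 6, 8, 4, 6, 14, 10, 12, 6, 8, 10, 4, 6, 8, 2, 4, 6, 14, 16, 10, 6, 8, 2, 4, 6, 14, 0, 2, 4, 6, 8, 10, 12] .nil .nil) (.cons [8, 6, 16, 12, 10, 4, 6, 8, 2, 4, 6, 16, 18, 12, 10, 4, 6, 8, 2, 4, 6, 16, 0, 2, 4, 6, 8, 10, 12, 14] (.cons [12, 10, 8, 2, 4, 6, 14, 16, 6, 8, 4, 6, 14, 8, 10, 12, 6, 8, 10, 4, 6, 8, 0, 2, 4, 6, 14, 16, 12, 10, 4, 6, 8, 2, 4, 6, 14, 0, 2, 4, 6, 8, 10, 12] (.cons [2, 4, 0, 2, 8, 4, 12, 6, 8, 10] .nil .nil) .nil) (.cons [16, 14, 10, 12, 8, 10, 6, 8, 2, 4, 6, 16, 18, 12, 10, 4, 6, 8, 2, 4, 6, 16, 0, 2, 4, 6, 8, 10, 12, 14] (.cons [2, 4, 6, 14, 16, 8, 6, 14,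 10, 12, 6, 8, 10, 4, 6, 8, 2, 4, 6, 14, 16, 14, 10, 6, 8, 2, 4, 6, 14, 0, 2, 4, 6, 8, 10, 12] (.cons [6, 12, 8, 10, 0, 6, 4, 2, 4, 12, 14, 8] .nil .nil) .nil) (.cons [6, 16, 12, 10, 4, 6, 8, 0, 2, 4, 6, 16, 18, 16, 10, 4, 6, 8, 2, 4, 6, 16, 0, 2, 4, 6, 8, 10, 12, 14] (.cons [8, 4, 6, 14, 16, 10, 8, 6, 14, 12, 8, 10, 4, 6, 8, 2, 4, 6, 14, 16, 10, 4, 6, 8, 2, 4, 6, 14, 0, 2, 4, 6, 8, 10, 12] (.cons [4, 2, 14, 10, 12, 6, 4, 14, 8, 12, 6, 8, 10] .nil .nil) .nil) (.cons [14, 10, 12, 8, 10, 6, 8, 0, 2, 4, 6, 16, 18, 16, 10, 4, 6, 8, 2, 4, 6, 16, 0, 2, 4, 6, 8, 10, 12, 14] (.cons [4, 6, 8, 0, 2, 4, 6, 14, 16, 14, 10, 6, 8, 4, 6, 14, 10, 12, 8, 10, 4, 6, 8, 2, 4, 6, 14, 16, 14, 12, 10, 6, 8, 2, 4, 6, 14, 0, 2,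 4, 6, 8, 10, 12] (.cons [10, 4, 6, 12, 14, 6, 8, 4, 6, 10] .nil .nil) .nil) (.cons [8, 6, 16, 12, 10, 4, 6, 8, 2, 4, 6, 16, 18, 16, 10, 4, 6, 8, 2, 4, 6, 16, 0, 2, 4, 6, 8, 10, 12, 14] (.cons [0, 2, 4, 6, 14, 16, 14, 6, 8, 4, 6, 14, 10, 12, 8, 10, 4, 6, 8, 2, 4, 6, 14, 16, 10, 6, 8, 2, 4, 6, 14, 0, 2, 4, 6, 8, 10, 12] (.cons [10, 8, 0, 2, 4, 6, 12, 14, 4, 10, 8, 12, 6, 4, 2, 8, 6, 10, 4] .nil .nil) .nil) (.cons [12, 14, 10, 12, 8, 10, 6, 8, 2, 4, 6, 16, 18, 16, 10, 4, 6, 8, 2, 4, 6, 16, 0, 2, 4, 6, 8, 10, 12, 14] (.cons [16, 14, 12, 10, 4, 6, 8, 2, 4, 6, 14, 16, 14, 12, 8, 10, 6, 8, 2, 4, 6, 14, 0, 2, 4, 6, 8, 10, 12] (.cons [12, 14, 4, 8, 10, 8, 6] .nil .nil) .nil) (.cons [2, 4, 6, 16, 8, 10, 6, 8, 2,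 4, 6, 16, 18, 16, 10, 4, 6, 8, 2, 4, 6, 16, 0, 2, 4, 6, 8, 10, 12, 14] (.cons [16, 14, 10, 4, 6, 8, 4, 2, 14, 6, 4, 8, 6, 14, 10, 12, 8, 10, 6, 8, 4, 6, 14, 16, 2, 4, 6, 14, 0, 2, 4, 6, 8, 10, 12] (.cons [2, 12, 4, 6, 12, 14, 8, 6, 4, 2, 10, 8] .nil .nil) .nil) (.cons [4, 6, 16, 8, 10, 4, 6, 8, 0, 2, 4, 6, 16, 18, 10, 4, 6, 8, 2, 4, 6, 16, 0, 2, 4, 6, 8, 10, 12, 14] (.cons [2, 4, 6, 8, 0, 2, 4, 6, 14, 16, 10, 8, 12, 10, 6, 4, 2, 14, 8, 6, 4, 10, 16, 6, 14, 12, 8, 10, 6, 8, 4, 6, 14, 16, 2, 4, 6, 14, 0, 2, 4, 6, 8, 10, 12] (.cons [14, 0, 6, 8, 4, 2, 6, 10, 8] .nil .nil) .nil) (.cons [16, 10, 12, 8, 10, 6, 8, 2, 4, 6, 16, 18, 10, 12, 8, 10, 6, 8, 2, 4, 6, 16, 0, 2, 4, 6, 8, 10, 12, 14] (.cons [8, 0, 2,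 4, 6, 14, 16, 10, 8, 2, 4, 6, 14, 0, 2, 4, 6, 8, 10, 12] (.cons [14, 4, 12, 6, 8, 4, 0, 2, 4, 10, 8] .nil .nil) .nil) (.cons [16, 18, 6, 16, 8, 10, 6, 8, 4, 6, 16, 18, 16, 12, 8, 10, 6, 8, 2, 4, 6, 16, 0, 2, 4, 6, 8, 10, 12, 14] (.cons [14, 16, 12, 10, 8, 6, 14, 10, 4, 6, 8, 2, 4, 6, 14, 16, 10, 4, 6, 8, 2, 4, 6, 14, 0, 2, 4, 6, 8, 10, 12] (.cons [12, 6, 8, 10, 0, 4, 6, 2, 4, 0, 2, 12] .nil .nil) .nil) (.cons [16, 18, 6, 16, 8, 10, 4, 6, 8, 2, 4, 6, 16, 18, 8, 10, 6, 8, 2, 4, 6, 16, 0, 2, 4, 6, 8, 10, 12, 14] (.cons [0, 2, 4, 6, 14, 16, 14, 10, 6, 8, 4, 6, 14, 10, 12, 6, 8, 10, 4, 6, 8, 2, 4, 6, 14, 16, 10, 4, 6, 8, 2, 4, 6, 14, 0, 2, 4, 6, 8, 10, 12] (.cons [8, 10, 0, 2, 12, 14, 6, 4] .nil .nil) .nil)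 (.cons [12, 10, 8, 6, 16, 10, 4, 6, 8, 2, 4, 6, 16, 18, 8, 10, 6, 8, 2, 4, 6, 16, 0, 2, 4, 6, 8, 10, 12, 14] .nil (.cons [8, 6, 16, 10, 12, 8, 10, 6, 8, 2, 4, 6, 16, 18, 8, 10, 6, 8, 2, 4, 6, 16, 0, 2, 4, 6, 8, 10, 12, 14] (.cons [14, 16, 8, 6, 14, 6, 8, 10, 4, 6, 8, 2, 4, 6, 14, 16, 10, 6, 8, 2, 4, 6, 14, 0, 2, 4, 6, 8, 10, 12] (.cons [12, 6, 8, 4, 10, 12, 6, 8, 14, 12, 6, 4, 2, 8, 10, 12, 14] .nil .nil) .nil) (.cons [18, 2, 4, 6, 16, 8, 10, 6, 8, 2, 4, 6, 16, 18, 8, 10, 6, 8, 2, 4, 6, 16, 0, 2, 4, 6, 8, 10, 12, 14] (.cons [0, 2, 4, 6, 14, 16, 8, 4, 6, 14, 10, 12, 6, 8, 10, 4, 6, 8, 2, 4, 6, 14, 16, 14, 8, 10, 4, 6, 8, 2, 4, 6, 14, 0, 2, 4, 6, 8, 10, 12] (.cons [2, 12, 8, 6, 4, 12, 6, 8, 10, 14, 12,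 6, 4, 2, 12, 14] .nil .nil) .nil) (.cons [0, 2, 4, 6, 16, 8, 10, 6, 8, 2, 4, 6, 16, 18, 12, 10, 6, 8, 2, 4, 6, 16, 0, 2, 4, 6, 8, 10, 12, 14] .nil (.cons [18, 6, 16, 14, 10, 12, 8, 10, 6, 8, 4, 6, 16, 18, 12, 10, 6, 8, 2, 4, 6, 16, 0, 2, 4, 6, 8, 10, 12, 14] .nil (.cons [16, 18, 6, 16, 8, 10, 4, 6, 8, 2, 4, 6, 16, 18, 16, 10, 6, 8, 2, 4, 6, 16, 0, 2, 4, 6, 8, 10, 12, 14] (.cons [14, 4, 6, 8, 0, 2, 4, 6, 14, 16, 14, 6, 8, 4, 6, 14, 2, 4, 6, 8, 10, 12] (.cons [8, 0, 4, 2, 6, 12, 14, 8, 4, 6, 10] .nil .nil) .nil) (.cons [18, 4, 6, 16, 10, 12, 8, 10, 6, 8, 4, 6, 16, 18, 16, 10, 6, 8, 2, 4, 6, 16, 0, 2, 4, 6, 8, 10, 12, 14] .nil (.cons [12, 14, 10, 12, 6, 8, 10, 4, 6, 8, 2, 4, 6, 16, 18, 10, 6, 8, 2, 4, 6,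 16, 0, 2, 4, 6, 8, 10, 12, 14] .nil (.cons [10, 8, 6, 16, 6, 8, 10, 4, 6, 8, 2, 4, 6, 16, 18, 10, 6, 8, 2, 4, 6, 16, 0, 2, 4, 6, 8, 10, 12, 14] (.cons [16, 6, 14, 6, 8, 10, 4, 6, 8, 2, 4, 6, 14, 16, 14, 8, 10, 6, 8, 2, 4, 6, 14, 0, 2, 4, 6, 8, 10, 12] (.cons [8, 2, 4, 6, 12, 4, 6, 8, 10, 2, 8, 4, 6, 4, 0, 2, 12, 14] .nil .nil) .nil) (.cons [16, 18, 6, 16, 10, 12, 8, 10, 6, 8, 2, 4, 6, 16, 18, 10, 6, 8, 2, 4, 6, 16, 0, 2, 4, 6, 8, 10, 12, 14] (.cons [6, 8, 4, 6, 14, 16, 10, 8, 6, 14, 12, 8, 10, 4, 6, 8, 2, 4, 6, 14, 16, 10, 4, 6, 8, 2, 4, 6, 14, 0, 2, 4, 6, 8, 10, 12] (.cons [12, 14, 6, 8, 4, 12, 6, 4, 0, 2, 8, 6, 10, 4] (.cons [1, 3, 3, 4, 1] .nil .nil) .nil) .nil) (.cons [4, 6, 16, 12, 6, 8, 10, 4, 6,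 8, 2, 4, 6, 16, 18, 16, 10, 6, 8, 4, 6, 16, 0, 2, 4, 6, 8, 10, 12, 14] .nil (.cons [12, 10, 8, 6, 16, 4, 6, 8, 2, 4, 6, 16, 18, 6, 8, 10, 4, 6, 8, 2, 4, 6, 16, 0, 2, 4, 6, 8, 10, 12, 14] (.cons [16, 0, 2, 4, 10, 8, 6, 14, 10, 12, 8, 10, 4, 6, 8, 0, 2, 4, 6, 14, 16, 10, 8, 2, 4, 6, 14, 0, 2, 4, 6, 8, 10, 12] (.cons [12, 14, 4, 12, 6, 8, 10, 4, 6, 2, 4, 0, 2] .nil .nil) .nil) (.cons [18, 6, 16, 12, 10, 4, 6, 8, 2, 4, 6, 16, 18, 12, 8, 10, 4, 6, 8, 2, 4, 6, 16, 0, 2, 4, 6, 8, 10, 12, 14] (.cons [14, 6, 8, 0, 2, 4, 6, 14, 16, 10, 8, 12, 10, 14, 6, 8, 4, 6, 14, 10, 12, 8, 10, 4, 6, 8, 2, 4, 6, 14, 16, 12, 10, 8, 2, 4, 6, 14, 0, 2, 4, 6, 8, 10, 12] (.cons [12, 0, 2, 14, 4, 8, 10, 12, 6, 4] .nil .nil) .nil)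 (.cons [18, 8, 6, 16, 10, 4, 6, 8, 2, 4, 6, 16, 18, 16, 8, 10, 4, 6, 8, 2, 4, 6, 16, 0, 2, 4, 6, 8, 10, 12, 14] (.cons [14, 16, 12, 10, 8, 6, 14, 10, 12, 8, 10, 4, 6, 8, 0, 2, 4, 6, 14, 16, 8, 10, 4, 6, 8, 2, 4, 6, 14, 0, 2, 4, 6, 8, 10, 12] .nil .nil) (.cons [6, 16, 8, 10, 4, 6, 8, 0, 2, 4, 6, 16, 18, 14, 12, 10, 4, 6, 8, 2, 4, 6, 16, 0, 2, 4, 6, 8, 10, 12, 14] (.cons [10, 8, 0, 2, 4, 6, 14, 16, 14, 12, 10, 6, 8, 2, 4, 6, 14, 0, 2, 4, 6, 8, 10, 12] (.cons [8, 10, 12, 6, 8, 14, 12, 6, 4, 2, 8, 10, 12, 14] .nil .nil) .nil) (.cons [16, 14, 12, 10, 2, 4, 6, 8, 0, 2, 4, 6, 16, 18, 12, 10, 4, 6, 8, 2, 4, 6, 16, 0, 2, 4, 6, 8, 10, 12, 14] (.cons [14, 16, 6, 8, 4, 6, 14, 10, 12, 6, 8, 10, 4, 6, 8, 2, 4, 6, 14,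 16, 8, 10, 4, 6, 8, 2, 4, 6, 14, 0, 2, 4, 6, 8, 10, 12] (.cons [14, 12, 4, 2, 0, 8, 6, 4, 2, 12, 6, 4, 14, 12] .nil .nil) .nil) (.cons [18, 16, 12, 6, 8, 10, 4, 6, 8, 2, 4, 6, 16, 18, 12, 10, 4, 6, 8, 2, 4, 6, 16, 0, 2, 4, 6, 8, 10, 12, 14] (.cons [14, 10, 2, 4, 6, 8, 0, 2, 4, 6, 14, 16, 10, 8, 4, 6, 14, 8, 10, 12, 6, 8, 10, 4, 6, 8, 2, 4, 6, 14, 16, 14, 8, 10, 4, 6, 8, 2, 4, 6, 14, 0, 2, 4, 6, 8, 10, 12] (.cons [6, 12, 10, 14, 6, 4, 8, 12] .nil .nil) .nil) (.cons [18, 8, 6, 16, 12, 10, 4, 6, 8, 2, 4, 6, 16, 18, 12, 10, 4, 6, 8, 2, 4, 6, 16, 0, 2, 4, 6, 8, 10, 12, 14] (.cons [16, 0, 2, 6, 14, 16, 8, 6, 14, 10, 12, 8, 10, 6, 8, 4, 6, 14, 16, 8, 2, 4, 6, 14, 0, 2, 4, 6, 8, 10, 12] .nil .nil) (.cons [6,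 16, 14, 12, 10, 4, 6, 8, 0, 2, 4, 6, 16, 18, 16, 10, 4, 6, 8, 2, 4, 6, 16, 0, 2, 4, 6, 8, 10, 12, 14] (.cons [14, 16, 4, 6, 14, 12, 8, 10, 6, 8, 4, 6, 14, 16, 6, 14, 12, 8, 10, 6, 8, 2, 4, 6, 14, 0, 2, 4, 6, 8, 10, 12] (.cons [10, 8, 2, 10, 4, 6, 12, 14, 8, 6, 4, 0, 2] .nil .nil) .nil) (.cons [12, 14, 10, 12, 8, 10, 6, 8, 0, 2, 4, 6, 16, 18, 16, 10, 4, 6, 8, 2, 4, 6, 16, 0, 2, 4, 6, 8, 10, 12, 14] (.cons [8, 2, 4, 6, 14, 16, 8, 0, 2, 10, 6, 4, 8, 6, 14, 10, 12, 8, 10, 4, 6, 8, 0, 2, 4, 6, 14, 16, 10, 8, 2, 4, 6, 14, 0, 2, 4, 6, 8, 10, 12] (.cons [12, 4, 6, 2, 4, 0, 2, 12] .nil .nil) .nil) (.cons [16, 18, 6, 16, 14, 12, 8, 10, 6, 8, 4, 6, 16, 18, 16, 10, 4, 6, 8, 2, 4, 6, 16, 0, 2, 4, 6, 8, 10, 12, 14]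 (.cons [6, 8, 0, 2, 4, 6, 14, 16, 8, 4, 6, 8, 2, 4, 6, 14, 8, 10, 12, 6, 8, 10, 4, 6, 8, 2, 4, 6, 14, 16, 6, 8, 2, 4, 6, 14, 0, 2, 4, 6, 8, 10, 12] .nil .nil) (.cons [18, 16, 14, 10, 12, 6, 8, 10, 4, 6, 8, 2, 4, 6, 16, 18, 4, 6, 8, 2, 4, 6, 16, 0, 2, 4, 6, 8, 10, 12, 14] (.cons [16, 10, 8, 6, 14, 12, 10, 4, 6, 8, 2, 4, 6, 14, 16, 14, 12, 10, 4, 6, 8, 2, 4, 6, 14, 0, 2, 4, 6, 8, 10, 12] .nil .nil) (.cons [18, 16, 12, 8, 10, 4, 6, 8, 0, 2, 4, 6, 16, 18, 12, 8, 10, 6, 8, 2, 4, 6, 16, 0, 2, 4, 6, 8, 10, 12, 14] (.cons [10, 8, 6, 14, 16, 6, 2, 4, 6, 14, 8, 10, 12, 6, 8, 10, 4, 6, 8, 0, 2, 4, 6, 14, 16, 6, 8, 4, 6, 14, 0, 2, 4, 6, 8, 10, 12] (.cons [12, 8, 4, 6, 2, 8, 10, 12, 14] .nil .nil) .nil) (.cons [6,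 16, 14, 12, 8, 10, 4, 6, 8, 2, 4, 6, 16, 18, 16, 8, 10, 6, 8, 2, 4, 6, 16, 0, 2, 4, 6, 8, 10, 12, 14] (.cons [16, 6, 14, 10, 12, 6, 8, 10, 4, 6, 8, 0, 2, 4, 6, 14, 16, 10, 4, 6, 8, 2, 4, 6, 14, 0, 2, 4, 6, 8, 10, 12] (.cons [6, 10, 8, 10, 6, 12, 14, 4, 0, 2, 8, 6] .nil .nil) .nil) (.cons [18, 6, 16, 10, 12, 8, 10, 6, 8, 0, 2, 4, 6, 16, 18, 8, 10, 6, 8, 2, 4, 6, 16, 0, 2, 4, 6, 8, 10, 12, 14] .nil (.cons [18, 16, 14, 12, 6, 8, 10, 4, 6, 8, 2, 4, 6, 16, 18, 8, 10, 6, 8, 2, 4, 6, 16, 0, 2, 4, 6, 8, 10, 12, 14] .nil (.cons [16, 18, 10, 8, 6, 16, 8, 10, 4, 6, 8, 2, 4, 6, 16, 18, 10, 6, 8, 2, 4, 6, 16, 0, 2, 4, 6, 8, 10, 12, 14] .nil (.cons [6, 8, 4, 6, 16, 10, 12, 8, 10, 6, 8, 2, 4, 6, 16, 18, 12, 10, 8, 2,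 4, 6, 16, 0, 2, 4, 6, 8, 10, 12, 14] (.cons [8, 2, 4, 6, 14, 6, 8, 10, 4, 6, 8, 2, 4, 6, 14, 16, 8, 10, 6, 8, 2, 4, 6, 14, 0, 2, 4, 6, 8, 10, 12] (.cons [10, 8, 6, 12, 14, 12, 10, 4, 6, 8, 10, 0, 12, 6, 4, 2, 4] .nil .nil) .nil) (.cons [16, 18, 4, 6, 16, 14, 12, 8, 10, 6, 8, 2, 4, 6, 16, 18, 12, 10, 8, 2, 4, 6, 16, 0, 2, 4, 6, 8, 10, 12, 14] (.cons [8, 4, 6, 14, 16, 10, 8, 2, 4, 6, 14, 10, 12, 8, 10, 4, 6, 8, 2, 4, 6, 14, 16, 12, 8, 10, 6, 8, 2, 4, 6, 14, 0, 2, 4, 6, 8, 10, 12] (.cons [10, 8, 6, 12, 10, 6, 4, 2, 4, 6, 12, 14] .nil .nil) .nil) (.cons [18, 2, 4, 6, 16, 10, 12, 8, 10, 6, 8, 0, 2, 4, 6, 16, 18, 10, 8, 2, 4, 6, 16, 0, 2, 4, 6, 8, 10, 12, 14] (.cons [10, 6, 8, 0, 2, 4, 6, 14, 16, 14, 10, 6,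 8, 4, 6, 14, 10, 12, 8, 10, 4, 6, 8, 2, 4, 6, 14, 16, 14, 8, 10, 4, 6, 8, 2, 4, 6, 14, 0, 2, 4, 6, 8, 10, 12] (.cons [10, 2, 14, 4, 6, 8, 6, 4, 2, 12, 6, 8, 10, 8] .nil .nil) .nil) (.cons [18, 10, 8, 6, 16, 4, 6, 8, 0, 2, 4, 6, 16, 18, 6, 8, 10, 4, 6, 8, 2, 4, 6, 16, 0, 2, 4, 6, 8, 10, 12, 14] .nil (.cons [16, 18, 6, 16, 10, 12, 8, 10, 6, 8, 4, 6, 16, 18, 6, 8, 10, 4, 6, 8, 2, 4, 6, 16, 0, 2, 4, 6, 8, 10, 12, 14] (.cons [14, 16, 8, 6, 14, 10, 4, 6, 8, 2, 4, 6, 14, 16, 14, 10, 4, 6, 8, 2, 4, 6, 14, 0, 2, 4, 6, 8, 10, 12] (.cons [4, 6, 8, 0, 2, 4, 6, 12, 14, 10, 4, 12, 6, 8, 10, 12, 6, 2, 4, 0, 2] .nil .nil) .nil) (.cons [6, 16, 6, 8, 10, 4, 6, 8, 0, 2, 4, 6, 16, 18, 14, 12, 10, 4, 6, 8, 2, 4, 6, 16, 0,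 2, 4, 6, 8, 10, 12, 14] (.cons [8, 2, 4, 6, 14, 16, 12, 10, 6, 8, 2, 4, 6, 14, 0, 2, 4, 6, 8, 10, 12] .nil .nil) (.cons [0, 2, 4, 6, 16, 8, 10, 6, 8, 4, 6, 16, 18, 6, 16, 12, 10, 4, 6, 8, 2, 4, 6, 16, 0, 2, 4, 6, 8, 10, 12, 14] (.cons [10, 12, 8, 10, 6, 8, 2, 4, 6, 14, 16, 8, 10, 6, 8, 4, 6, 14, 0, 2, 4, 6, 8, 10, 12] (.cons [12, 14, 8, 10, 6, 4, 0, 2, 4, 6] (.cons [2, 2, 0, 4, 1] .nil .nil) .nil) .nil) (.cons [18, 6, 16, 12, 6, 8, 10, 4, 6, 8, 0, 2, 4, 6, 16, 18, 8, 10, 6, 8, 2, 4, 6, 16, 0, 2, 4, 6, 8, 10, 12, 14] (.cons [16, 8, 4, 6, 12, 10, 8, 2, 4, 6, 14, 10, 12, 8, 10, 4, 6, 8, 2, 4, 6, 14, 16, 12, 10, 8, 2, 4, 6, 14, 0, 2, 4, 6, 8, 10, 12] (.cons [6, 12, 8, 6, 4, 0, 2, 6, 8, 10, 12, 14, 6, 4] .nil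 .nil) .nil) (.cons [2, 4, 6, 16, 14, 12, 8, 10, 4, 6, 8, 2, 4, 6, 16, 18, 16, 10, 6, 8, 2, 4, 6, 16, 0, 2, 4, 6, 8, 10, 12, 14] (.cons [6, 14, 16, 6, 14, 0, 6, 4, 2, 8, 4, 6, 14, 10, 12, 8, 10, 6, 8, 4, 6, 14, 16, 8, 2, 4, 6, 14, 0, 2, 4, 6, 8, 10, 12] (.cons [12, 6, 8, 4, 10, 14, 12, 8, 6, 12, 14, 4, 6, 0, 2] .nil .nil) .nil) (.cons [18, 2, 4, 6, 16, 14, 12, 8, 10, 6, 8, 2, 4, 6, 16, 18, 12, 8, 10, 6, 8, 2, 4, 6, 16, 0, 2, 4, 6, 8, 10, 12, 14] .nil (.cons [4, 6, 16, 10, 12, 6, 8, 10, 4, 6, 8, 2, 4, 6, 16, 18, 16, 12, 10, 4, 6, 8, 2, 4, 6, 16, 0, 2, 4, 6, 8, 10, 12, 14] (.cons [12, 10, 8, 0, 2, 4, 6, 14, 16, 10, 8, 4, 6, 14, 8, 10, 12, 6, 8, 10, 4, 6, 8, 2, 4, 6, 14, 16, 12, 10, 4, 6, 8, 2, 4, 6, 14,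 0, 2, 4, 6, 8, 10, 12] .nil .nil) (.cons [16, 18, 6, 16, 8, 10, 12, 6, 8, 10, 4, 6, 8, 2, 4, 6, 16, 18, 8, 10, 6, 8, 2, 4, 6, 16, 0, 2, 4, 6, 8, 10, 12, 14] .nil .nil))))))))))))))))))))))))))))))))))))))))))))))))))))))))))))))))))))))))))))))))))))))))))))))))))))))))))))))))))))))))))))))))))))))))))))))))))))))))))))))))))))))))))))))))))))))))))))))))))))))))))))))))) (⟨cu_l0.b, cu_l0.S, [], cu_R8, 0⟩ :: cu_tl) (0 :: cu_lk) Pd.nil 0 = true := by decide +kernel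

end Cfsg.Agent.Fi23C
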