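import Cfsg.Agent.Fi23C.OutU_0
import Cfsg.Agent.Fi23C.OutU_1

set_option autoImplicit false
set_option Elab.async false
set_option maxRecDepth 100000
set_option linter.all false

namespace Cfsg.Agent.Fi23C
open Cfsg.Agent.CGT

theorem cu_sound {G : Type*} [Group G] {φ : G →* Equiv.Perm ℕ} {γ : ℕ → G}
    (M : Model φ γ 15 l0_ns m_ts) : ChainSound φ (gp γ [0, 2, 4, 6, 8, 10, 12, 14, 16, 18]) 15 [] cu_ls :=
  ⟨Level.ok_sound' M cu_l0_ok,
   Level.ok_sound' M cu_l1_ok,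
   Level.ok_sound' M cu_l2_ok,
   Level.ok_sound' M cu_l3_ok,
   Level.okT_sound M cu_l4_ok,
   Level.okT_sound M cu_l5_ok, trivial⟩
theorem cu_cent {G : Type*} [Group G] {φ : G →* Equiv.Perm ℕ} {γ : ℕ → G}
    (C : Cert φ γ 15 l0_ns m_ts [0, 2, 4, 6, 8, 10, 12, 14, 16, 18] c_ls) : Cent γ cu_S.u cu_S.Cl 10 :=
  have X := (C.rechain (cu_sound C.M) (by decide +kernel)).exact
  have A := Srch.auxB_sound (S := cu_S) C.M (K := ⊤) le_top rfl cu_aux
  have F := fun {tr : Tr} {R : ℕ} => Srch.found_of_run (S := cu_S) C.M C.base (by decide +kernel) X A (tr := tr) (R := R)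
  Cent.of_found (S := cu_S) C.M X rfl ((F cu_r0).or ((F cu_r1).or ((F cu_r2).or ((F cu_r3).or ((F cu_r4).or ((F cu_r5).or ((F cu_r6).or ((F cu_r7).or (F cu_r8))))))))) cu_cov

end Cfsg.Agent.Fi23C
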