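import Cfsg.Agent.Fi23C.OutUD0

set_option autoImplicit false
set_option Elab.async false
set_option maxRecDepth 100000
set_option linter.all false

namespace Cfsg.Agent.Fi23C
open Cfsg.Agent.CGT

theorem cu_l0_ok : (ptsOK 15 [] && (wordsIn [0, 2, 4, 6, 8, 10, 12, 14, 16, 18] cu_l0.S && cu_l0.ok 15 l0_ns m_ts [])) = true := by decide +kernel
theorem cu_l1_ok : (ptsOK 15 [0] && (wordsIn [0, 2, 4, 6, 8, 10, 12, 14, 16, 18] cu_l1.S && cu_l1.ok 15 l0_ns m_ts [0])) = true := by decide +kernel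
theorem cu_l2_ok : (ptsOK 15 [1, 0] && (wordsIn [0, 2, 4, 6, 8, 10, 12, 14, 16, 18] cu_l2.S && cu_l2.ok 15 l0_ns m_ts [1, 0])) = true := by decide +kernel
theorem cu_l3_ok : (ptsOK 15 [8402, 1, 0] && (wordsIn [0, 2, 4, 6, 8, 10, 12, 14, 16, 18] cu_l3.S && cu_l3.ok 15 l0_ns m_ts [8402, 1, 0])) = true := by decide +kernel
theorem cu_l4_ok : cu_l4.okT 15 m_ts [0, 2, 4, 6, 8, 10, 12, 14, 16, 18] [11320, 8402, 1, 0] (.cons [0] (.cons [0] .nil (.cons [2] (.cons [0] .nil (.cons [1] .nil .nil)) (.cons [3] (.cons [1] .nil (.cons [0] .nil .nil)) (.cons [4] (.cons [2] .nil (.cons [3] .nil .nil)) (.cons [5] (.cons [2] .nil (.cons [3] .nil .nil)) .nil))))) (.cons [1] (.cons [2] .nil (.cons [3] .nil .nil)) (.cons [2] (.cons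 [0] (.cons [3] .nil .nil) (.cons [1] (.cons [3] .nil .nil) (.cons [2] .nil .nil))) (.cons [3] (.cons [0] (.cons [2] .nil .nil) (.cons [1] (.cons [2] .nil .nil) (.cons [3] .nil .nil))) (.cons [4] .nil (.cons [5] .nil .nil)))))) = true := by decide +kernel
theorem cu_l5_ok : cu_l5.okT 15 m_ts [0, 2, 4, 6, 8, 10, 12, 14, 16, 18] [15541, 11320, 8402, 1, 0] (.cons [0] .nil (.cons [1] .nil .nil)) = true := by decide +kernel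
theorem cu_aux : cu_S.auxB [0, 2, 4, 6, 8, 10, 12, 14, 16, 18] cu_ls [] (0 :: cu_lk) = true := by decide +kernel
theorem cu_cov : Nat.beq (Nat.land cu_l0.O (Srch.cover l0_ns (invW cu_S.u') (Nat.lor cu_R0 (Nat.lor cu_R1 (Nat.lor cu_R2 (Nat.lor cu_R3 (Nat.lor cu_R4 (Nat.lor cu_R5 (Nat.lor cu_R6 (Nat.lor cu_R7 cu_R8)))))))) 10)) cu_l0.O = true := by decide +kernel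
theorem cu_r0 : cu_S.run (.cons [] (.cons [] (.cons [] (.cons [] (.cons [] (.cons [] (.leaf 2000) .nil) .nil) .nil) .nil) .nil) (.cons [12, 14] (.cons [12, 10, 6, 8, 0, 2, 4, 6, 14, 16, 14, 6, 8, 2, 4, 6, 14, 0, 2, 4, 6, 8, 10, 12] (.cons [12, 14, 8, 6, 10, 4, 0, 2] .nil .nil) .nil) (.cons [10, 12, 14] (.cons [6, 14, 16, 4, 6, 14, 8, 10, 4, 6, 8, 2, 4, 6, 14, 16, 14, 12, 10, 6, 8, 2, 4, 6, 14, 0, 2, 4, 6, 8, 10, 12] (.cons [8, 6, 12, 4, 6, 8, 4, 2, 10, 12, 8, 6, 4, 12, 14] .nil .nil) .nil) (.cons [8, 10, 12, 14] (.cons [8, 6, 14, 16, 10, 6, 2, 4, 6, 14, 8, 10, 12, 6, 8, 10, 4, 6, 8, 2, 4, 6, 14, 16, 14, 6, 8, 4, 6, 14, 0, 2, 4, 6, 8, 10, 12] (.cons [14, 0, 2, 12, 6, 4, 2, 10, 8, 6, 8, 10] (.cons [4, 3, 0, 5,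 1] .nil .nil) .nil) .nil) (.cons [6, 8, 10, 12, 14] (.cons [8, 2, 4, 6, 14, 16, 12, 10, 8, 6, 14, 10, 12, 8, 10, 4, 6, 8, 0, 2, 4, 6, 14, 16, 8, 10, 4, 6, 8, 2, 4, 6, 14, 0, 2, 4, 6, 8, 10, 12] (.cons [10, 8, 0, 2, 4, 6, 8, 4, 14, 12, 6, 4, 8, 10, 0, 2, 12, 14, 6, 4] .nil .nil) .nil) (.cons [4, 6, 8, 10, 12, 14] (.cons [16, 14, 12, 10, 4, 6, 8, 0, 2, 4, 6, 14, 16, 10, 6, 8, 2, 4, 6, 14, 0, 2, 4, 6, 8, 10, 12] (.cons [12, 14, 8, 12, 6, 8, 10] .nil .nil) .nil) (.cons [16, 6, 8, 10, 12, 14] (.cons [6, 8, 0, 2, 4, 6, 14, 16, 6, 8, 4, 6, 14, 10, 12, 6, 8, 10, 4, 6, 8, 2, 4, 6, 14, 16, 14, 8, 10, 4, 6, 8, 2, 4, 6, 14, 0, 2, 4, 6, 8, 10, 12] .nil .nil) (.cons [2, 4, 6, 8, 10, 12, 14] (.cons [8, 6, 14, 10, 12, 8, 10,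 4, 6, 8, 2, 4, 6, 14, 16, 14, 12, 10, 6, 8, 2, 4, 6, 14, 0, 2, 4, 6, 8, 10, 12] (.cons [2, 4, 12, 6, 8, 10, 4, 6, 12, 14, 8, 6, 4, 2] .nil .nil) .nil) (.cons [16, 4, 6, 8, 10, 12, 14] (.cons [14, 16, 8, 6, 14, 4, 6, 8, 2, 4, 6, 14, 0, 2, 4, 6, 8, 10, 12] (.cons [8, 6, 4, 2, 4, 6, 12, 14, 8, 6, 4, 12] .nil .nil) .nil) (.cons [18, 16, 6, 8, 10, 12, 14] (.cons [10, 8, 0, 2, 4, 6, 14, 16, 8, 4, 6, 14, 10, 12, 8, 10, 4, 6, 8, 2, 4, 6, 14, 16, 8, 10, 6, 8, 2, 4, 6, 14, 0, 2, 4, 6, 8, 10, 12] (.cons [10, 8, 6, 12, 14, 2, 6, 4, 8, 12, 6, 4, 0, 2, 4, 8, 10] (.cons [2, 2, 0, 5, 2] .nil .nil) .nil) .nil) (.cons [0, 2, 4, 6, 8, 10, 12, 14] (.cons [14, 16, 6, 14, 8, 10, 12, 6, 8, 10, 4, 6, 8, 2, 4, 6, 14, 16, 14, 10, 4,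 6, 8, 2, 4, 6, 14, 0, 2, 4, 6, 8, 10, 12] (.cons [12, 6, 2, 4, 12, 6, 14, 12, 6, 8, 10, 8, 6, 12, 14, 4, 6, 2] .nil .nil) .nil) (.cons [16, 2, 4, 6, 8, 10, 12, 14] (.cons [10, 12, 8, 10, 6, 8, 2, 4, 6, 14, 16, 12, 10, 4, 6, 8, 2, 4, 6, 14, 0, 2, 4, 6, 8, 10, 12] (.cons [14, 8, 6, 12, 8, 14, 0, 6, 4, 2, 12, 6, 8, 10] .nil .nil) .nil) (.cons [6, 16, 4, 6, 8, 10, 12, 14] (.cons [16, 8, 6, 14, 10, 12, 6, 8, 10, 4, 6, 8, 2, 4, 6, 14, 16, 14, 10, 6, 8, 2, 4, 6, 14, 0, 2, 4, 6, 8, 10, 12] .nil .nil) (.cons [18, 16, 4, 6, 8, 10, 12, 14] (.cons [14, 16, 8, 4, 6, 14, 12, 10, 8, 6, 4, 2, 0, 14, 12, 8, 10, 6, 8, 4, 6, 14, 16, 12, 8, 10, 6, 8, 4, 6, 14, 2, 4, 6, 8, 10, 12] (.cons [4, 6, 14, 12, 6, 8, 10, 4, 6, 12, 14] .nil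 .nil) .nil) (.cons [16, 0, 2, 4, 6, 8, 10, 12, 14] .nil (.cons [6, 16, 2, 4, 6, 8, 10, 12, 14] (.cons [4, 10, 2, 8, 4, 6, 14, 10, 12, 8, 10, 6, 8, 4, 6, 14, 16, 8, 2, 4, 6, 14, 0, 2, 4, 6, 8, 10, 12] (.cons [2, 8, 10, 6, 8, 12, 14, 4, 6] .nil .nil) .nil) (.cons [18, 16, 2, 4, 6, 8, 10, 12, 14] (.cons [16, 4, 6, 14, 8, 10, 12, 6, 8, 10, 4, 6, 8, 2, 4, 6, 14, 16, 14, 10, 4, 6, 8, 2, 4, 6, 14, 0, 2, 4, 6, 8, 10, 12] (.cons [12, 10, 8, 6, 4, 12, 6, 8, 10, 14, 12, 6, 4, 2, 12, 14] .nil .nil) .nil) (.cons [8, 6, 16, 4, 6, 8, 10, 12, 14] (.cons [8, 2, 4, 6, 14, 16, 10, 8, 6, 14, 10, 12, 6, 8, 10, 4, 6, 8, 2, 4, 6, 14, 16, 12, 10, 4, 6, 8, 2, 4, 6, 14, 0, 2, 4, 6, 8, 10, 12] (.cons [10, 12, 6, 8, 10, 6, 12, 14, 4, 2,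 8, 6] .nil .nil) .nil) (.cons [18, 6, 16, 4, 6, 8, 10, 12, 14] .nil (.cons [6, 16, 0, 2, 4, 6, 8, 10, 12, 14] .nil (.cons [18, 16, 0, 2, 4, 6, 8, 10, 12, 14] (.cons [14, 6, 4, 2, 0, 10, 14, 12, 8, 10, 6, 8, 4, 6, 14, 16, 12, 10, 6, 8, 4, 6, 14, 2, 4, 6, 8, 10, 12] .nil .nil) (.cons [4, 6, 16, 2, 4, 6, 8, 10, 12, 14] (.cons [14, 12, 10, 6, 8, 0, 2, 4, 6, 14, 16, 14, 6, 8, 4, 6, 14, 0, 2, 4, 6, 8, 10, 12] (.cons [4, 6, 12, 14, 10, 0, 2, 4, 0, 6, 8, 10, 12, 6, 4, 2] .nil .nil) .nil) (.cons [8, 6, 16, 2, 4, 6, 8, 10, 12, 14] (.cons [0, 2, 4, 6, 14, 16, 8, 10, 2, 0, 4, 6, 14, 8, 6, 4, 14, 10, 12, 8, 10, 6, 8, 2, 4, 6, 14, 16, 14, 10, 6, 8, 4, 6, 14, 0, 2, 4, 6, 8, 10, 12] .nil .nil) (.cons [18, 6, 16, 2, 4, 6, 8,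 10, 12, 14] (.cons [10, 8, 6, 14, 16, 6, 8, 4, 6, 14, 10, 12, 6, 8, 10, 4, 6, 8, 2, 4, 6, 14, 16, 14, 12, 10, 4, 6, 8, 2, 4, 6, 14, 0, 2, 4, 6, 8, 10, 12] (.cons [6, 0, 2, 4, 0, 6, 8, 10, 12, 6, 4, 2] .nil .nil) .nil) (.cons [10, 8, 6, 16, 4, 6, 8, 10, 12, 14] .nil (.cons [18, 8, 6, 16, 4, 6, 8, 10, 12, 14] (.cons [14, 16, 8, 6, 14, 10, 8, 6, 4, 2, 0, 10, 14, 12, 8, 10, 6, 8, 4, 6, 14, 16, 12, 10, 6, 8, 4, 6, 14, 2, 4, 6, 8, 10, 12] (.cons [4, 10, 2, 0, 4, 12, 6, 4, 2, 8, 6] .nil .nil) .nil) (.cons [16, 18, 6, 16, 4, 6, 8, 10, 12, 14] (.cons [4, 6, 14, 16, 8, 6, 14, 10, 16, 8, 6, 4, 2, 14, 10, 12, 8, 10, 6, 8, 4, 6, 14, 16, 10, 6, 8, 4, 6, 14, 0, 2, 4, 6, 8, 10, 12] (.cons [6, 2, 4, 6, 8, 0, 2, 4, 10, 12, 14,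 8] .nil .nil) .nil) (.cons [4, 6, 16, 0, 2, 4, 6, 8, 10, 12, 14] (.cons [12, 10, 4, 6, 8, 0, 2, 4, 6, 14, 16, 10, 4, 6, 8, 2, 4, 6, 14, 0, 2, 4, 6, 8, 10, 12] .nil .nil) (.cons [8, 6, 16, 0, 2, 4, 6, 8, 10, 12, 14] (.cons [16, 6, 14, 8, 10, 4, 6, 8, 0, 2, 4, 6, 14, 16, 8, 10, 6, 8, 2, 4, 6, 14, 0, 2, 4, 6, 8, 10, 12] .nil .nil) (.cons [18, 6, 16, 0, 2, 4, 6, 8, 10, 12, 14] (.cons [0, 2, 4, 6, 14, 16, 8, 0, 2, 4, 6, 14, 10, 12, 8, 10, 4, 6, 8, 2, 4, 6, 14, 16, 8, 10, 6, 8, 2, 4, 6, 14, 0, 2, 4, 6, 8, 10, 12] (.cons [8, 6, 12, 4, 6, 0, 2, 8, 10, 12, 6, 4, 12, 14] .nil .nil) .nil) (.cons [8, 4, 6, 16, 2, 4, 6, 8, 10, 12, 14] .nil (.cons [18, 4, 6, 16, 2, 4, 6, 8, 10, 12, 14] (.cons [16, 2, 4, 6, 14, 12, 8, 10,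 4, 6, 8, 0, 2, 4, 6, 14, 16, 10, 6, 8, 2, 4, 6, 14, 0, 2, 4, 6, 8, 10, 12] .nil .nil) (.cons [10, 8, 6, 16, 2, 4, 6, 8, 10, 12, 14] (.cons [10, 12, 8, 10, 6, 8, 4, 6, 14, 16, 6, 8, 4, 6, 14, 0, 2, 4, 6, 8, 10, 12] (.cons [10, 8, 6, 8, 4, 2, 10, 12, 14, 8] .nil .nil) .nil) (.cons [18, 8, 6, 16, 2, 4, 6, 8, 10, 12, 14] (.cons [16, 14, 4, 6, 8, 0, 2, 4, 6, 14, 16, 10, 6, 8, 4, 6, 14, 10, 12, 8, 10, 4, 6, 8, 2, 4, 6, 14, 16, 14, 8, 10, 4, 6, 8, 2, 4, 6, 14, 0, 2, 4, 6, 8, 10, 12] (.cons [6, 12, 8, 14, 2, 0, 4, 12, 6, 4, 2, 8, 6] .nil .nil) .nil) (.cons [16, 18, 6, 16, 2, 4, 6, 8, 10, 12, 14] (.cons [10, 8, 6, 14, 16, 4, 6, 8, 2, 4, 6, 14, 0, 2, 4, 6, 8, 10, 12] (.cons [14, 2, 4, 0, 2, 4, 8, 6, 10, 4] (.cons [1,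 1, 4, 2, 0] .nil .nil) .nil) .nil) (.cons [12, 10, 8, 6, 16, 4, 6, 8, 10, 12, 14] (.cons [14, 4, 6, 8, 0, 2, 4, 6, 14, 16, 10, 6, 8, 4, 6, 14, 10, 12, 8, 10, 4, 6, 8, 2, 4, 6, 14, 16, 14, 8, 10, 4, 6, 8, 2, 4, 6, 14, 0, 2, 4, 6, 8, 10, 12] .nil .nil) (.cons [18, 10, 8, 6, 16, 4, 6, 8, 10, 12, 14] (.cons [10, 8, 4, 6, 14, 12, 6, 8, 10, 4, 6, 8, 2, 4, 6, 14, 16, 10, 6, 8, 2, 4, 6, 14, 0, 2, 4, 6, 8, 10, 12] (.cons [0, 2, 12, 6, 4, 14, 12] .nil .nil) .nil) (.cons [16, 18, 8, 6, 16, 4, 6, 8, 10, 12, 14] (.cons [16, 14, 6, 8, 0, 2, 4, 6, 14, 16, 12, 8, 10, 6, 8, 2, 4, 6, 14, 0, 2, 4, 6, 8, 10, 12] (.cons [0, 2, 6, 8, 4, 6, 12, 14, 8, 6, 4, 12] .nil .nil) .nil) (.cons [2, 4, 6, 16, 0, 2, 4, 6, 8, 10, 12, 14] (.cons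 [6, 8, 14, 6, 4, 0, 16, 2, 4, 6, 14, 10, 12, 8, 10, 6, 8, 4, 6, 14, 16, 10, 8, 2, 4, 6, 14, 0, 2, 4, 6, 8, 10, 12] .nil .nil) (.cons [8, 4, 6, 16, 0, 2, 4, 6, 8, 10, 12, 14] (.cons [14, 16, 10, 14, 6, 8, 2, 4, 6, 14, 12, 8, 10, 6, 8, 0, 2, 4, 6, 14, 16, 12, 10, 8, 2, 4, 6, 14, 0, 2, 4, 6, 8, 10, 12] .nil .nil) (.cons [18, 4, 6, 16, 0, 2, 4, 6, 8, 10, 12, 14] .nil (.cons [10, 8, 6, 16, 0, 2, 4, 6, 8, 10, 12, 14] (.cons [0, 2, 4, 6, 14, 16, 8, 10, 6, 8, 2, 4, 6, 14, 10, 12, 8, 10, 6, 8, 0, 2, 4, 6, 14, 16, 12, 10, 8, 2, 4, 6, 14, 0, 2, 4, 6, 8, 10, 12] .nil .nil) (.cons [18, 8, 6, 16, 0, 2, 4, 6, 8, 10, 12, 14] (.cons [8, 6, 14, 10, 12, 6, 8, 10, 4, 6, 8, 2, 4, 6, 14, 16, 14, 12, 8, 10, 4, 6, 8, 2, 4, 6, 14, 0,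 2, 4, 6, 8, 10, 12] (.cons [6, 8, 2, 4, 6, 12, 14, 8, 6, 0, 2, 8, 10, 4, 6, 0, 2] .nil .nil) .nil) (.cons [16, 18, 6, 16, 0, 2, 4, 6, 8, 10, 12, 14] (.cons [14, 8, 10, 12, 6, 8, 10, 4, 6, 8, 2, 4, 6, 14, 16, 14, 10, 6, 8, 4, 6, 14, 0, 2, 4, 6, 8, 10, 12] (.cons [10, 8, 6, 12, 14, 4, 0, 2, 4, 6, 8, 12, 6, 4, 2, 8, 10] .nil .nil) .nil) (.cons [6, 8, 4, 6, 16, 2, 4, 6, 8, 10, 12, 14] (.cons [6, 14, 8, 10, 6, 8, 4, 6, 14, 16, 10, 6, 8, 2, 4, 6, 14, 0, 2, 4, 6, 8, 10, 12] (.cons [14, 12, 10, 6, 4, 0, 2, 12] .nil .nil) .nil) (.cons [10, 8, 4, 6, 16, 2, 4, 6, 8, 10, 12, 14] (.cons [14, 16, 6, 14, 8, 10, 12, 6, 8, 10, 4, 6, 8, 2, 4, 6, 14, 16, 10, 4, 6, 8, 2, 4, 6, 14, 0, 2, 4, 6, 8, 10, 12] (.cons [14, 4, 0, 2, 4,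 8, 6, 10, 4] .nil .nil) .nil) (.cons [18, 8, 4, 6, 16, 2, 4, 6, 8, 10, 12, 14] (.cons [16, 8, 4, 6, 14, 10, 12, 8, 10, 4, 6, 8, 2, 4, 6, 14, 16, 10, 6, 8, 2, 4, 6, 14, 0, 2, 4, 6, 8, 10, 12] (.cons [0, 2, 4, 6, 8, 10, 0, 12, 6, 4, 2, 4] .nil .nil) .nil) (.cons [16, 18, 4, 6, 16, 2, 4, 6, 8, 10, 12, 14] (.cons [16, 6, 14, 10, 8, 6, 12, 10, 8, 4, 6, 14, 16, 8, 6, 14, 10, 12, 8, 10, 6, 8, 2, 4, 6, 14, 0, 2, 4, 6, 8, 10, 12] .nil .nil) (.cons [12, 10, 8, 6, 16, 2, 4, 6, 8, 10, 12, 14] (.cons [4, 6, 14, 16, 10, 8, 4, 6, 14, 12, 8, 10, 4, 6, 8, 2, 4, 6, 14, 16, 10, 4, 6, 8, 2, 4, 6, 14, 0, 2, 4, 6, 8, 10, 12] (.cons [8, 6, 12, 8, 10, 0, 8, 6, 4, 2, 4, 12, 14] .nil .nil) .nil) (.cons [18, 10, 8, 6, 16, 2, 4, 6, 8,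 10, 12, 14] (.cons [14, 16, 8, 2, 4, 6, 14, 8, 10, 4, 6, 8, 2, 4, 6, 14, 16, 10, 6, 8, 2, 4, 6, 14, 0, 2, 4, 6, 8, 10, 12] (.cons [2, 4, 6, 12, 14, 0, 2, 12, 6, 8, 10] .nil .nil) .nil) (.cons [16, 18, 8, 6, 16, 2, 4, 6, 8, 10, 12, 14] (.cons [2, 8, 4, 6, 14, 10, 12, 8, 10, 6, 8, 4, 6, 14, 16, 6, 14, 12, 10, 4, 6, 8, 2, 4, 6, 14, 0, 2, 4, 6, 8, 10, 12] (.cons [0, 2, 4, 6, 12, 14, 4, 2, 4, 6, 8, 12, 6, 4, 0, 2, 8, 10] .nil .nil) .nil) (.cons [14, 12, 10, 8, 6, 16, 4, 6, 8, 10, 12, 14] (.cons [0, 2, 0, 14, 6, 14, 8, 10, 6, 8, 4, 6, 14, 16, 12, 8, 10, 6, 8, 4, 6, 14, 2, 4, 6, 8, 10, 12] (.cons [4, 6, 12, 14, 10, 8, 6, 4, 2, 4, 8, 10] .nil .nil) .nil) (.cons [18, 12, 10, 8, 6, 16, 4, 6, 8, 10, 12, 14] (.cons [2,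 4, 6, 8, 0, 2, 4, 6, 14, 16, 6, 8, 2, 4, 6, 14, 10, 12, 6, 8, 10, 4, 6, 8, 2, 4, 6, 14, 16, 8, 10, 4, 6, 8, 2, 4, 6, 14, 0, 2, 4, 6, 8, 10, 12] .nil .nil) (.cons [16, 18, 10, 8, 6, 16, 4, 6, 8, 10, 12, 14] (.cons [4, 6, 14, 16, 8, 6, 4, 2, 0, 10, 12, 6, 8, 10, 4, 6, 8, 2, 4, 6, 14, 16, 6, 8, 4, 6, 14, 2, 4, 6, 8, 10, 12] (.cons [6, 8, 4, 6, 12, 14, 10, 8, 12, 6, 8, 4, 2, 4, 10, 8] .nil .nil) .nil) (.cons [6, 16, 18, 8, 6, 16, 4, 6, 8, 10, 12, 14] (.cons [14, 12, 4, 6, 8, 10, 16, 14, 8, 6, 14, 16, 4, 6, 14, 8, 10, 12, 6, 8, 10, 4, 6, 8, 2, 4, 6, 14, 16, 6, 8, 4, 6, 14, 0, 2, 4, 6, 8, 10, 12] (.cons [6, 8, 10, 12] .nil .nil) .nil) (.cons [8, 2, 4, 6, 16, 0, 2, 4, 6, 8, 10, 12, 14] (.cons [10, 8, 4, 6, 14, 16,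 14, 6, 8, 2, 4, 6, 14, 10, 12, 8, 10, 4, 6, 8, 2, 4, 6, 14, 16, 12, 10, 4, 6, 8, 2, 4, 6, 14, 0, 2, 4, 6, 8, 10, 12] (.cons [0, 2, 4, 6, 8, 6, 12, 4, 10, 14, 8, 12] .nil .nil) .nil) (.cons [18, 2, 4, 6, 16, 0, 2, 4, 6, 8, 10, 12, 14] (.cons [14, 16, 10, 8, 6, 14, 12, 8, 10, 4, 6, 8, 2, 4, 6, 14, 16, 12, 10, 8, 2, 4, 6, 14, 0, 2, 4, 6, 8, 10, 12] (.cons [12, 8, 2, 4, 6, 4, 12, 14, 6, 0, 2, 8, 10] .nil .nil) .nil) (.cons [6, 8, 4, 6, 16, 0, 2, 4, 6, 8, 10, 12, 14] .nil (.cons [10, 8, 4, 6, 16, 0, 2, 4, 6, 8, 10, 12, 14] (.cons [16, 6, 4, 8, 10, 6, 0, 2, 4, 6, 14, 8, 10, 12, 6, 8, 10, 4, 6, 8, 2, 4, 6, 14, 16, 14, 6, 8, 4, 6, 14, 0, 2, 4, 6, 8, 10, 12] (.cons [2, 6, 12, 4, 6, 4, 8, 10, 6, 4, 12, 14] (.cons [3,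 1, 1, 3] .nil .nil) .nil) .nil) (.cons [18, 8, 4, 6, 16, 0, 2, 4, 6, 8, 10, 12, 14] (.cons [12, 10, 8, 6, 14, 16, 6, 4, 8, 6, 14, 10, 12, 8, 10, 4, 6, 8, 0, 2, 4, 6, 14, 16, 10, 8, 2, 4, 6, 14, 0, 2, 4, 6, 8, 10, 12] (.cons [6, 8, 10, 2, 0, 4, 8, 2, 6, 8] .nil .nil) .nil) (.cons [16, 18, 4, 6, 16, 0, 2, 4, 6, 8, 10, 12, 14] (.cons [16, 6, 14, 6, 8, 10, 4, 6, 8, 2, 4, 6, 14, 16, 12, 10, 6, 8, 2, 4, 6, 14, 0, 2, 4, 6, 8, 10, 12] (.cons [12, 4, 6, 12, 14, 8, 2, 4, 6, 0, 2, 4, 6, 8, 10] .nil .nil) .nil) (.cons [12, 10, 8, 6, 16, 0, 2, 4, 6, 8, 10, 12, 14] (.cons [14, 12, 8, 10, 6, 8, 4, 6, 14, 16, 12, 10, 8, 4, 6, 14, 0, 2, 4, 6, 8, 10, 12] (.cons [6, 2, 4, 12, 6, 14, 12, 6, 8, 10, 8, 6, 12, 14, 4, 6, 2] .nil .nil)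 .nil) (.cons [18, 10, 8, 6, 16, 0, 2, 4, 6, 8, 10, 12, 14] (.cons [4, 8, 10, 6, 8, 14, 6, 4, 2, 16, 6, 8, 4, 6, 14, 10, 12, 8, 10, 6, 8, 4, 6, 14, 16, 14, 10, 6, 8, 2, 4, 6, 14, 0, 2, 4, 6, 8, 10, 12] (.cons [4, 6, 8, 0, 2, 4, 6, 12, 14, 10, 8, 6, 4, 0, 2, 8, 6, 10, 4] (.cons [1, 1, 3, 5] .nil .nil) .nil) .nil) (.cons [16, 18, 8, 6, 16, 0, 2, 4, 6, 8, 10, 12, 14] (.cons [8, 6, 14, 16, 10, 6, 8, 2, 4, 6, 14, 10, 12, 8, 10, 4, 6, 8, 2, 4, 6, 14, 16, 8, 10, 6, 8, 2, 4, 6, 14, 0, 2, 4, 6, 8, 10, 12] (.cons [4, 6, 8, 2, 4, 6, 12, 10, 8, 6, 4, 2, 8, 10, 12, 14] .nil .nil) .nil) (.cons [10, 6, 8, 4, 6, 16, 2, 4, 6, 8, 10, 12, 14] (.cons [14, 16, 8, 4, 6, 14, 8, 10, 4, 6, 8, 2, 4, 6, 14, 16, 10, 6, 8, 2, 4, 6, 14, 0,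 2, 4, 6, 8, 10, 12] (.cons [2, 14, 12, 14, 6, 8, 4, 6, 12, 14, 10, 8, 6, 4, 2, 8, 10] (.cons [2, 1, 1, 4, 3] .nil .nil) .nil) .nil) (.cons [16, 6, 8, 4, 6, 16, 2, 4, 6, 8, 10, 12, 14] (.cons [14, 10, 12, 8, 10, 6, 8, 4, 6, 14, 16, 12, 10, 4, 6, 8, 2, 4, 6, 14, 0, 2, 4, 6, 8, 10, 12] (.cons [14, 8, 6, 4, 2, 10, 8] .nil .nil) .nil) (.cons [18, 6, 8, 4, 6, 16, 2, 4, 6, 8, 10, 12, 14] (.cons [0, 2, 4, 6, 14, 16, 10, 8, 6, 14, 12, 8, 10, 4, 6, 8, 2, 4, 6, 14, 16, 10, 4, 6, 8, 2, 4, 6, 14, 0, 2, 4, 6, 8, 10, 12] (.cons [8, 0, 2, 4, 6, 12, 14, 4, 6, 8, 12, 6, 8, 10, 4, 6, 0, 2] .nil .nil) .nil) (.cons [12, 10, 8, 4, 6, 16, 2, 4, 6, 8, 10, 12, 14] (.cons [16, 14, 12, 10, 6, 8, 0, 2, 4, 6, 14, 16, 12, 8, 10, 4, 6, 8,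 2, 4, 6, 14, 0, 2, 4, 6, 8, 10, 12] (.cons [12, 10, 8, 14, 4, 12, 6, 4, 2, 8, 6] .nil .nil) .nil) (.cons [18, 10, 8, 4, 6, 16, 2, 4, 6, 8, 10, 12, 14] (.cons [4, 14, 2, 0, 8, 10, 12, 6, 8, 10, 4, 6, 8, 2, 4, 6, 14, 16, 6, 8, 4, 6, 14, 2, 4, 6, 8, 10, 12] .nil .nil) (.cons [16, 18, 8, 4, 6, 16, 2, 4, 6, 8, 10, 12, 14] (.cons [14, 10, 6, 8, 4, 6, 14, 16, 14, 8, 10, 6, 8, 2, 4, 6, 14, 0, 2, 4, 6, 8, 10, 12] (.cons [4, 6, 8, 2, 4, 6, 12, 14, 6, 2, 8, 12, 6, 8, 10, 4, 6, 2] .nil .nil) .nil) (.cons [6, 16, 18, 4, 6, 16, 2, 4, 6, 8, 10, 12, 14] .nil (.cons [14, 12, 10, 8, 6, 16, 2, 4, 6, 8, 10, 12, 14] (.cons [16, 10, 8, 6, 14, 10, 4, 6, 8, 2, 4, 6, 14, 16, 12, 10, 6, 8, 2, 4, 6, 14, 0, 2, 4, 6, 8, 10, 12] (.cons [2,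 10, 0, 6, 4, 2, 4, 12, 14, 8] .nil .nil) .nil) (.cons [18, 12, 10, 8, 6, 16, 2, 4, 6, 8, 10, 12, 14] (.cons [16, 8, 6, 14, 12, 6, 8, 10, 4, 6, 8, 0, 2, 4, 6, 14, 16, 14, 12, 10, 4, 6, 8, 2, 4, 6, 14, 0, 2, 4, 6, 8, 10, 12] (.cons [6, 8, 4, 12, 6, 8, 10] .nil .nil) .nil) (.cons [16, 18, 10, 8, 6, 16, 2, 4, 6, 8, 10, 12, 14] .nil (.cons [6, 16, 18, 8, 6, 16, 2, 4, 6, 8, 10, 12, 14] (.cons [2, 4, 6, 14, 16, 8, 6, 14, 8, 10, 4, 6, 8, 2, 4, 6, 14, 16, 8, 10, 4, 6, 8, 2, 4, 6, 14, 0, 2, 4, 6, 8, 10, 12] (.cons [10, 4, 0, 2, 8, 6, 4, 12, 6, 8, 10, 14, 12, 8, 6, 12, 14, 4, 6, 2] (.cons [3, 0, 2, 2, 4] .nil .nil) .nil) .nil) (.cons [18, 14, 12, 10, 8, 6, 16, 4, 6, 8, 10, 12, 14] (.cons [16, 4, 6, 14, 8, 10, 6, 8, 4,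 6, 14, 16, 14, 12, 10, 4, 6, 8, 2, 4, 6, 14, 0, 2, 4, 6, 8, 10, 12] .nil .nil) (.cons [16, 18, 12, 10, 8, 6, 16, 4, 6, 8, 10, 12, 14] (.cons [8, 4, 6, 14, 12, 6, 8, 10, 4, 6, 8, 0, 2, 4, 6, 14, 16, 12, 10, 8, 4, 6, 14, 0, 2, 4, 6, 8, 10, 12] (.cons [14, 4, 8, 2, 6, 8] .nil .nil) .nil) (.cons [6, 16, 18, 10, 8, 6, 16, 4, 6, 8, 10, 12, 14] (.cons [4, 6, 8, 2, 4, 6, 14, 16, 10, 8, 6, 14, 2, 6, 8, 4, 6, 14, 10, 12, 8, 10, 6, 8, 2, 4, 6, 14, 16, 14, 6, 8, 2, 4, 6, 14, 0, 2, 4, 6, 8, 10, 12] (.cons [14, 12, 6, 14, 8, 10, 6, 4, 0, 2, 4, 12] .nil .nil) .nil) (.cons [4, 6, 16, 18, 8, 6, 16, 4, 6, 8, 10, 12, 14] (.cons [0, 2, 4, 6, 14, 10, 12, 8, 10, 6, 8, 4, 6, 14, 16, 14, 10, 6, 8, 2, 4, 6, 14, 0, 2, 4, 6, 8, 10, 12]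 (.cons [8, 2, 4, 0, 2, 4, 10, 8] .nil .nil) .nil) (.cons [6, 8, 2, 4, 6, 16, 0, 2, 4, 6, 8, 10, 12, 14] (.cons [6, 14, 16, 10, 8, 4, 6, 14, 12, 8, 10, 4, 6, 8, 2, 4, 6, 14, 16, 14, 10, 6, 8, 2, 4, 6, 14, 0, 2, 4, 6, 8, 10, 12] (.cons [12, 8, 0, 6, 4, 2, 12, 14, 6, 8, 4, 6, 10] .nil .nil) .nil) (.cons [10, 8, 2, 4, 6, 16, 0, 2, 4, 6, 8, 10, 12, 14] (.cons [10, 8, 4, 6, 14, 16, 12, 8, 10, 14, 6, 8, 4, 6, 14, 10, 12, 8, 10, 6, 8, 0, 2, 4, 6, 14, 16, 12, 10, 8, 2, 4, 6, 14, 0, 2, 4, 6, 8, 10, 12] (.cons [8, 6, 12, 14, 4, 6, 8, 10, 12, 6, 4, 2] .nil .nil) .nil) (.cons [18, 8, 2, 4, 6, 16, 0, 2, 4, 6, 8, 10, 12, 14] .nil (.cons [16, 18, 2, 4, 6, 16, 0, 2, 4, 6, 8, 10, 12, 14] (.cons [6, 4, 2, 6, 8, 4, 6, 14, 10, 12,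 8, 10, 6, 8, 4, 6, 14, 16, 14, 6, 8, 2, 4, 6, 14, 0, 2, 4, 6, 8, 10, 12] .nil .nil) (.cons [16, 6, 8, 4, 6, 16, 0, 2, 4, 6, 8, 10, 12, 14] (.cons [2, 4, 6, 14, 16, 8, 10, 8, 4, 6, 14, 12, 8, 10, 4, 6, 8, 2, 4, 6, 14, 16, 14, 12, 10, 4, 6, 8, 2, 4, 6, 14, 0, 2, 4, 6, 8, 10, 12] (.cons [12, 6, 2, 8, 10, 12, 14] .nil .nil) .nil) (.cons [18, 6, 8, 4, 6, 16, 0, 2, 4, 6, 8, 10, 12, 14] (.cons [10, 8, 0, 2, 4, 6, 14, 12, 8, 10, 6, 8, 0, 2, 4, 6, 14, 16, 12, 10, 8, 2, 4, 6, 14, 0, 2, 4, 6, 8, 10, 12] (.cons [12, 8, 6, 10, 4, 2, 4, 6, 4, 12, 14] .nil .nil) .nil) (.cons [12, 10, 8, 4, 6, 16, 0, 2, 4, 6, 8, 10, 12, 14] (.cons [16, 4, 6, 14, 8, 10, 6, 8, 0, 2, 4, 6, 14, 16, 10, 8, 2, 4, 6, 14, 0, 2, 4, 6, 8, 10, 12] (.cons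 [6, 8, 4, 6, 12, 6, 2, 4, 8, 10, 0, 2, 4, 6, 12, 14] .nil .nil) .nil) (.cons [18, 10, 8, 4, 6, 16, 0, 2, 4, 6, 8, 10, 12, 14] (.cons [10, 12, 8, 10, 2, 4, 6, 8, 0, 2, 4, 6, 14, 16, 14, 10, 6, 8, 2, 4, 6, 14, 0, 2, 4, 6, 8, 10, 12] (.cons [0, 2, 14, 6, 4, 8, 10, 12, 6, 4] .nil .nil) .nil) (.cons [16, 18, 8, 4, 6, 16, 0, 2, 4, 6, 8, 10, 12, 14] (.cons [16, 10, 8, 6, 14, 10, 12, 6, 8, 10, 4, 6, 8, 2, 4, 6, 14, 16, 12, 10, 4, 6, 8, 2, 4, 6, 14, 0, 2, 4, 6, 8, 10, 12] (.cons [4, 2, 14, 12, 6, 4] .nil .nil) .nil) (.cons [6, 16, 18, 4, 6, 16, 0, 2, 4, 6, 8, 10, 12, 14] (.cons [10, 8, 4, 6, 14, 16, 14, 6, 8, 4, 6, 14, 0, 2, 4, 6, 8, 10, 12] .nil .nil) (.cons [14, 12, 10, 8, 6, 16, 0, 2, 4, 6, 8, 10, 12, 14] (.cons [14,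 16, 10, 8, 4, 6, 14, 8, 10, 4, 6, 8, 2, 4, 6, 14, 16, 12, 10, 8, 2, 4, 6, 14, 0, 2, 4, 6, 8, 10, 12] (.cons [4, 6, 12, 14, 2, 4, 6, 0, 2, 4, 8, 10] .nil .nil) .nil) (.cons [18, 12, 10, 8, 6, 16, 0, 2, 4, 6, 8, 10, 12, 14] (.cons [16, 6, 14, 10, 8, 0, 6, 4, 2, 0, 14, 12, 8, 10, 6, 8, 4, 6, 14, 16, 12, 8, 10, 6, 8, 4, 6, 14, 2, 4, 6, 8, 10, 12] (.cons [4, 12, 6, 8, 4, 0, 2, 4, 10, 8] .nil .nil) .nil) (.cons [16, 18, 10, 8, 6, 16, 0, 2, 4, 6, 8, 10, 12, 14] (.cons [10, 8, 4, 6, 14, 16, 8, 10, 6, 8, 4, 6, 14, 0, 2, 4, 6, 8, 10, 12] (.cons [8, 6, 12, 14, 4, 0, 2, 4, 8, 6] .nil .nil) .nil) (.cons [6, 16, 18, 8, 6, 16, 0, 2, 4, 6, 8, 10, 12, 14] (.cons [0, 2, 4, 6, 14, 8, 10, 6, 8, 2, 4, 6, 14, 16, 6, 8, 2, 4, 6, 14,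 0, 2, 4, 6, 8, 10, 12] (.cons [8, 4, 12, 14, 6, 8, 4, 6, 10] .nil .nil) .nil) (.cons [8, 10, 6, 8, 4, 6, 16, 2, 4, 6, 8, 10, 12, 14] (.cons [16, 12, 10, 8, 6, 14, 10, 4, 6, 8, 0, 2, 4, 6, 14, 16, 8, 10, 4, 6, 8, 2, 4, 6, 14, 0, 2, 4, 6, 8, 10, 12] .nil .nil) (.cons [12, 10, 6, 8, 4, 6, 16, 2, 4, 6, 8, 10, 12, 14] (.cons [12, 10, 8, 6, 14, 10, 4, 6, 8, 2, 4, 6, 14, 16, 14, 10, 4, 6, 8, 2, 4, 6, 14, 0, 2, 4, 6, 8, 10, 12] (.cons [2, 4, 6, 12, 14, 12, 2, 10, 8, 4, 6, 4, 2, 8, 10] .nil .nil) .nil) (.cons [16, 10, 6, 8, 4, 6, 16, 2, 4, 6, 8, 10, 12, 14] (.cons [12, 10, 2, 4, 6, 8, 0, 2, 4, 6, 14, 16, 10, 8, 4, 6, 14, 8, 10, 12, 6, 8, 10, 4, 6, 8, 2, 4, 6, 14, 16, 14, 8, 10, 4, 6, 8, 2, 4, 6, 14, 0, 2, 4, 6, 8, 10,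 12] .nil .nil) (.cons [18, 10, 6, 8, 4, 6, 16, 2, 4, 6, 8, 10, 12, 14] (.cons [8, 6, 14, 16, 4, 6, 14, 10, 12, 6, 8, 10, 4, 6, 8, 0, 2, 4, 6, 14, 16, 12, 10, 6, 8, 2, 4, 6, 14, 0, 2, 4, 6, 8, 10, 12] (.cons [12, 14, 2, 4, 6, 0, 2, 4, 6, 8, 10] .nil .nil) .nil) (.cons [18, 16, 6, 8, 4, 6, 16, 2, 4, 6, 8, 10, 12, 14] (.cons [6, 8, 2, 4, 6, 14, 16, 12, 10, 6, 8, 4, 6, 14, 10, 12, 8, 10, 4, 6, 8, 2, 4, 6, 14, 16, 8, 10, 6, 8, 2, 4, 6, 14, 0, 2, 4, 6, 8, 10, 12] (.cons [4, 12, 6, 8, 12, 10, 8, 6, 4, 2, 12, 6, 4] .nil .nil) .nil) (.cons [16, 18, 6, 8, 4, 6, 16, 2, 4, 6, 8, 10, 12, 14] .nil (.cons [14, 12, 10, 8, 4, 6, 16, 2, 4, 6, 8, 10, 12, 14] (.cons [6, 14, 10, 4, 6, 8, 0, 2, 4, 6, 14, 16, 12, 8, 10, 6, 8, 2, 4,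 6, 14, 0, 2, 4, 6, 8, 10, 12] (.cons [14, 8, 4, 6, 8, 10, 2, 4, 6, 0, 2, 4] .nil .nil) .nil) (.cons [18, 12, 10, 8, 4, 6, 16, 2, 4, 6, 8, 10, 12, 14] .nil (.cons [16, 18, 10, 8, 4, 6, 16, 2, 4, 6, 8, 10, 12, 14] (.cons [14, 16, 6, 14, 6, 8, 10, 4, 6, 8, 0, 2, 4, 6, 14, 16, 14, 12, 10, 4, 6, 8, 2, 4, 6, 14, 0, 2, 4, 6, 8, 10, 12] (.cons [10, 0, 2, 8, 6, 4, 12, 6, 8, 10, 14, 12, 8, 6, 12, 14, 4, 6, 2] .nil .nil) .nil) (.cons [6, 16, 18, 8, 4, 6, 16, 2, 4, 6, 8, 10, 12, 14] (.cons [10, 8, 4, 6, 14, 16, 6, 8, 10, 14, 6, 2, 4, 6, 14, 8, 10, 12, 6, 8, 10, 4, 6, 8, 0, 2, 4, 6, 14, 16, 6, 8, 4, 6, 14, 0, 2, 4, 6, 8, 10, 12] (.cons [2, 4, 10, 12, 14, 12, 6, 4] .nil .nil) .nil) (.cons [8, 6, 16, 18, 4, 6, 16, 2, 4, 6,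 8, 10, 12, 14] .nil (.cons [18, 14, 12, 10, 8, 6, 16, 2, 4, 6, 8, 10, 12, 14] .nil (.cons [16, 18, 12, 10, 8, 6, 16, 2, 4, 6, 8, 10, 12, 14] (.cons [2, 4, 6, 14, 16, 8, 6, 14, 12, 10, 4, 6, 8, 2, 4, 6, 14, 16, 14, 8, 10, 4, 6, 8, 2, 4, 6, 14, 0, 2, 4, 6, 8, 10, 12] (.cons [6, 4, 2, 14, 12, 6, 8, 10, 4, 6, 12, 14] .nil .nil) .nil) (.cons [6, 16, 18, 10, 8, 6, 16, 2, 4, 6, 8, 10, 12, 14] (.cons [10, 4, 6, 8, 14, 6, 4, 6, 14, 16, 12, 10, 8, 6, 14, 10, 12, 8, 10, 4, 6, 8, 2, 4, 6, 14, 16, 10, 8, 2, 4, 6, 14, 0, 2, 4, 6, 8, 10, 12] (.cons [12, 14, 4, 6, 12, 6, 14, 8, 10, 6, 4, 2, 12, 6, 4] (.cons [2, 1, 1, 1, 5, 3] .nil .nil) .nil) .nil) (.cons [4, 6, 16, 18, 8, 6, 16, 2, 4, 6, 8, 10, 12, 14] (.cons [12, 10, 6, 8,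 4, 6, 14, 2, 4, 6, 8, 10, 12] (.cons [12, 14, 8, 6, 4, 2] .nil .nil) .nil) (.cons [16, 18, 14, 12, 10, 8, 6, 16, 4, 6, 8, 10, 12, 14] (.cons [0, 2, 4, 6, 14, 16, 12, 10, 8, 6, 14, 0, 2, 4, 6, 8, 10, 12] (.cons [14, 6, 4, 2, 10, 8, 12, 6, 8, 10] .nil .nil) .nil) (.cons [6, 16, 18, 12, 10, 8, 6, 16, 4, 6, 8, 10, 12, 14] (.cons [10, 6, 8, 4, 6, 14, 16, 10, 8, 2, 4, 6, 14, 0, 2, 4, 6, 8, 10, 12] (.cons [10, 8, 4, 6, 4, 2, 8, 6, 10, 4] .nil .nil) .nil) (.cons [4, 6, 16, 18, 10, 8, 6, 16, 4, 6, 8, 10, 12, 14] .nil (.cons [8, 6, 16, 18, 10, 8, 6, 16, 4, 6, 8, 10, 12, 14] (.cons [10, 8, 6, 14, 12, 10, 4, 6, 8, 0, 2, 4, 6, 14, 16, 8, 10, 4, 6, 8, 2, 4, 6, 14, 0, 2, 4, 6, 8, 10, 12] (.cons [6, 2, 4, 6, 0, 2, 8, 10] .nil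 .nil) .nil) (.cons [2, 4, 6, 16, 18, 8, 6, 16, 4, 6, 8, 10, 12, 14] (.cons [6, 14, 8, 6, 10, 8, 2, 14, 16, 4, 6, 14, 12, 8, 10, 4, 6, 8, 2, 4, 6, 14, 16, 12, 10, 8, 2, 4, 6, 14, 0, 2, 4, 6, 8, 10, 12] (.cons [14, 8, 10, 2, 6, 4, 2, 12, 6, 4, 0, 2, 8, 10] .nil .nil) .nil) (.cons [4, 6, 8, 2, 4, 6, 16, 0, 2, 4, 6, 8, 10, 12, 14] (.cons [14, 16, 6, 14, 12, 10, 4, 6, 8, 0, 2, 4, 6, 14, 16, 8, 10, 4, 6, 8, 2, 4, 6, 14, 0, 2, 4, 6, 8, 10, 12] .nil .nil) (.cons [10, 6, 8, 2, 4, 6, 16, 0, 2, 4, 6, 8, 10, 12, 14] (.cons [16, 10, 8, 6, 14, 12, 10, 4, 6, 8, 2, 4, 6, 14, 16, 14, 10, 4, 6, 8, 2, 4, 6, 14, 0, 2, 4, 6, 8, 10, 12] (.cons [2, 4, 6, 12, 8, 6, 4, 0, 2, 12, 14, 4, 8, 6, 10, 4] .nil .nil) .nil) (.cons [16, 6, 8,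 2, 4, 6, 16, 0, 2, 4, 6, 8, 10, 12, 14] (.cons [16, 8, 10, 14, 6, 8, 4, 6, 14, 10, 12, 8, 10, 6, 8, 0, 2, 4, 6, 14, 16, 12, 10, 8, 2, 4, 6, 14, 0, 2, 4, 6, 8, 10, 12] (.cons [4, 0, 2, 4, 10, 8, 12] .nil .nil) .nil) (.cons [18, 6, 8, 2, 4, 6, 16, 0, 2, 4, 6, 8, 10, 12, 14] (.cons [14, 16, 2, 4, 6, 14, 8, 10, 4, 6, 8, 0, 2, 4, 6, 14, 16, 8, 10, 6, 8, 2, 4, 6, 14, 0, 2, 4, 6, 8, 10, 12] (.cons [0, 2, 12, 6, 10, 8, 14, 4, 6, 12, 14, 8, 6, 4, 12] .nil .nil) .nil) (.cons [12, 10, 8, 2, 4, 6, 16, 0, 2, 4, 6, 8, 10, 12, 14] (.cons [6, 8, 10, 6, 14, 8, 6, 14, 16, 4, 6, 14, 8, 10, 12, 6, 8, 10, 4, 6, 8, 2, 4, 6, 14, 16, 6, 8, 4, 6, 14, 0, 2, 4, 6, 8, 10, 12] .nil .nil) (.cons [18, 10, 8, 2, 4, 6, 16, 0, 2, 4, 6, 8, 10,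 12, 14] (.cons [16, 8, 10, 6, 8, 14, 6, 4, 2, 10, 12, 8, 10, 6, 8, 4, 6, 14, 16, 12, 10, 6, 8, 4, 6, 14, 0, 2, 4, 6, 8, 10, 12] (.cons [0, 2, 4, 14, 8, 6, 12, 14, 6, 8, 10, 12, 6, 4, 6, 2, 4] .nil .nil) .nil) (.cons [16, 18, 8, 2, 4, 6, 16, 0, 2, 4, 6, 8, 10, 12, 14] .nil (.cons [6, 16, 18, 2, 4, 6, 16, 0, 2, 4, 6, 8, 10, 12, 14] (.cons [6, 14, 16, 8, 6, 4, 2, 6, 8, 4, 6, 14, 10, 12, 8, 10, 6, 8, 4, 6, 14, 16, 8, 10, 4, 6, 8, 2, 4, 6, 14, 0, 2, 4, 6, 8, 10, 12] .nil .nil) (.cons [8, 10, 6, 8, 4, 6, 16, 0, 2, 4, 6, 8, 10, 12, 14] (.cons [4, 6, 8, 2, 4, 6, 14, 16, 10, 8, 6, 14, 8, 10, 12, 6, 8, 10, 4, 6, 8, 0, 2, 4, 6, 14, 16, 12, 10, 4, 6, 8, 2, 4, 6, 14, 0, 2, 4, 6, 8, 10, 12] (.cons [12, 14, 8, 2, 4, 12, 6,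 4, 2, 8, 10] .nil .nil) .nil) (.cons [12, 10, 6, 8, 4, 6, 16, 0, 2, 4, 6, 8, 10, 12, 14] (.cons [0, 2, 4, 6, 14, 16, 8, 6, 14, 10, 12, 8, 10, 4, 6, 8, 0, 2, 4, 6, 14, 16, 14, 10, 6, 8, 2, 4, 6, 14, 0, 2, 4, 6, 8, 10, 12] (.cons [6, 12, 4, 6, 2, 4, 8, 10, 12, 14] .nil .nil) .nil) (.cons [16, 10, 6, 8, 4, 6, 16, 0, 2, 4, 6, 8, 10, 12, 14] (.cons [16, 12, 8, 10, 6, 0, 2, 4, 6, 14, 8, 10, 12, 6, 8, 10, 4, 6, 8, 2, 4, 6, 14, 16, 14, 6, 8, 4, 6, 14, 0, 2, 4, 6, 8, 10, 12] .nil .nil) (.cons [18, 10, 6, 8, 4, 6, 16, 0, 2, 4, 6, 8, 10, 12, 14] (.cons [16, 10, 6, 8, 4, 6, 14, 10, 12, 8, 10, 4, 6, 8, 2, 4, 6, 14, 16, 10, 6, 8, 2, 4, 6, 14, 0, 2, 4, 6, 8, 10, 12] (.cons [14, 12, 6, 4, 0, 2, 14, 12] .nil .nil) .nil) (.cons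 [18, 16, 6, 8, 4, 6, 16, 0, 2, 4, 6, 8, 10, 12, 14] (.cons [16, 14, 6, 8, 10, 4, 6, 8, 0, 2, 4, 6, 14, 16, 12, 10, 6, 8, 2, 4, 6, 14, 0, 2, 4, 6, 8, 10, 12] (.cons [10, 6, 8, 4, 12, 6, 8, 4, 2, 4, 10, 8] .nil .nil) .nil) (.cons [16, 18, 6, 8, 4, 6, 16, 0, 2, 4, 6, 8, 10, 12, 14] (.cons [4, 6, 14, 16, 10, 8, 6, 14, 12, 8, 10, 4, 6, 8, 2, 4, 6, 14, 16, 14, 8, 10, 4, 6, 8, 2, 4, 6, 14, 0, 2, 4, 6, 8, 10, 12] (.cons [12, 4, 6, 8, 0, 2, 4, 6, 12, 14, 10, 6, 8, 12, 6, 4, 2, 4, 8, 10] .nil .nil) .nil) (.cons [14, 12, 10, 8, 4, 6, 16, 0, 2, 4, 6, 8, 10, 12, 14] (.cons [14, 16, 4, 6, 14, 8, 10, 4, 6, 8, 0, 2, 4, 6, 14, 16, 12, 10, 6, 8, 2, 4, 6, 14, 0, 2, 4, 6, 8, 10, 12] (.cons [14, 4, 2, 4, 6, 8, 6, 10, 8] .nil .nil)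 .nil) (.cons [18, 12, 10, 8, 4, 6, 16, 0, 2, 4, 6, 8, 10, 12, 14] .nil (.cons [16, 18, 10, 8, 4, 6, 16, 0, 2, 4, 6, 8, 10, 12, 14] (.cons [12, 10, 8, 10, 14, 6, 4, 2, 6, 14, 8, 4, 6, 14, 10, 12, 8, 10, 6, 8, 4, 6, 14, 16, 8, 2, 4, 6, 14, 0, 2, 4, 6, 8, 10, 12] (.cons [0, 2, 4, 6, 12, 14, 8, 6, 10, 4, 2, 4] .nil .nil) .nil) (.cons [6, 16, 18, 8, 4, 6, 16, 0, 2, 4, 6, 8, 10, 12, 14] .nil (.cons [8, 6, 16, 18, 4, 6, 16, 0, 2, 4, 6, 8, 10, 12, 14] (.cons [6, 8, 2, 4, 6, 14, 16, 10, 8, 6, 14, 10, 12, 8, 10, 4, 6, 8, 2, 4, 6, 14, 16, 14, 12, 8, 10, 4, 6, 8, 2, 4, 6, 14, 0, 2, 4, 6, 8, 10, 12] (.cons [14, 8, 12, 4, 10, 8, 6, 4, 2, 12, 6, 4] .nil .nil) .nil) (.cons [18, 14, 12, 10, 8, 6, 16, 0, 2, 4, 6, 8, 10, 12, 14]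 (.cons [8, 10, 6, 8, 4, 6, 14, 16, 14, 12, 10, 6, 8, 4, 6, 14, 0, 2, 4, 6, 8, 10, 12] (.cons [4, 6, 4, 2, 8, 10, 6, 12, 14, 12, 6, 4] .nil .nil) .nil) (.cons [16, 18, 12, 10, 8, 6, 16, 0, 2, 4, 6, 8, 10, 12, 14] (.cons [6, 16, 4, 2, 0, 6, 14, 8, 10, 6, 8, 4, 6, 14, 16, 12, 8, 10, 6, 8, 4, 6, 14, 2, 4, 6, 8, 10, 12] (.cons [10, 0, 2, 4, 2, 14, 12, 6, 4] .nil .nil) .nil) (.cons [6, 16, 18, 10, 8, 6, 16, 0, 2, 4, 6, 8, 10, 12, 14] (.cons [8, 6, 14, 10, 12, 8, 10, 4, 6, 8, 0, 2, 4, 6, 14, 16, 14, 10, 4, 6, 8, 2, 4, 6, 14, 0, 2, 4, 6, 8, 10, 12] (.cons [6, 12, 14, 8, 6, 10, 4, 2, 4] .nil .nil) .nil) (.cons [4, 6, 16, 18, 8, 6, 16, 0, 2, 4, 6, 8, 10, 12, 14] (.cons [10, 8, 6, 14, 12, 10, 4, 6, 8, 2, 4, 6, 14, 16,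 12, 8, 10, 6, 8, 2, 4, 6, 14, 0, 2, 4, 6, 8, 10, 12] (.cons [10, 12, 6, 2, 4, 0, 2] .nil .nil) .nil) (.cons [12, 8, 10, 6, 8, 4, 6, 16, 2, 4, 6, 8, 10, 12, 14] (.cons [8, 10, 2, 4, 6, 8, 0, 2, 4, 6, 14, 16, 14, 6, 8, 4, 6, 14, 10, 12, 6, 8, 10, 4, 6, 8, 2, 4, 6, 14, 16, 14, 8, 10, 4, 6, 8, 2, 4, 6, 14, 0, 2, 4, 6, 8, 10, 12] .nil .nil) (.cons [16, 8, 10, 6, 8, 4, 6, 16, 2, 4, 6, 8, 10, 12, 14] (.cons [10, 8, 4, 6, 14, 16, 12, 8, 10, 6, 8, 2, 4, 6, 14, 0, 2, 4, 6, 8, 10, 12] (.cons [6, 8, 4, 6, 12, 14, 10, 6, 8, 10, 12, 6, 2, 4, 0, 2] .nil .nil) .nil) (.cons [18, 8, 10, 6, 8, 4, 6, 16, 2, 4, 6, 8, 10, 12, 14] (.cons [14, 16, 6, 10, 8, 0, 2, 4, 6, 14, 12, 8, 10, 4, 6, 8, 2, 4, 6, 14, 16, 12, 10, 8, 2, 4, 6, 14,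 0, 2, 4, 6, 8, 10, 12] (.cons [4, 6, 8, 2, 4, 6, 12, 14, 6, 8, 10, 12, 8, 6, 4, 0, 2] .nil .nil) .nil) (.cons [14, 12, 10, 6, 8, 4, 6, 16, 2, 4, 6, 8, 10, 12, 14] .nil (.cons [16, 12, 10, 6, 8, 4, 6, 16, 2, 4, 6, 8, 10, 12, 14] (.cons [14, 16, 8, 6, 14, 10, 4, 6, 8, 2, 4, 6, 14, 16, 14, 10, 4, 6, 8, 2, 4, 6, 14, 0, 2, 4, 6, 8, 10, 12] (.cons [2, 4, 6, 8, 12, 6, 4, 2, 6, 8, 10, 6, 12, 4, 6, 12, 14] .nil .nil) .nil) (.cons [18, 12, 10, 6, 8, 4, 6, 16, 2, 4, 6, 8, 10, 12, 14] (.cons [6, 14, 16, 8, 6, 14, 10, 4, 6, 8, 2, 4, 6, 14, 16, 10, 4, 6, 8, 2, 4, 6, 14, 0, 2, 4, 6, 8, 10, 12] .nil .nil) (.cons [18, 16, 10, 6, 8, 4, 6, 16, 2, 4, 6, 8, 10, 12, 14] (.cons [0, 2, 4, 6, 14, 16, 10, 6, 8, 2, 4, 6, 14, 10, 12, 8,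 10, 4, 6, 8, 2, 4, 6, 14, 16, 14, 10, 6, 8, 2, 4, 6, 14, 0, 2, 4, 6, 8, 10, 12] (.cons [12, 8, 4, 6, 2, 4, 0, 2, 4, 8, 10, 12, 14] .nil .nil) .nil) (.cons [16, 18, 10, 6, 8, 4, 6, 16, 2, 4, 6, 8, 10, 12, 14] .nil (.cons [16, 18, 16, 6, 8, 4, 6, 16, 2, 4, 6, 8, 10, 12, 14] (.cons [10, 8, 6, 14, 4, 6, 8, 2, 4, 6, 14, 16, 12, 8, 10, 6, 8, 2, 4, 6, 14, 0, 2, 4, 6, 8, 10, 12] (.cons [10, 0, 2, 4, 6, 8, 12, 6, 4, 2, 6, 4, 6, 12, 14, 8, 6, 10] .nil .nil) .nil) (.cons [6, 16, 18, 6, 8, 4, 6, 16, 2, 4, 6, 8, 10, 12, 14] (.cons [0, 2, 4, 6, 14, 16, 8, 6, 14, 10, 16, 8, 6, 4, 2, 14, 10, 12, 8, 10, 6, 8, 4, 6, 14, 16, 10, 6, 8, 4, 6, 14, 0, 2, 4, 6, 8, 10, 12] (.cons [2, 4, 6, 8, 10, 6, 12, 14, 4, 8, 6, 4, 2] .nil .nil)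 .nil) (.cons [18, 14, 12, 10, 8, 4, 6, 16, 2, 4, 6, 8, 10, 12, 14] (.cons [6, 14, 16, 14, 10, 12, 8, 10, 6, 8, 2, 4, 6, 14, 0, 2, 4, 6, 8, 10, 12] .nil .nil) (.cons [16, 18, 12, 10, 8, 4, 6, 16, 2, 4, 6, 8, 10, 12, 14] (.cons [16, 14, 10, 12, 8, 10, 6, 8, 4, 6, 14, 16, 14, 12, 10, 6, 8, 2, 4, 6, 14, 0, 2, 4, 6, 8, 10, 12] (.cons [10, 8, 6, 10, 4, 2, 6, 12, 14, 4, 6] .nil .nil) .nil) (.cons [4, 6, 16, 18, 8, 4, 6, 16, 2, 4, 6, 8, 10, 12, 14] (.cons [4, 6, 14, 16, 8, 6, 14, 8, 10, 12, 6, 8, 10, 4, 6, 8, 2, 4, 6, 14, 16, 10, 4, 6, 8, 2, 4, 6, 14, 0, 2, 4, 6, 8, 10, 12] (.cons [10, 6, 8, 0, 2, 4, 6, 12, 14, 2, 4, 10, 8, 12, 6, 4, 2, 8, 6, 10, 4] .nil .nil) .nil) (.cons [8, 6, 16, 18, 8, 4, 6, 16, 2, 4, 6, 8, 10,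 12, 14] (.cons [14, 16, 4, 6, 14, 10, 12, 8, 10, 6, 8, 4, 6, 14, 16, 14, 8, 10, 6, 8, 2, 4, 6, 14, 0, 2, 4, 6, 8, 10, 12] (.cons [8, 10, 2, 0, 4, 8, 2, 6, 8] .nil .nil) .nil) (.cons [10, 8, 6, 16, 18, 4, 6, 16, 2, 4, 6, 8, 10, 12, 14] (.cons [14, 16, 10, 8, 4, 6, 14, 12, 8, 10, 4, 6, 8, 2, 4, 6, 14, 16, 12, 10, 4, 6, 8, 2, 4, 6, 14, 0, 2, 4, 6, 8, 10, 12] .nil .nil) (.cons [16, 18, 14, 12, 10, 8, 6, 16, 2, 4, 6, 8, 10, 12, 14] (.cons [16, 14, 10, 6, 8, 4, 6, 14, 16, 14, 12, 10, 6, 8, 4, 6, 14, 0, 2, 4, 6, 8, 10, 12] .nil .nil) (.cons [6, 16, 18, 12, 10, 8, 6, 16, 2, 4, 6, 8, 10, 12, 14] .nil (.cons [4, 6, 16, 18, 10, 8, 6, 16, 2, 4, 6, 8, 10, 12, 14] (.cons [6, 8, 4, 6, 14, 10, 12, 6, 8, 10, 4, 6, 8, 2, 4, 6,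 14, 16, 8, 10, 6, 8, 2, 4, 6, 14, 0, 2, 4, 6, 8, 10, 12] (.cons [12, 4, 6, 8, 2, 4, 6, 12, 14, 10, 8, 12, 6, 4, 0, 2, 8, 6, 10, 4] .nil .nil) .nil) (.cons [8, 6, 16, 18, 10, 8, 6, 16, 2, 4, 6, 8, 10, 12, 14] (.cons [8, 14, 6, 4, 6, 14, 16, 8, 6, 14, 10, 12, 8, 10, 6, 8, 0, 2, 4, 6, 14, 16, 8, 10, 6, 8, 2, 4, 6, 14, 0, 2, 4, 6, 8, 10, 12] .nil .nil) (.cons [2, 4, 6, 16, 18, 8, 6, 16, 2, 4, 6, 8, 10, 12, 14] (.cons [16, 6, 10, 12, 10, 8, 2, 4, 6, 14, 8, 10, 4, 6, 8, 2, 4, 6, 14, 16, 12, 10, 8, 2, 4, 6, 14, 0, 2, 4, 6, 8, 10, 12] .nil .nil) (.cons [6, 16, 18, 14, 12, 10, 8, 6, 16, 4, 6, 8, 10, 12, 14] (.cons [10, 8, 6, 14, 16, 4, 6, 14, 8, 10, 6, 8, 4, 6, 14, 16, 12, 10, 6, 8, 2, 4, 6, 14, 0, 2, 4, 6, 8, 10, 12]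 (.cons [2, 12, 10, 14, 6, 4, 8, 6, 12, 6, 4, 14, 12] .nil .nil) .nil) (.cons [4, 6, 16, 18, 12, 10, 8, 6, 16, 4, 6, 8, 10, 12, 14] (.cons [14, 6, 8, 4, 6, 14, 16, 10, 8, 6, 14, 12, 10, 4, 6, 8, 2, 4, 6, 14, 16, 10, 4, 6, 8, 2, 4, 6, 14, 0, 2, 4, 6, 8, 10, 12] (.cons [8, 6, 10, 8, 12, 14, 6, 4, 2, 12, 14, 8, 6, 4, 12] .nil .nil) .nil) (.cons [8, 6, 16, 18, 12, 10, 8, 6, 16, 4, 6, 8, 10, 12, 14] .nil (.cons [2, 4, 6, 16, 18, 10, 8, 6, 16, 4, 6, 8, 10, 12, 14] (.cons [16, 14, 8, 10, 12, 6, 8, 10, 4, 6, 8, 2, 4, 6, 14, 16, 6, 8, 4, 6, 14, 0, 2, 4, 6, 8, 10, 12] .nil .nil) (.cons [8, 4, 6, 16, 18, 10, 8, 6, 16, 4, 6, 8, 10, 12, 14] (.cons [14, 12, 10, 6, 8, 4, 6, 14, 16, 6, 14, 10, 4, 6, 8, 2, 4, 6, 14, 0, 2, 4,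 6, 8, 10, 12] (.cons [2, 10, 0, 12, 6, 4, 2, 4] .nil .nil) .nil) (.cons [0, 2, 4, 6, 16, 18, 8, 6, 16, 4, 6, 8, 10, 12, 14] .nil (.cons [10, 4, 6, 8, 2, 4, 6, 16, 0, 2, 4, 6, 8, 10, 12, 14] (.cons [4, 6, 14, 16, 10, 2, 4, 6, 14, 8, 10, 12, 6, 8, 10, 4, 6, 8, 2, 4, 6, 14, 16, 14, 6, 8, 4, 6, 14, 0, 2, 4, 6, 8, 10, 12] (.cons [6, 12, 14, 8, 4, 12, 6, 8, 4, 2, 4, 10, 8] .nil .nil) .nil) (.cons [16, 4, 6, 8, 2, 4, 6, 16, 0, 2, 4, 6, 8, 10, 12, 14] (.cons [16, 12, 10, 6, 8, 2, 4, 6, 14, 0, 2, 4, 6, 8, 10, 12] .nil .nil) (.cons [18, 4, 6, 8, 2, 4, 6, 16, 0, 2, 4, 6, 8, 10, 12, 14] (.cons [16, 12, 10, 8, 6, 14, 6, 4, 2, 8, 4, 6, 14, 10, 12, 8, 10, 6, 8, 4, 6, 14, 16, 8, 2, 4, 6, 14, 0, 2, 4, 6, 8, 10, 12] (.cons [14,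 8, 0, 6, 4, 2, 12, 14, 8, 6, 4, 12] (.cons [3, 3, 4, 4, 2] .nil .nil) .nil) .nil) (.cons [8, 10, 6, 8, 2, 4, 6, 16, 0, 2, 4, 6, 8, 10, 12, 14] (.cons [16, 4, 6, 14, 10, 12, 8, 10, 6, 8, 4, 6, 14, 16, 12, 8, 10, 6, 8, 2, 4, 6, 14, 0, 2, 4, 6, 8, 10, 12] (.cons [6, 10, 8, 12, 14, 0, 6, 4, 2, 8, 6] (.cons [1, 3, 0, 0, 4] .nil .nil) .nil) .nil) (.cons [12, 10, 6, 8, 2, 4, 6, 16, 0, 2, 4, 6, 8, 10, 12, 14] (.cons [14, 8, 6, 4, 2, 0, 14, 12, 8, 10, 6, 8, 4, 6, 14, 16, 12, 8, 10, 6, 8, 4, 6, 14, 2, 4, 6, 8, 10, 12] .nil .nil) (.cons [16, 10, 6, 8, 2, 4, 6, 16, 0, 2, 4, 6, 8, 10, 12, 14] (.cons [10, 8, 6, 14, 16, 4, 6, 14, 10, 12, 8, 10, 6, 8, 2, 4, 6, 14, 16, 14, 12, 10, 6, 8, 2, 4, 6, 14, 0, 2, 4, 6, 8, 10, 12] (.cons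 [12, 14, 6, 2, 0, 4, 8, 2, 6, 8] .nil .nil) .nil) (.cons [18, 10, 6, 8, 2, 4, 6, 16, 0, 2, 4, 6, 8, 10, 12, 14] (.cons [6, 8, 4, 6, 14, 10, 12, 8, 10, 6, 8, 2, 4, 6, 14, 16, 8, 2, 4, 6, 14, 0, 2, 4, 6, 8, 10, 12] (.cons [10, 0, 2, 4, 6, 8, 10, 14, 4, 6, 12, 14, 8, 6, 4, 2] .nil .nil) .nil) (.cons [18, 16, 6, 8, 2, 4, 6, 16, 0, 2, 4, 6, 8, 10, 12, 14] (.cons [8, 6, 16, 14, 10, 12, 8, 10, 6, 8, 4, 6, 14, 16, 10, 12, 8, 10, 6, 8, 2, 4, 6, 14, 0, 2, 4, 6, 8, 10, 12] (.cons [12, 14, 8, 6, 4, 6, 8, 0, 2, 10, 8] .nil .nil) .nil) (.cons [16, 18, 6, 8, 2, 4, 6, 16, 0, 2, 4, 6, 8, 10, 12, 14] (.cons [2, 4, 6, 14, 8, 10, 6, 8, 4, 6, 14, 16, 12, 8, 10, 6, 8, 2, 4, 6, 14, 0, 2, 4, 6, 8, 10, 12] (.cons [12, 14, 0, 6, 4, 12,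 6, 8, 2, 10, 4, 0, 2, 8, 6] .nil .nil) .nil) (.cons [14, 12, 10, 8, 2, 4, 6, 16, 0, 2, 4, 6, 8, 10, 12, 14] (.cons [14, 10, 6, 8, 2, 4, 6, 14, 16, 12, 10, 8, 6, 14, 0, 2, 4, 6, 8, 10, 12] (.cons [4, 6, 12, 14, 10, 8, 12, 6, 4, 2, 8, 10] .nil .nil) .nil) (.cons [18, 12, 10, 8, 2, 4, 6, 16, 0, 2, 4, 6, 8, 10, 12, 14] (.cons [16, 6, 14, 12, 10, 8, 6, 4, 2, 14, 10, 12, 8, 10, 6, 8, 4, 6, 14, 16, 10, 6, 8, 4, 6, 14, 0, 2, 4, 6, 8, 10, 12] (.cons [4, 2, 12, 6, 8, 4, 6, 2, 8, 10] .nil .nil) .nil) (.cons [16, 18, 10, 8, 2, 4, 6, 16, 0, 2, 4, 6, 8, 10, 12, 14] .nil (.cons [6, 16, 18, 8, 2, 4, 6, 16, 0, 2, 4, 6, 8, 10, 12, 14] .nil (.cons [4, 6, 16, 18, 2, 4, 6, 16, 0, 2, 4, 6, 8, 10, 12, 14] (.cons [10, 2, 14, 8, 6,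 4, 10, 16, 6, 14, 12, 8, 10, 6, 8, 4, 6, 14, 16, 2, 4, 6, 14, 0, 2, 4, 6, 8, 10, 12] (.cons [6, 12, 4, 2, 4, 10, 14, 8, 12] .nil .nil) .nil) (.cons [8, 6, 16, 18, 2, 4, 6, 16, 0, 2, 4, 6, 8, 10, 12, 14] (.cons [14, 16, 10, 8, 12, 10, 6, 14, 0, 6, 4, 2, 8, 4, 6, 14, 10, 12, 8, 10, 6, 8, 4, 6, 14, 16, 8, 2, 4, 6, 14, 0, 2, 4, 6, 8, 10, 12] (.cons [8, 2, 10, 14, 12, 6, 4, 2, 8, 6] (.cons [1, 5, 2] .nil .nil) .nil) .nil) (.cons [12, 8, 10, 6, 8, 4, 6, 16, 0, 2, 4, 6, 8, 10, 12, 14] (.cons [6, 14, 16, 4, 6, 14, 8, 10, 12, 6, 8, 10, 4, 6, 8, 2, 4, 6, 14, 16, 14, 6, 8, 4, 6, 14, 0, 2, 4, 6, 8, 10, 12] (.cons [12, 8, 0, 6, 4, 2, 12, 6, 8, 10] .nil .nil) .nil) (.cons [16, 8, 10, 6, 8, 4, 6, 16, 0, 2, 4, 6, 8, 10, 12,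 14] (.cons [0, 2, 4, 6, 14, 16, 8, 0, 2, 4, 6, 14, 10, 12, 8, 10, 4, 6, 8, 0, 2, 4, 6, 14, 16, 10, 6, 8, 2, 4, 6, 14, 0, 2, 4, 6, 8, 10, 12] (.cons [14, 4, 2, 0, 4, 12, 6, 4, 2, 8, 10] .nil .nil) .nil) (.cons [18, 8, 10, 6, 8, 4, 6, 16, 0, 2, 4, 6, 8, 10, 12, 14] (.cons [0, 2, 4, 6, 14, 16, 10, 8, 4, 6, 14, 10, 12, 6, 8, 10, 4, 6, 8, 2, 4, 6, 14, 16, 12, 10, 4, 6, 8, 2, 4, 6, 14, 0, 2, 4, 6, 8, 10, 12] (.cons [2, 8, 6, 4, 12, 6, 8, 10, 14, 4, 6, 12, 14, 8, 6, 4, 0, 2] .nil .nil) .nil) (.cons [14, 12, 10, 6, 8, 4, 6, 16, 0, 2, 4, 6, 8, 10, 12, 14] (.cons [0, 2, 4, 6, 14, 16, 12, 10, 8, 6, 14, 2, 4, 6, 8, 10, 12] .nil .nil) (.cons [16, 12, 10, 6, 8, 4, 6, 16, 0, 2, 4, 6, 8, 10, 12, 14] (.cons [16, 2, 6, 8, 10,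 4, 6, 14, 12, 8, 10, 6, 8, 4, 6, 14, 16, 14, 12, 10, 6, 8, 2, 4, 6, 14, 0, 2, 4, 6, 8, 10, 12] (.cons [6, 12, 6, 4, 2, 10, 6, 8, 4, 12, 6, 8, 10] .nil .nil) .nil) (.cons [18, 12, 10, 6, 8, 4, 6, 16, 0, 2, 4, 6, 8, 10, 12, 14] (.cons [8, 2, 4, 6, 14, 16, 10, 8, 6, 14, 12, 8, 10, 4, 6, 8, 2, 4, 6, 14, 16, 8, 10, 4, 6, 8, 2, 4, 6, 14, 0, 2, 4, 6, 8, 10, 12] (.cons [12, 14, 8, 2, 4, 6, 12, 8, 10, 6, 4, 2, 14, 12] .nil .nil) .nil) (.cons [16, 18, 10, 6, 8, 4, 6, 16, 0, 2, 4, 6, 8, 10, 12, 14] (.cons [8, 10, 6, 8, 0, 2, 4, 6, 14, 16, 8, 10, 6, 8, 4, 6, 14, 0, 2, 4, 6, 8, 10, 12] (.cons [4, 6, 2, 4, 8, 6, 10, 4] .nil .nil) .nil) (.cons [16, 18, 16, 6, 8, 4, 6, 16, 0, 2, 4, 6, 8, 10, 12, 14] (.cons [8, 4, 6, 14, 16,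 10, 8, 6, 14, 10, 12, 6, 8, 10, 4, 6, 8, 2, 4, 6, 14, 16, 8, 10, 4, 6, 8, 2, 4, 6, 14, 0, 2, 4, 6, 8, 10, 12] (.cons [14, 12, 6, 4, 2, 8, 10, 6, 4, 12, 14] .nil .nil) .nil) (.cons [6, 16, 18, 6, 8, 4, 6, 16, 0, 2, 4, 6, 8, 10, 12, 14] (.cons [16, 10, 8, 2, 4, 6, 14, 10, 12, 8, 10, 4, 6, 8, 2, 4, 6, 14, 16, 10, 8, 2, 4, 6, 14, 0, 2, 4, 6, 8, 10, 12] (.cons [12, 4, 6, 8, 10, 12, 6, 4, 2, 4] .nil .nil) .nil) (.cons [18, 14, 12, 10, 8, 4, 6, 16, 0, 2, 4, 6, 8, 10, 12, 14] (.cons [6, 4, 16, 2, 0, 6, 8, 4, 6, 14, 8, 10, 6, 8, 4, 6, 14, 16, 12, 10, 8, 4, 6, 14, 2, 4, 6, 8, 10, 12] (.cons [10, 8, 6, 4, 2, 6, 12, 14, 12, 6, 4] .nil .nil) .nil) (.cons [16, 18, 12, 10, 8, 4, 6, 16, 0, 2, 4, 6, 8, 10, 12, 14] (.cons [6,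 8, 2, 4, 6, 14, 10, 12, 8, 10, 6, 8, 2, 4, 6, 14, 16, 12, 10, 4, 6, 8, 2, 4, 6, 14, 0, 2, 4, 6, 8, 10, 12] (.cons [12, 2, 4, 6, 4, 12, 14, 6, 0, 2, 8, 10] .nil .nil) .nil) (.cons [6, 16, 18, 10, 8, 4, 6, 16, 0, 2, 4, 6, 8, 10, 12, 14] (.cons [8, 6, 14, 8, 10, 12, 6, 8, 10, 4, 6, 8, 2, 4, 6, 14, 16, 14, 8, 10, 6, 8, 2, 4, 6, 14, 0, 2, 4, 6, 8, 10, 12] (.cons [4, 14, 12, 2, 6, 8, 10, 8, 6, 12, 14, 4, 6, 2] (.cons [5, 5, 2, 2, 0] .nil .nil) .nil) .nil) (.cons [4, 6, 16, 18, 8, 4, 6, 16, 0, 2, 4, 6, 8, 10, 12, 14] (.cons [8, 10, 6, 8, 4, 6, 14, 16, 12, 10, 6, 8, 4, 6, 14, 0, 2, 4, 6, 8, 10, 12] (.cons [2, 4, 6, 4, 8, 10, 6, 12, 4, 14, 12] .nil .nil) .nil) (.cons [8, 6, 16, 18, 8, 4, 6, 16, 0, 2, 4, 6, 8, 10, 12,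 14] (.cons [16, 8, 6, 4, 0, 2, 6, 8, 4, 6, 14, 10, 12, 8, 10, 6, 8, 4, 6, 14, 16, 12, 10, 4, 6, 8, 2, 4, 6, 14, 0, 2, 4, 6, 8, 10, 12] (.cons [8, 4, 14, 0, 6, 12, 4, 6, 2, 8, 10, 6, 8, 12] (.cons [1, 2, 4, 2, 2] .nil .nil) .nil) .nil) (.cons [10, 8, 6, 16, 18, 4, 6, 16, 0, 2, 4, 6, 8, 10, 12, 14] .nil (.cons [16, 18, 14, 12, 10, 8, 6, 16, 0, 2, 4, 6, 8, 10, 12, 14] (.cons [6, 14, 8, 10, 6, 8, 2, 4, 6, 14, 16, 12, 10, 8, 4, 6, 14, 0, 2, 4, 6, 8, 10, 12] .nil .nil) (.cons [6, 16, 18, 12, 10, 8, 6, 16, 0, 2, 4, 6, 8, 10, 12, 14] .nil (.cons [2, 4, 6, 16, 18, 8, 6, 16, 0, 2, 4, 6, 8, 10, 12, 14] (.cons [14, 8, 10, 6, 8, 4, 6, 14, 16, 8, 10, 6, 8, 4, 6, 14, 0, 2, 4, 6, 8, 10, 12] (.cons [0, 10, 2, 4, 6, 8, 10, 12,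 6, 8] .nil .nil) .nil) (.cons [14, 12, 8, 10, 6, 8, 4, 6, 16, 2, 4, 6, 8, 10, 12, 14] (.cons [14, 16, 2, 4, 6, 14, 6, 8, 10, 4, 6, 8, 0, 2, 4, 6, 14, 16, 12, 10, 6, 8, 2, 4, 6, 14, 0, 2, 4, 6, 8, 10, 12] (.cons [0, 2, 4, 6, 12, 14, 10, 12, 6, 8, 10, 0, 12, 6, 4, 2, 4] .nil .nil) .nil) (.cons [18, 12, 8, 10, 6, 8, 4, 6, 16, 2, 4, 6, 8, 10, 12, 14] (.cons [0, 2, 4, 6, 14, 16, 10, 8, 6, 14, 8, 10, 12, 6, 8, 10, 4, 6, 8, 2, 4, 6, 14, 16, 14, 10, 4, 6, 8, 2, 4, 6, 14, 0, 2, 4, 6, 8, 10, 12] .nil .nil) (.cons [6, 16, 8, 10, 6, 8, 4, 6, 16, 2, 4, 6, 8, 10, 12, 14] (.cons [14, 16, 12, 10, 8, 6, 14, 12, 6, 8, 10, 4, 6, 8, 2, 4, 6, 14, 16, 12, 10, 4, 6, 8, 2, 4, 6, 14, 0, 2, 4, 6, 8, 10, 12] .nil .nil) (.cons [18, 16,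 8, 10, 6, 8, 4, 6, 16, 2, 4, 6, 8, 10, 12, 14] (.cons [6, 14, 16, 2, 4, 6, 14, 12, 8, 10, 6, 8, 2, 4, 6, 14, 16, 10, 4, 6, 8, 2, 4, 6, 14, 0, 2, 4, 6, 8, 10, 12] .nil .nil) (.cons [16, 18, 8, 10, 6, 8, 4, 6, 16, 2, 4, 6, 8, 10, 12, 14] (.cons [0, 2, 4, 6, 14, 16, 6, 8, 10, 6, 4, 2, 4, 6, 14, 12, 8, 10, 6, 8, 4, 6, 14, 16, 14, 12, 10, 6, 8, 2, 4, 6, 14, 0, 2, 4, 6, 8, 10, 12] (.cons [0, 2, 4, 6, 12, 14, 8, 2, 4, 6, 4, 0, 2, 8, 4, 6, 8, 10] .nil .nil) .nil) (.cons [16, 14, 12, 10, 6, 8, 4, 6, 16, 2, 4, 6, 8, 10, 12, 14] (.cons [10, 8, 4, 6, 14, 16, 14, 12, 8, 10, 6, 8, 2, 4, 6, 14, 0, 2, 4, 6, 8, 10, 12] (.cons [12, 6, 4, 0, 2, 6, 8, 10, 12] (.cons [1, 4, 1, 1] .nil .nil) .nil) .nil) (.cons [18, 14, 12, 10, 6,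 8, 4, 6, 16, 2, 4, 6, 8, 10, 12, 14] (.cons [6, 14, 16, 8, 2, 4, 6, 14, 8, 10, 4, 6, 8, 2, 4, 6, 14, 16, 14, 12, 10, 6, 8, 2, 4, 6, 14, 0, 2, 4, 6, 8, 10, 12] .nil .nil) (.cons [18, 16, 12, 10, 6, 8, 4, 6, 16, 2, 4, 6, 8, 10, 12, 14] (.cons [16, 6, 14, 12, 8, 10, 6, 8, 0, 2, 4, 6, 14, 16, 14, 12, 10, 4, 6, 8, 2, 4, 6, 14, 0, 2, 4, 6, 8, 10, 12] .nil .nil) (.cons [16, 18, 12, 10, 6, 8, 4, 6, 16, 2, 4, 6, 8, 10, 12, 14] (.cons [6, 8, 0, 2, 4, 6, 14, 16, 10, 8, 6, 14, 10, 12, 8, 10, 4, 6, 8, 2, 4, 6, 14, 16, 12, 10, 4, 6, 8, 2, 4, 6, 14, 0, 2, 4, 6, 8, 10, 12] (.cons [2, 12, 6, 4, 12, 6, 8, 10, 14, 12, 6, 4, 2, 12, 14] .nil .nil) .nil) (.cons [16, 18, 16, 10, 6, 8, 4, 6, 16, 2, 4, 6, 8, 10, 12, 14] (.cons [16,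 0, 6, 4, 2, 6, 14, 16, 8, 6, 14, 10, 12, 8, 10, 6, 8, 4, 6, 14, 16, 8, 2, 4, 6, 14, 0, 2, 4, 6, 8, 10, 12] .nil .nil) (.cons [6, 16, 18, 10, 6, 8, 4, 6, 16, 2, 4, 6, 8, 10, 12, 14] (.cons [14, 2, 4, 6, 14, 8, 6, 4, 14, 10, 12, 8, 10, 6, 8, 2, 4, 6, 14, 16, 14, 10, 6, 8, 4, 6, 14, 0, 2, 4, 6, 8, 10, 12] (.cons [12, 14, 6, 8, 12, 6, 4, 0, 2, 8, 10] .nil .nil) .nil) (.cons [6, 16, 18, 16, 6, 8, 4, 6, 16, 2, 4, 6, 8, 10, 12, 14] (.cons [8, 0, 2, 4, 6, 14, 16, 4, 6, 8, 10, 14, 6, 8, 4, 6, 14, 10, 12, 8, 10, 6, 8, 0, 2, 4, 6, 14, 16, 12, 10, 8, 2, 4, 6, 14, 0, 2, 4, 6, 8, 10, 12] (.cons [6, 12, 2, 4, 6, 8, 2, 10, 12, 8, 6, 4, 12, 14] .nil .nil) .nil) (.cons [4, 6, 16, 18, 6, 8, 4, 6, 16, 2, 4, 6, 8, 10, 12, 14] (.cons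 [10, 4, 6, 8, 2, 4, 6, 14, 16, 14, 10, 12, 8, 10, 6, 8, 4, 6, 14, 0, 2, 4, 6, 8, 10, 12] (.cons [6, 12, 4, 6, 8, 2, 10, 8, 6, 4, 12, 14] .nil .nil) .nil) (.cons [8, 6, 16, 18, 6, 8, 4, 6, 16, 2, 4, 6, 8, 10, 12, 14] .nil (.cons [16, 18, 14, 12, 10, 8, 4, 6, 16, 2, 4, 6, 8, 10, 12, 14] (.cons [2, 4, 6, 14, 8, 10, 4, 6, 8, 2, 4, 6, 14, 16, 12, 8, 10, 4, 6, 8, 2, 4, 6, 14, 0, 2, 4, 6, 8, 10, 12] (.cons [2, 4, 6, 8, 10, 14, 12, 6, 4, 2, 12, 14] .nil .nil) .nil) (.cons [6, 16, 18, 12, 10, 8, 4, 6, 16, 2, 4, 6, 8, 10, 12, 14] (.cons [6, 14, 16, 8, 6, 14, 12, 6, 8, 10, 4, 6, 8, 2, 4, 6, 14, 16, 10, 4, 6, 8, 2, 4, 6, 14, 0, 2, 4, 6, 8, 10, 12] .nil .nil) (.cons [4, 6, 16, 18, 10, 8, 4, 6, 16, 2, 4, 6, 8, 10, 12, 14]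 (.cons [4, 6, 14, 16, 6, 8, 4, 6, 14, 0, 2, 4, 6, 8, 10, 12] (.cons [12, 4, 6, 4, 12, 14, 6, 0, 2, 8, 10] .nil .nil) .nil) (.cons [8, 6, 16, 18, 10, 8, 4, 6, 16, 2, 4, 6, 8, 10, 12, 14] (.cons [12, 10, 8, 4, 6, 14, 16, 10, 6, 8, 2, 4, 6, 14, 0, 2, 4, 6, 8, 10, 12] (.cons [4, 6, 8, 10, 2, 4, 0, 2, 12, 14, 6, 4] .nil .nil) .nil) (.cons [2, 4, 6, 16, 18, 8, 4, 6, 16, 2, 4, 6, 8, 10, 12, 14] (.cons [16, 0, 2, 4, 6, 14, 8, 10, 6, 8, 4, 6, 14, 16, 10, 6, 8, 2, 4, 6, 14, 0, 2, 4, 6, 8, 10, 12] (.cons [8, 4, 6, 12, 8, 6, 4, 2, 4, 8, 10, 14, 12] .nil .nil) .nil) (.cons [8, 4, 6, 16, 18, 8, 4, 6, 16, 2, 4, 6, 8, 10, 12, 14] (.cons [4, 6, 14, 16, 10, 8, 6, 14, 10, 12, 8, 10, 4, 6, 8, 0, 2, 4, 6, 14, 16, 10, 4, 6, 8, 2,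 4, 6, 14, 0, 2, 4, 6, 8, 10, 12] (.cons [6, 14, 12, 2, 6, 8, 10, 8, 6, 12, 14, 4, 6, 0, 2] .nil .nil) .nil) (.cons [12, 10, 8, 6, 16, 18, 4, 6, 16, 2, 4, 6, 8, 10, 12, 14] (.cons [8, 6, 14, 16, 4, 6, 14, 10, 12, 8, 10, 4, 6, 8, 2, 4, 6, 14, 16, 10, 4, 6, 8, 2, 4, 6, 14, 0, 2, 4, 6, 8, 10, 12] (.cons [14, 12, 6, 8, 4, 6, 10, 0, 2, 12, 14] .nil .nil) .nil) (.cons [6, 16, 18, 14, 12, 10, 8, 6, 16, 2, 4, 6, 8, 10, 12, 14] (.cons [16, 6, 14, 10, 4, 6, 8, 0, 2, 4, 6, 14, 16, 12, 8, 10, 6, 8, 2, 4, 6, 14, 0, 2, 4, 6, 8, 10, 12] .nil .nil) (.cons [4, 6, 16, 18, 12, 10, 8, 6, 16, 2, 4, 6, 8, 10, 12, 14] (.cons [14, 12, 10, 6, 8, 0, 2, 4, 6, 14, 16, 12, 6, 8, 10, 4, 6, 8, 2, 4, 6, 14, 0, 2, 4, 6, 8, 10, 12] .nil .nil)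 (.cons [8, 6, 16, 18, 12, 10, 8, 6, 16, 2, 4, 6, 8, 10, 12, 14] (.cons [16, 14, 10, 6, 8, 2, 4, 6, 14, 16, 12, 10, 6, 8, 2, 4, 6, 14, 0, 2, 4, 6, 8, 10, 12] (.cons [10, 0, 4, 6, 8, 10, 12, 6, 4, 2, 8, 6] (.cons [0, 5, 1, 4, 0] .nil .nil) .nil) .nil) (.cons [2, 4, 6, 16, 18, 10, 8, 6, 16, 2, 4, 6, 8, 10, 12, 14] (.cons [12, 10, 8, 6, 14, 16, 14, 10, 6, 8, 4, 6, 14, 0, 2, 4, 6, 8, 10, 12] .nil .nil) (.cons [0, 2, 4, 6, 16, 18, 8, 6, 16, 2, 4, 6, 8, 10, 12, 14] (.cons [14, 2, 6, 8, 4, 6, 14, 10, 12, 8, 10, 6, 8, 2, 4, 6, 14, 16, 14, 6, 8, 2, 4, 6, 14, 0, 2, 4, 6, 8, 10, 12] (.cons [8, 6, 12, 14, 4, 12, 6, 8, 4, 2, 4, 10, 8] .nil .nil) .nil) (.cons [4, 6, 16, 18, 14, 12, 10, 8, 6, 16, 4, 6, 8, 10, 12, 14] (.cons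 [4, 6, 14, 8, 6, 4, 2, 6, 14, 8, 10, 6, 8, 4, 6, 14, 16, 12, 10, 6, 8, 4, 6, 14, 0, 2, 4, 6, 8, 10, 12] (.cons [4, 6, 12, 10, 6, 8, 4, 6, 4, 2, 8, 10, 12, 14] .nil .nil) .nil) (.cons [8, 6, 16, 18, 14, 12, 10, 8, 6, 16, 4, 6, 8, 10, 12, 14] (.cons [14, 10, 6, 8, 4, 6, 14, 16, 12, 10, 6, 8, 2, 4, 6, 14, 0, 2, 4, 6, 8, 10, 12] (.cons [6, 12, 14, 6, 4, 0, 12, 2, 10, 8, 4, 6, 4, 2, 8, 10] .nil .nil) .nil) (.cons [2, 4, 6, 16, 18, 12, 10, 8, 6, 16, 4, 6, 8, 10, 12, 14] (.cons [14, 16, 8, 6, 12, 10, 4, 2, 6, 14, 8, 4, 6, 14, 10, 12, 8, 10, 6, 8, 4, 6, 14, 16, 8, 2, 4, 6, 14, 0, 2, 4, 6, 8, 10, 12] (.cons [0, 2, 4, 6, 12, 14, 2, 4, 6, 8, 10, 12, 6, 4, 2, 4] .nil .nil) .nil) (.cons [8, 4, 6, 16, 18, 12, 10, 8, 6, 16,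 4, 6, 8, 10, 12, 14] (.cons [2, 4, 6, 14, 16, 8, 12, 10, 6, 14, 6, 4, 2, 8, 4, 6, 14, 10, 12, 8, 10, 6, 8, 4, 6, 14, 16, 8, 2, 4, 6, 14, 0, 2, 4, 6, 8, 10, 12] .nil .nil) (.cons [10, 8, 6, 16, 18, 12, 10, 8, 6, 16, 4, 6, 8, 10, 12, 14] (.cons [16, 10, 8, 10, 6, 4, 2, 6, 14, 16, 8, 6, 14, 10, 12, 8, 10, 6, 8, 4, 6, 14, 16, 8, 2, 4, 6, 14, 0, 2, 4, 6, 8, 10, 12] (.cons [6, 10, 14, 12, 4, 2, 0, 6, 4, 8, 2, 12, 6, 8] .nil .nil) .nil) (.cons [0, 2, 4, 6, 16, 18, 10, 8, 6, 16, 4, 6, 8, 10, 12, 14] (.cons [12, 10, 6, 8, 0, 2, 4, 6, 14, 16, 10, 8, 4, 6, 14, 8, 10, 12, 6, 8, 10, 4, 6, 8, 2, 4, 6, 14, 16, 12, 10, 4, 6, 8, 2, 4, 6, 14, 0, 2, 4, 6, 8, 10, 12] (.cons [10, 2, 4, 6, 8, 10, 14, 4, 6, 12, 14, 8, 6, 4, 2] .nil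 .nil) .nil) (.cons [8, 2, 4, 6, 16, 18, 10, 8, 6, 16, 4, 6, 8, 10, 12, 14] .nil (.cons [6, 8, 4, 6, 16, 18, 10, 8, 6, 16, 4, 6, 8, 10, 12, 14] (.cons [4, 6, 14, 16, 10, 6, 2, 4, 6, 14, 8, 10, 12, 6, 8, 10, 4, 6, 8, 2, 4, 6, 14, 16, 14, 6, 8, 4, 6, 14, 0, 2, 4, 6, 8, 10, 12] (.cons [10, 2, 4, 6, 8, 2, 10, 4, 6, 12, 14, 8, 6, 4, 0, 2] .nil .nil) .nil) (.cons [8, 10, 4, 6, 8, 2, 4, 6, 16, 0, 2, 4, 6, 8, 10, 12, 14] (.cons [8, 6, 14, 10, 8, 6, 4, 14, 12, 8, 10, 6, 8, 2, 4, 6, 14, 16, 14, 12, 10, 6, 8, 4, 6, 14, 0, 2, 4, 6, 8, 10, 12] (.cons [12, 8, 6, 8, 10, 12, 14, 0, 6, 4, 2, 8, 6] .nil .nil) .nil) (.cons [12, 10, 4, 6, 8, 2, 4, 6, 16, 0, 2, 4, 6, 8, 10, 12, 14] (.cons [10, 8, 2, 4, 6, 14, 16, 6, 8, 2, 4, 6, 14,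 0, 2, 4, 6, 8, 10, 12] (.cons [12, 14, 4, 0, 2, 4, 6] .nil .nil) .nil) (.cons [16, 10, 4, 6, 8, 2, 4, 6, 16, 0, 2, 4, 6, 8, 10, 12, 14] .nil (.cons [18, 10, 4, 6, 8, 2, 4, 6, 16, 0, 2, 4, 6, 8, 10, 12, 14] (.cons [4, 6, 14, 16, 14, 10, 6, 8, 10, 6, 4, 2, 4, 6, 14, 12, 8, 10, 6, 8, 4, 6, 14, 16, 14, 12, 10, 6, 8, 2, 4, 6, 14, 0, 2, 4, 6, 8, 10, 12] (.cons [6, 8, 2, 4, 6, 12, 14, 2, 6, 4, 8, 12, 6, 4, 0, 2, 4, 8, 10] .nil .nil) .nil) (.cons [6, 16, 4, 6, 8, 2, 4, 6, 16, 0, 2, 4, 6, 8, 10, 12, 14] (.cons [14, 16, 4, 6, 14, 10, 8, 6, 4, 2, 0, 10, 14, 12, 8, 10, 6, 8, 4, 6, 14, 16, 12, 10, 6, 8, 4, 6, 14, 2, 4, 6, 8, 10, 12] (.cons [2, 6, 10, 12, 14, 6, 8, 4, 6, 10] .nil .nil) .nil) (.cons [18, 16, 4, 6, 8, 2, 4,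 6, 16, 0, 2, 4, 6, 8, 10, 12, 14] (.cons [8, 6, 14, 16, 4, 6, 14, 8, 10, 6, 8, 4, 6, 14, 16, 10, 6, 8, 2, 4, 6, 14, 0, 2, 4, 6, 8, 10, 12] (.cons [6, 8, 10, 6, 4, 12, 6, 8, 10, 14, 12, 6, 4, 0, 2, 12, 14] .nil .nil) .nil) (.cons [16, 18, 4, 6, 8, 2, 4, 6, 16, 0, 2, 4, 6, 8, 10, 12, 14] (.cons [10, 8, 2, 4, 6, 14, 16, 14, 8, 10, 6, 8, 2, 4, 6, 14, 0, 2, 4, 6, 8, 10, 12] (.cons [6, 2, 4, 0, 2, 10, 8, 4, 6, 8, 10] .nil .nil) .nil) (.cons [12, 8, 10, 6, 8, 2, 4, 6, 16, 0, 2, 4, 6, 8, 10, 12, 14] (.cons [16, 14, 12, 10, 4, 6, 8, 0, 2, 4, 6, 14, 16, 14, 12, 10, 6, 8, 2, 4, 6, 14, 0, 2, 4, 6, 8, 10, 12] (.cons [14, 12, 14, 6, 8, 4, 6, 12, 14, 10, 8, 6, 4, 2, 8, 10] .nil .nil) .nil) (.cons [16, 8, 10, 6, 8, 2, 4, 6,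 16, 0, 2, 4, 6, 8, 10, 12, 14] (.cons [6, 8, 4, 6, 14, 10, 8, 6, 4, 2, 0, 10, 14, 12, 8, 10, 6, 8, 4, 6, 14, 16, 12, 10, 6, 8, 4, 6, 14, 2, 4, 6, 8, 10, 12] (.cons [2, 4, 6, 12, 4, 8, 6, 4, 0, 2, 8, 10, 6, 4, 12, 14] (.cons [4, 0, 5, 1] .nil .nil) .nil) .nil) (.cons [18, 8, 10, 6, 8, 2, 4, 6, 16, 0, 2, 4, 6, 8, 10, 12, 14] (.cons [16, 14, 10, 12, 8, 10, 4, 6, 8, 2, 4, 6, 14, 16, 14, 10, 6, 8, 2, 4, 6, 14, 0, 2, 4, 6, 8, 10, 12] .nil .nil) (.cons [14, 12, 10, 6, 8, 2, 4, 6, 16, 0, 2, 4, 6, 8, 10, 12, 14] (.cons [14, 6, 8, 4, 6, 14, 16, 12, 10, 6, 8, 4, 6, 14, 2, 4, 6, 8, 10, 12] (.cons [12, 14, 6, 4, 0, 2, 4, 6, 8, 10] .nil .nil) .nil) (.cons [16, 12, 10, 6, 8, 2, 4, 6, 16, 0, 2, 4, 6, 8, 10, 12, 14] (.cons [10,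 4, 6, 8, 2, 4, 6, 14, 16, 14, 12, 10, 6, 8, 4, 6, 14, 10, 12, 8, 10, 4, 6, 8, 2, 4, 6, 14, 16, 10, 4, 6, 8, 2, 4, 6, 14, 0, 2, 4, 6, 8, 10, 12] .nil .nil) (.cons [18, 12, 10, 6, 8, 2, 4, 6, 16, 0, 2, 4, 6, 8, 10, 12, 14] (.cons [8, 6, 14, 16, 2, 10, 6, 4, 8, 6, 14, 10, 12, 8, 10, 4, 6, 8, 0, 2, 4, 6, 14, 16, 10, 8, 2, 4, 6, 14, 0, 2, 4, 6, 8, 10, 12] (.cons [8, 0, 2, 10, 8] .nil .nil) .nil) (.cons [18, 16, 10, 6, 8, 2, 4, 6, 16, 0, 2, 4, 6, 8, 10, 12, 14] (.cons [6, 14, 16, 4, 6, 14, 8, 10, 6, 8, 2, 4, 6, 14, 16, 8, 10, 4, 6, 8, 2, 4, 6, 14, 0, 2, 4, 6, 8, 10, 12] (.cons [4, 10, 8, 6, 12, 6, 4, 14, 12] .nil .nil) .nil) (.cons [16, 18, 10, 6, 8, 2, 4, 6, 16, 0, 2, 4, 6, 8, 10, 12, 14] (.cons [2, 4, 6, 14, 16,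 8, 6, 14, 10, 12, 8, 10, 4, 6, 8, 0, 2, 4, 6, 14, 16, 10, 4, 6, 8, 2, 4, 6, 14, 0, 2, 4, 6, 8, 10, 12] (.cons [12, 14, 4, 6, 2, 4, 10, 0, 2, 4, 6, 8, 10] .nil .nil) .nil) (.cons [16, 18, 16, 6, 8, 2, 4, 6, 16, 0, 2, 4, 6, 8, 10, 12, 14] .nil (.cons [6, 16, 18, 6, 8, 2, 4, 6, 16, 0, 2, 4, 6, 8, 10, 12, 14] (.cons [8, 2, 4, 6, 14, 16, 6, 8, 4, 6, 14, 10, 12, 8, 10, 4, 6, 8, 2, 4, 6, 14, 16, 14, 12, 10, 4, 6, 8, 2, 4, 6, 14, 0, 2, 4, 6, 8, 10, 12] (.cons [2, 4, 6, 0, 2, 4, 12, 6, 8, 10, 14, 12, 8, 6, 12, 14, 4, 6, 0, 2] .nil .nil) .nil) (.cons [18, 14, 12, 10, 8, 2, 4, 6, 16, 0, 2, 4, 6, 8, 10, 12, 14] (.cons [4, 6, 8, 2, 4, 6, 14, 16, 14, 12, 8, 10, 4, 6, 8, 2, 4, 6, 14, 0, 2, 4, 6, 8, 10, 12] (.cons [4, 0, 2,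 12, 14, 6, 4] .nil .nil) .nil) (.cons [16, 18, 12, 10, 8, 2, 4, 6, 16, 0, 2, 4, 6, 8, 10, 12, 14] (.cons [16, 6, 14, 12, 6, 8, 10, 4, 6, 8, 0, 2, 4, 6, 14, 16, 14, 12, 10, 4, 6, 8, 2, 4, 6, 14, 0, 2, 4, 6, 8, 10, 12] .nil .nil) (.cons [6, 16, 18, 10, 8, 2, 4, 6, 16, 0, 2, 4, 6, 8, 10, 12, 14] (.cons [6, 14, 10, 12, 8, 10, 6, 8, 0, 2, 4, 6, 14, 16, 8, 2, 4, 6, 14, 0, 2, 4, 6, 8, 10, 12] (.cons [8, 6, 12, 14, 6, 2, 4, 10, 8, 6, 4, 0, 2, 4, 6, 8, 10] .nil .nil) .nil) (.cons [4, 6, 16, 18, 8, 2, 4, 6, 16, 0, 2, 4, 6, 8, 10, 12, 14] (.cons [2, 10, 12, 8, 10, 6, 8, 4, 6, 14, 16, 12, 6, 8, 10, 4, 6, 8, 2, 4, 6, 14, 0, 2, 4, 6, 8, 10, 12] (.cons [8, 6, 12, 10, 8, 6, 4, 0, 2, 4, 6, 12, 14] (.cons [5, 2, 0, 4] .nil .nil)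 .nil) .nil) (.cons [8, 6, 16, 18, 8, 2, 4, 6, 16, 0, 2, 4, 6, 8, 10, 12, 14] (.cons [12, 8, 10, 6, 8, 4, 6, 14, 16, 14, 8, 10, 6, 8, 2, 4, 6, 14, 0, 2, 4, 6, 8, 10, 12] (.cons [14, 8, 4, 6, 12, 14, 8, 10, 6, 4, 2, 12, 6, 4] .nil .nil) .nil) (.cons [8, 4, 6, 16, 18, 2, 4, 6, 16, 0, 2, 4, 6, 8, 10, 12, 14] (.cons [10, 8, 6, 14, 16, 8, 10, 14, 6, 2, 4, 6, 14, 8, 10, 12, 6, 8, 10, 4, 6, 8, 0, 2, 4, 6, 14, 16, 6, 8, 4, 6, 14, 0, 2, 4, 6, 8, 10, 12] (.cons [4, 6, 12, 14, 0, 4, 2, 12, 6, 8, 10, 4, 8, 6, 4, 2] .nil .nil) .nil) (.cons [10, 8, 6, 16, 18, 2, 4, 6, 16, 0, 2, 4, 6, 8, 10, 12, 14] (.cons [2, 4, 6, 14, 16, 8, 6, 14, 10, 16, 8, 6, 4, 2, 0, 14, 10, 12, 8, 10, 6, 8, 4, 6, 14, 16, 8, 10, 6, 8, 4, 6, 14, 2, 4,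 6, 8, 10, 12] (.cons [4, 6, 0, 2, 14, 12, 14, 6, 8, 4, 6, 12, 14, 10, 8, 6, 4, 2, 8, 10] .nil .nil) .nil) (.cons [10, 12, 8, 10, 6, 8, 4, 6, 16, 0, 2, 4, 6, 8, 10, 12, 14] (.cons [16, 10, 8, 6, 14, 10, 12, 8, 10, 4, 6, 8, 0, 2, 4, 6, 14, 16, 14, 12, 10, 4, 6, 8, 2, 4, 6, 14, 0, 2, 4, 6, 8, 10, 12] (.cons [4, 6, 12, 6, 8, 6, 2, 4, 6, 0, 2, 8, 10, 12, 14] (.cons [3, 1, 1, 4, 4] .nil .nil) .nil) .nil) (.cons [14, 12, 8, 10, 6, 8, 4, 6, 16, 0, 2, 4, 6, 8, 10, 12, 14] (.cons [8, 6, 14, 6, 8, 10, 4, 6, 8, 2, 4, 6, 14, 16, 14, 12, 10, 4, 6, 8, 2, 4, 6, 14, 0, 2, 4, 6, 8, 10, 12] (.cons [6, 8, 2, 10, 6, 12, 14, 4, 2, 8, 6] .nil .nil) .nil) (.cons [16, 12, 8, 10, 6, 8, 4, 6, 16, 0, 2, 4, 6, 8, 10, 12, 14] (.cons [6,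 14, 8, 10, 4, 6, 8, 0, 2, 4, 6, 14, 16, 12, 10, 4, 6, 8, 2, 4, 6, 14, 0, 2, 4, 6, 8, 10, 12] (.cons [14, 8, 6, 4, 0, 2, 8, 6, 10, 4] .nil .nil) .nil) (.cons [18, 12, 8, 10, 6, 8, 4, 6, 16, 0, 2, 4, 6, 8, 10, 12, 14] (.cons [2, 4, 6, 14, 16, 14, 10, 6, 8, 4, 6, 14, 10, 12, 8, 10, 4, 6, 8, 2, 4, 6, 14, 16, 8, 10, 6, 8, 2, 4, 6, 14, 0, 2, 4, 6, 8, 10, 12] (.cons [14, 12, 2, 6, 8, 10, 12, 6, 8] .nil .nil) .nil) (.cons [6, 16, 8, 10, 6, 8, 4, 6, 16, 0, 2, 4, 6, 8, 10, 12, 14] (.cons [14, 16, 12, 10, 8, 6, 14, 10, 4, 6, 8, 2, 4, 6, 14, 16, 6, 8, 10, 4, 6, 8, 2, 4, 6, 14, 0, 2, 4, 6, 8, 10, 12] .nil .nil) (.cons [18, 16, 8, 10, 6, 8, 4, 6, 16, 0, 2, 4, 6, 8, 10, 12, 14] .nil (.cons [16, 18, 8, 10, 6, 8, 4, 6, 16, 0,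 2, 4, 6, 8, 10, 12, 14] (.cons [16, 4, 2, 0, 6, 14, 8, 10, 6, 8, 4, 6, 14, 16, 12, 8, 10, 6, 8, 4, 6, 14, 2, 4, 6, 8, 10, 12] (.cons [4, 8, 10, 6, 8, 4, 2, 6, 10, 8] (.cons [2, 2, 0, 3] .nil .nil) .nil) .nil) (.cons [16, 14, 12, 10, 6, 8, 4, 6, 16, 0, 2, 4, 6, 8, 10, 12, 14] (.cons [16, 6, 14, 8, 10, 4, 6, 8, 2, 4, 6, 14, 16, 12, 10, 6, 8, 2, 4, 6, 14, 0, 2, 4, 6, 8, 10, 12] .nil .nil) (.cons [18, 14, 12, 10, 6, 8, 4, 6, 16, 0, 2, 4, 6, 8, 10, 12, 14] (.cons [16, 10, 8, 6, 14, 10, 4, 6, 8, 0, 2, 4, 6, 14, 16, 12, 8, 10, 4, 6, 8, 2, 4, 6, 14, 0, 2, 4, 6, 8, 10, 12] (.cons [10, 8, 14, 12, 6, 4, 2, 12, 6, 4, 12, 14] .nil .nil) .nil) (.cons [18, 16, 12, 10, 6, 8, 4, 6, 16, 0, 2, 4, 6, 8, 10, 12, 14] (.cons [8, 0,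 2, 4, 6, 14, 16, 10, 8, 6, 8, 10, 4, 2, 6, 14, 8, 4, 6, 14, 10, 12, 8, 10, 6, 8, 4, 6, 14, 16, 8, 2, 4, 6, 14, 0, 2, 4, 6, 8, 10, 12] (.cons [8, 6, 12, 14, 10, 2, 4, 6, 8, 10, 12, 6, 4, 2] (.cons [0, 4, 1, 4] .nil .nil) .nil) .nil) (.cons [16, 18, 16, 10, 6, 8, 4, 6, 16, 0, 2, 4, 6, 8, 10, 12, 14] .nil (.cons [6, 16, 18, 10, 6, 8, 4, 6, 16, 0, 2, 4, 6, 8, 10, 12, 14] (.cons [4, 6, 14, 16, 8, 6, 12, 10, 8, 2, 4, 6, 14, 12, 8, 10, 4, 6, 8, 0, 2, 4, 6, 14, 16, 12, 10, 8, 2, 4, 6, 14, 0, 2, 4, 6, 8, 10, 12] .nil .nil) (.cons [6, 16, 18, 16, 6, 8, 4, 6, 16, 0, 2, 4, 6, 8, 10, 12, 14] (.cons [0, 2, 4, 6, 14, 8, 10, 6, 8, 4, 6, 14, 16, 12, 10, 4, 6, 8, 2, 4, 6, 14, 0, 2, 4, 6, 8, 10, 12] (.cons [12, 10, 8, 10, 14,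 12, 6, 4, 2, 8, 6] .nil .nil) .nil) (.cons [4, 6, 16, 18, 6, 8, 4, 6, 16, 0, 2, 4, 6, 8, 10, 12, 14] (.cons [10, 4, 6, 8, 2, 4, 6, 14, 16, 10, 8, 4, 6, 14, 8, 10, 12, 6, 8, 10, 4, 6, 8, 2, 4, 6, 14, 16, 10, 4, 6, 8, 2, 4, 6, 14, 0, 2, 4, 6, 8, 10, 12] (.cons [8, 10, 4, 6, 0, 2, 4, 12, 6, 8, 10, 14, 4, 6, 12, 14, 8, 6, 4, 2] .nil .nil) .nil) (.cons [8, 6, 16, 18, 6, 8, 4, 6, 16, 0, 2, 4, 6, 8, 10, 12, 14] (.cons [10, 6, 8, 4, 6, 14, 16, 6, 8, 4, 6, 14, 10, 12, 6, 8, 10, 4, 6, 8, 2, 4, 6, 14, 16, 8, 10, 4, 6, 8, 2, 4, 6, 14, 0, 2, 4, 6, 8, 10, 12] .nil .nil) (.cons [16, 18, 14, 12, 10, 8, 4, 6, 16, 0, 2, 4, 6, 8, 10, 12, 14] .nil (.cons [6, 16, 18, 12, 10, 8, 4, 6, 16, 0, 2, 4, 6, 8, 10, 12, 14] (.cons [12, 10,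 8, 6, 14, 6, 8, 10, 4, 6, 8, 2, 4, 6, 14, 16, 12, 8, 10, 4, 6, 8, 2, 4, 6, 14, 0, 2, 4, 6, 8, 10, 12] (.cons [4, 6, 12, 14, 8, 12, 6, 4, 0, 2, 8, 6, 10, 4] .nil .nil) .nil) (.cons [4, 6, 16, 18, 10, 8, 4, 6, 16, 0, 2, 4, 6, 8, 10, 12, 14] (.cons [16, 8, 2, 4, 6, 14, 10, 12, 6, 8, 10, 4, 6, 8, 2, 4, 6, 14, 16, 8, 10, 6, 8, 2, 4, 6, 14, 0, 2, 4, 6, 8, 10, 12] .nil .nil) (.cons [8, 6, 16, 18, 10, 8, 4, 6, 16, 0, 2, 4, 6, 8, 10, 12, 14] (.cons [8, 6, 14, 10, 12, 8, 10, 6, 8, 4, 6, 14, 16, 14, 10, 4, 6, 8, 2, 4, 6, 14, 0, 2, 4, 6, 8, 10, 12] (.cons [12, 6, 8, 2, 10, 0, 6, 4, 2, 4, 12, 14, 8] (.cons [0, 3, 5, 2] .nil .nil) .nil) .nil) (.cons [2, 4, 6, 16, 18, 8, 4, 6, 16, 0, 2, 4, 6, 8, 10, 12, 14] .nil (.cons [8,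 4, 6, 16, 18, 8, 4, 6, 16, 0, 2, 4, 6, 8, 10, 12, 14] (.cons [12, 10, 4, 6, 8, 4, 2, 14, 6, 4, 8, 6, 14, 10, 12, 8, 10, 6, 8, 4, 6, 14, 16, 2, 4, 6, 14, 0, 2, 4, 6, 8, 10, 12] .nil .nil) (.cons [10, 8, 6, 16, 18, 8, 4, 6, 16, 0, 2, 4, 6, 8, 10, 12, 14] (.cons [8, 6, 14, 16, 6, 14, 4, 6, 8, 2, 4, 6, 14, 0, 2, 4, 6, 8, 10, 12] (.cons [14, 12, 6, 4, 0, 2, 6, 8, 10, 12] .nil .nil) .nil) (.cons [12, 10, 8, 6, 16, 18, 4, 6, 16, 0, 2, 4, 6, 8, 10, 12, 14] .nil (.cons [4, 6, 16, 18, 12, 10, 8, 6, 16, 0, 2, 4, 6, 8, 10, 12, 14] (.cons [8, 10, 12, 6, 8, 10, 4, 6, 8, 2, 4, 6, 14, 16, 10, 6, 8, 2, 4, 6, 14, 0, 2, 4, 6, 8, 10, 12] (.cons [12, 14, 10, 4, 8, 6, 4, 2] .nil .nil) .nil) (.cons [8, 6, 16, 18, 12, 10, 8, 6, 16,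 0, 2, 4, 6, 8, 10, 12, 14] (.cons [0, 2, 4, 6, 14, 16, 6, 8, 4, 6, 14, 10, 12, 8, 10, 4, 6, 8, 2, 4, 6, 14, 16, 12, 8, 10, 6, 8, 2, 4, 6, 14, 0, 2, 4, 6, 8, 10, 12] (.cons [12, 6, 0, 12, 4, 2, 14, 6, 8, 4, 6, 12, 14, 10, 8, 6, 4, 2, 8, 10] .nil .nil) .nil) (.cons [2, 4, 6, 16, 18, 10, 8, 6, 16, 0, 2, 4, 6, 8, 10, 12, 14] (.cons [16, 14, 6, 4, 2, 16, 0, 6, 14, 12, 8, 10, 6, 8, 4, 6, 14, 16, 8, 10, 6, 8, 4, 6, 14, 2, 4, 6, 8, 10, 12] (.cons [8, 6, 12, 14, 4, 2, 4, 12, 6, 4, 2, 8, 10] .nil .nil) .nil) (.cons [8, 4, 6, 16, 18, 10, 8, 6, 16, 0, 2, 4, 6, 8, 10, 12, 14] (.cons [6, 8, 0, 2, 4, 6, 14, 16, 12, 10, 8, 4, 6, 14, 2, 4, 6, 8, 10, 12] .nil .nil) (.cons [0, 2, 4, 6, 16, 18, 8, 6, 16, 0, 2, 4, 6, 8, 10, 12,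 14] (.cons [16, 14, 10, 12, 8, 10, 6, 8, 2, 4, 6, 14, 16, 12, 10, 6, 8, 2, 4, 6, 14, 0, 2, 4, 6, 8, 10, 12] (.cons [14, 10, 12, 6, 4, 0, 2, 6, 12, 4, 14, 12] .nil .nil) .nil) (.cons [14, 10, 12, 8, 10, 6, 8, 4, 6, 16, 2, 4, 6, 8, 10, 12, 14] (.cons [4, 6, 14, 8, 10, 6, 8, 0, 2, 4, 6, 14, 16, 12, 10, 6, 8, 2, 4, 6, 14, 0, 2, 4, 6, 8, 10, 12] .nil .nil) (.cons [16, 10, 12, 8, 10, 6, 8, 4, 6, 16, 2, 4, 6, 8, 10, 12, 14] .nil (.cons [18, 10, 12, 8, 10, 6, 8, 4, 6, 16, 2, 4, 6, 8, 10, 12, 14] (.cons [16, 2, 4, 6, 14, 10, 12, 8, 10, 6, 8, 2, 4, 6, 14, 16, 10, 4, 6, 8, 2, 4, 6, 14, 0, 2, 4, 6, 8, 10, 12] (.cons [6, 12, 6, 4, 2, 6, 8, 4, 12, 6, 8, 10] .nil .nil) .nil) (.cons [16, 14, 12, 8, 10, 6, 8, 4, 6, 16, 2, 4,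 6, 8, 10, 12, 14] (.cons [6, 14, 8, 10, 6, 8, 0, 2, 4, 6, 14, 16, 12, 10, 6, 8, 2, 4, 6, 14, 0, 2, 4, 6, 8, 10, 12] (.cons [14, 4, 0, 2, 10, 8, 4, 6, 8, 10] .nil .nil) .nil) (.cons [18, 14, 12, 8, 10, 6, 8, 4, 6, 16, 2, 4, 6, 8, 10, 12, 14] (.cons [10, 8, 4, 6, 14, 16, 6, 14, 12, 10, 4, 6, 8, 2, 4, 6, 14, 0, 2, 4, 6, 8, 10, 12] (.cons [12, 6, 4, 12, 14, 6, 8, 0, 2, 10, 8] .nil .nil) .nil) (.cons [6, 16, 12, 8, 10, 6, 8, 4, 6, 16, 2, 4, 6, 8, 10, 12, 14] (.cons [6, 14, 16, 8, 6, 10, 4, 0, 2, 6, 14, 8, 4, 6, 14, 10, 12, 8, 10, 6, 8, 4, 6, 14, 16, 8, 2, 4, 6, 14, 0, 2, 4, 6, 8, 10, 12] (.cons [14, 6, 4, 2, 12, 6, 8, 10, 8] .nil .nil) .nil) (.cons [18, 16, 12, 8, 10, 6, 8, 4, 6, 16, 2, 4, 6, 8, 10, 12, 14] (.cons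 [16, 14, 12, 8, 10, 6, 8, 2, 4, 6, 14, 16, 6, 14, 12, 10, 4, 6, 8, 2, 4, 6, 14, 0, 2, 4, 6, 8, 10, 12] (.cons [12, 0, 2, 4, 6, 8, 10, 12, 6, 4, 12, 14] .nil .nil) .nil) (.cons [16, 18, 12, 8, 10, 6, 8, 4, 6, 16, 2, 4, 6, 8, 10, 12, 14] (.cons [16, 2, 4, 6, 14, 8, 10, 4, 6, 8, 0, 2, 4, 6, 14, 16, 14, 12, 10, 4, 6, 8, 2, 4, 6, 14, 0, 2, 4, 6, 8, 10, 12] (.cons [12, 14, 8, 6, 12, 8, 10, 6, 4, 2, 14, 12] .nil .nil) .nil) (.cons [4, 6, 16, 8, 10, 6, 8, 4, 6, 16, 2, 4, 6, 8, 10, 12, 14] (.cons [6, 14, 16, 10, 8, 2, 4, 6, 14, 12, 8, 10, 4, 6, 8, 2, 4, 6, 14, 16, 10, 4, 6, 8, 2, 4, 6, 14, 0, 2, 4, 6, 8, 10, 12] .nil .nil) (.cons [18, 6, 16, 8, 10, 6, 8, 4, 6, 16, 2, 4, 6, 8, 10, 12, 14] (.cons [8, 2, 4, 6, 14, 6, 8,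 10, 4, 6, 8, 2, 4, 6, 14, 16, 8, 10, 6, 8, 2, 4, 6, 14, 0, 2, 4, 6, 8, 10, 12] (.cons [8, 6, 12, 14, 2, 4, 10, 8, 6, 4, 0, 2, 4, 6, 8, 10] .nil .nil) .nil) (.cons [16, 18, 16, 8, 10, 6, 8, 4, 6, 16, 2, 4, 6, 8, 10, 12, 14] (.cons [0, 2, 4, 6, 14, 16, 14, 6, 8, 4, 6, 14, 10, 12, 8, 10, 4, 6, 8, 2, 4, 6, 14, 16, 8, 10, 4, 6, 8, 2, 4, 6, 14, 0, 2, 4, 6, 8, 10, 12] .nil .nil) (.cons [6, 16, 18, 8, 10, 6, 8, 4, 6, 16, 2, 4, 6, 8, 10, 12, 14] (.cons [8, 6, 14, 16, 8, 10, 6, 4, 2, 6, 14, 16, 8, 6, 14, 10, 12, 8, 10, 6, 8, 4, 6, 14, 16, 8, 2, 4, 6, 14, 0, 2, 4, 6, 8, 10, 12] (.cons [14, 12, 6, 8, 10, 8, 6, 4, 2, 12, 6, 4] .nil .nil) .nil) (.cons [18, 16, 14, 12, 10, 6, 8, 4, 6, 16, 2, 4, 6, 8, 10, 12, 14] .nil (.cons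 [16, 18, 14, 12, 10, 6, 8, 4, 6, 16, 2, 4, 6, 8, 10, 12, 14] (.cons [16, 14, 6, 8, 4, 6, 14, 16, 14, 12, 10, 4, 6, 8, 2, 4, 6, 14, 0, 2, 4, 6, 8, 10, 12] (.cons [2, 4, 0, 2, 12, 6, 4, 2, 10, 8, 6, 8, 10] .nil .nil) .nil) (.cons [16, 18, 16, 12, 10, 6, 8, 4, 6, 16, 2, 4, 6, 8, 10, 12, 14] (.cons [0, 2, 4, 6, 14, 8, 10, 6, 4, 2, 14, 6, 16, 14, 8, 4, 6, 14, 10, 12, 8, 10, 6, 8, 4, 6, 14, 16, 8, 2, 4, 6, 14, 0, 2, 4, 6, 8, 10, 12] (.cons [12, 6, 8, 10, 14, 12, 8, 6, 12, 14, 4, 6, 2] .nil .nil) .nil) (.cons [6, 16, 18, 12, 10, 6, 8, 4, 6, 16, 2, 4, 6, 8, 10, 12, 14] (.cons [6, 14, 16, 4, 6, 14, 12, 8, 10, 6, 8, 4, 6, 14, 16, 14, 12, 8, 10, 6, 8, 2, 4, 6, 14, 0, 2, 4, 6, 8, 10, 12] .nil .nil) (.cons [6, 16, 18, 16,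 10, 6, 8, 4, 6, 16, 2, 4, 6, 8, 10, 12, 14] (.cons [2, 4, 6, 14, 16, 8, 6, 14, 10, 4, 6, 8, 2, 4, 6, 14, 16, 8, 10, 4, 6, 8, 2, 4, 6, 14, 0, 2, 4, 6, 8, 10, 12] .nil .nil) (.cons [4, 6, 16, 18, 10, 6, 8, 4, 6, 16, 2, 4, 6, 8, 10, 12, 14] (.cons [8, 2, 4, 6, 14, 16, 8, 10, 6, 8, 4, 6, 14, 10, 12, 8, 10, 6, 8, 0, 2, 4, 6, 14, 16, 12, 10, 8, 2, 4, 6, 14, 0, 2, 4, 6, 8, 10, 12] (.cons [4, 6, 8, 2, 4, 6, 12, 10, 2, 8, 6, 4, 2, 6, 8, 10, 12, 14, 6, 4] .nil .nil) .nil) (.cons [8, 6, 16, 18, 10, 6, 8, 4, 6, 16, 2, 4, 6, 8, 10, 12, 14] (.cons [10, 8, 6, 14, 16, 4, 6, 14, 8, 10, 12, 6, 8, 10, 4, 6, 8, 2, 4, 6, 14, 16, 6, 8, 4, 6, 14, 0, 2, 4, 6, 8, 10, 12] (.cons [12, 6, 4, 2, 4, 6, 12, 14] .nil .nil) .nil) (.cons [4,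 6, 16, 18, 16, 6, 8, 4, 6, 16, 2, 4, 6, 8, 10, 12, 14] (.cons [16, 6, 14, 10, 12, 6, 8, 10, 4, 6, 8, 0, 2, 4, 6, 14, 16, 8, 10, 4, 6, 8, 2, 4, 6, 14, 0, 2, 4, 6, 8, 10, 12] (.cons [8, 0, 2, 4, 6, 12, 10, 8, 6, 2, 4, 6, 0, 2, 8, 10, 12, 14] .nil .nil) .nil) (.cons [8, 6, 16, 18, 16, 6, 8, 4, 6, 16, 2, 4, 6, 8, 10, 12, 14] (.cons [10, 8, 6, 14, 8, 10, 4, 6, 8, 2, 4, 6, 14, 16, 8, 10, 4, 6, 8, 2, 4, 6, 14, 0, 2, 4, 6, 8, 10, 12] (.cons [14, 10, 2, 0, 4, 2, 8, 6, 12, 14, 8, 6, 4, 12] .nil .nil) .nil) (.cons [2, 4, 6, 16, 18, 6, 8, 4, 6, 16, 2, 4, 6, 8, 10, 12, 14] .nil (.cons [8, 4, 6, 16, 18, 6, 8, 4, 6, 16, 2, 4, 6, 8, 10, 12, 14] .nil (.cons [10, 8, 6, 16, 18, 6, 8, 4, 6, 16, 2, 4, 6, 8, 10, 12, 14] (.cons [16,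 8, 6, 14, 10, 4, 6, 8, 2, 4, 6, 14, 16, 6, 14, 10, 4, 6, 8, 2, 4, 6, 14, 0, 2, 4, 6, 8, 10, 12] .nil .nil) (.cons [6, 16, 18, 14, 12, 10, 8, 4, 6, 16, 2, 4, 6, 8, 10, 12, 14] .nil (.cons [4, 6, 16, 18, 12, 10, 8, 4, 6, 16, 2, 4, 6, 8, 10, 12, 14] (.cons [14, 6, 8, 2, 4, 6, 14, 16, 14, 12, 10, 6, 8, 4, 6, 14, 0, 2, 4, 6, 8, 10, 12] .nil .nil) (.cons [2, 4, 6, 16, 18, 10, 8, 4, 6, 16, 2, 4, 6, 8, 10, 12, 14] .nil (.cons [8, 4, 6, 16, 18, 10, 8, 4, 6, 16, 2, 4, 6, 8, 10, 12, 14] (.cons [4, 6, 8, 2, 4, 6, 14, 16, 14, 6, 8, 2, 4, 6, 14, 10, 12, 6, 8, 10, 4, 6, 8, 2, 4, 6, 14, 16, 12, 10, 6, 8, 2, 4, 6, 14, 0, 2, 4, 6, 8, 10, 12] (.cons [12, 2, 4, 6, 8, 0, 2, 4, 10, 12, 14, 8] .nil .nil) .nil) (.cons [10, 8, 6, 16,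 18, 10, 8, 4, 6, 16, 2, 4, 6, 8, 10, 12, 14] (.cons [8, 4, 6, 14, 8, 10, 4, 6, 8, 2, 4, 6, 14, 16, 8, 10, 4, 6, 8, 2, 4, 6, 14, 0, 2, 4, 6, 8, 10, 12] (.cons [0, 4, 8, 2, 6, 8] .nil .nil) .nil) (.cons [0, 2, 4, 6, 16, 18, 8, 4, 6, 16, 2, 4, 6, 8, 10, 12, 14] (.cons [14, 16, 6, 14, 10, 12, 8, 10, 4, 6, 8, 2, 4, 6, 14, 16, 12, 10, 8, 2, 4, 6, 14, 0, 2, 4, 6, 8, 10, 12] .nil .nil) (.cons [10, 8, 4, 6, 16, 18, 8, 4, 6, 16, 2, 4, 6, 8, 10, 12, 14] .nil (.cons [12, 10, 8, 6, 16, 18, 8, 4, 6, 16, 2, 4, 6, 8, 10, 12, 14] (.cons [16, 6, 14, 4, 6, 8, 0, 2, 4, 6, 14, 16, 12, 6, 8, 10, 4, 6, 8, 2, 4, 6, 14, 0, 2, 4, 6, 8, 10, 12] (.cons [12, 14, 0, 2, 8, 4, 6, 8, 10] .nil .nil) .nil) (.cons [14, 12, 10, 8, 6, 16, 18, 4,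 6, 16, 2, 4, 6, 8, 10, 12, 14] (.cons [6, 14, 16, 4, 6, 14, 10, 12, 8, 10, 4, 6, 8, 2, 4, 6, 14, 16, 12, 10, 6, 8, 2, 4, 6, 14, 0, 2, 4, 6, 8, 10, 12] (.cons [8, 4, 2, 4, 10, 8, 12] .nil .nil) .nil) (.cons [4, 6, 16, 18, 14, 12, 10, 8, 6, 16, 2, 4, 6, 8, 10, 12, 14] .nil (.cons [8, 6, 16, 18, 14, 12, 10, 8, 6, 16, 2, 4, 6, 8, 10, 12, 14] (.cons [14, 16, 14, 12, 10, 6, 8, 4, 6, 14, 2, 4, 6, 8, 10, 12] (.cons [4, 6, 8, 2, 10, 12, 6, 4, 12, 6, 8, 10, 6, 12, 14, 4, 8, 6, 4, 2] .nil .nil) .nil) (.cons [8, 4, 6, 16, 18, 12, 10, 8, 6, 16, 2, 4, 6, 8, 10, 12, 14] (.cons [14, 16, 10, 8, 6, 14, 0, 2, 4, 6, 8, 10, 12] (.cons [12, 6, 8, 4, 6, 2, 4, 0, 2, 8, 4, 6, 8, 10] .nil .nil) .nil) (.cons [10, 8, 6, 16, 18, 12, 10,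 8, 6, 16, 2, 4, 6, 8, 10, 12, 14] (.cons [14, 16, 4, 6, 14, 12, 8, 10, 4, 6, 8, 0, 2, 4, 6, 14, 16, 12, 10, 6, 8, 2, 4, 6, 14, 0, 2, 4, 6, 8, 10, 12] .nil .nil) (.cons [0, 2, 4, 6, 16, 18, 10, 8, 6, 16, 2, 4, 6, 8, 10, 12, 14] (.cons [2, 4, 6, 14, 8, 10, 4, 6, 8, 0, 2, 4, 6, 14, 16, 10, 6, 8, 2, 4, 6, 14, 0, 2, 4, 6, 8, 10, 12] (.cons [10, 8, 12, 6, 4, 2, 10, 4, 6, 12, 14, 8, 6, 10] .nil .nil) .nil) (.cons [8, 2, 4, 6, 16, 18, 10, 8, 6, 16, 2, 4, 6, 8, 10, 12, 14] (.cons [16, 8, 10, 6, 8, 2, 4, 6, 14, 12, 8, 10, 6, 8, 0, 2, 4, 6, 14, 16, 12, 10, 8, 2, 4, 6, 14, 0, 2, 4, 6, 8, 10, 12] (.cons [10, 4, 12, 6, 8, 10, 14, 4, 6, 12, 14, 8, 6, 4, 0, 2] .nil .nil) .nil) (.cons [2, 4, 6, 16, 18, 14, 12, 10, 8, 6, 16,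 4, 6, 8, 10, 12, 14] (.cons [10, 8, 2, 4, 6, 14, 16, 12, 8, 10, 6, 8, 4, 6, 14, 0, 2, 4, 6, 8, 10, 12] (.cons [4, 6, 8, 0, 2, 4, 6, 12, 14, 10, 6, 8, 4, 6, 4, 0, 2, 8, 4, 6, 8, 10] .nil .nil) .nil) (.cons [8, 4, 6, 16, 18, 14, 12, 10, 8, 6, 16, 4, 6, 8, 10, 12, 14] (.cons [8, 10, 4, 6, 8, 2, 4, 6, 14, 16, 12, 8, 10, 6, 8, 4, 6, 14, 0, 2, 4, 6, 8, 10, 12] (.cons [14, 6, 8, 10, 12, 6, 2, 4, 6, 2] .nil .nil) .nil) (.cons [10, 8, 6, 16, 18, 14, 12, 10, 8, 6, 16, 4, 6, 8, 10, 12, 14] (.cons [8, 2, 4, 6, 14, 16, 10, 12, 6, 8, 10, 4, 6, 8, 2, 4, 6, 14, 0, 2, 4, 6, 8, 10, 12] (.cons [10, 8, 6, 12, 8, 6, 4, 2, 4, 8, 10, 14, 12] .nil .nil) .nil) (.cons [0, 2, 4, 6, 16, 18, 12, 10, 8, 6, 16, 4, 6, 8, 10, 12, 14] (.cons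 [8, 10, 4, 6, 8, 2, 4, 6, 14, 16, 14, 10, 6, 8, 4, 6, 14, 0, 2, 4, 6, 8, 10, 12] (.cons [10, 8, 6, 12, 14, 4, 10, 6, 8, 6, 4, 0, 2, 4, 10, 8] .nil .nil) .nil) (.cons [8, 2, 4, 6, 16, 18, 12, 10, 8, 6, 16, 4, 6, 8, 10, 12, 14] (.cons [14, 10, 12, 8, 10, 4, 6, 8, 0, 2, 4, 6, 14, 16, 8, 10, 6, 8, 2, 4, 6, 14, 0, 2, 4, 6, 8, 10, 12] (.cons [10, 4, 6, 8, 10, 12, 6, 4, 2] .nil .nil) .nil) (.cons [6, 8, 4, 6, 16, 18, 12, 10, 8, 6, 16, 4, 6, 8, 10, 12, 14] (.cons [10, 8, 6, 14, 16, 14, 12, 8, 10, 4, 6, 8, 2, 4, 6, 14, 0, 2, 4, 6, 8, 10, 12] (.cons [6, 8, 4, 6, 12, 14, 8, 6, 0, 2, 8, 10, 4, 6, 0, 2] .nil .nil) .nil) (.cons [10, 8, 4, 6, 16, 18, 12, 10, 8, 6, 16, 4, 6, 8, 10, 12, 14] (.cons [2, 4, 6, 14, 10, 12, 8, 10,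 6, 8, 2, 4, 6, 14, 16, 14, 4, 6, 8, 2, 4, 6, 14, 0, 2, 4, 6, 8, 10, 12] .nil .nil) (.cons [8, 0, 2, 4, 6, 16, 18, 10, 8, 6, 16, 4, 6, 8, 10, 12, 14] (.cons [8, 10, 4, 6, 8, 2, 4, 6, 14, 16, 10, 6, 8, 4, 6, 14, 0, 2, 4, 6, 8, 10, 12] (.cons [8, 6, 12, 2, 4, 8, 10, 0, 2, 4, 6, 12, 14] .nil .nil) .nil) (.cons [6, 8, 2, 4, 6, 16, 18, 10, 8, 6, 16, 4, 6, 8, 10, 12, 14] .nil (.cons [16, 6, 8, 4, 6, 16, 18, 10, 8, 6, 16, 4, 6, 8, 10, 12, 14] (.cons [2, 4, 6, 8, 0, 2, 4, 6, 14, 16, 6, 8, 4, 6, 14, 8, 10, 12, 6, 8, 10, 4, 6, 8, 2, 4, 6, 14, 16, 8, 10, 4, 6, 8, 2, 4, 6, 14, 0, 2, 4, 6, 8, 10, 12] .nil .nil) (.cons [6, 8, 10, 4, 6, 8, 2, 4, 6, 16, 0, 2, 4, 6, 8, 10, 12, 14] (.cons [12, 10, 2, 4, 6, 8, 0, 2, 4, 6, 14, 16,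 8, 10, 4, 6, 8, 2, 4, 6, 14, 0, 2, 4, 6, 8, 10, 12] (.cons [10, 8, 6, 12, 4, 0, 2, 14, 8, 12] .nil .nil) .nil) (.cons [16, 8, 10, 4, 6, 8, 2, 4, 6, 16, 0, 2, 4, 6, 8, 10, 12, 14] (.cons [6, 14, 12, 8, 10, 4, 6, 8, 2, 4, 6, 14, 16, 14, 10, 4, 6, 8, 2, 4, 6, 14, 0, 2, 4, 6, 8, 10, 12] .nil .nil) (.cons [18, 8, 10, 4, 6, 8, 2, 4, 6, 16, 0, 2, 4, 6, 8, 10, 12, 14] (.cons [2, 4, 6, 14, 16, 12, 10, 8, 4, 6, 14, 10, 12, 8, 10, 4, 6, 8, 2, 4, 6, 14, 16, 12, 10, 6, 8, 2, 4, 6, 14, 0, 2, 4, 6, 8, 10, 12] (.cons [12, 14, 6, 10] .nil .nil) .nil) (.cons [14, 12, 10, 4, 6, 8, 2, 4, 6, 16, 0, 2, 4, 6, 8, 10, 12, 14] (.cons [4, 6, 8, 0, 2, 4, 6, 14, 16, 12, 8, 10, 4, 6, 8, 2, 4, 6, 14, 0, 2, 4, 6, 8, 10, 12] (.cons [4, 6, 8,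 12, 14, 6, 0, 4, 8, 2, 6, 8] .nil .nil) .nil) (.cons [16, 12, 10, 4, 6, 8, 2, 4, 6, 16, 0, 2, 4, 6, 8, 10, 12, 14] (.cons [12, 8, 10, 4, 6, 8, 0, 2, 4, 6, 14, 16, 12, 8, 10, 6, 8, 2, 4, 6, 14, 0, 2, 4, 6, 8, 10, 12] (.cons [10, 0, 6, 4, 2, 12, 6, 4] .nil .nil) .nil) (.cons [18, 12, 10, 4, 6, 8, 2, 4, 6, 16, 0, 2, 4, 6, 8, 10, 12, 14] (.cons [16, 0, 2, 4, 6, 14, 12, 8, 10, 6, 8, 0, 2, 4, 6, 14, 16, 12, 10, 4, 6, 8, 2, 4, 6, 14, 0, 2, 4, 6, 8, 10, 12] (.cons [8, 10, 12, 2, 0, 6, 4, 8, 2, 12, 6, 8] .nil .nil) .nil) (.cons [6, 16, 10, 4, 6, 8, 2, 4, 6, 16, 0, 2, 4, 6, 8, 10, 12, 14] (.cons [14, 16, 12, 10, 8, 6, 14, 8, 10, 4, 6, 8, 2, 4, 6, 14, 16, 10, 4, 6, 8, 2, 4, 6, 14, 0, 2, 4, 6, 8, 10, 12] (.cons [14, 0,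 2, 8, 4, 6, 10] .nil .nil) .nil) (.cons [18, 16, 10, 4, 6, 8, 2, 4, 6, 16, 0, 2, 4, 6, 8, 10, 12, 14] (.cons [6, 8, 10, 2, 4, 6, 8, 0, 2, 4, 6, 14, 16, 8, 10, 4, 6, 8, 2, 4, 6, 14, 0, 2, 4, 6, 8, 10, 12] (.cons [10, 6, 8, 4, 12, 6, 8, 10] .nil .nil) .nil) (.cons [16, 18, 10, 4, 6, 8, 2, 4, 6, 16, 0, 2, 4, 6, 8, 10, 12, 14] (.cons [8, 16, 14, 6, 4, 8, 10, 16, 6, 14, 12, 8, 10, 6, 8, 4, 6, 14, 16, 2, 4, 6, 14, 0, 2, 4, 6, 8, 10, 12] (.cons [14, 0, 2, 4, 12, 6, 2, 12, 8, 10, 6, 8, 12] .nil .nil) .nil) (.cons [8, 6, 16, 4, 6, 8, 2, 4, 6, 16, 0, 2, 4, 6, 8, 10, 12, 14] (.cons [6, 14, 16, 8, 6, 14, 10, 4, 6, 8, 0, 2, 4, 6, 14, 16, 8, 10, 4, 6, 8, 2, 4, 6, 14, 0, 2, 4, 6, 8, 10, 12] (.cons [6, 12, 14, 8, 4, 2, 0, 4,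 12, 6, 4, 2, 8, 10] .nil .nil) .nil) (.cons [18, 6, 16, 4, 6, 8, 2, 4, 6, 16, 0, 2, 4, 6, 8, 10, 12, 14] (.cons [16, 10, 8, 2, 4, 6, 14, 8, 10, 4, 6, 8, 2, 4, 6, 14, 16, 8, 10, 6, 8, 2, 4, 6, 14, 0, 2, 4, 6, 8, 10, 12] .nil .nil) (.cons [16, 18, 16, 4, 6, 8, 2, 4, 6, 16, 0, 2, 4, 6, 8, 10, 12, 14] .nil (.cons [6, 16, 18, 4, 6, 8, 2, 4, 6, 16, 0, 2, 4, 6, 8, 10, 12, 14] (.cons [6, 14, 16, 10, 8, 6, 14, 10, 12, 8, 10, 4, 6, 8, 2, 4, 6, 14, 16, 8, 10, 6, 8, 2, 4, 6, 14, 0, 2, 4, 6, 8, 10, 12] (.cons [0, 2, 4, 6, 4, 8, 10, 6, 12, 4, 14, 12] .nil .nil) .nil) (.cons [10, 12, 8, 10, 6, 8, 2, 4, 6, 16, 0, 2, 4, 6, 8, 10, 12, 14] (.cons [10, 8, 4, 6, 14, 16, 6, 8, 2, 4, 6, 14, 10, 12, 6, 8, 10, 4, 6, 8, 2, 4, 6, 14,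 16, 12, 10, 4, 6, 8, 2, 4, 6, 14, 0, 2, 4, 6, 8, 10, 12] (.cons [6, 8, 0, 2, 4, 12, 6, 8, 10, 14, 12, 0, 8, 6, 4, 2, 4, 12, 14] (.cons [2, 4, 0, 2, 0, 0] .nil .nil) .nil) .nil) (.cons [14, 12, 8, 10, 6, 8, 2, 4, 6, 16, 0, 2, 4, 6, 8, 10, 12, 14] (.cons [6, 8, 2, 4, 6, 14, 16, 12, 10, 8, 4, 6, 14, 2, 4, 6, 8, 10, 12] (.cons [2, 4, 0, 2, 6, 8, 4, 6, 12, 14, 8, 6, 4, 12] .nil .nil) .nil) (.cons [16, 12, 8, 10, 6, 8, 2, 4, 6, 16, 0, 2, 4, 6, 8, 10, 12, 14] (.cons [16, 4, 6, 14, 10, 12, 8, 10, 6, 8, 0, 2, 4, 6, 14, 16, 10, 4, 6, 8, 2, 4, 6, 14, 0, 2, 4, 6, 8, 10, 12] (.cons [4, 10, 6, 12, 4, 14, 12, 6, 8, 4, 6, 10] .nil .nil) .nil) (.cons [18, 12, 8, 10, 6, 8, 2, 4, 6, 16, 0, 2, 4, 6, 8, 10, 12, 14] .nil (.cons [6,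 16, 8, 10, 6, 8, 2, 4, 6, 16, 0, 2, 4, 6, 8, 10, 12, 14] (.cons [14, 16, 12, 10, 14, 6, 8, 4, 6, 14, 10, 12, 8, 10, 6, 8, 0, 2, 4, 6, 14, 16, 12, 10, 8, 2, 4, 6, 14, 0, 2, 4, 6, 8, 10, 12] (.cons [0, 2, 4, 6, 12, 14, 8, 6, 4, 2, 4, 8, 10] (.cons [0, 2, 4, 1, 4] .nil .nil) .nil) .nil) (.cons [18, 16, 8, 10, 6, 8, 2, 4, 6, 16, 0, 2, 4, 6, 8, 10, 12, 14] (.cons [2, 4, 6, 14, 16, 12, 8, 10, 6, 8, 14, 6, 4, 2, 0, 10, 12, 8, 10, 6, 8, 4, 6, 14, 16, 12, 8, 10, 6, 8, 4, 6, 14, 2, 4, 6, 8, 10, 12] (.cons [10, 0, 2, 14, 12] .nil .nil) .nil) (.cons [16, 18, 8, 10, 6, 8, 2, 4, 6, 16, 0, 2, 4, 6, 8, 10, 12, 14] (.cons [16, 2, 6, 14, 8, 6, 4, 10, 16, 6, 14, 12, 8, 10, 6, 8, 4, 6, 14, 16, 2, 4, 6, 14, 0, 2, 4, 6, 8, 10, 12]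 (.cons [14, 0, 2, 0, 4, 12, 6, 4, 2, 8, 10] .nil .nil) .nil) (.cons [16, 14, 12, 10, 6, 8, 2, 4, 6, 16, 0, 2, 4, 6, 8, 10, 12, 14] (.cons [10, 8, 6, 14, 6, 8, 10, 4, 6, 8, 2, 4, 6, 14, 16, 12, 10, 4, 6, 8, 2, 4, 6, 14, 0, 2, 4, 6, 8, 10, 12] .nil .nil) (.cons [18, 14, 12, 10, 6, 8, 2, 4, 6, 16, 0, 2, 4, 6, 8, 10, 12, 14] (.cons [14, 16, 6, 14, 6, 8, 10, 2, 4, 6, 8, 0, 2, 4, 6, 14, 16, 12, 10, 4, 6, 8, 2, 4, 6, 14, 0, 2, 4, 6, 8, 10, 12] (.cons [6, 12, 8, 6, 4, 12, 14, 6, 0, 2, 8, 10] .nil .nil) .nil) (.cons [16, 18, 12, 10, 6, 8, 2, 4, 6, 16, 0, 2, 4, 6, 8, 10, 12, 14] (.cons [8, 4, 6, 14, 6, 8, 10, 4, 6, 8, 2, 4, 6, 14, 16, 8, 10, 6, 8, 2, 4, 6, 14, 0, 2, 4, 6, 8, 10, 12] (.cons [8, 6, 4, 2, 6, 8, 10, 14, 12]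 .nil .nil) .nil) (.cons [16, 18, 16, 10, 6, 8, 2, 4, 6, 16, 0, 2, 4, 6, 8, 10, 12, 14] .nil (.cons [6, 16, 18, 10, 6, 8, 2, 4, 6, 16, 0, 2, 4, 6, 8, 10, 12, 14] (.cons [8, 4, 6, 14, 16, 10, 12, 8, 10, 6, 8, 2, 4, 6, 14, 10, 12, 8, 10, 6, 8, 0, 2, 4, 6, 14, 16, 12, 10, 8, 2, 4, 6, 14, 0, 2, 4, 6, 8, 10, 12] (.cons [6, 4, 12, 6, 8, 10, 14, 12, 6, 4, 0, 2, 12, 14] .nil .nil) .nil) (.cons [6, 16, 18, 16, 6, 8, 2, 4, 6, 16, 0, 2, 4, 6, 8, 10, 12, 14] (.cons [6, 14, 16, 10, 8, 6, 14, 8, 10, 12, 6, 8, 10, 4, 6, 8, 0, 2, 4, 6, 14, 16, 8, 10, 4, 6, 8, 2, 4, 6, 14, 0, 2, 4, 6, 8, 10, 12] (.cons [8, 2, 14, 6, 8, 4, 6, 8, 10] .nil .nil) .nil) (.cons [4, 6, 16, 18, 6, 8, 2, 4, 6, 16, 0, 2, 4, 6, 8, 10, 12, 14] (.cons [2,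 4, 8, 6, 14, 10, 12, 8, 10, 6, 8, 4, 6, 14, 16, 10, 12, 8, 10, 6, 8, 2, 4, 6, 14, 0, 2, 4, 6, 8, 10, 12] (.cons [10, 8, 14, 6, 12, 14, 8, 6, 4, 12] .nil .nil) .nil) (.cons [8, 6, 16, 18, 6, 8, 2, 4, 6, 16, 0, 2, 4, 6, 8, 10, 12, 14] (.cons [8, 6, 14, 10, 12, 8, 10, 4, 6, 8, 2, 4, 6, 14, 16, 14, 12, 10, 6, 8, 2, 4, 6, 14, 0, 2, 4, 6, 8, 10, 12] (.cons [14, 2, 4, 6, 12, 6, 8, 4, 2, 6, 10, 8] .nil .nil) .nil) (.cons [16, 18, 14, 12, 10, 8, 2, 4, 6, 16, 0, 2, 4, 6, 8, 10, 12, 14] (.cons [16, 6, 14, 4, 6, 8, 0, 2, 4, 6, 14, 16, 12, 6, 8, 10, 4, 6, 8, 2, 4, 6, 14, 0, 2, 4, 6, 8, 10, 12] (.cons [4, 6, 8, 4, 2, 4, 10, 12, 14, 8] .nil .nil) .nil) (.cons [6, 16, 18, 12, 10, 8, 2, 4, 6, 16, 0, 2, 4, 6, 8, 10, 12, 14] (.cons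 [10, 12, 6, 8, 10, 4, 6, 8, 2, 4, 6, 14, 16, 14, 12, 10, 6, 8, 2, 4, 6, 14, 0, 2, 4, 6, 8, 10, 12] (.cons [6, 12, 8, 10, 6, 4, 2, 12, 6, 4] .nil .nil) .nil) (.cons [4, 6, 16, 18, 10, 8, 2, 4, 6, 16, 0, 2, 4, 6, 8, 10, 12, 14] (.cons [12, 10, 6, 8, 0, 2, 4, 6, 14, 16, 10, 8, 4, 6, 14, 2, 4, 6, 8, 10, 12] .nil .nil) (.cons [8, 6, 16, 18, 10, 8, 2, 4, 6, 16, 0, 2, 4, 6, 8, 10, 12, 14] (.cons [16, 4, 6, 14, 12, 8, 10, 2, 4, 6, 8, 0, 2, 4, 6, 14, 16, 8, 10, 4, 6, 8, 2, 4, 6, 14, 0, 2, 4, 6, 8, 10, 12] (.cons [0, 4, 2, 10, 8, 12, 6, 8, 10] .nil .nil) .nil) .nil))))))))))))))))))))))))))))))))))))))))))))))))))))))))))))))))))))))))))))))))))))))))))))))))))))))))))))))))))))))))))))))))))))))))))))))))))))))))))))))))))))))))))))))))))))))))))))))))))))))))))))))))))))))))))))))))))))))))))))))))))))))))))))))))))))))))))))))))))))))))))))))))))))))))))))))))))))))))))))))))))))))))))))))))))))))))))))))))))))))))))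 (⟨cu_l0.b, cu_l0.S, [], cu_R0, 0⟩ :: cu_tl) (0 :: cu_lk) Pd.nil 0 = true := by decide +kernel
theorem cu_r1 : cu_S.run (.cons [2, 4, 6, 16, 18, 8, 2, 4, 6, 16, 0, 2, 4, 6, 8, 10, 12, 14] (.cons [6, 14, 16, 10, 8, 6, 14, 8, 10, 12, 6, 8, 10, 4, 6, 8, 0, 2, 4, 6, 14, 16, 10, 4, 6, 8, 2, 4, 6, 14, 0, 2, 4, 6, 8, 10, 12] (.cons [14, 8, 6, 12, 10, 2, 14, 6, 4, 2, 12, 6, 4] .nil .nil) .nil) (.cons [8, 4, 6, 16, 18, 8, 2, 4, 6, 16, 0, 2, 4, 6, 8, 10, 12, 14] (.cons [12, 10, 4, 6, 8, 2, 4, 6, 14, 16, 14, 10, 4, 6, 8, 2, 4, 6, 14, 0, 2, 4, 6, 8, 10, 12] (.cons [0, 2, 8, 6, 4, 12, 6, 8, 10, 14, 12, 8, 6, 12, 14, 4, 6, 2] .nil .nil) .nil) (.cons [10, 8, 6, 16, 18, 8, 2, 4, 6, 16, 0, 2, 4, 6, 8, 10, 12, 14] (.cons [16,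 6, 8, 2, 4, 6, 14, 10, 12, 8, 10, 4, 6, 8, 2, 4, 6, 14, 16, 8, 10, 6, 8, 2, 4, 6, 14, 0, 2, 4, 6, 8, 10, 12] .nil .nil) (.cons [12, 10, 8, 6, 16, 18, 2, 4, 6, 16, 0, 2, 4, 6, 8, 10, 12, 14] (.cons [16, 6, 14, 10, 12, 6, 8, 10, 4, 6, 8, 2, 4, 6, 14, 16, 12, 10, 6, 8, 2, 4, 6, 14, 0, 2, 4, 6, 8, 10, 12] .nil .nil) (.cons [14, 10, 12, 8, 10, 6, 8, 4, 6, 16, 0, 2, 4, 6, 8, 10, 12, 14] (.cons [14, 16, 14, 10, 12, 8, 10, 4, 6, 8, 2, 4, 6, 14, 0, 2, 4, 6, 8, 10, 12] (.cons [12, 10, 0, 2, 4, 2, 14, 12, 6, 4] .nil .nil) .nil) (.cons [16, 10, 12, 8, 10, 6, 8, 4, 6, 16, 0, 2, 4, 6, 8, 10, 12, 14] (.cons [12, 4, 8, 10, 6, 14, 12, 8, 10, 6, 8, 4, 6, 14, 16, 14, 12, 8, 10, 6, 8, 2, 4, 6, 14, 0, 2, 4, 6, 8, 10, 12] (.cons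 [14, 12, 6, 8, 4, 2, 10, 8] .nil .nil) .nil) (.cons [18, 10, 12, 8, 10, 6, 8, 4, 6, 16, 0, 2, 4, 6, 8, 10, 12, 14] (.cons [10, 8, 6, 14, 16, 12, 10, 2, 4, 6, 14, 8, 10, 12, 6, 8, 10, 4, 6, 8, 2, 4, 6, 14, 16, 14, 6, 8, 4, 6, 14, 0, 2, 4, 6, 8, 10, 12] (.cons [0, 4, 2, 12, 14, 6, 8, 4, 6, 10] .nil .nil) .nil) (.cons [16, 14, 12, 8, 10, 6, 8, 4, 6, 16, 0, 2, 4, 6, 8, 10, 12, 14] (.cons [6, 14, 4, 6, 8, 2, 4, 6, 14, 16, 14, 12, 10, 4, 6, 8, 2, 4, 6, 14, 0, 2, 4, 6, 8, 10, 12] (.cons [6, 12, 14, 6, 8, 2, 10, 4, 2, 8, 6] .nil .nil) .nil) (.cons [18, 14, 12, 8, 10, 6, 8, 4, 6, 16, 0, 2, 4, 6, 8, 10, 12, 14] (.cons [8, 10, 6, 8, 2, 4, 6, 14, 16, 12, 10, 6, 8, 2, 4, 6, 14, 0, 2, 4, 6, 8, 10, 12] (.cons [12, 6, 8, 4,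 2, 10, 12, 8, 6, 4, 12, 14] .nil .nil) .nil) (.cons [6, 16, 12, 8, 10, 6, 8, 4, 6, 16, 0, 2, 4, 6, 8, 10, 12, 14] (.cons [8, 6, 14, 16, 4, 6, 14, 12, 8, 10, 6, 8, 0, 2, 4, 6, 14, 16, 12, 10, 8, 2, 4, 6, 14, 0, 2, 4, 6, 8, 10, 12] (.cons [4, 6, 12, 8, 6, 4, 0, 2, 4, 8, 10, 12, 14] .nil .nil) .nil) (.cons [18, 16, 12, 8, 10, 6, 8, 4, 6, 16, 0, 2, 4, 6, 8, 10, 12, 14] (.cons [16, 12, 10, 8, 6, 14, 10, 12, 8, 10, 4, 6, 8, 2, 4, 6, 14, 16, 12, 8, 10, 4, 6, 8, 2, 4, 6, 14, 0, 2, 4, 6, 8, 10, 12] (.cons [14, 6, 4, 0, 2, 4, 8, 6, 10, 4] .nil .nil) .nil) (.cons [16, 18, 12, 8, 10, 6, 8, 4, 6, 16, 0, 2, 4, 6, 8, 10, 12, 14] .nil (.cons [4, 6, 16, 8, 10, 6, 8, 4, 6, 16, 0, 2, 4, 6, 8, 10, 12, 14] (.cons [0, 2, 4, 6, 14,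 8, 10, 6, 8, 4, 6, 14, 16, 12, 8, 10, 6, 8, 2, 4, 6, 14, 0, 2, 4, 6, 8, 10, 12] (.cons [4, 6, 8, 10, 6, 12, 14, 4, 8, 6, 4, 2] .nil .nil) .nil) (.cons [18, 6, 16, 8, 10, 6, 8, 4, 6, 16, 0, 2, 4, 6, 8, 10, 12, 14] (.cons [10, 8, 4, 6, 14, 16, 6, 14, 8, 10, 6, 8, 2, 4, 6, 14, 0, 2, 4, 6, 8, 10, 12] (.cons [4, 6, 2, 4, 0, 2, 10, 8, 4, 6, 8, 10] .nil .nil) .nil) (.cons [16, 18, 16, 8, 10, 6, 8, 4, 6, 16, 0, 2, 4, 6, 8, 10, 12, 14] .nil (.cons [6, 16, 18, 8, 10, 6, 8, 4, 6, 16, 0, 2, 4, 6, 8, 10, 12, 14] (.cons [2, 4, 6, 14, 16, 6, 8, 0, 2, 4, 6, 14, 10, 12, 8, 10, 4, 6, 8, 2, 4, 6, 14, 16, 12, 10, 4, 6, 8, 2, 4, 6, 14, 0, 2, 4, 6, 8, 10, 12] (.cons [8, 6, 14, 12, 6, 8, 4, 6, 10, 4, 2, 12, 14] .nil .nil) .nil) (.cons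 [18, 16, 14, 12, 10, 6, 8, 4, 6, 16, 0, 2, 4, 6, 8, 10, 12, 14] (.cons [10, 8, 6, 14, 10, 4, 6, 8, 2, 4, 6, 14, 16, 12, 6, 8, 10, 4, 6, 8, 2, 4, 6, 14, 0, 2, 4, 6, 8, 10, 12] (.cons [8, 6, 2, 4, 8, 10, 0, 2, 4, 6, 12, 14] .nil .nil) .nil) (.cons [16, 18, 14, 12, 10, 6, 8, 4, 6, 16, 0, 2, 4, 6, 8, 10, 12, 14] (.cons [10, 8, 2, 4, 6, 14, 16, 14, 12, 10, 6, 8, 4, 6, 14, 0, 2, 4, 6, 8, 10, 12] (.cons [6, 2, 4, 12, 6, 8, 10, 14, 12, 8, 6, 12, 14, 4, 6, 2] .nil .nil) .nil) (.cons [16, 18, 16, 12, 10, 6, 8, 4, 6, 16, 0, 2, 4, 6, 8, 10, 12, 14] (.cons [10, 8, 6, 4, 14, 6, 16, 14, 12, 6, 8, 10, 4, 6, 8, 2, 4, 6, 14, 16, 12, 10, 8, 2, 4, 6, 14, 0, 2, 4, 6, 8, 10, 12] (.cons [8, 6, 8, 4, 2, 4, 6, 12, 14, 8, 6, 10] .nil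 .nil) .nil) (.cons [6, 16, 18, 12, 10, 6, 8, 4, 6, 16, 0, 2, 4, 6, 8, 10, 12, 14] (.cons [14, 4, 6, 8, 2, 4, 6, 14, 16, 14, 6, 8, 4, 6, 14, 0, 2, 4, 6, 8, 10, 12] (.cons [10, 8, 6, 12, 14, 4, 6, 4, 0, 2, 8, 6, 10, 4] .nil .nil) .nil) (.cons [6, 16, 18, 16, 10, 6, 8, 4, 6, 16, 0, 2, 4, 6, 8, 10, 12, 14] (.cons [4, 6, 8, 0, 2, 4, 6, 14, 16, 6, 8, 4, 6, 14, 8, 10, 12, 6, 8, 10, 4, 6, 8, 2, 4, 6, 14, 16, 8, 10, 6, 8, 2, 4, 6, 14, 0, 2, 4, 6, 8, 10, 12] (.cons [14, 0, 2, 4, 0, 6, 8, 10, 12, 6, 4, 2] .nil .nil) .nil) (.cons [4, 6, 16, 18, 10, 6, 8, 4, 6, 16, 0, 2, 4, 6, 8, 10, 12, 14] (.cons [14, 8, 6, 4, 2, 0, 10, 12, 6, 14, 8, 10, 6, 8, 4, 6, 14, 16, 14, 12, 10, 6, 8, 4, 6, 14, 2, 4, 6, 8, 10, 12] (.cons [2, 8,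 4, 2, 0, 6, 4, 2, 12, 14, 8, 6, 4, 12] .nil .nil) .nil) (.cons [8, 6, 16, 18, 10, 6, 8, 4, 6, 16, 0, 2, 4, 6, 8, 10, 12, 14] (.cons [2, 10, 12, 8, 10, 6, 8, 4, 6, 14, 16, 12, 10, 6, 8, 4, 6, 14, 0, 2, 4, 6, 8, 10, 12] (.cons [8, 2, 4, 6, 4, 0, 2, 4, 8, 10] .nil .nil) .nil) (.cons [4, 6, 16, 18, 16, 6, 8, 4, 6, 16, 0, 2, 4, 6, 8, 10, 12, 14] (.cons [0, 4, 6, 14, 8, 6, 4, 14, 10, 12, 8, 10, 6, 8, 2, 4, 6, 14, 16, 14, 10, 6, 8, 4, 6, 14, 0, 2, 4, 6, 8, 10, 12] (.cons [6, 12, 14, 8, 4, 12, 6, 4, 2, 8, 6, 10, 4] .nil .nil) .nil) (.cons [8, 6, 16, 18, 16, 6, 8, 4, 6, 16, 0, 2, 4, 6, 8, 10, 12, 14] (.cons [6, 4, 6, 14, 10, 12, 8, 10, 6, 8, 2, 4, 6, 14, 16, 14, 6, 8, 4, 6, 14, 0, 2, 4, 6, 8, 10, 12] .nil .nil) (.cons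 [2, 4, 6, 16, 18, 6, 8, 4, 6, 16, 0, 2, 4, 6, 8, 10, 12, 14] (.cons [6, 8, 10, 14, 6, 8, 4, 6, 14, 10, 12, 8, 10, 6, 8, 0, 2, 4, 6, 14, 16, 12, 10, 8, 2, 4, 6, 14, 0, 2, 4, 6, 8, 10, 12] (.cons [12, 14, 6, 8, 4, 0, 2, 4, 10, 8] .nil .nil) .nil) (.cons [8, 4, 6, 16, 18, 6, 8, 4, 6, 16, 0, 2, 4, 6, 8, 10, 12, 14] (.cons [16, 6, 14, 4, 6, 8, 0, 2, 4, 6, 14, 16, 10, 8, 6, 14, 8, 10, 12, 6, 8, 10, 4, 6, 8, 2, 4, 6, 14, 16, 10, 4, 6, 8, 2, 4, 6, 14, 0, 2, 4, 6, 8, 10, 12] (.cons [14, 0, 8, 4, 2, 6, 10, 8] .nil .nil) .nil) (.cons [10, 8, 6, 16, 18, 6, 8, 4, 6, 16, 0, 2, 4, 6, 8, 10, 12, 14] (.cons [4, 6, 8, 0, 2, 4, 6, 14, 16, 10, 8, 6, 14, 10, 12, 6, 8, 10, 4, 6, 8, 2, 4, 6, 14, 16, 10, 4, 6, 8, 2, 4, 6, 14, 0, 2,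 4, 6, 8, 10, 12] (.cons [12, 14, 6, 8, 2, 4, 0, 2, 4, 10, 8] .nil .nil) .nil) (.cons [6, 16, 18, 14, 12, 10, 8, 4, 6, 16, 0, 2, 4, 6, 8, 10, 12, 14] (.cons [16, 14, 6, 8, 10, 4, 6, 8, 2, 4, 6, 14, 16, 12, 8, 10, 4, 6, 8, 2, 4, 6, 14, 0, 2, 4, 6, 8, 10, 12] .nil .nil) (.cons [4, 6, 16, 18, 12, 10, 8, 4, 6, 16, 0, 2, 4, 6, 8, 10, 12, 14] (.cons [10, 6, 8, 0, 2, 4, 6, 14, 16, 10, 8, 4, 6, 14, 2, 4, 6, 8, 10, 12] .nil .nil) (.cons [8, 6, 16, 18, 12, 10, 8, 4, 6, 16, 0, 2, 4, 6, 8, 10, 12, 14] (.cons [8, 0, 2, 4, 6, 14, 16, 10, 6, 8, 2, 4, 6, 14, 0, 2, 4, 6, 8, 10, 12] (.cons [2, 12, 10, 14, 6, 4, 8, 6, 12, 6, 4, 14, 12] .nil .nil) .nil) (.cons [2, 4, 6, 16, 18, 10, 8, 4, 6, 16, 0, 2, 4, 6, 8, 10, 12, 14] (.cons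 [14, 16, 8, 10, 6, 8, 0, 2, 4, 6, 14, 12, 8, 10, 6, 8, 0, 2, 4, 6, 14, 16, 12, 10, 8, 2, 4, 6, 14, 0, 2, 4, 6, 8, 10, 12] .nil .nil) (.cons [8, 4, 6, 16, 18, 10, 8, 4, 6, 16, 0, 2, 4, 6, 8, 10, 12, 14] (.cons [0, 2, 4, 6, 14, 16, 8, 10, 6, 14, 16, 6, 8, 2, 4, 6, 14, 10, 12, 8, 10, 6, 8, 0, 2, 4, 6, 14, 16, 8, 2, 4, 6, 14, 0, 2, 4, 6, 8, 10, 12] .nil .nil) (.cons [10, 8, 6, 16, 18, 10, 8, 4, 6, 16, 0, 2, 4, 6, 8, 10, 12, 14] (.cons [8, 2, 4, 6, 14, 16, 10, 8, 4, 6, 14, 8, 10, 12, 6, 8, 10, 4, 6, 8, 2, 4, 6, 14, 16, 14, 8, 10, 4, 6, 8, 2, 4, 6, 14, 0, 2, 4, 6, 8, 10, 12] (.cons [4, 6, 8, 2, 4, 6, 12, 14, 10, 2, 4, 0, 6, 8, 10, 12, 6, 4, 2] .nil .nil) .nil) (.cons [0, 2, 4, 6, 16, 18, 8, 4, 6, 16, 0, 2, 4, 6, 8,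 10, 12, 14] (.cons [14, 16, 8, 2, 4, 6, 14, 12, 8, 10, 4, 6, 8, 2, 4, 6, 14, 16, 8, 10, 4, 6, 8, 2, 4, 6, 14, 0, 2, 4, 6, 8, 10, 12] .nil .nil) (.cons [8, 2, 4, 6, 16, 18, 8, 4, 6, 16, 0, 2, 4, 6, 8, 10, 12, 14] (.cons [10, 4, 6, 8, 2, 4, 6, 14, 16, 10, 8, 4, 6, 14, 8, 10, 12, 6, 8, 10, 4, 6, 8, 2, 4, 6, 14, 16, 10, 4, 6, 8, 2, 4, 6, 14, 0, 2, 4, 6, 8, 10, 12] .nil .nil) (.cons [10, 8, 4, 6, 16, 18, 8, 4, 6, 16, 0, 2, 4, 6, 8, 10, 12, 14] (.cons [10, 6, 8, 6, 14, 16, 4, 6, 14, 12, 8, 10, 4, 6, 8, 2, 4, 6, 14, 16, 12, 10, 8, 2, 4, 6, 14, 0, 2, 4, 6, 8, 10, 12] (.cons [2, 4, 8, 10, 12, 6, 8, 10, 4, 6, 12, 14, 8, 6, 4, 0, 2] .nil .nil) .nil) (.cons [12, 10, 8, 6, 16, 18, 8, 4, 6, 16, 0, 2, 4, 6, 8, 10, 12, 14]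 (.cons [8, 10, 6, 8, 0, 2, 4, 6, 14, 16, 14, 4, 6, 8, 2, 4, 6, 14, 0, 2, 4, 6, 8, 10, 12] (.cons [12, 6, 8, 4, 6, 0, 2, 4, 6, 8, 10] .nil .nil) .nil) (.cons [14, 12, 10, 8, 6, 16, 18, 4, 6, 16, 0, 2, 4, 6, 8, 10, 12, 14] (.cons [8, 0, 2, 4, 6, 14, 16, 14, 6, 8, 4, 6, 14, 10, 12, 8, 10, 4, 6, 8, 2, 4, 6, 14, 16, 12, 10, 4, 6, 8, 2, 4, 6, 14, 0, 2, 4, 6, 8, 10, 12] (.cons [2, 4, 6, 12, 8, 0, 6, 4, 2, 12, 14, 6, 8, 4, 6, 10] .nil .nil) .nil) (.cons [4, 6, 16, 18, 14, 12, 10, 8, 6, 16, 0, 2, 4, 6, 8, 10, 12, 14] (.cons [14, 8, 10, 4, 6, 8, 2, 4, 6, 14, 16, 12, 6, 8, 10, 4, 6, 8, 2, 4, 6, 14, 0, 2, 4, 6, 8, 10, 12] (.cons [10, 8, 4, 6, 12, 8, 4, 0, 2, 10, 14, 8, 12] .nil .nil) .nil) (.cons [8, 6, 16, 18, 14, 12,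 10, 8, 6, 16, 0, 2, 4, 6, 8, 10, 12, 14] .nil (.cons [2, 4, 6, 16, 18, 12, 10, 8, 6, 16, 0, 2, 4, 6, 8, 10, 12, 14] (.cons [2, 0, 12, 14, 8, 10, 6, 8, 4, 6, 14, 16, 10, 12, 8, 10, 6, 8, 4, 6, 14, 2, 4, 6, 8, 10, 12] (.cons [10, 12, 6, 4, 2, 4, 12] .nil .nil) .nil) (.cons [8, 4, 6, 16, 18, 12, 10, 8, 6, 16, 0, 2, 4, 6, 8, 10, 12, 14] .nil (.cons [10, 8, 6, 16, 18, 12, 10, 8, 6, 16, 0, 2, 4, 6, 8, 10, 12, 14] .nil (.cons [0, 2, 4, 6, 16, 18, 10, 8, 6, 16, 0, 2, 4, 6, 8, 10, 12, 14] (.cons [14, 10, 12, 8, 10, 4, 6, 8, 2, 4, 6, 14, 16, 14, 8, 10, 6, 8, 2, 4, 6, 14, 0, 2, 4, 6, 8, 10, 12] (.cons [6, 12, 14, 0, 2, 4, 6, 8, 10, 6, 8, 4, 12, 6, 8, 10] .nil .nil) .nil) (.cons [8, 2, 4, 6, 16, 18, 10, 8, 6, 16, 0, 2,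 4, 6, 8, 10, 12, 14] (.cons [16, 6, 14, 8, 6, 4, 2, 0, 6, 14, 10, 12, 8, 10, 6, 8, 4, 6, 14, 16, 8, 10, 6, 8, 4, 6, 14, 2, 4, 6, 8, 10, 12] (.cons [2, 10, 6, 4, 2, 12, 14, 12, 6, 4] .nil .nil) .nil) (.cons [6, 8, 4, 6, 16, 18, 10, 8, 6, 16, 0, 2, 4, 6, 8, 10, 12, 14] (.cons [0, 2, 4, 6, 14, 16, 8, 6, 10, 8, 2, 4, 6, 14, 10, 12, 8, 10, 4, 6, 8, 2, 4, 6, 14, 16, 12, 10, 8, 2, 4, 6, 14, 0, 2, 4, 6, 8, 10, 12] .nil .nil) (.cons [12, 14, 10, 12, 8, 10, 6, 8, 4, 6, 16, 2, 4, 6, 8, 10, 12, 14] (.cons [0, 2, 4, 6, 14, 8, 10, 6, 8, 0, 2, 4, 6, 14, 16, 4, 6, 8, 2, 4, 6, 14, 0, 2, 4, 6, 8, 10, 12] (.cons [8, 2, 4, 6, 8, 4, 10, 2, 6, 12, 14, 4, 8, 6, 4, 2] .nil .nil) .nil) (.cons [18, 14, 10, 12, 8, 10, 6, 8, 4, 6, 16,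 2, 4, 6, 8, 10, 12, 14] (.cons [14, 16, 8, 6, 14, 6, 8, 10, 4, 6, 8, 2, 4, 6, 14, 16, 12, 8, 10, 4, 6, 8, 2, 4, 6, 14, 0, 2, 4, 6, 8, 10, 12] (.cons [0, 2, 4, 6, 12, 14, 8, 6, 4, 2, 4, 8, 6, 10, 4] .nil .nil) .nil) (.cons [6, 16, 10, 12, 8, 10, 6, 8, 4, 6, 16, 2, 4, 6, 8, 10, 12, 14] (.cons [4, 6, 14, 10, 12, 8, 10, 4, 6, 8, 2, 4, 6, 14, 16, 4, 6, 8, 2, 4, 6, 14, 0, 2, 4, 6, 8, 10, 12] (.cons [12, 14, 6, 8, 4, 12, 6, 4, 0, 2, 8, 6, 10, 4] .nil .nil) .nil) (.cons [18, 16, 10, 12, 8, 10, 6, 8, 4, 6, 16, 2, 4, 6, 8, 10, 12, 14] (.cons [8, 6, 14, 16, 8, 2, 4, 6, 14, 10, 12, 6, 8, 10, 4, 6, 8, 2, 4, 6, 14, 16, 8, 10, 4, 6, 8, 2, 4, 6, 14, 0, 2, 4, 6, 8, 10, 12] .nil .nil) (.cons [16, 18, 10, 12, 8, 10, 6, 8, 4, 6,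 16, 2, 4, 6, 8, 10, 12, 14] (.cons [12, 10, 8, 6, 14, 16, 14, 8, 10, 6, 8, 2, 4, 6, 14, 0, 2, 4, 6, 8, 10, 12] (.cons [10, 4, 8, 6, 12, 6, 8, 10, 4, 6, 12, 14] .nil .nil) .nil) (.cons [6, 16, 14, 12, 8, 10, 6, 8, 4, 6, 16, 2, 4, 6, 8, 10, 12, 14] (.cons [14, 16, 6, 14, 10, 4, 6, 8, 2, 4, 6, 14, 16, 14, 12, 8, 10, 4, 6, 8, 2, 4, 6, 14, 0, 2, 4, 6, 8, 10, 12] (.cons [2, 4, 8, 6, 12, 14, 6, 8, 10, 12, 6, 2, 4, 0, 2] .nil .nil) .nil) (.cons [18, 16, 14, 12, 8, 10, 6, 8, 4, 6, 16, 2, 4, 6, 8, 10, 12, 14] (.cons [2, 4, 6, 14, 8, 10, 4, 6, 8, 2, 4, 6, 14, 16, 14, 12, 10, 6, 8, 2, 4, 6, 14, 0, 2, 4, 6, 8, 10, 12] (.cons [8, 6, 14, 12, 6, 4, 2, 6, 8, 10, 12, 14, 6, 4] .nil .nil) .nil) (.cons [16, 18, 14, 12, 8, 10, 6,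 8, 4, 6, 16, 2, 4, 6, 8, 10, 12, 14] (.cons [6, 4, 6, 14, 8, 10, 6, 8, 2, 4, 6, 14, 16, 14, 12, 10, 6, 8, 4, 6, 14, 0, 2, 4, 6, 8, 10, 12] (.cons [8, 0, 2, 4, 6, 12, 14, 4, 8, 12, 6, 4, 0, 2, 4, 8, 10] (.cons [1, 3, 5, 5, 5] .nil .nil) .nil) .nil) (.cons [4, 6, 16, 12, 8, 10, 6, 8, 4, 6, 16, 2, 4, 6, 8, 10, 12, 14] (.cons [10, 8, 2, 4, 6, 14, 16, 12, 10, 8, 6, 14, 0, 2, 4, 6, 8, 10, 12] (.cons [8, 6, 12, 14, 10, 8, 6, 4, 2, 12, 6, 4] .nil .nil) .nil) (.cons [18, 6, 16, 12, 8, 10, 6, 8, 4, 6, 16, 2, 4, 6, 8, 10, 12, 14] (.cons [4, 6, 14, 6, 8, 10, 4, 6, 8, 2, 4, 6, 14, 16, 14, 12, 8, 10, 4, 6, 8, 2, 4, 6, 14, 0, 2, 4, 6, 8, 10, 12] .nil .nil) (.cons [16, 18, 16, 12, 8, 10, 6, 8, 4, 6, 16, 2, 4, 6, 8, 10, 12,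 14] .nil (.cons [6, 16, 18, 12, 8, 10, 6, 8, 4, 6, 16, 2, 4, 6, 8, 10, 12, 14] .nil (.cons [2, 4, 6, 16, 8, 10, 6, 8, 4, 6, 16, 2, 4, 6, 8, 10, 12, 14] (.cons [8, 0, 2, 4, 6, 14, 16, 10, 8, 6, 14, 12, 10, 8, 6, 4, 2, 0, 4, 10, 14, 12, 8, 10, 6, 8, 4, 6, 14, 16, 12, 10, 6, 8, 4, 6, 14, 2, 4, 6, 8, 10, 12] .nil .nil) (.cons [18, 4, 6, 16, 8, 10, 6, 8, 4, 6, 16, 2, 4, 6, 8, 10, 12, 14] (.cons [16, 8, 2, 4, 6, 14, 8, 10, 4, 6, 8, 0, 2, 4, 6, 14, 16, 12, 10, 4, 6, 8, 2, 4, 6, 14, 0, 2, 4, 6, 8, 10, 12] (.cons [6, 12, 14, 6, 8, 10, 12, 4, 8, 6, 4, 2] .nil .nil) .nil) (.cons [16, 18, 6, 16, 8, 10, 6, 8, 4, 6, 16, 2, 4, 6, 8, 10, 12, 14] (.cons [16, 14, 6, 8, 2, 4, 6, 14, 16, 10, 8, 4, 6, 14, 10, 12, 8, 10, 4, 6, 8,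 2, 4, 6, 14, 16, 12, 10, 4, 6, 8, 2, 4, 6, 14, 0, 2, 4, 6, 8, 10, 12] (.cons [6, 12, 14, 4, 6, 2, 4, 0, 2, 4, 6, 8, 10] .nil .nil) .nil) (.cons [6, 16, 18, 16, 8, 10, 6, 8, 4, 6, 16, 2, 4, 6, 8, 10, 12, 14] (.cons [10, 8, 4, 6, 14, 16, 8, 4, 6, 14, 12, 10, 8, 6, 4, 2, 14, 10, 12, 8, 10, 6, 8, 4, 6, 14, 16, 10, 6, 8, 4, 6, 14, 0, 2, 4, 6, 8, 10, 12] (.cons [4, 6, 12, 2, 4, 6, 4, 0, 2, 8, 10, 6, 4, 12, 14] .nil .nil) .nil) (.cons [8, 6, 16, 18, 8, 10, 6, 8, 4, 6, 16, 2, 4, 6, 8, 10, 12, 14] (.cons [16, 8, 6, 14, 10, 12, 8, 10, 6, 8, 4, 6, 14, 16, 12, 10, 4, 6, 8, 2, 4, 6, 14, 0, 2, 4, 6, 8, 10, 12] .nil .nil) (.cons [16, 18, 16, 14, 12, 10, 6, 8, 4, 6, 16, 2, 4, 6, 8, 10, 12, 14] (.cons [8, 6, 14, 16, 2, 4, 6,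 14, 8, 10, 6, 8, 2, 4, 6, 14, 16, 12, 10, 6, 8, 2, 4, 6, 14, 0, 2, 4, 6, 8, 10, 12] (.cons [14, 2, 6, 4, 2, 8, 6] .nil .nil) .nil) (.cons [6, 16, 18, 14, 12, 10, 6, 8, 4, 6, 16, 2, 4, 6, 8, 10, 12, 14] (.cons [10, 6, 8, 2, 4, 6, 14, 16, 12, 8, 10, 4, 6, 8, 2, 4, 6, 14, 0, 2, 4, 6, 8, 10, 12] (.cons [8, 6, 12, 14, 4, 2, 8, 4, 12, 6, 8, 4, 2, 10, 8] .nil .nil) .nil) (.cons [6, 16, 18, 16, 12, 10, 6, 8, 4, 6, 16, 2, 4, 6, 8, 10, 12, 14] (.cons [2, 4, 6, 14, 16, 8, 6, 10, 8, 0, 2, 4, 6, 14, 12, 8, 10, 4, 6, 8, 2, 4, 6, 14, 16, 12, 10, 8, 2, 4, 6, 14, 0, 2, 4, 6, 8, 10, 12] (.cons [6, 2, 4, 8, 10, 12, 14] .nil .nil) .nil) (.cons [8, 6, 16, 18, 12, 10, 6, 8, 4, 6, 16, 2, 4, 6, 8, 10, 12, 14] (.cons [14, 16, 8, 6,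 14, 12, 10, 4, 6, 8, 2, 4, 6, 14, 16, 12, 6, 8, 10, 4, 6, 8, 2, 4, 6, 14, 0, 2, 4, 6, 8, 10, 12] (.cons [8, 4, 6, 4, 2, 4, 8, 10, 12, 14] .nil .nil) .nil) (.cons [4, 6, 16, 18, 16, 10, 6, 8, 4, 6, 16, 2, 4, 6, 8, 10, 12, 14] (.cons [10, 8, 6, 14, 16, 12, 10, 4, 6, 8, 2, 4, 6, 14, 0, 2, 4, 6, 8, 10, 12] (.cons [2, 4, 6, 12, 14, 8, 10, 6, 0, 2, 4, 6, 0, 2] .nil .nil) .nil) (.cons [8, 6, 16, 18, 16, 10, 6, 8, 4, 6, 16, 2, 4, 6, 8, 10, 12, 14] (.cons [16, 4, 6, 14, 10, 12, 8, 10, 4, 6, 8, 2, 4, 6, 14, 16, 8, 10, 6, 8, 2, 4, 6, 14, 0, 2, 4, 6, 8, 10, 12] (.cons [8, 4, 2, 12, 6, 4, 0, 2, 8, 10] .nil .nil) .nil) (.cons [2, 4, 6, 16, 18, 10, 6, 8, 4, 6, 16, 2, 4, 6, 8, 10, 12, 14] .nil (.cons [8, 4, 6, 16, 18, 10, 6,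 8, 4, 6, 16, 2, 4, 6, 8, 10, 12, 14] (.cons [6, 14, 16, 10, 8, 6, 14, 10, 12, 6, 8, 10, 4, 6, 8, 2, 4, 6, 14, 16, 8, 10, 4, 6, 8, 2, 4, 6, 14, 0, 2, 4, 6, 8, 10, 12] (.cons [4, 6, 8, 0, 2, 4, 6, 12, 14, 10, 0, 2, 4, 0, 6, 8, 10, 12, 6, 4, 2] .nil .nil) .nil) (.cons [10, 8, 6, 16, 18, 10, 6, 8, 4, 6, 16, 2, 4, 6, 8, 10, 12, 14] (.cons [10, 6, 8, 2, 4, 6, 14, 16, 14, 12, 10, 6, 8, 4, 6, 14, 0, 2, 4, 6, 8, 10, 12] (.cons [14, 4, 6, 8, 2, 10, 0, 6, 4, 2, 8, 6] .nil .nil) .nil) (.cons [2, 4, 6, 16, 18, 16, 6, 8, 4, 6, 16, 2, 4, 6, 8, 10, 12, 14] (.cons [16, 8, 10, 14, 6, 2, 4, 6, 14, 8, 10, 12, 6, 8, 10, 4, 6, 8, 0, 2, 4, 6, 14, 16, 6, 8, 4, 6, 14, 0, 2, 4, 6, 8, 10, 12] (.cons [8, 0, 2, 4, 6, 12, 6, 8, 10, 4, 6,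 2, 4, 0, 2, 12, 14] (.cons [2, 1, 4] .nil .nil) .nil) .nil) (.cons [8, 4, 6, 16, 18, 16, 6, 8, 4, 6, 16, 2, 4, 6, 8, 10, 12, 14] (.cons [14, 4, 2, 8, 4, 6, 14, 10, 12, 8, 10, 6, 8, 4, 6, 14, 16, 8, 2, 4, 6, 14, 0, 2, 4, 6, 8, 10, 12] (.cons [8, 10, 8, 6, 4, 2, 6, 12, 4, 14, 12] .nil .nil) .nil) (.cons [10, 8, 6, 16, 18, 16, 6, 8, 4, 6, 16, 2, 4, 6, 8, 10, 12, 14] (.cons [4, 6, 14, 16, 10, 8, 4, 6, 14, 10, 12, 8, 10, 4, 6, 8, 2, 4, 6, 14, 16, 8, 10, 6, 8, 2, 4, 6, 14, 0, 2, 4, 6, 8, 10, 12] .nil .nil) (.cons [0, 2, 4, 6, 16, 18, 6, 8, 4, 6, 16, 2, 4, 6, 8, 10, 12, 14] (.cons [4, 6, 14, 8, 10, 6, 8, 2, 4, 6, 14, 16, 6, 8, 2, 4, 6, 14, 0, 2, 4, 6, 8, 10, 12] (.cons [0, 12, 6, 4, 2, 14, 12, 6, 8, 4, 6, 10] .nil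 .nil) .nil) (.cons [6, 8, 4, 6, 16, 18, 6, 8, 4, 6, 16, 2, 4, 6, 8, 10, 12, 14] (.cons [8, 4, 6, 14, 10, 12, 8, 10, 6, 8, 2, 4, 6, 14, 16, 4, 6, 8, 2, 4, 6, 14, 0, 2, 4, 6, 8, 10, 12] (.cons [6, 8, 2, 6, 4, 10, 8, 6, 12, 14, 12, 6, 4] .nil .nil) .nil) (.cons [10, 8, 4, 6, 16, 18, 6, 8, 4, 6, 16, 2, 4, 6, 8, 10, 12, 14] (.cons [14, 6, 8, 4, 6, 14, 10, 12, 8, 10, 4, 6, 8, 2, 4, 6, 14, 16, 12, 10, 8, 2, 4, 6, 14, 0, 2, 4, 6, 8, 10, 12] (.cons [2, 4, 6, 12, 8, 4, 2, 4, 10, 14, 8, 12] .nil .nil) .nil) (.cons [12, 10, 8, 6, 16, 18, 6, 8, 4, 6, 16, 2, 4, 6, 8, 10, 12, 14] .nil (.cons [8, 6, 16, 18, 14, 12, 10, 8, 4, 6, 16, 2, 4, 6, 8, 10, 12, 14] (.cons [10, 6, 8, 2, 4, 6, 14, 16, 12, 10, 8, 4, 6, 14, 0, 2, 4, 6, 8,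 10, 12] (.cons [12, 8, 10, 6, 4, 2, 12, 14, 6, 4] .nil .nil) .nil) (.cons [10, 8, 6, 16, 18, 12, 10, 8, 4, 6, 16, 2, 4, 6, 8, 10, 12, 14] (.cons [6, 14, 16, 8, 4, 6, 10, 8, 2, 4, 6, 14, 10, 12, 8, 10, 4, 6, 8, 2, 4, 6, 14, 16, 12, 10, 8, 2, 4, 6, 14, 0, 2, 4, 6, 8, 10, 12] (.cons [4, 6, 0, 2, 8, 10, 6, 12, 14, 12, 6, 4] .nil .nil) .nil) (.cons [0, 2, 4, 6, 16, 18, 10, 8, 4, 6, 16, 2, 4, 6, 8, 10, 12, 14] (.cons [8, 6, 14, 10, 12, 6, 8, 10, 4, 6, 8, 2, 4, 6, 14, 16, 12, 10, 4, 6, 8, 2, 4, 6, 14, 0, 2, 4, 6, 8, 10, 12] .nil .nil) (.cons [8, 2, 4, 6, 16, 18, 10, 8, 4, 6, 16, 2, 4, 6, 8, 10, 12, 14] (.cons [16, 4, 6, 0, 2, 8, 4, 6, 14, 10, 12, 8, 10, 6, 8, 4, 6, 14, 16, 12, 8, 10, 6, 8, 2, 4, 6, 14, 0, 2, 4, 6,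 8, 10, 12] (.cons [14, 12, 10, 6, 14, 0, 4, 2, 12, 6, 4, 12] .nil .nil) .nil) (.cons [6, 8, 4, 6, 16, 18, 10, 8, 4, 6, 16, 2, 4, 6, 8, 10, 12, 14] (.cons [8, 6, 14, 16, 10, 4, 6, 8, 14, 6, 4, 2, 0, 2, 16, 10, 12, 8, 10, 6, 8, 4, 6, 14, 16, 12, 10, 6, 8, 4, 6, 14, 2, 4, 6, 8, 10, 12] (.cons [12, 14, 4, 2, 10, 8, 6, 4, 0, 2, 4, 8, 10] (.cons [0, 0, 5, 3, 0] .nil .nil) .nil) .nil) (.cons [10, 8, 4, 6, 16, 18, 10, 8, 4, 6, 16, 2, 4, 6, 8, 10, 12, 14] (.cons [4, 6, 14, 16, 12, 10, 8, 6, 14, 2, 4, 6, 8, 10, 12] (.cons [4, 14, 2, 0, 4, 12, 6, 4, 2, 8, 6] .nil .nil) .nil) (.cons [12, 10, 8, 6, 16, 18, 10, 8, 4, 6, 16, 2, 4, 6, 8, 10, 12, 14] (.cons [14, 16, 4, 6, 14, 8, 10, 6, 8, 4, 6, 14, 16, 14, 10, 4, 6, 8, 2, 4,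 6, 14, 0, 2, 4, 6, 8, 10, 12] (.cons [0, 10, 4, 6, 8, 2, 4, 6, 12, 14, 6, 8, 10, 12, 8, 6, 4, 0, 2] .nil .nil) .nil) (.cons [8, 0, 2, 4, 6, 16, 18, 8, 4, 6, 16, 2, 4, 6, 8, 10, 12, 14] (.cons [10, 12, 8, 6, 14, 10, 4, 6, 8, 0, 2, 4, 6, 14, 16, 6, 14, 12, 10, 4, 6, 8, 2, 4, 6, 14, 0, 2, 4, 6, 8, 10, 12] (.cons [8, 10, 12, 6, 4, 8, 2, 12, 6, 8] .nil .nil) .nil) (.cons [10, 8, 2, 4, 6, 16, 18, 8, 4, 6, 16, 2, 4, 6, 8, 10, 12, 14] (.cons [14, 8, 10, 4, 6, 8, 2, 4, 6, 14, 16, 14, 10, 4, 6, 8, 2, 4, 6, 14, 0, 2, 4, 6, 8, 10, 12] (.cons [2, 6, 8, 4, 12, 6, 8, 10] .nil .nil) .nil) (.cons [12, 10, 8, 4, 6, 16, 18, 8, 4, 6, 16, 2, 4, 6, 8, 10, 12, 14] (.cons [6, 14, 10, 4, 6, 8, 2, 4, 6, 14, 16, 14, 10, 4, 6, 8, 2, 4,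 6, 14, 0, 2, 4, 6, 8, 10, 12] (.cons [2, 4, 6, 12, 14, 6, 8, 10, 8, 6, 4, 0, 2] .nil .nil) .nil) (.cons [14, 12, 10, 8, 6, 16, 18, 8, 4, 6, 16, 2, 4, 6, 8, 10, 12, 14] (.cons [6, 14, 16, 8, 2, 4, 6, 14, 10, 12, 6, 8, 10, 4, 6, 8, 2, 4, 6, 14, 16, 8, 10, 6, 8, 2, 4, 6, 14, 0, 2, 4, 6, 8, 10, 12] (.cons [8, 4, 6, 12, 10, 8, 4, 6, 8, 4, 0, 2, 10, 12, 14, 8] .nil .nil) .nil) (.cons [2, 4, 6, 16, 18, 14, 12, 10, 8, 6, 16, 2, 4, 6, 8, 10, 12, 14] (.cons [6, 14, 16, 14, 12, 8, 10, 6, 8, 4, 6, 14, 2, 4, 6, 8, 10, 12] (.cons [12, 14, 8, 6, 8, 10] .nil .nil) .nil) (.cons [8, 4, 6, 16, 18, 14, 12, 10, 8, 6, 16, 2, 4, 6, 8, 10, 12, 14] (.cons [14, 16, 10, 8, 6, 14, 4, 6, 8, 2, 4, 6, 14, 16, 12, 6, 8, 10, 4, 6, 8, 2, 4,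 6, 14, 0, 2, 4, 6, 8, 10, 12] .nil .nil) (.cons [10, 8, 6, 16, 18, 14, 12, 10, 8, 6, 16, 2, 4, 6, 8, 10, 12, 14] (.cons [14, 16, 6, 14, 8, 10, 6, 8, 2, 4, 6, 14, 16, 12, 8, 10, 6, 8, 2, 4, 6, 14, 0, 2, 4, 6, 8, 10, 12] .nil .nil) (.cons [0, 2, 4, 6, 16, 18, 12, 10, 8, 6, 16, 2, 4, 6, 8, 10, 12, 14] (.cons [6, 14, 16, 14, 8, 10, 6, 8, 4, 6, 14, 0, 2, 4, 6, 8, 10, 12] (.cons [12, 6, 4, 8, 2, 12, 6, 8] .nil .nil) .nil) (.cons [8, 2, 4, 6, 16, 18, 12, 10, 8, 6, 16, 2, 4, 6, 8, 10, 12, 14] (.cons [6, 14, 16, 12, 10, 8, 4, 6, 14, 8, 10, 4, 6, 8, 2, 4, 6, 14, 16, 8, 10, 6, 8, 2, 4, 6, 14, 0, 2, 4, 6, 8, 10, 12] (.cons [12, 10, 8, 14, 2, 0, 6, 4, 2, 12, 8, 6, 4, 12] .nil .nil) .nil) (.cons [6, 8, 4, 6, 16, 18, 12, 10,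 8, 6, 16, 2, 4, 6, 8, 10, 12, 14] (.cons [16, 14, 6, 8, 10, 6, 4, 2, 4, 6, 14, 12, 8, 10, 6, 8, 4, 6, 14, 16, 14, 12, 10, 6, 8, 2, 4, 6, 14, 0, 2, 4, 6, 8, 10, 12] .nil .nil) (.cons [10, 8, 4, 6, 16, 18, 12, 10, 8, 6, 16, 2, 4, 6, 8, 10, 12, 14] (.cons [14, 16, 4, 6, 14, 8, 6, 14, 10, 12, 8, 10, 4, 6, 8, 2, 4, 6, 14, 16, 14, 6, 8, 4, 6, 14, 0, 2, 4, 6, 8, 10, 12] (.cons [8, 6, 12, 14, 4, 12, 6, 2, 8, 10, 4, 6, 0, 2] .nil .nil) .nil) (.cons [8, 0, 2, 4, 6, 16, 18, 10, 8, 6, 16, 2, 4, 6, 8, 10, 12, 14] (.cons [14, 6, 8, 4, 6, 14, 16, 10, 8, 6, 14, 10, 12, 6, 8, 10, 4, 6, 8, 2, 4, 6, 14, 16, 14, 8, 10, 4, 6, 8, 2, 4, 6, 14, 0, 2, 4, 6, 8, 10, 12] (.cons [14, 6, 4, 2, 6, 10, 8] .nil .nil) .nil) (.cons [6, 8, 2,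 4, 6, 16, 18, 10, 8, 6, 16, 2, 4, 6, 8, 10, 12, 14] .nil (.cons [16, 6, 8, 4, 6, 16, 18, 10, 8, 6, 16, 2, 4, 6, 8, 10, 12, 14] (.cons [16, 14, 12, 8, 10, 4, 6, 8, 0, 2, 4, 6, 14, 16, 14, 10, 4, 6, 8, 2, 4, 6, 14, 0, 2, 4, 6, 8, 10, 12] .nil .nil) (.cons [0, 2, 4, 6, 16, 18, 14, 12, 10, 8, 6, 16, 4, 6, 8, 10, 12, 14] (.cons [6, 14, 16, 0, 2, 4, 6, 14, 8, 10, 4, 6, 8, 2, 4, 6, 14, 16, 12, 10, 6, 8, 2, 4, 6, 14, 0, 2, 4, 6, 8, 10, 12] .nil .nil) (.cons [8, 2, 4, 6, 16, 18, 14, 12, 10, 8, 6, 16, 4, 6, 8, 10, 12, 14] (.cons [10, 6, 8, 4, 6, 14, 16, 12, 8, 10, 4, 6, 8, 2, 4, 6, 14, 0, 2, 4, 6, 8, 10, 12] (.cons [12, 14, 12, 8, 6, 4, 0, 2] .nil .nil) .nil) (.cons [6, 8, 4, 6, 16, 18, 14, 12, 10, 8, 6, 16, 4, 6, 8,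 10, 12, 14] (.cons [14, 16, 6, 14, 8, 10, 6, 8, 4, 6, 14, 16, 12, 8, 10, 6, 8, 2, 4, 6, 14, 0, 2, 4, 6, 8, 10, 12] (.cons [10, 2, 4, 0, 2] .nil .nil) .nil) (.cons [10, 8, 4, 6, 16, 18, 14, 12, 10, 8, 6, 16, 4, 6, 8, 10, 12, 14] (.cons [14, 16, 6, 14, 8, 10, 2, 4, 6, 8, 0, 2, 4, 6, 14, 16, 12, 8, 10, 4, 6, 8, 2, 4, 6, 14, 0, 2, 4, 6, 8, 10, 12] (.cons [4, 0, 2, 12, 14, 6, 4] .nil .nil) .nil) (.cons [6, 8, 2, 4, 6, 16, 18, 12, 10, 8, 6, 16, 4, 6, 8, 10, 12, 14] (.cons [2, 4, 6, 14, 8, 6, 4, 2, 14, 10, 12, 8, 10, 6, 8, 4, 6, 14, 16, 10, 6, 8, 4, 6, 14, 0, 2, 4, 6, 8, 10, 12] (.cons [6, 12, 14, 2, 4, 12, 10, 8, 6, 4, 0, 2, 4, 8, 10] .nil .nil) .nil) (.cons [10, 8, 2, 4, 6, 16, 18, 12, 10, 8, 6, 16, 4, 6, 8, 10,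 12, 14] .nil (.cons [10, 6, 8, 4, 6, 16, 18, 12, 10, 8, 6, 16, 4, 6, 8, 10, 12, 14] (.cons [14, 10, 6, 8, 2, 4, 6, 14, 16, 8, 10, 6, 8, 2, 4, 6, 14, 0, 2, 4, 6, 8, 10, 12] .nil .nil) (.cons [16, 6, 8, 4, 6, 16, 18, 12, 10, 8, 6, 16, 4, 6, 8, 10, 12, 14] (.cons [16, 12, 10, 8, 6, 14, 6, 8, 10, 4, 6, 8, 2, 4, 6, 14, 16, 12, 8, 10, 4, 6, 8, 2, 4, 6, 14, 0, 2, 4, 6, 8, 10, 12] (.cons [10, 8, 6, 12, 14, 0, 6, 4, 2, 12, 6, 4] .nil .nil) .nil) (.cons [6, 8, 0, 2, 4, 6, 16, 18, 10, 8, 6, 16, 4, 6, 8, 10, 12, 14] .nil (.cons [12, 6, 8, 10, 4, 6, 8, 2, 4, 6, 16, 0, 2, 4, 6, 8, 10, 12, 14] (.cons [14, 16, 4, 6, 14, 6, 8, 10, 4, 6, 8, 2, 4, 6, 14, 16, 10, 6, 8, 2, 4, 6, 14, 0, 2, 4, 6, 8, 10, 12] (.cons [10, 4, 6, 2] .nil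 .nil) .nil) (.cons [18, 6, 8, 10, 4, 6, 8, 2, 4, 6, 16, 0, 2, 4, 6, 8, 10, 12, 14] (.cons [16, 8, 6, 14, 10, 12, 6, 8, 10, 4, 6, 8, 2, 4, 6, 14, 16, 12, 8, 10, 6, 8, 2, 4, 6, 14, 0, 2, 4, 6, 8, 10, 12] (.cons [6, 4, 12, 6, 2, 4, 8, 10, 6, 4, 12, 14] .nil .nil) .nil) (.cons [10, 12, 8, 10, 4, 6, 8, 2, 4, 6, 16, 0, 2, 4, 6, 8, 10, 12, 14] (.cons [16, 0, 2, 4, 6, 14, 8, 10, 6, 8, 2, 4, 6, 14, 16, 6, 8, 2, 4, 6, 14, 0, 2, 4, 6, 8, 10, 12] (.cons [4, 6, 12, 4, 14, 12, 6, 8, 4, 6, 10] .nil .nil) .nil) (.cons [14, 12, 8, 10, 4, 6, 8, 2, 4, 6, 16, 0, 2, 4, 6, 8, 10, 12, 14] (.cons [14, 16, 4, 6, 14, 8, 10, 6, 8, 0, 2, 4, 6, 14, 16, 12, 10, 8, 2, 4, 6, 14, 0, 2, 4, 6, 8, 10, 12] (.cons [10, 8, 4, 6, 8, 10, 12, 14, 0,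 6, 4, 2, 8, 6] .nil .nil) .nil) (.cons [16, 12, 8, 10, 4, 6, 8, 2, 4, 6, 16, 0, 2, 4, 6, 8, 10, 12, 14] (.cons [16, 4, 6, 14, 12, 6, 8, 10, 4, 6, 8, 0, 2, 4, 6, 14, 16, 12, 10, 6, 8, 2, 4, 6, 14, 0, 2, 4, 6, 8, 10, 12] (.cons [8, 6, 0, 2, 8, 10] .nil .nil) .nil) (.cons [18, 12, 8, 10, 4, 6, 8, 2, 4, 6, 16, 0, 2, 4, 6, 8, 10, 12, 14] .nil (.cons [16, 18, 8, 10, 4, 6, 8, 2, 4, 6, 16, 0, 2, 4, 6, 8, 10, 12, 14] (.cons [14, 12, 10, 6, 8, 2, 4, 6, 14, 16, 8, 10, 6, 8, 4, 6, 14, 0, 2, 4, 6, 8, 10, 12] (.cons [14, 6, 8, 10, 12, 6, 4, 2] .nil .nil) .nil) (.cons [16, 14, 12, 10, 4, 6, 8, 2, 4, 6, 16, 0, 2, 4, 6, 8, 10, 12, 14] (.cons [10, 8, 2, 4, 6, 14, 16, 12, 8, 10, 4, 6, 8, 2, 4, 6, 14, 0, 2, 4, 6, 8, 10, 12] (.cons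 [4, 6, 12, 10, 8, 6, 4, 2, 8, 10, 12, 14] .nil .nil) .nil) (.cons [6, 16, 12, 10, 4, 6, 8, 2, 4, 6, 16, 0, 2, 4, 6, 8, 10, 12, 14] (.cons [16, 4, 6, 8, 2, 4, 6, 14, 0, 2, 4, 6, 8, 10, 12] .nil .nil) (.cons [18, 16, 12, 10, 4, 6, 8, 2, 4, 6, 16, 0, 2, 4, 6, 8, 10, 12, 14] (.cons [8, 6, 14, 16, 8, 2, 4, 6, 14, 10, 12, 8, 10, 6, 8, 2, 4, 6, 14, 16, 8, 10, 4, 6, 8, 2, 4, 6, 14, 0, 2, 4, 6, 8, 10, 12] (.cons [4, 6, 12, 14, 2, 4, 6, 8, 10, 2, 4, 6, 0, 2, 4] .nil .nil) .nil) (.cons [16, 18, 12, 10, 4, 6, 8, 2, 4, 6, 16, 0, 2, 4, 6, 8, 10, 12, 14] (.cons [16, 14, 8, 10, 6, 8, 4, 6, 14, 16, 14, 12, 10, 6, 8, 2, 4, 6, 14, 0, 2, 4, 6, 8, 10, 12] .nil .nil) (.cons [18, 6, 16, 10, 4, 6, 8, 2, 4, 6, 16, 0, 2, 4, 6, 8, 10,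 12, 14] (.cons [2, 4, 6, 14, 16, 10, 8, 4, 6, 14, 10, 12, 6, 8, 10, 4, 6, 8, 2, 4, 6, 14, 16, 10, 4, 6, 8, 2, 4, 6, 14, 0, 2, 4, 6, 8, 10, 12] .nil .nil) (.cons [16, 18, 16, 10, 4, 6, 8, 2, 4, 6, 16, 0, 2, 4, 6, 8, 10, 12, 14] (.cons [14, 16, 10, 8, 4, 6, 14, 10, 12, 8, 10, 4, 6, 8, 2, 4, 6, 14, 16, 10, 8, 2, 4, 6, 14, 0, 2, 4, 6, 8, 10, 12] (.cons [6, 12, 14, 8, 0, 2, 12, 6, 8, 4, 6, 2, 8, 10] .nil .nil) .nil) (.cons [6, 16, 18, 10, 4, 6, 8, 2, 4, 6, 16, 0, 2, 4, 6, 8, 10, 12, 14] (.cons [16, 14, 12, 6, 8, 10, 4, 6, 8, 2, 4, 6, 14, 16, 14, 8, 10, 4, 6, 8, 2, 4, 6, 14, 0, 2, 4, 6, 8, 10, 12] .nil .nil) (.cons [18, 8, 6, 16, 4, 6, 8, 2, 4, 6, 16, 0, 2, 4, 6, 8, 10, 12, 14] (.cons [14, 16, 10, 8, 6, 14, 12, 10,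 4, 6, 8, 0, 2, 4, 6, 14, 16, 14, 10, 4, 6, 8, 2, 4, 6, 14, 0, 2, 4, 6, 8, 10, 12] .nil .nil) (.cons [16, 18, 6, 16, 4, 6, 8, 2, 4, 6, 16, 0, 2, 4, 6, 8, 10, 12, 14] .nil (.cons [6, 16, 18, 16, 4, 6, 8, 2, 4, 6, 16, 0, 2, 4, 6, 8, 10, 12, 14] (.cons [8, 6, 14, 16, 4, 6, 14, 8, 10, 4, 6, 8, 2, 4, 6, 14, 16, 8, 10, 6, 8, 2, 4, 6, 14, 0, 2, 4, 6, 8, 10, 12] (.cons [8, 6, 12, 14, 8, 4, 6, 4, 0, 2, 4, 6, 8, 10] .nil .nil) .nil) (.cons [4, 6, 16, 18, 4, 6, 8, 2, 4, 6, 16, 0, 2, 4, 6, 8, 10, 12, 14] (.cons [14, 6, 8, 4, 2, 14, 6, 4, 8, 6, 14, 10, 12, 8, 10, 6, 8, 4, 6, 14, 16, 2, 4, 6, 14, 0, 2, 4, 6, 8, 10, 12] (.cons [4, 6, 2, 8, 10, 6, 8, 4, 12, 6, 8, 10] .nil .nil) .nil) (.cons [8, 6, 16, 18, 4, 6, 8, 2, 4, 6, 16,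 0, 2, 4, 6, 8, 10, 12, 14] (.cons [14, 16, 14, 6, 8, 4, 6, 14, 10, 12, 6, 8, 10, 4, 6, 8, 2, 4, 6, 14, 16, 12, 10, 6, 8, 2, 4, 6, 14, 0, 2, 4, 6, 8, 10, 12] (.cons [10, 8, 6, 12, 4, 6, 0, 2, 4, 8, 10, 12, 14] .nil .nil) .nil) (.cons [16, 10, 12, 8, 10, 6, 8, 2, 4, 6, 16, 0, 2, 4, 6, 8, 10, 12, 14] (.cons [4, 6, 14, 16, 8, 4, 6, 14, 12, 8, 10, 4, 6, 8, 2, 4, 6, 14, 16, 14, 8, 10, 4, 6, 8, 2, 4, 6, 14, 0, 2, 4, 6, 8, 10, 12] (.cons [8, 14, 0, 2, 12, 6, 8, 10, 8] (.cons [2, 0, 3] .nil .nil) .nil) .nil) (.cons [18, 14, 12, 8, 10, 6, 8, 2, 4, 6, 16, 0, 2, 4, 6, 8, 10, 12, 14] (.cons [16, 6, 14, 6, 8, 10, 4, 6, 8, 2, 4, 6, 14, 16, 14, 12, 10, 6, 8, 2, 4, 6, 14, 0, 2, 4, 6, 8, 10, 12] (.cons [0, 2, 4, 6, 8, 6, 10,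 8, 6, 4, 12, 14] .nil .nil) .nil) (.cons [6, 16, 12, 8, 10, 6, 8, 2, 4, 6, 16, 0, 2, 4, 6, 8, 10, 12, 14] (.cons [16, 14, 12, 8, 10, 6, 8, 4, 6, 14, 16, 10, 6, 8, 2, 4, 6, 14, 0, 2, 4, 6, 8, 10, 12] (.cons [2, 12, 6, 4, 12, 6, 8, 10, 14, 12, 6, 4, 2, 12, 14] .nil .nil) .nil) (.cons [18, 16, 12, 8, 10, 6, 8, 2, 4, 6, 16, 0, 2, 4, 6, 8, 10, 12, 14] (.cons [14, 6, 8, 4, 6, 14, 16, 6, 14, 12, 8, 10, 6, 8, 2, 4, 6, 14, 0, 2, 4, 6, 8, 10, 12] .nil .nil) (.cons [16, 18, 12, 8, 10, 6, 8, 2, 4, 6, 16, 0, 2, 4, 6, 8, 10, 12, 14] (.cons [2, 4, 6, 14, 16, 8, 6, 14, 12, 8, 10, 4, 6, 8, 2, 4, 6, 14, 16, 10, 4, 6, 8, 2, 4, 6, 14, 0, 2, 4, 6, 8, 10, 12] (.cons [4, 6, 8, 0, 2, 4, 6, 12, 14, 6, 8, 12, 6, 4, 2, 4, 6, 8, 6, 10,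 4] .nil .nil) .nil) (.cons [18, 6, 16, 8, 10, 6, 8, 2, 4, 6, 16, 0, 2, 4, 6, 8, 10, 12, 14] .nil (.cons [16, 18, 16, 8, 10, 6, 8, 2, 4, 6, 16, 0, 2, 4, 6, 8, 10, 12, 14] (.cons [2, 4, 6, 14, 16, 12, 10, 8, 4, 6, 14, 0, 2, 4, 6, 8, 10, 12] (.cons [8, 6, 12, 6, 4, 14, 12] .nil .nil) .nil) (.cons [18, 16, 14, 12, 10, 6, 8, 2, 4, 6, 16, 0, 2, 4, 6, 8, 10, 12, 14] (.cons [6, 14, 16, 10, 8, 6, 14, 10, 4, 6, 8, 2, 4, 6, 14, 16, 14, 12, 10, 4, 6, 8, 2, 4, 6, 14, 0, 2, 4, 6, 8, 10, 12] (.cons [10, 2, 4, 6, 12, 14, 12] .nil .nil) .nil) (.cons [16, 18, 14, 12, 10, 6, 8, 2, 4, 6, 16, 0, 2, 4, 6, 8, 10, 12, 14] (.cons [14, 8, 6, 16, 14, 6, 8, 10, 4, 6, 8, 0, 2, 4, 6, 14, 16, 12, 10, 8, 2, 4, 6, 14, 0, 2, 4, 6, 8, 10, 12]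 (.cons [8, 0, 12, 6, 4, 2, 6, 12, 14, 8, 4, 6, 10] .nil .nil) .nil) (.cons [16, 18, 16, 12, 10, 6, 8, 2, 4, 6, 16, 0, 2, 4, 6, 8, 10, 12, 14] (.cons [14, 16, 10, 8, 6, 14, 4, 6, 8, 2, 4, 6, 14, 16, 14, 12, 10, 4, 6, 8, 2, 4, 6, 14, 0, 2, 4, 6, 8, 10, 12] (.cons [8, 0, 2, 4, 6, 12, 14, 6, 8, 10, 4, 6, 2, 4, 0, 2] .nil .nil) .nil) (.cons [6, 16, 18, 12, 10, 6, 8, 2, 4, 6, 16, 0, 2, 4, 6, 8, 10, 12, 14] .nil (.cons [6, 16, 18, 16, 10, 6, 8, 2, 4, 6, 16, 0, 2, 4, 6, 8, 10, 12, 14] (.cons [12, 8, 10, 14, 6, 2, 4, 6, 14, 8, 10, 12, 6, 8, 10, 4, 6, 8, 2, 4, 6, 14, 16, 14, 6, 8, 4, 6, 14, 0, 2, 4, 6, 8, 10, 12] .nil .nil) (.cons [4, 6, 16, 18, 10, 6, 8, 2, 4, 6, 16, 0, 2, 4, 6, 8, 10, 12, 14] .nil (.cons [8, 6, 16,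 18, 10, 6, 8, 2, 4, 6, 16, 0, 2, 4, 6, 8, 10, 12, 14] (.cons [14, 16, 6, 14, 4, 6, 8, 0, 2, 4, 6, 14, 16, 14, 12, 10, 4, 6, 8, 2, 4, 6, 14, 0, 2, 4, 6, 8, 10, 12] .nil .nil) (.cons [4, 6, 16, 18, 16, 6, 8, 2, 4, 6, 16, 0, 2, 4, 6, 8, 10, 12, 14] (.cons [10, 12, 8, 10, 4, 6, 8, 2, 4, 6, 14, 16, 6, 8, 2, 4, 6, 14, 0, 2, 4, 6, 8, 10, 12] .nil .nil) (.cons [8, 6, 16, 18, 16, 6, 8, 2, 4, 6, 16, 0, 2, 4, 6, 8, 10, 12, 14] (.cons [14, 16, 8, 2, 4, 6, 14, 8, 10, 4, 6, 8, 2, 4, 6, 14, 16, 14, 12, 10, 4, 6, 8, 2, 4, 6, 14, 0, 2, 4, 6, 8, 10, 12] (.cons [10, 8, 4, 6, 12, 14, 6, 12, 4, 6, 8, 10, 0, 12, 6, 4, 2, 4] .nil .nil) .nil) (.cons [2, 4, 6, 16, 18, 6, 8, 2, 4, 6, 16, 0, 2, 4, 6, 8, 10, 12, 14] (.cons [14, 6, 8, 4,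 6, 14, 16, 12, 10, 8, 6, 14, 4, 6, 8, 10, 12] (.cons [12, 14, 12] .nil .nil) .nil) (.cons [8, 4, 6, 16, 18, 6, 8, 2, 4, 6, 16, 0, 2, 4, 6, 8, 10, 12, 14] (.cons [6, 14, 8, 10, 6, 8, 4, 6, 14, 16, 14, 6, 8, 4, 6, 14, 0, 2, 4, 6, 8, 10, 12] (.cons [2, 0, 4, 2, 6, 12, 10, 14, 12, 6, 8, 4, 6, 10] .nil .nil) .nil) (.cons [10, 8, 6, 16, 18, 6, 8, 2, 4, 6, 16, 0, 2, 4, 6, 8, 10, 12, 14] (.cons [14, 16, 6, 8, 2, 4, 6, 14, 10, 12, 8, 10, 4, 6, 8, 2, 4, 6, 14, 16, 10, 4, 6, 8, 2, 4, 6, 14, 0, 2, 4, 6, 8, 10, 12] (.cons [6, 4, 2, 14, 6, 8, 4, 6, 8, 10] .nil .nil) .nil) (.cons [6, 16, 18, 14, 12, 10, 8, 2, 4, 6, 16, 0, 2, 4, 6, 8, 10, 12, 14] (.cons [6, 14, 6, 8, 10, 4, 6, 8, 0, 2, 4, 6, 14, 16, 12, 10, 6, 8, 2, 4, 6, 14,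 0, 2, 4, 6, 8, 10, 12] (.cons [4, 6, 8, 2, 4, 6, 12, 14, 10, 6, 8, 10, 0, 12, 6, 4, 2, 4] .nil .nil) .nil) (.cons [4, 6, 16, 18, 12, 10, 8, 2, 4, 6, 16, 0, 2, 4, 6, 8, 10, 12, 14] (.cons [6, 14, 10, 12, 8, 10, 4, 6, 8, 0, 2, 4, 6, 14, 16, 10, 6, 8, 2, 4, 6, 14, 0, 2, 4, 6, 8, 10, 12] (.cons [14, 6, 8, 10, 0, 4, 6, 2, 4, 0, 2, 12] .nil .nil) .nil) (.cons [8, 6, 16, 18, 12, 10, 8, 2, 4, 6, 16, 0, 2, 4, 6, 8, 10, 12, 14] (.cons [6, 8, 4, 6, 14, 16, 12, 10, 8, 6, 14, 8, 10, 12, 6, 8, 10, 4, 6, 8, 2, 4, 6, 14, 16, 10, 4, 6, 8, 2, 4, 6, 14, 0, 2, 4, 6, 8, 10, 12] (.cons [12, 14, 8, 6, 8, 10, 4, 6, 2] .nil .nil) .nil) (.cons [2, 4, 6, 16, 18, 10, 8, 2, 4, 6, 16, 0, 2, 4, 6, 8, 10, 12, 14] (.cons [12, 10, 14, 6, 4,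 2, 6, 14, 8, 4, 6, 14, 10, 12, 8, 10, 6, 8, 4, 6, 14, 16, 8, 2, 4, 6, 14, 0, 2, 4, 6, 8, 10, 12] (.cons [8, 4, 10, 12, 8, 6, 4, 12, 14] .nil .nil) .nil) (.cons [10, 8, 6, 16, 18, 10, 8, 2, 4, 6, 16, 0, 2, 4, 6, 8, 10, 12, 14] (.cons [16, 14, 12, 10, 4, 6, 8, 2, 4, 6, 14, 16, 14, 10, 4, 6, 8, 2, 4, 6, 14, 0, 2, 4, 6, 8, 10, 12] .nil .nil) (.cons [0, 2, 4, 6, 16, 18, 8, 2, 4, 6, 16, 0, 2, 4, 6, 8, 10, 12, 14] (.cons [12, 10, 8, 4, 6, 14, 2, 4, 6, 8, 10, 12] (.cons [4, 2, 4, 6, 12, 14, 8, 6, 4, 12] .nil .nil) .nil) (.cons [6, 8, 4, 6, 16, 18, 8, 2, 4, 6, 16, 0, 2, 4, 6, 8, 10, 12, 14] (.cons [14, 8, 10, 6, 8, 4, 6, 14, 16, 14, 6, 8, 4, 6, 14, 0, 2, 4, 6, 8, 10, 12] (.cons [8, 12, 4, 6, 12, 2, 4, 6, 0, 2, 4, 8,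 10, 12, 14] (.cons [4, 3, 0, 2] .nil .nil) .nil) .nil) (.cons [10, 8, 4, 6, 16, 18, 8, 2, 4, 6, 16, 0, 2, 4, 6, 8, 10, 12, 14] (.cons [6, 14, 10, 12, 8, 10, 6, 8, 2, 4, 6, 14, 16, 6, 8, 2, 4, 6, 14, 0, 2, 4, 6, 8, 10, 12] (.cons [2, 12, 14, 6, 4, 8, 12] .nil .nil) .nil) (.cons [12, 10, 8, 6, 16, 18, 8, 2, 4, 6, 16, 0, 2, 4, 6, 8, 10, 12, 14] (.cons [12, 10, 8, 6, 14, 16, 10, 8, 4, 6, 14, 8, 10, 12, 6, 8, 10, 4, 6, 8, 2, 4, 6, 14, 16, 12, 10, 4, 6, 8, 2, 4, 6, 14, 0, 2, 4, 6, 8, 10, 12] (.cons [12, 6, 8, 4, 6, 12, 10, 2, 14, 12] .nil .nil) .nil) (.cons [10, 6, 8, 4, 6, 16, 18, 2, 4, 6, 16, 0, 2, 4, 6, 8, 10, 12, 14] (.cons [14, 6, 8, 4, 6, 14, 16, 14, 12, 8, 10, 4, 6, 8, 2, 4, 6, 14, 0, 2, 4, 6, 8, 10, 12] .nil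 .nil) (.cons [16, 6, 8, 4, 6, 16, 18, 2, 4, 6, 16, 0, 2, 4, 6, 8, 10, 12, 14] .nil (.cons [12, 10, 8, 4, 6, 16, 18, 2, 4, 6, 16, 0, 2, 4, 6, 8, 10, 12, 14] (.cons [16, 14, 12, 8, 10, 4, 6, 8, 0, 2, 4, 6, 14, 16, 14, 12, 10, 4, 6, 8, 2, 4, 6, 14, 0, 2, 4, 6, 8, 10, 12] (.cons [10, 8, 2, 4, 6, 12, 14, 0, 2, 4, 6, 8, 10, 12, 6, 4, 2] .nil .nil) .nil) (.cons [14, 12, 10, 8, 6, 16, 18, 2, 4, 6, 16, 0, 2, 4, 6, 8, 10, 12, 14] (.cons [16, 2, 4, 10, 0, 2, 14, 8, 6, 4, 10, 16, 6, 14, 12, 8, 10, 6, 8, 4, 6, 14, 16, 2, 4, 6, 14, 0, 2, 4, 6, 8, 10, 12] (.cons [2, 4, 12, 6, 8, 4, 14, 12, 6, 4, 0, 2, 8, 10, 12, 14] .nil .nil) .nil) (.cons [12, 14, 10, 12, 8, 10, 6, 8, 4, 6, 16, 0, 2, 4, 6, 8, 10, 12, 14] (.cons [4, 6, 14,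 10, 12, 6, 8, 10, 4, 6, 8, 2, 4, 6, 14, 16, 10, 6, 8, 2, 4, 6, 14, 0, 2, 4, 6, 8, 10, 12] (.cons [10, 8, 6, 12, 8, 6, 4, 2, 8, 10, 14, 12] .nil .nil) .nil) (.cons [18, 14, 10, 12, 8, 10, 6, 8, 4, 6, 16, 0, 2, 4, 6, 8, 10, 12, 14] (.cons [8, 6, 14, 16, 8, 6, 14, 10, 12, 8, 10, 6, 8, 2, 4, 6, 14, 0, 2, 4, 6, 8, 10, 12] .nil .nil) (.cons [6, 16, 10, 12, 8, 10, 6, 8, 4, 6, 16, 0, 2, 4, 6, 8, 10, 12, 14] (.cons [16, 0, 6, 14, 4, 8, 6, 14, 10, 12, 8, 10, 4, 6, 8, 2, 4, 6, 14, 16, 14, 6, 8, 4, 6, 14, 0, 2, 4, 6, 8, 10, 12] (.cons [14, 12, 0, 2, 4, 6, 8, 10, 12, 6, 4, 6, 2, 4] (.cons [3, 3, 4, 4, 1] .nil .nil) .nil) .nil) (.cons [18, 16, 10, 12, 8, 10, 6, 8, 4, 6, 16, 0, 2, 4, 6, 8, 10, 12, 14] (.cons [4, 2, 0, 6, 14,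 12, 8, 10, 6, 8, 4, 6, 14, 16, 8, 10, 6, 8, 4, 6, 14, 2, 4, 6, 8, 10, 12] (.cons [12, 6, 2, 4, 12, 6, 8, 10, 14, 12, 8, 6, 12, 14, 4, 6, 2] (.cons [0, 5, 2, 5] .nil .nil) .nil) .nil) (.cons [16, 18, 10, 12, 8, 10, 6, 8, 4, 6, 16, 0, 2, 4, 6, 8, 10, 12, 14] (.cons [6, 14, 16, 10, 8, 6, 14, 10, 12, 6, 8, 10, 4, 6, 8, 0, 2, 4, 6, 14, 16, 10, 4, 6, 8, 2, 4, 6, 14, 0, 2, 4, 6, 8, 10, 12] (.cons [6, 12, 14, 10, 8, 6, 8, 4, 2, 10, 8] .nil .nil) .nil) (.cons [6, 16, 14, 12, 8, 10, 6, 8, 4, 6, 16, 0, 2, 4, 6, 8, 10, 12, 14] (.cons [0, 2, 4, 6, 14, 8, 10, 6, 8, 4, 6, 14, 16, 12, 8, 10, 6, 8, 2, 4, 6, 14, 0, 2, 4, 6, 8, 10, 12] (.cons [14, 6, 8, 4, 2, 12, 6, 8, 10] .nil .nil) .nil) (.cons [18, 16, 14, 12, 8, 10, 6, 8,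 4, 6, 16, 0, 2, 4, 6, 8, 10, 12, 14] .nil (.cons [18, 6, 16, 12, 8, 10, 6, 8, 4, 6, 16, 0, 2, 4, 6, 8, 10, 12, 14] (.cons [10, 12, 8, 10, 6, 8, 2, 4, 6, 14, 16, 14, 4, 6, 8, 2, 4, 6, 14, 0, 2, 4, 6, 8, 10, 12] (.cons [8, 6, 12, 14, 8, 10, 8, 6, 4, 6, 2, 4] .nil .nil) .nil) (.cons [16, 18, 16, 12, 8, 10, 6, 8, 4, 6, 16, 0, 2, 4, 6, 8, 10, 12, 14] .nil (.cons [6, 16, 18, 12, 8, 10, 6, 8, 4, 6, 16, 0, 2, 4, 6, 8, 10, 12, 14] (.cons [4, 0, 2, 12, 4, 6, 8, 10, 16, 14, 8, 6, 14, 16, 4, 6, 14, 8, 10, 12, 6, 8, 10, 4, 6, 8, 2, 4, 6, 14, 16, 6, 8, 4, 6, 14, 0, 2, 4, 6, 8, 10, 12] (.cons [6, 12, 2, 6, 8, 10, 4, 6, 12, 14] .nil .nil) .nil) (.cons [18, 4, 6, 16, 8, 10, 6, 8, 4, 6, 16, 0, 2, 4, 6, 8, 10, 12, 14] (.cons [8,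 6, 14, 16, 8, 4, 6, 14, 10, 12, 8, 10, 4, 6, 8, 0, 2, 4, 6, 14, 16, 12, 10, 6, 8, 2, 4, 6, 14, 0, 2, 4, 6, 8, 10, 12] (.cons [4, 6, 8, 2, 4, 6, 12, 14, 10, 2, 4, 6, 8, 12, 6, 4, 0, 2, 8, 10] .nil .nil) .nil) (.cons [6, 16, 18, 16, 8, 10, 6, 8, 4, 6, 16, 0, 2, 4, 6, 8, 10, 12, 14] (.cons [12, 10, 6, 8, 4, 6, 14, 16, 6, 14, 8, 10, 6, 8, 2, 4, 6, 14, 0, 2, 4, 6, 8, 10, 12] (.cons [2, 4, 12, 6, 8, 14, 12, 6, 4, 0, 2, 8, 10, 12, 14] .nil .nil) .nil) (.cons [4, 6, 16, 18, 8, 10, 6, 8, 4, 6, 16, 0, 2, 4, 6, 8, 10, 12, 14] (.cons [10, 8, 6, 4, 2, 0, 8, 6, 14, 12, 8, 10, 6, 8, 4, 6, 14, 16, 12, 10, 8, 4, 6, 14, 2, 4, 6, 8, 10, 12] .nil .nil) (.cons [8, 6, 16, 18, 8, 10, 6, 8, 4, 6, 16, 0, 2, 4, 6, 8, 10, 12, 14] .nil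 (.cons [6, 16, 18, 14, 12, 10, 6, 8, 4, 6, 16, 0, 2, 4, 6, 8, 10, 12, 14] (.cons [16, 0, 2, 4, 6, 14, 8, 10, 6, 8, 0, 2, 4, 6, 14, 16, 12, 10, 8, 2, 4, 6, 14, 0, 2, 4, 6, 8, 10, 12] .nil .nil) (.cons [6, 16, 18, 16, 12, 10, 6, 8, 4, 6, 16, 0, 2, 4, 6, 8, 10, 12, 14] (.cons [14, 16, 6, 8, 4, 6, 14, 10, 12, 8, 10, 4, 6, 8, 2, 4, 6, 14, 16, 14, 12, 10, 4, 6, 8, 2, 4, 6, 14, 0, 2, 4, 6, 8, 10, 12] (.cons [8, 4, 6, 12, 8, 10, 6, 4, 2, 4, 6, 12, 14] .nil .nil) .nil) (.cons [4, 6, 16, 18, 12, 10, 6, 8, 4, 6, 16, 0, 2, 4, 6, 8, 10, 12, 14] (.cons [14, 10, 12, 8, 10, 4, 6, 8, 2, 4, 6, 14, 16, 8, 10, 6, 8, 2, 4, 6, 14, 0, 2, 4, 6, 8, 10, 12] (.cons [14, 0, 2, 4, 6, 8, 10, 0, 12, 6, 4, 2, 4] .nil .nil) .nil) (.cons [8,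 6, 16, 18, 12, 10, 6, 8, 4, 6, 16, 0, 2, 4, 6, 8, 10, 12, 14] (.cons [0, 2, 4, 6, 14, 16, 10, 8, 2, 4, 6, 14, 10, 12, 8, 10, 4, 6, 8, 2, 4, 6, 14, 16, 8, 10, 4, 6, 8, 2, 4, 6, 14, 0, 2, 4, 6, 8, 10, 12] (.cons [6, 12, 14, 4, 10, 6, 8, 6, 4, 10, 0, 2, 4, 8, 6] .nil .nil) .nil) (.cons [4, 6, 16, 18, 16, 10, 6, 8, 4, 6, 16, 0, 2, 4, 6, 8, 10, 12, 14] .nil (.cons [8, 6, 16, 18, 16, 10, 6, 8, 4, 6, 16, 0, 2, 4, 6, 8, 10, 12, 14] (.cons [6, 8, 4, 6, 14, 16, 10, 8, 6, 14, 12, 10, 4, 6, 8, 2, 4, 6, 14, 16, 12, 8, 10, 4, 6, 8, 2, 4, 6, 14, 0, 2, 4, 6, 8, 10, 12] (.cons [12, 6, 4, 2, 12, 4, 14, 12, 6, 8, 4, 6, 10] .nil .nil) .nil) (.cons [2, 4, 6, 16, 18, 10, 6, 8, 4, 6, 16, 0, 2, 4, 6, 8, 10, 12, 14] (.cons [4, 6, 12,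 10, 8, 6, 14, 16, 4, 6, 14, 10, 12, 8, 10, 6, 8, 2, 4, 6, 14, 16, 12, 10, 8, 2, 4, 6, 14, 0, 2, 4, 6, 8, 10, 12] .nil .nil) (.cons [8, 4, 6, 16, 18, 10, 6, 8, 4, 6, 16, 0, 2, 4, 6, 8, 10, 12, 14] (.cons [10, 6, 8, 4, 14, 16, 6, 14, 10, 12, 8, 10, 4, 6, 8, 2, 4, 6, 14, 16, 12, 10, 8, 2, 4, 6, 14, 0, 2, 4, 6, 8, 10, 12] (.cons [4, 6, 2, 8, 10, 12, 14] .nil .nil) .nil) (.cons [10, 8, 6, 16, 18, 10, 6, 8, 4, 6, 16, 0, 2, 4, 6, 8, 10, 12, 14] (.cons [16, 8, 0, 2, 4, 6, 14, 10, 12, 8, 10, 4, 6, 8, 2, 4, 6, 14, 16, 12, 10, 4, 6, 8, 2, 4, 6, 14, 0, 2, 4, 6, 8, 10, 12] (.cons [8, 6, 12, 14, 4, 6, 8, 6, 4, 0, 2, 4, 10, 8] .nil .nil) .nil) (.cons [2, 4, 6, 16, 18, 16, 6, 8, 4, 6, 16, 0, 2, 4, 6, 8, 10, 12, 14] (.cons [16,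 14, 12, 10, 8, 0, 6, 4, 2, 0, 14, 12, 8, 10, 6, 8, 4, 6, 14, 16, 12, 8, 10, 6, 8, 4, 6, 14, 2, 4, 6, 8, 10, 12] (.cons [8, 0, 2, 4, 10, 12, 14, 8] .nil .nil) .nil) (.cons [8, 4, 6, 16, 18, 16, 6, 8, 4, 6, 16, 0, 2, 4, 6, 8, 10, 12, 14] (.cons [8, 6, 14, 16, 10, 8, 6, 14, 12, 10, 4, 6, 8, 0, 2, 4, 6, 14, 16, 12, 10, 4, 6, 8, 2, 4, 6, 14, 0, 2, 4, 6, 8, 10, 12] .nil .nil) (.cons [10, 8, 6, 16, 18, 16, 6, 8, 4, 6, 16, 0, 2, 4, 6, 8, 10, 12, 14] (.cons [2, 4, 6, 14, 16, 8, 6, 14, 10, 12, 6, 8, 10, 4, 6, 8, 2, 4, 6, 14, 16, 14, 8, 10, 6, 8, 2, 4, 6, 14, 0, 2, 4, 6, 8, 10, 12] (.cons [6, 8, 2, 4, 6, 12, 14, 6, 4, 8, 12, 6, 4, 0, 2, 4, 8, 10] .nil .nil) .nil) (.cons [0, 2, 4, 6, 16, 18, 6, 8, 4, 6, 16, 0, 2, 4, 6,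 8, 10, 12, 14] (.cons [14, 12, 8, 10, 6, 8, 2, 4, 6, 14, 16, 10, 8, 2, 4, 6, 14, 0, 2, 4, 6, 8, 10, 12] (.cons [6, 0, 2, 4, 6, 12, 8, 10, 0, 2, 4, 6, 12, 14] .nil .nil) .nil) (.cons [8, 2, 4, 6, 16, 18, 6, 8, 4, 6, 16, 0, 2, 4, 6, 8, 10, 12, 14] (.cons [8, 6, 14, 16, 0, 2, 4, 6, 14, 8, 10, 12, 6, 8, 10, 4, 6, 8, 2, 4, 6, 14, 16, 10, 4, 6, 8, 2, 4, 6, 14, 0, 2, 4, 6, 8, 10, 12] .nil .nil) (.cons [6, 8, 4, 6, 16, 18, 6, 8, 4, 6, 16, 0, 2, 4, 6, 8, 10, 12, 14] (.cons [6, 14, 16, 4, 6, 14, 10, 12, 6, 8, 10, 4, 6, 8, 0, 2, 4, 6, 14, 16, 14, 12, 10, 4, 6, 8, 2, 4, 6, 14, 0, 2, 4, 6, 8, 10, 12] (.cons [14, 2, 0, 12, 6, 4, 2, 10, 6, 8, 4, 6, 10] .nil .nil) .nil) (.cons [10, 8, 4, 6, 16, 18, 6, 8, 4, 6, 16, 0, 2, 4,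 6, 8, 10, 12, 14] (.cons [6, 8, 10, 4, 6, 8, 2, 4, 6, 14, 16, 12, 10, 6, 8, 2, 4, 6, 14, 0, 2, 4, 6, 8, 10, 12] (.cons [10, 2, 8, 10, 4, 6, 12, 14, 12, 6, 8, 4, 6, 10] .nil .nil) .nil) (.cons [12, 10, 8, 6, 16, 18, 6, 8, 4, 6, 16, 0, 2, 4, 6, 8, 10, 12, 14] (.cons [16, 6, 14, 8, 10, 12, 6, 8, 10, 4, 6, 8, 2, 4, 6, 14, 16, 14, 4, 6, 8, 2, 4, 6, 14, 0, 2, 4, 6, 8, 10, 12] (.cons [8, 6, 12, 10, 8, 6, 10, 4, 0, 2, 12, 14, 6, 4] (.cons [1, 1, 2, 2, 0] .nil .nil) .nil) .nil) (.cons [2, 4, 6, 16, 18, 12, 10, 8, 4, 6, 16, 0, 2, 4, 6, 8, 10, 12, 14] (.cons [8, 6, 14, 16, 10, 6, 8, 4, 6, 14, 8, 10, 12, 6, 8, 10, 4, 6, 8, 2, 4, 6, 14, 16, 10, 4, 6, 8, 2, 4, 6, 14, 0, 2, 4, 6, 8, 10, 12] (.cons [8, 10, 2, 6, 12, 14, 0,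 4, 8, 6, 4, 2] .nil .nil) .nil) (.cons [8, 4, 6, 16, 18, 12, 10, 8, 4, 6, 16, 0, 2, 4, 6, 8, 10, 12, 14] (.cons [16, 6, 14, 10, 8, 0, 6, 4, 2, 0, 10, 14, 12, 8, 10, 6, 8, 4, 6, 14, 16, 12, 10, 6, 8, 4, 6, 14, 2, 4, 6, 8, 10, 12] (.cons [6, 2, 4, 6, 12, 8, 0, 2, 10, 14, 8, 12] .nil .nil) .nil) (.cons [10, 8, 6, 16, 18, 12, 10, 8, 4, 6, 16, 0, 2, 4, 6, 8, 10, 12, 14] .nil (.cons [0, 2, 4, 6, 16, 18, 10, 8, 4, 6, 16, 0, 2, 4, 6, 8, 10, 12, 14] (.cons [8, 6, 4, 2, 0, 6, 14, 8, 10, 6, 8, 4, 6, 14, 16, 12, 8, 10, 6, 8, 4, 6, 14, 2, 4, 6, 8, 10, 12] (.cons [6, 8, 4, 6, 12, 14, 10, 4, 6, 8, 10, 12, 6, 2, 4, 0, 2] .nil .nil) .nil) (.cons [8, 2, 4, 6, 16, 18, 10, 8, 4, 6, 16, 0, 2, 4, 6, 8, 10, 12, 14] (.cons [6, 14,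 16, 4, 8, 10, 6, 0, 2, 4, 6, 14, 8, 10, 12, 6, 8, 10, 4, 6, 8, 2, 4, 6, 14, 16, 14, 6, 8, 4, 6, 14, 0, 2, 4, 6, 8, 10, 12] (.cons [10, 8, 2, 4, 6, 12, 14, 10, 4, 6, 8, 10, 12, 6, 4, 2] .nil .nil) .nil) (.cons [6, 8, 4, 6, 16, 18, 10, 8, 4, 6, 16, 0, 2, 4, 6, 8, 10, 12, 14] (.cons [10, 6, 8, 0, 2, 4, 6, 14, 16, 14, 4, 6, 8, 2, 4, 6, 14, 0, 2, 4, 6, 8, 10, 12] (.cons [0, 12, 6, 4, 2, 12, 14, 12, 6, 8, 4, 6, 10] .nil .nil) .nil) (.cons [10, 8, 4, 6, 16, 18, 10, 8, 4, 6, 16, 0, 2, 4, 6, 8, 10, 12, 14] (.cons [6, 14, 6, 4, 2, 8, 4, 6, 14, 10, 12, 8, 10, 6, 8, 4, 6, 14, 16, 8, 2, 4, 6, 14, 0, 2, 4, 6, 8, 10, 12] .nil .nil) (.cons [8, 0, 2, 4, 6, 16, 18, 8, 4, 6, 16, 0, 2, 4, 6, 8, 10, 12, 14] (.cons [8, 4, 6, 14,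 16, 4, 6, 8, 10, 14, 6, 8, 4, 6, 14, 10, 12, 8, 10, 6, 8, 0, 2, 4, 6, 14, 16, 12, 10, 8, 2, 4, 6, 14, 0, 2, 4, 6, 8, 10, 12] (.cons [8, 0, 2, 4, 6, 12, 14, 6, 4, 10, 8, 6, 4, 0, 2, 4, 6, 8, 10] .nil .nil) .nil) (.cons [10, 8, 2, 4, 6, 16, 18, 8, 4, 6, 16, 0, 2, 4, 6, 8, 10, 12, 14] .nil (.cons [12, 10, 8, 4, 6, 16, 18, 8, 4, 6, 16, 0, 2, 4, 6, 8, 10, 12, 14] (.cons [0, 2, 4, 6, 14, 16, 8, 10, 4, 6, 14, 8, 6, 4, 14, 10, 12, 8, 10, 6, 8, 2, 4, 6, 14, 16, 14, 10, 6, 8, 4, 6, 14, 0, 2, 4, 6, 8, 10, 12] (.cons [0, 2, 4, 6, 8, 2, 10, 4, 6, 12, 14, 8, 6, 4, 0, 2] .nil .nil) .nil) (.cons [14, 12, 10, 8, 6, 16, 18, 8, 4, 6, 16, 0, 2, 4, 6, 8, 10, 12, 14] (.cons [16, 0, 2, 14, 6, 4, 16, 6, 14, 12, 8, 10, 6, 8, 4, 6, 14,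 16, 2, 4, 6, 14, 0, 2, 4, 6, 8, 10, 12] (.cons [0, 2, 4, 6, 12, 8, 10, 8, 6, 4, 2, 4, 12, 14] .nil .nil) .nil) (.cons [2, 4, 6, 16, 18, 14, 12, 10, 8, 6, 16, 0, 2, 4, 6, 8, 10, 12, 14] (.cons [10, 8, 6, 14, 16, 4, 6, 14, 8, 10, 6, 8, 4, 6, 14, 16, 12, 10, 6, 8, 2, 4, 6, 14, 0, 2, 4, 6, 8, 10, 12] (.cons [12, 2, 4, 6, 8, 4, 10, 12, 8, 6, 4, 12, 14] .nil .nil) .nil) (.cons [8, 4, 6, 16, 18, 14, 12, 10, 8, 6, 16, 0, 2, 4, 6, 8, 10, 12, 14] (.cons [6, 8, 4, 6, 14, 6, 8, 10, 4, 6, 8, 2, 4, 6, 14, 16, 12, 10, 8, 4, 6, 14, 0, 2, 4, 6, 8, 10, 12] (.cons [8, 6, 10, 4, 6, 0, 2, 4, 12] .nil .nil) .nil) (.cons [10, 8, 6, 16, 18, 14, 12, 10, 8, 6, 16, 0, 2, 4, 6, 8, 10, 12, 14] (.cons [10, 6, 8, 0, 2, 4, 6, 14, 16, 12, 10,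 8, 4, 6, 14, 0, 2, 4, 6, 8, 10, 12] (.cons [2, 12, 14, 8, 6, 10] .nil .nil) .nil) (.cons [0, 2, 4, 6, 16, 18, 12, 10, 8, 6, 16, 0, 2, 4, 6, 8, 10, 12, 14] (.cons [6, 14, 16, 2, 4, 6, 14, 6, 8, 10, 4, 6, 8, 2, 4, 6, 14, 16, 12, 10, 4, 6, 8, 2, 4, 6, 14, 0, 2, 4, 6, 8, 10, 12] (.cons [6, 8, 0, 2, 4, 6, 10, 8, 14, 12, 6, 8, 4, 10, 2, 12, 14, 6, 4] .nil .nil) .nil) (.cons [6, 8, 4, 6, 16, 18, 12, 10, 8, 6, 16, 0, 2, 4, 6, 8, 10, 12, 14] (.cons [10, 6, 8, 14, 6, 4, 2, 16, 14, 8, 4, 6, 14, 10, 12, 8, 10, 6, 8, 4, 6, 14, 16, 8, 2, 4, 6, 14, 0, 2, 4, 6, 8, 10, 12] (.cons [0, 2, 4, 6, 8, 10, 2, 14, 12, 6, 4, 2, 12, 14, 6, 4] .nil .nil) .nil) (.cons [10, 8, 4, 6, 16, 18, 12, 10, 8, 6, 16, 0, 2, 4, 6, 8, 10, 12, 14] (.cons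 [10, 8, 6, 14, 16, 10, 6, 4, 8, 6, 14, 10, 12, 8, 10, 4, 6, 8, 0, 2, 4, 6, 14, 16, 10, 8, 2, 4, 6, 14, 0, 2, 4, 6, 8, 10, 12] .nil .nil) (.cons [8, 0, 2, 4, 6, 16, 18, 10, 8, 6, 16, 0, 2, 4, 6, 8, 10, 12, 14] (.cons [10, 8, 6, 14, 16, 4, 6, 14, 12, 8, 10, 4, 6, 8, 0, 2, 4, 6, 14, 16, 12, 10, 4, 6, 8, 2, 4, 6, 14, 0, 2, 4, 6, 8, 10, 12] (.cons [8, 6, 12, 14, 6, 8, 10, 0, 12, 6, 4, 2, 4] .nil .nil) .nil) (.cons [6, 8, 2, 4, 6, 16, 18, 10, 8, 6, 16, 0, 2, 4, 6, 8, 10, 12, 14] .nil (.cons [16, 6, 8, 4, 6, 16, 18, 10, 8, 6, 16, 0, 2, 4, 6, 8, 10, 12, 14] .nil (.cons [18, 12, 14, 10, 12, 8, 10, 6, 8, 4, 6, 16, 2, 4, 6, 8, 10, 12, 14] (.cons [8, 6, 14, 16, 10, 8, 6, 10, 4, 0, 2, 6, 14, 8, 4, 6, 14, 10, 12, 8, 10, 6,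 8, 4, 6, 14, 16, 8, 2, 4, 6, 14, 0, 2, 4, 6, 8, 10, 12] .nil .nil) (.cons [6, 16, 14, 10, 12, 8, 10, 6, 8, 4, 6, 16, 2, 4, 6, 8, 10, 12, 14] (.cons [10, 8, 4, 6, 14, 6, 8, 10, 4, 6, 8, 2, 4, 6, 14, 16, 12, 10, 6, 8, 2, 4, 6, 14, 0, 2, 4, 6, 8, 10, 12] (.cons [8, 6, 12, 14, 8, 10, 6, 4, 0, 2, 4, 6] .nil .nil) .nil) (.cons [18, 16, 14, 10, 12, 8, 10, 6, 8, 4, 6, 16, 2, 4, 6, 8, 10, 12, 14] (.cons [8, 6, 14, 4, 6, 8, 2, 4, 6, 14, 16, 12, 10, 4, 6, 8, 2, 4, 6, 14, 0, 2, 4, 6, 8, 10, 12] .nil .nil) (.cons [4, 6, 16, 10, 12, 8, 10, 6, 8, 4, 6, 16, 2, 4, 6, 8, 10, 12, 14] (.cons [8, 0, 2, 4, 6, 14, 16, 10, 8, 4, 6, 14, 10, 12, 8, 10, 4, 6, 8, 2, 4, 6, 14, 16, 12, 10, 4, 6, 8, 2, 4, 6, 14, 0, 2, 4, 6, 8, 10, 12] (.cons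 [6, 12, 14, 0, 10, 8, 4, 2, 12, 6, 4, 0, 2, 8, 10] .nil .nil) .nil) (.cons [8, 6, 16, 10, 12, 8, 10, 6, 8, 4, 6, 16, 2, 4, 6, 8, 10, 12, 14] (.cons [8, 4, 6, 14, 6, 8, 10, 4, 6, 8, 2, 4, 6, 14, 16, 10, 6, 8, 2, 4, 6, 14, 0, 2, 4, 6, 8, 10, 12] (.cons [6, 8, 4, 12, 14, 6, 8, 4, 6, 10] .nil .nil) .nil) (.cons [16, 18, 16, 10, 12, 8, 10, 6, 8, 4, 6, 16, 2, 4, 6, 8, 10, 12, 14] (.cons [0, 2, 4, 6, 14, 10, 12, 8, 10, 4, 6, 8, 0, 2, 4, 6, 14, 16, 10, 8, 2, 4, 6, 14, 0, 2, 4, 6, 8, 10, 12] .nil .nil) (.cons [6, 16, 18, 10, 12, 8, 10, 6, 8, 4, 6, 16, 2, 4, 6, 8, 10, 12, 14] (.cons [0, 2, 4, 6, 14, 16, 8, 0, 2, 4, 6, 14, 8, 10, 12, 6, 8, 10, 4, 6, 8, 2, 4, 6, 14, 16, 10, 4, 6, 8, 2, 4, 6, 14, 0, 2, 4, 6, 8, 10, 12] (.cons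 [2, 4, 6, 12, 8, 4, 6, 4, 12, 14, 6, 0, 2, 8, 10] .nil .nil) .nil) (.cons [18, 6, 16, 14, 12, 8, 10, 6, 8, 4, 6, 16, 2, 4, 6, 8, 10, 12, 14] .nil (.cons [16, 18, 16, 14, 12, 8, 10, 6, 8, 4, 6, 16, 2, 4, 6, 8, 10, 12, 14] (.cons [6, 14, 8, 10, 6, 8, 4, 6, 14, 16, 6, 14, 10, 12, 8, 10, 6, 8, 2, 4, 6, 14, 0, 2, 4, 6, 8, 10, 12] (.cons [8, 10, 6, 4, 0, 2, 12, 6, 4, 14, 12] .nil .nil) .nil) (.cons [6, 16, 18, 14, 12, 8, 10, 6, 8, 4, 6, 16, 2, 4, 6, 8, 10, 12, 14] (.cons [6, 14, 8, 10, 4, 6, 8, 0, 2, 4, 6, 14, 16, 12, 8, 10, 6, 8, 2, 4, 6, 14, 0, 2, 4, 6, 8, 10, 12] (.cons [6, 8, 4, 10, 14, 12, 6, 4, 2, 12, 14] .nil .nil) .nil) (.cons [2, 4, 6, 16, 12, 8, 10, 6, 8, 4, 6, 16, 2, 4, 6, 8, 10, 12, 14] (.cons [14, 12,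 6, 8, 10, 4, 6, 8, 2, 4, 6, 14, 16, 10, 4, 6, 8, 2, 4, 6, 14, 0, 2, 4, 6, 8, 10, 12] (.cons [10, 8, 6, 8, 4, 2, 10, 8] .nil .nil) .nil) (.cons [16, 18, 6, 16, 12, 8, 10, 6, 8, 4, 6, 16, 2, 4, 6, 8, 10, 12, 14] (.cons [14, 16, 14, 6, 8, 0, 2, 4, 6, 14, 12, 8, 10, 4, 6, 8, 0, 2, 4, 6, 14, 16, 12, 10, 8, 2, 4, 6, 14, 0, 2, 4, 6, 8, 10, 12] (.cons [4, 6, 8, 2, 4, 6, 12, 14, 10, 4, 6, 8, 10, 0, 12, 6, 4, 2, 4] .nil .nil) .nil) (.cons [6, 16, 18, 16, 12, 8, 10, 6, 8, 4, 6, 16, 2, 4, 6, 8, 10, 12, 14] (.cons [8, 10, 4, 6, 8, 0, 2, 4, 6, 14, 16, 12, 10, 8, 6, 14, 0, 2, 4, 6, 8, 10, 12] .nil .nil) (.cons [4, 6, 16, 18, 12, 8, 10, 6, 8, 4, 6, 16, 2, 4, 6, 8, 10, 12, 14] (.cons [12, 10, 8, 2, 4, 6, 14, 16, 14, 10, 12,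 8, 10, 4, 6, 8, 2, 4, 6, 14, 0, 2, 4, 6, 8, 10, 12] (.cons [12, 6, 8, 4, 6, 12, 14, 10, 8, 12, 6, 8, 4, 2, 4, 10, 8] .nil .nil) .nil) (.cons [8, 6, 16, 18, 12, 8, 10, 6, 8, 4, 6, 16, 2, 4, 6, 8, 10, 12, 14] (.cons [2, 4, 6, 14, 16, 12, 10, 6, 8, 4, 6, 14, 10, 12, 6, 8, 10, 4, 6, 8, 2, 4, 6, 14, 16, 10, 6, 8, 2, 4, 6, 14, 0, 2, 4, 6, 8, 10, 12] (.cons [4, 6, 8, 2, 6, 10, 8] .nil .nil) .nil) (.cons [4, 6, 16, 18, 16, 8, 10, 6, 8, 4, 6, 16, 2, 4, 6, 8, 10, 12, 14] (.cons [10, 6, 8, 2, 4, 6, 14, 16, 8, 10, 4, 6, 8, 2, 4, 6, 14, 0, 2, 4, 6, 8, 10, 12] .nil .nil) (.cons [2, 4, 6, 16, 18, 8, 10, 6, 8, 4, 6, 16, 2, 4, 6, 8, 10, 12, 14] (.cons [10, 8, 6, 0, 4, 2, 0, 12, 6, 14, 8, 10, 6, 8, 4, 6, 14, 16, 12, 8, 10, 6,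 8, 4, 6, 14, 2, 4, 6, 8, 10, 12] (.cons [12, 8, 6, 4, 2, 10, 12, 6, 8, 4, 6, 10] .nil .nil) .nil) (.cons [8, 4, 6, 16, 18, 8, 10, 6, 8, 4, 6, 16, 2, 4, 6, 8, 10, 12, 14] (.cons [10, 2, 4, 6, 14, 12, 8, 10, 6, 8, 0, 2, 4, 6, 14, 16, 14, 12, 10, 4, 6, 8, 2, 4, 6, 14, 0, 2, 4, 6, 8, 10, 12] .nil .nil) (.cons [10, 8, 6, 16, 18, 8, 10, 6, 8, 4, 6, 16, 2, 4, 6, 8, 10, 12, 14] (.cons [8, 0, 2, 4, 6, 14, 16, 10, 8, 4, 6, 14, 8, 10, 12, 6, 8, 10, 4, 6, 8, 2, 4, 6, 14, 16, 10, 4, 6, 8, 2, 4, 6, 14, 0, 2, 4, 6, 8, 10, 12] .nil .nil) (.cons [6, 16, 18, 16, 14, 12, 10, 6, 8, 4, 6, 16, 2, 4, 6, 8, 10, 12, 14] (.cons [16, 8, 4, 6, 14, 8, 10, 4, 6, 8, 2, 4, 6, 14, 16, 12, 10, 8, 2, 4, 6, 14, 0, 2, 4, 6, 8, 10, 12] (.cons [4,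 6, 12, 8, 10, 2, 4, 6, 2, 4, 0, 2, 12, 14] (.cons [0, 2, 0, 3, 3, 0] .nil .nil) .nil) .nil) (.cons [4, 6, 16, 18, 14, 12, 10, 6, 8, 4, 6, 16, 2, 4, 6, 8, 10, 12, 14] (.cons [4, 6, 8, 2, 4, 6, 14, 16, 12, 10, 6, 8, 2, 4, 6, 14, 0, 2, 4, 6, 8, 10, 12] .nil .nil) (.cons [8, 6, 16, 18, 14, 12, 10, 6, 8, 4, 6, 16, 2, 4, 6, 8, 10, 12, 14] (.cons [14, 8, 10, 6, 8, 4, 6, 14, 16, 14, 12, 10, 6, 8, 4, 6, 14, 0, 2, 4, 6, 8, 10, 12] (.cons [10, 8, 6, 12, 14, 8, 2, 4, 0, 6, 8, 10, 12, 6, 4, 2] .nil .nil) .nil) (.cons [4, 6, 16, 18, 16, 12, 10, 6, 8, 4, 6, 16, 2, 4, 6, 8, 10, 12, 14] (.cons [4, 6, 14, 10, 12, 8, 10, 6, 8, 2, 4, 6, 14, 16, 14, 12, 10, 6, 8, 2, 4, 6, 14, 0, 2, 4, 6, 8, 10, 12] (.cons [4, 2, 4, 6, 12, 14, 8,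 12, 6, 8, 10] .nil .nil) .nil) (.cons [8, 6, 16, 18, 16, 12, 10, 6, 8, 4, 6, 16, 2, 4, 6, 8, 10, 12, 14] (.cons [14, 10, 6, 8, 2, 4, 6, 14, 16, 14, 10, 6, 8, 4, 6, 14, 10, 12, 8, 10, 4, 6, 8, 2, 4, 6, 14, 16, 12, 10, 4, 6, 8, 2, 4, 6, 14, 0, 2, 4, 6, 8, 10, 12] (.cons [4, 6, 2, 8, 4, 10, 6, 12, 14, 8, 6, 4, 2, 6, 8] .nil .nil) .nil) (.cons [2, 4, 6, 16, 18, 12, 10, 6, 8, 4, 6, 16, 2, 4, 6, 8, 10, 12, 14] (.cons [6, 14, 16, 8, 4, 6, 14, 8, 10, 4, 6, 8, 2, 4, 6, 14, 16, 10, 6, 8, 2, 4, 6, 14, 0, 2, 4, 6, 8, 10, 12] (.cons [2, 0, 4, 2, 6, 8, 4, 6, 10] .nil .nil) .nil) (.cons [8, 4, 6, 16, 18, 12, 10, 6, 8, 4, 6, 16, 2, 4, 6, 8, 10, 12, 14] (.cons [16, 4, 6, 14, 8, 10, 6, 8, 0, 2, 4, 6, 14, 16, 8, 10, 4, 6, 8, 2,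 4, 6, 14, 0, 2, 4, 6, 8, 10, 12] (.cons [14, 4, 6, 8, 12, 6, 4, 0, 2, 8, 10, 12] .nil .nil) .nil) (.cons [10, 8, 6, 16, 18, 12, 10, 6, 8, 4, 6, 16, 2, 4, 6, 8, 10, 12, 14] (.cons [0, 2, 4, 6, 14, 16, 6, 8, 4, 6, 14, 8, 10, 12, 6, 8, 10, 4, 6, 8, 2, 4, 6, 14, 16, 12, 10, 4, 6, 8, 2, 4, 6, 14, 0, 2, 4, 6, 8, 10, 12] (.cons [14, 12, 10, 2, 4, 6, 8, 10, 12, 6, 8] .nil .nil) .nil) (.cons [2, 4, 6, 16, 18, 16, 10, 6, 8, 4, 6, 16, 2, 4, 6, 8, 10, 12, 14] (.cons [8, 2, 4, 6, 14, 16, 10, 12, 8, 10, 6, 8, 2, 4, 6, 14, 10, 12, 8, 10, 6, 8, 0, 2, 4, 6, 14, 16, 12, 10, 8, 2, 4, 6, 14, 0, 2, 4, 6, 8, 10, 12] .nil .nil) (.cons [8, 4, 6, 16, 18, 16, 10, 6, 8, 4, 6, 16, 2, 4, 6, 8, 10, 12, 14] (.cons [10, 2, 4, 6, 14, 16, 8,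 6, 14, 10, 12, 8, 10, 6, 8, 4, 6, 14, 16, 8, 2, 4, 6, 14, 0, 2, 4, 6, 8, 10, 12] (.cons [8, 2, 10, 8, 6, 4, 12, 14, 12, 6, 4] .nil .nil) .nil) (.cons [10, 8, 6, 16, 18, 16, 10, 6, 8, 4, 6, 16, 2, 4, 6, 8, 10, 12, 14] (.cons [16, 14, 10, 6, 8, 4, 6, 14, 16, 8, 10, 4, 6, 8, 2, 4, 6, 14, 0, 2, 4, 6, 8, 10, 12] (.cons [12, 6, 0, 2, 4, 8, 10, 6, 4, 12, 14] .nil .nil) .nil) (.cons [0, 2, 4, 6, 16, 18, 10, 6, 8, 4, 6, 16, 2, 4, 6, 8, 10, 12, 14] (.cons [8, 10, 6, 4, 8, 6, 14, 10, 12, 8, 10, 4, 6, 8, 0, 2, 4, 6, 14, 16, 10, 8, 2, 4, 6, 14, 0, 2, 4, 6, 8, 10, 12] .nil .nil) (.cons [8, 2, 4, 6, 16, 18, 10, 6, 8, 4, 6, 16, 2, 4, 6, 8, 10, 12, 14] (.cons [0, 2, 4, 6, 14, 16, 8, 4, 6, 14, 8, 10, 12, 6, 8, 10, 4, 6, 8, 2,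 4, 6, 14, 16, 10, 6, 8, 2, 4, 6, 14, 0, 2, 4, 6, 8, 10, 12] (.cons [8, 6, 4, 2, 6, 12, 14, 8, 12, 6, 8, 10] .nil .nil) .nil) (.cons [10, 8, 4, 6, 16, 18, 10, 6, 8, 4, 6, 16, 2, 4, 6, 8, 10, 12, 14] (.cons [16, 10, 14, 6, 8, 4, 6, 14, 12, 8, 10, 4, 6, 8, 0, 2, 4, 6, 14, 16, 12, 10, 8, 2, 4, 6, 14, 0, 2, 4, 6, 8, 10, 12] (.cons [14, 2, 4, 0, 2, 8, 4, 6, 8, 10] .nil .nil) .nil) (.cons [0, 2, 4, 6, 16, 18, 16, 6, 8, 4, 6, 16, 2, 4, 6, 8, 10, 12, 14] (.cons [0, 2, 4, 6, 8, 10, 4, 6, 14, 16, 8, 6, 4, 2, 6, 14, 16, 8, 6, 14, 10, 12, 8, 10, 6, 8, 4, 6, 14, 16, 8, 2, 4, 6, 14, 0, 2, 4, 6, 8, 10, 12] (.cons [8, 4, 10, 2, 12, 14, 12, 6, 4] .nil .nil) .nil) (.cons [8, 2, 4, 6, 16, 18, 16, 6, 8, 4, 6, 16, 2, 4, 6, 8, 10,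 12, 14] (.cons [4, 6, 14, 16, 8, 0, 2, 4, 6, 14, 10, 12, 8, 10, 4, 6, 8, 2, 4, 6, 14, 16, 12, 10, 6, 8, 2, 4, 6, 14, 0, 2, 4, 6, 8, 10, 12] (.cons [6, 8, 10, 6, 8, 4, 14, 12, 6, 4, 2, 12, 14] (.cons [4, 3, 1, 2, 0] .nil .nil) .nil) .nil) (.cons [6, 8, 4, 6, 16, 18, 16, 6, 8, 4, 6, 16, 2, 4, 6, 8, 10, 12, 14] (.cons [16, 6, 14, 8, 6, 4, 2, 0, 6, 14, 8, 10, 6, 8, 4, 6, 14, 16, 12, 8, 10, 6, 8, 4, 6, 14, 2, 4, 6, 8, 10, 12] .nil .nil) (.cons [10, 8, 4, 6, 16, 18, 16, 6, 8, 4, 6, 16, 2, 4, 6, 8, 10, 12, 14] (.cons [16, 14, 6, 8, 10, 4, 6, 8, 0, 2, 4, 6, 14, 16, 4, 6, 8, 2, 4, 6, 14, 0, 2, 4, 6, 8, 10, 12] (.cons [14, 12, 4, 6, 8, 2, 4, 10, 12, 6, 8, 14, 12, 6, 4, 2, 8, 10, 12, 14] .nil .nil) .nil) (.cons [12, 10,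 8, 6, 16, 18, 16, 6, 8, 4, 6, 16, 2, 4, 6, 8, 10, 12, 14] (.cons [14, 16, 6, 14, 10, 4, 6, 8, 0, 2, 4, 6, 14, 16, 10, 4, 6, 8, 2, 4, 6, 14, 0, 2, 4, 6, 8, 10, 12] (.cons [8, 2, 4, 6, 12, 14, 8, 10, 8, 6, 4, 0, 2] .nil .nil) .nil) (.cons [8, 0, 2, 4, 6, 16, 18, 6, 8, 4, 6, 16, 2, 4, 6, 8, 10, 12, 14] (.cons [8, 6, 14, 16, 8, 10, 4, 6, 8, 2, 4, 6, 14, 10, 12, 8, 10, 6, 8, 0, 2, 4, 6, 14, 16, 10, 8, 2, 4, 6, 14, 0, 2, 4, 6, 8, 10, 12] .nil .nil) (.cons [10, 8, 2, 4, 6, 16, 18, 6, 8, 4, 6, 16, 2, 4, 6, 8, 10, 12, 14] (.cons [16, 12, 6, 8, 10, 14, 6, 8, 4, 6, 14, 10, 12, 8, 10, 6, 8, 0, 2, 4, 6, 14, 16, 12, 10, 8, 2, 4, 6, 14, 0, 2, 4, 6, 8, 10, 12] (.cons [8, 6, 10, 4, 0, 2, 12, 14] .nil .nil) .nil) (.cons [10,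 6, 8, 4, 6, 16, 18, 6, 8, 4, 6, 16, 2, 4, 6, 8, 10, 12, 14] (.cons [2, 4, 6, 14, 16, 10, 8, 6, 14, 10, 12, 8, 10, 4, 6, 8, 0, 2, 4, 6, 14, 16, 8, 10, 6, 8, 2, 4, 6, 14, 0, 2, 4, 6, 8, 10, 12] (.cons [12, 4, 6, 2, 4, 8, 10, 12, 6, 4, 12, 14] .nil .nil) .nil) (.cons [12, 10, 8, 4, 6, 16, 18, 6, 8, 4, 6, 16, 2, 4, 6, 8, 10, 12, 14] (.cons [10, 6, 8, 0, 2, 4, 6, 14, 16, 14, 12, 10, 6, 8, 4, 6, 14, 10, 12, 8, 10, 4, 6, 8, 2, 4, 6, 14, 16, 10, 4, 6, 8, 2, 4, 6, 14, 0, 2, 4, 6, 8, 10, 12] (.cons [6, 10, 8] .nil .nil) .nil) (.cons [14, 12, 10, 8, 6, 16, 18, 6, 8, 4, 6, 16, 2, 4, 6, 8, 10, 12, 14] (.cons [6, 14, 16, 10, 8, 6, 12, 10, 8, 2, 4, 6, 14, 10, 12, 8, 10, 4, 6, 8, 2, 4, 6, 14, 16, 12, 10, 8, 2, 4, 6, 14, 0,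 2, 4, 6, 8, 10, 12] .nil .nil) (.cons [2, 4, 6, 16, 18, 14, 12, 10, 8, 4, 6, 16, 2, 4, 6, 8, 10, 12, 14] (.cons [14, 16, 4, 6, 14, 8, 10, 6, 8, 0, 2, 4, 6, 14, 16, 12, 10, 6, 8, 2, 4, 6, 14, 0, 2, 4, 6, 8, 10, 12] (.cons [6, 8, 2, 4, 6, 12, 10, 8, 6, 4, 2, 12, 14, 4, 8, 6, 10, 4] .nil .nil) .nil) (.cons [8, 4, 6, 16, 18, 14, 12, 10, 8, 4, 6, 16, 2, 4, 6, 8, 10, 12, 14] (.cons [16, 14, 4, 6, 8, 2, 4, 6, 14, 16, 12, 6, 8, 10, 4, 6, 8, 2, 4, 6, 14, 0, 2, 4, 6, 8, 10, 12] (.cons [2, 4, 6, 0, 2, 4, 8, 10, 12, 6, 8, 10, 4, 6, 12, 14, 8, 6, 4, 2] .nil .nil) .nil) (.cons [10, 8, 6, 16, 18, 14, 12, 10, 8, 4, 6, 16, 2, 4, 6, 8, 10, 12, 14] (.cons [16, 8, 2, 4, 6, 14, 8, 10, 4, 6, 8, 0, 2, 4, 6, 14, 16, 12, 10, 8, 2, 4,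 6, 14, 0, 2, 4, 6, 8, 10, 12] .nil .nil) (.cons [0, 2, 4, 6, 16, 18, 12, 10, 8, 4, 6, 16, 2, 4, 6, 8, 10, 12, 14] (.cons [6, 8, 0, 2, 4, 6, 14, 16, 14, 10, 6, 8, 4, 6, 14, 10, 12, 6, 8, 10, 4, 6, 8, 2, 4, 6, 14, 16, 10, 6, 8, 2, 4, 6, 14, 0, 2, 4, 6, 8, 10, 12] (.cons [14, 6, 12, 8, 6, 4, 0, 2, 4, 6, 12, 14, 12] .nil .nil) .nil) (.cons [6, 8, 4, 6, 16, 18, 12, 10, 8, 4, 6, 16, 2, 4, 6, 8, 10, 12, 14] (.cons [14, 16, 10, 2, 4, 6, 14, 8, 6, 4, 14, 10, 12, 8, 10, 6, 8, 2, 4, 6, 14, 16, 14, 10, 6, 8, 4, 6, 14, 0, 2, 4, 6, 8, 10, 12] (.cons [6, 2, 4, 12, 6, 8, 10, 14, 4, 6, 12, 14, 8, 6, 4, 2] .nil .nil) .nil) (.cons [10, 8, 4, 6, 16, 18, 12, 10, 8, 4, 6, 16, 2, 4, 6, 8, 10, 12, 14] (.cons [14, 12, 10, 6, 8, 4, 6,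 14, 16, 12, 8, 10, 6, 8, 4, 6, 14, 0, 2, 4, 6, 8, 10, 12] (.cons [2, 12, 8, 10, 14, 6, 4, 8, 6, 12, 6, 4, 14, 12] .nil .nil) .nil) (.cons [8, 0, 2, 4, 6, 16, 18, 10, 8, 4, 6, 16, 2, 4, 6, 8, 10, 12, 14] (.cons [16, 14, 10, 6, 8, 2, 4, 6, 14, 16, 6, 14, 10, 4, 6, 8, 2, 4, 6, 14, 0, 2, 4, 6, 8, 10, 12] (.cons [12, 14, 4, 2, 6, 8, 10, 12, 6, 4, 2, 8, 6] .nil .nil) .nil) (.cons [10, 8, 2, 4, 6, 16, 18, 10, 8, 4, 6, 16, 2, 4, 6, 8, 10, 12, 14] (.cons [16, 14, 10, 6, 8, 0, 2, 4, 6, 14, 16, 8, 10, 4, 6, 8, 2, 4, 6, 14, 0, 2, 4, 6, 8, 10, 12] (.cons [12, 14, 4, 6, 2, 4, 0, 2, 4, 8, 10] .nil .nil) .nil) (.cons [10, 6, 8, 4, 6, 16, 18, 10, 8, 4, 6, 16, 2, 4, 6, 8, 10, 12, 14] (.cons [16, 14, 10, 12, 8, 10, 6, 8, 0, 2,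 4, 6, 14, 16, 8, 2, 4, 6, 14, 0, 2, 4, 6, 8, 10, 12] .nil .nil) (.cons [16, 6, 8, 4, 6, 16, 18, 10, 8, 4, 6, 16, 2, 4, 6, 8, 10, 12, 14] (.cons [6, 14, 8, 10, 4, 6, 8, 0, 2, 4, 6, 14, 16, 10, 4, 6, 8, 2, 4, 6, 14, 0, 2, 4, 6, 8, 10, 12] (.cons [2, 6, 8, 10, 14, 8, 12] .nil .nil) .nil) (.cons [12, 10, 8, 4, 6, 16, 18, 10, 8, 4, 6, 16, 2, 4, 6, 8, 10, 12, 14] (.cons [0, 16, 8, 10, 12, 6, 8, 10, 4, 6, 8, 2, 4, 6, 14, 16, 6, 8, 4, 6, 14, 2, 4, 6, 8, 10, 12] (.cons [12, 4, 2, 8, 10, 6, 8, 4, 12, 6, 8, 10] .nil .nil) .nil) (.cons [14, 12, 10, 8, 6, 16, 18, 10, 8, 4, 6, 16, 2, 4, 6, 8, 10, 12, 14] (.cons [16, 10, 6, 4, 6, 14, 8, 10, 12, 6, 8, 10, 4, 6, 8, 2, 4, 6, 14, 16, 14, 6, 8, 4, 6, 14, 0, 2, 4, 6, 8, 10, 12]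 .nil .nil) (.cons [10, 8, 0, 2, 4, 6, 16, 18, 8, 4, 6, 16, 2, 4, 6, 8, 10, 12, 14] (.cons [14, 16, 6, 14, 10, 12, 8, 10, 6, 8, 4, 6, 14, 16, 14, 4, 6, 8, 2, 4, 6, 14, 0, 2, 4, 6, 8, 10, 12] (.cons [6, 12, 8, 4, 6, 2, 4, 0, 2, 4, 8, 10, 12, 14] .nil .nil) .nil) (.cons [12, 10, 8, 2, 4, 6, 16, 18, 8, 4, 6, 16, 2, 4, 6, 8, 10, 12, 14] (.cons [14, 16, 10, 8, 6, 14, 8, 10, 4, 6, 8, 0, 2, 4, 6, 14, 16, 8, 10, 4, 6, 8, 2, 4, 6, 14, 0, 2, 4, 6, 8, 10, 12] .nil .nil) (.cons [14, 12, 10, 8, 4, 6, 16, 18, 8, 4, 6, 16, 2, 4, 6, 8, 10, 12, 14] (.cons [6, 8, 2, 4, 6, 14, 16, 8, 10, 6, 2, 4, 6, 14, 8, 10, 12, 6, 8, 10, 4, 6, 8, 2, 4, 6, 14, 16, 14, 6, 8, 4, 6, 14, 0, 2, 4, 6, 8, 10, 12] (.cons [0, 2, 4, 12, 6, 8, 10, 14, 6,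 12, 14, 4, 8, 6, 4, 2] .nil .nil) .nil) (.cons [0, 2, 4, 6, 16, 18, 14, 12, 10, 8, 6, 16, 2, 4, 6, 8, 10, 12, 14] (.cons [6, 14, 10, 4, 6, 8, 2, 4, 6, 14, 16, 12, 8, 10, 4, 6, 8, 2, 4, 6, 14, 0, 2, 4, 6, 8, 10, 12] (.cons [12, 6, 8, 4, 2, 6, 12, 14, 8, 12, 6, 8, 10] .nil .nil) .nil) (.cons [8, 2, 4, 6, 16, 18, 14, 12, 10, 8, 6, 16, 2, 4, 6, 8, 10, 12, 14] .nil (.cons [6, 8, 4, 6, 16, 18, 14, 12, 10, 8, 6, 16, 2, 4, 6, 8, 10, 12, 14] (.cons [6, 14, 16, 4, 6, 14, 8, 10, 4, 6, 8, 2, 4, 6, 14, 16, 12, 10, 4, 6, 8, 2, 4, 6, 14, 0, 2, 4, 6, 8, 10, 12] (.cons [4, 6, 12, 14, 6, 8, 10, 12, 6, 4, 6, 2, 4] .nil .nil) .nil) (.cons [10, 8, 4, 6, 16, 18, 14, 12, 10, 8, 6, 16, 2, 4, 6, 8, 10, 12, 14] (.cons [8, 2, 4, 6, 14,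 10, 12, 8, 10, 6, 8, 4, 6, 14, 2, 4, 6, 8, 10, 12] (.cons [12, 6, 4, 2, 6, 12, 14, 4, 6] .nil .nil) .nil) (.cons [8, 0, 2, 4, 6, 16, 18, 12, 10, 8, 6, 16, 2, 4, 6, 8, 10, 12, 14] (.cons [6, 14, 8, 10, 6, 8, 4, 6, 14, 16, 12, 10, 8, 6, 14, 2, 4, 6, 8, 10, 12] (.cons [8, 14, 6, 8, 4, 6, 8, 10] .nil .nil) .nil) (.cons [10, 6, 8, 4, 6, 16, 18, 12, 10, 8, 6, 16, 2, 4, 6, 8, 10, 12, 14] .nil (.cons [8, 0, 2, 4, 6, 16, 18, 14, 12, 10, 8, 6, 16, 4, 6, 8, 10, 12, 14] (.cons [14, 16, 6, 14, 8, 10, 6, 8, 2, 4, 6, 14, 16, 12, 10, 4, 6, 8, 2, 4, 6, 14, 0, 2, 4, 6, 8, 10, 12] (.cons [2, 10, 4, 8, 6, 12, 6, 8, 10, 4, 6, 12, 14] .nil .nil) .nil) (.cons [10, 8, 2, 4, 6, 16, 18, 14, 12, 10, 8, 6, 16, 4, 6, 8, 10, 12, 14] (.cons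 [8, 2, 4, 6, 14, 16, 14, 10, 12, 8, 10, 4, 6, 8, 2, 4, 6, 14, 0, 2, 4, 6, 8, 10, 12] (.cons [8, 6, 12, 8, 10, 6, 4, 0, 2, 14, 12] .nil .nil) .nil) (.cons [10, 6, 8, 4, 6, 16, 18, 14, 12, 10, 8, 6, 16, 4, 6, 8, 10, 12, 14] (.cons [16, 8, 6, 14, 4, 6, 8, 2, 4, 6, 14, 16, 12, 6, 8, 10, 4, 6, 8, 2, 4, 6, 14, 0, 2, 4, 6, 8, 10, 12] (.cons [2, 4, 10, 8, 6, 12, 14, 6, 8, 10, 12, 6, 4, 6, 2, 4] .nil .nil) .nil) (.cons [16, 6, 8, 4, 6, 16, 18, 14, 12, 10, 8, 6, 16, 4, 6, 8, 10, 12, 14] (.cons [14, 16, 6, 14, 10, 4, 6, 8, 2, 4, 6, 14, 16, 14, 12, 8, 10, 4, 6, 8, 2, 4, 6, 14, 0, 2, 4, 6, 8, 10, 12] (.cons [6, 8, 4, 6, 12, 4, 2, 8, 10, 14, 12] .nil .nil) .nil) (.cons [12, 10, 8, 4, 6, 16, 18, 14, 12, 10, 8, 6, 16, 4, 6,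 8, 10, 12, 14] .nil (.cons [6, 8, 0, 2, 4, 6, 16, 18, 12, 10, 8, 6, 16, 4, 6, 8, 10, 12, 14] .nil (.cons [10, 8, 0, 2, 4, 6, 16, 18, 12, 10, 8, 6, 16, 4, 6, 8, 10, 12, 14] .nil (.cons [8, 10, 6, 8, 4, 6, 16, 18, 12, 10, 8, 6, 16, 4, 6, 8, 10, 12, 14] (.cons [4, 6, 14, 16, 8, 6, 14, 10, 12, 8, 10, 2, 4, 6, 8, 0, 2, 4, 6, 14, 16, 10, 4, 6, 8, 2, 4, 6, 14, 0, 2, 4, 6, 8, 10, 12] (.cons [8, 10, 6, 12, 4, 6, 12, 14] .nil .nil) .nil) (.cons [16, 10, 6, 8, 4, 6, 16, 18, 12, 10, 8, 6, 16, 4, 6, 8, 10, 12, 14] (.cons [14, 16, 12, 10, 8, 6, 14, 10, 12, 8, 10, 4, 6, 8, 2, 4, 6, 14, 16, 14, 12, 10, 4, 6, 8, 2, 4, 6, 14, 0, 2, 4, 6, 8, 10, 12] (.cons [12, 6, 0, 2, 8, 10, 14, 6, 8, 12] .nil .nil) .nil) (.cons [10, 12, 6,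 8, 10, 4, 6, 8, 2, 4, 6, 16, 0, 2, 4, 6, 8, 10, 12, 14] (.cons [2, 4, 6, 14, 16, 8, 4, 6, 14, 10, 12, 6, 8, 10, 4, 6, 8, 0, 2, 4, 6, 14, 16, 12, 10, 4, 6, 8, 2, 4, 6, 14, 0, 2, 4, 6, 8, 10, 12] (.cons [2, 8, 0, 6, 4, 2, 10, 4, 12, 6, 8, 4, 6, 10] .nil .nil) .nil) (.cons [14, 12, 6, 8, 10, 4, 6, 8, 2, 4, 6, 16, 0, 2, 4, 6, 8, 10, 12, 14] (.cons [16, 14, 10, 6, 8, 0, 2, 4, 6, 14, 16, 12, 10, 4, 6, 8, 2, 4, 6, 14, 0, 2, 4, 6, 8, 10, 12] .nil .nil) (.cons [16, 18, 6, 8, 10, 4, 6, 8, 2, 4, 6, 16, 0, 2, 4, 6, 8, 10, 12, 14] (.cons [8, 10, 6, 0, 2, 4, 6, 14, 8, 10, 12, 6, 8, 10, 4, 6, 8, 2, 4, 6, 14, 16, 14, 6, 8, 4, 6, 14, 0, 2, 4, 6, 8, 10, 12] (.cons [0, 2, 12, 6, 8, 4, 6, 12, 14, 6, 2, 4, 6, 8, 10, 12, 6, 4, 2]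 .nil .nil) .nil) (.cons [18, 10, 12, 8, 10, 4, 6, 8, 2, 4, 6, 16, 0, 2, 4, 6, 8, 10, 12, 14] .nil (.cons [18, 14, 12, 8, 10, 4, 6, 8, 2, 4, 6, 16, 0, 2, 4, 6, 8, 10, 12, 14] (.cons [16, 6, 14, 8, 10, 4, 6, 8, 2, 4, 6, 14, 16, 12, 10, 8, 2, 4, 6, 14, 0, 2, 4, 6, 8, 10, 12] (.cons [4, 2, 8, 4, 6, 8, 10] .nil .nil) .nil) (.cons [18, 16, 12, 8, 10, 4, 6, 8, 2, 4, 6, 16, 0, 2, 4, 6, 8, 10, 12, 14] (.cons [16, 8, 2, 10, 6, 4, 0, 2, 14, 8, 6, 4, 10, 16, 6, 14, 12, 8, 10, 6, 8, 4, 6, 14, 16, 2, 4, 6, 14, 0, 2, 4, 6, 8, 10, 12] .nil .nil) (.cons [16, 18, 12, 8, 10, 4, 6, 8, 2, 4, 6, 16, 0, 2, 4, 6, 8, 10, 12, 14] (.cons [14, 16, 8, 6, 14, 2, 6, 8, 4, 6, 14, 10, 12, 8, 10, 6, 8, 2, 4, 6, 14, 16, 14, 6, 8, 2, 4, 6, 14,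 0, 2, 4, 6, 8, 10, 12] (.cons [4, 6, 12, 14, 8, 4, 6, 4, 0, 2, 4, 8, 6, 10, 4] .nil .nil) .nil) (.cons [6, 16, 14, 12, 10, 4, 6, 8, 2, 4, 6, 16, 0, 2, 4, 6, 8, 10, 12, 14] (.cons [14, 10, 8, 6, 14, 8, 10, 4, 6, 8, 2, 4, 6, 14, 16, 12, 8, 10, 6, 8, 4, 6, 14, 0, 2, 4, 6, 8, 10, 12] (.cons [14, 2, 6, 12, 8, 6, 4, 6, 8, 10, 12, 8, 6, 12, 14, 4, 6, 0, 2] .nil .nil) .nil) (.cons [18, 16, 14, 12, 10, 4, 6, 8, 2, 4, 6, 16, 0, 2, 4, 6, 8, 10, 12, 14] (.cons [16, 6, 14, 6, 8, 10, 4, 6, 8, 2, 4, 6, 14, 16, 14, 12, 8, 10, 4, 6, 8, 2, 4, 6, 14, 0, 2, 4, 6, 8, 10, 12] (.cons [6, 12, 14, 4, 6, 2, 8, 10, 4, 6, 0, 2] .nil .nil) .nil) (.cons [16, 18, 14, 12, 10, 4, 6, 8, 2, 4, 6, 16, 0, 2, 4, 6, 8, 10, 12, 14] (.cons [14, 8,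 10, 6, 8, 4, 6, 14, 16, 10, 12, 8, 10, 6, 8, 2, 4, 6, 14, 0, 2, 4, 6, 8, 10, 12] (.cons [14, 10, 2, 4, 0, 6, 8, 10, 12, 6, 4, 2] .nil .nil) .nil) (.cons [18, 6, 16, 12, 10, 4, 6, 8, 2, 4, 6, 16, 0, 2, 4, 6, 8, 10, 12, 14] (.cons [16, 12, 10, 8, 6, 14, 12, 10, 4, 6, 8, 2, 4, 6, 14, 16, 14, 12, 10, 4, 6, 8, 2, 4, 6, 14, 0, 2, 4, 6, 8, 10, 12] (.cons [0, 2, 14, 6, 4, 8, 6, 12, 6, 4, 14, 12] .nil .nil) .nil) (.cons [16, 18, 16, 12, 10, 4, 6, 8, 2, 4, 6, 16, 0, 2, 4, 6, 8, 10, 12, 14] (.cons [0, 2, 4, 6, 14, 16, 10, 8, 2, 4, 6, 14, 0, 2, 4, 6, 8, 10, 12] (.cons [2, 4, 6, 12, 14, 4, 6, 8, 12, 6, 4, 0, 2, 8, 10] .nil .nil) .nil) (.cons [16, 18, 6, 16, 10, 4, 6, 8, 2, 4, 6, 16, 0, 2, 4, 6, 8, 10, 12, 14] (.cons [0,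 2, 4, 6, 14, 16, 8, 6, 10, 8, 2, 4, 6, 14, 10, 12, 8, 10, 4, 6, 8, 2, 4, 6, 14, 16, 12, 10, 8, 2, 4, 6, 14, 0, 2, 4, 6, 8, 10, 12] (.cons [4, 6, 12, 14, 6, 8, 4, 2, 12, 6, 8, 10] .nil .nil) .nil) (.cons [6, 16, 18, 16, 10, 4, 6, 8, 2, 4, 6, 16, 0, 2, 4, 6, 8, 10, 12, 14] (.cons [4, 6, 14, 10, 12, 6, 8, 10, 4, 6, 8, 2, 4, 6, 14, 16, 14, 8, 10, 4, 6, 8, 2, 4, 6, 14, 0, 2, 4, 6, 8, 10, 12] .nil .nil) (.cons [8, 6, 16, 18, 10, 4, 6, 8, 2, 4, 6, 16, 0, 2, 4, 6, 8, 10, 12, 14] (.cons [16, 12, 10, 8, 2, 4, 6, 14, 12, 8, 10, 4, 6, 8, 2, 4, 6, 14, 16, 10, 4, 6, 8, 2, 4, 6, 14, 0, 2, 4, 6, 8, 10, 12] (.cons [12, 6, 8, 10, 0, 4, 8, 6, 4, 2] .nil .nil) .nil) (.cons [16, 18, 8, 6, 16, 4, 6, 8, 2, 4, 6, 16, 0, 2, 4, 6, 8,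 10, 12, 14] .nil (.cons [6, 16, 18, 6, 16, 4, 6, 8, 2, 4, 6, 16, 0, 2, 4, 6, 8, 10, 12, 14] (.cons [14, 6, 8, 0, 2, 4, 6, 14, 16, 10, 4, 6, 8, 2, 4, 6, 14, 10, 12, 6, 8, 10, 4, 6, 8, 2, 4, 6, 14, 16, 10, 6, 8, 2, 4, 6, 14, 0, 2, 4, 6, 8, 10, 12] (.cons [4, 6, 12, 8, 4, 6, 2, 4, 0, 2, 8, 10, 12, 14] .nil .nil) .nil) (.cons [8, 6, 16, 18, 16, 4, 6, 8, 2, 4, 6, 16, 0, 2, 4, 6, 8, 10, 12, 14] (.cons [0, 2, 4, 6, 14, 16, 8, 6, 14, 12, 10, 8, 6, 4, 2, 0, 4, 10, 14, 12, 8, 10, 6, 8, 4, 6, 14, 16, 12, 10, 6, 8, 4, 6, 14, 2, 4, 6, 8, 10, 12] .nil .nil) (.cons [10, 8, 6, 16, 18, 4, 6, 8, 2, 4, 6, 16, 0, 2, 4, 6, 8, 10, 12, 14] (.cons [8, 6, 14, 16, 4, 6, 14, 8, 10, 12, 6, 8, 10, 4, 6, 8, 0, 2, 4, 6, 14, 16, 6, 8, 2, 4,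 6, 14, 0, 2, 4, 6, 8, 10, 12] (.cons [14, 6, 8, 2, 4, 6, 0, 2, 8, 10] .nil .nil) .nil) (.cons [12, 14, 10, 12, 8, 10, 6, 8, 2, 4, 6, 16, 0, 2, 4, 6, 8, 10, 12, 14] (.cons [6, 14, 16, 10, 8, 14, 6, 4, 8, 0, 2, 4, 6, 14, 10, 12, 8, 10, 6, 8, 4, 6, 14, 16, 8, 10, 6, 8, 2, 4, 6, 14, 0, 2, 4, 6, 8, 10, 12] (.cons [4, 6, 4, 10, 0, 2, 4, 6, 8, 10] .nil .nil) .nil) (.cons [18, 14, 10, 12, 8, 10, 6, 8, 2, 4, 6, 16, 0, 2, 4, 6, 8, 10, 12, 14] (.cons [10, 8, 4, 6, 14, 16, 12, 10, 6, 8, 2, 4, 6, 14, 0, 2, 4, 6, 8, 10, 12] (.cons [8, 2, 10, 6, 4, 12, 6, 8, 10, 6, 12, 14, 4, 8, 6, 4, 2] .nil .nil) .nil) (.cons [18, 16, 10, 12, 8, 10, 6, 8, 2, 4, 6, 16, 0, 2, 4, 6, 8, 10, 12, 14] .nil (.cons [16, 18, 10, 12, 8, 10, 6, 8, 2,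 4, 6, 16, 0, 2, 4, 6, 8, 10, 12, 14] (.cons [12, 10, 8, 6, 14, 16, 14, 12, 10, 6, 8, 4, 6, 14, 2, 4, 6, 8, 10, 12] (.cons [10, 8, 10, 6, 4, 8, 2, 6, 8] .nil .nil) .nil) (.cons [16, 18, 14, 12, 8, 10, 6, 8, 2, 4, 6, 16, 0, 2, 4, 6, 8, 10, 12, 14] (.cons [16, 14, 8, 10, 6, 8, 2, 4, 6, 14, 16, 14, 12, 10, 4, 6, 8, 2, 4, 6, 14, 0, 2, 4, 6, 8, 10, 12] (.cons [2, 8, 6, 12, 10, 14, 12, 6, 8, 4, 6, 10] .nil .nil) .nil) (.cons [18, 6, 16, 12, 8, 10, 6, 8, 2, 4, 6, 16, 0, 2, 4, 6, 8, 10, 12, 14] (.cons [16, 12, 10, 8, 6, 14, 8, 10, 4, 6, 8, 2, 4, 6, 14, 16, 14, 12, 10, 4, 6, 8, 2, 4, 6, 14, 0, 2, 4, 6, 8, 10, 12] (.cons [0, 2, 4, 6, 12, 10, 8, 6, 2, 4, 0, 2, 8, 10, 12, 14] .nil .nil) .nil) (.cons [6, 16, 18, 12, 8, 10,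 6, 8, 2, 4, 6, 16, 0, 2, 4, 6, 8, 10, 12, 14] (.cons [12, 10, 2, 4, 6, 8, 0, 2, 4, 6, 14, 16, 12, 8, 10, 6, 8, 4, 6, 14, 0, 2, 4, 6, 8, 10, 12] (.cons [6, 8, 2, 10, 12, 14, 6, 4, 2, 8, 6] .nil .nil) .nil) (.cons [16, 18, 6, 16, 8, 10, 6, 8, 2, 4, 6, 16, 0, 2, 4, 6, 8, 10, 12, 14] (.cons [16, 14, 6, 8, 0, 2, 4, 6, 14, 8, 10, 4, 6, 8, 0, 2, 4, 6, 14, 16, 12, 10, 8, 2, 4, 6, 14, 0, 2, 4, 6, 8, 10, 12] (.cons [6, 2, 4, 12, 14, 12, 6, 8, 10, 4, 6, 12, 14, 8, 6, 4, 2] .nil .nil) .nil) (.cons [6, 16, 18, 16, 8, 10, 6, 8, 2, 4, 6, 16, 0, 2, 4, 6, 8, 10, 12, 14] (.cons [8, 10, 6, 8, 0, 2, 4, 6, 14, 16, 14, 10, 4, 6, 8, 2, 4, 6, 14, 0, 2, 4, 6, 8, 10, 12] (.cons [8, 6, 12, 14, 6, 8, 4, 6, 8, 2, 4, 6, 0, 2, 8, 10] .nil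 .nil) .nil) (.cons [4, 6, 16, 18, 8, 10, 6, 8, 2, 4, 6, 16, 0, 2, 4, 6, 8, 10, 12, 14] .nil (.cons [16, 18, 16, 14, 12, 10, 6, 8, 2, 4, 6, 16, 0, 2, 4, 6, 8, 10, 12, 14] (.cons [8, 6, 14, 4, 6, 8, 2, 4, 6, 14, 16, 12, 10, 8, 4, 6, 14, 0, 2, 4, 6, 8, 10, 12] (.cons [4, 6, 12, 4, 2, 14, 6, 8, 4, 6, 12, 14, 10, 8, 6, 4, 2, 8, 10] .nil .nil) .nil) (.cons [6, 16, 18, 16, 12, 10, 6, 8, 2, 4, 6, 16, 0, 2, 4, 6, 8, 10, 12, 14] (.cons [12, 10, 8, 0, 2, 4, 6, 14, 16, 12, 10, 8, 2, 4, 6, 14, 0, 2, 4, 6, 8, 10, 12] (.cons [12, 4, 6, 8, 2, 4, 10, 12, 8, 6, 4, 12, 14] (.cons [5, 2, 2, 1] .nil .nil) .nil) .nil) (.cons [8, 6, 16, 18, 12, 10, 6, 8, 2, 4, 6, 16, 0, 2, 4, 6, 8, 10, 12, 14] (.cons [14, 16, 6, 8, 2, 4, 6, 14, 10,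 12, 8, 10, 6, 8, 2, 4, 6, 14, 16, 12, 10, 6, 8, 2, 4, 6, 14, 0, 2, 4, 6, 8, 10, 12] (.cons [12, 8, 6, 10, 2, 4, 0, 2, 12, 14] .nil .nil) .nil) (.cons [8, 6, 16, 18, 16, 10, 6, 8, 2, 4, 6, 16, 0, 2, 4, 6, 8, 10, 12, 14] (.cons [8, 6, 14, 16, 6, 4, 8, 10, 6, 0, 2, 4, 6, 14, 8, 10, 12, 6, 8, 10, 4, 6, 8, 2, 4, 6, 14, 16, 14, 6, 8, 4, 6, 14, 0, 2, 4, 6, 8, 10, 12] .nil .nil) (.cons [2, 4, 6, 16, 18, 10, 6, 8, 2, 4, 6, 16, 0, 2, 4, 6, 8, 10, 12, 14] (.cons [8, 6, 10, 2, 4, 0, 2, 6, 14, 8, 4, 6, 14, 10, 12, 8, 10, 6, 8, 4, 6, 14, 16, 8, 2, 4, 6, 14, 0, 2, 4, 6, 8, 10, 12] (.cons [0, 2, 4, 6, 8, 10, 14, 6, 12, 14, 4, 8, 6, 4, 2] .nil .nil) .nil) (.cons [8, 4, 6, 16, 18, 10, 6, 8, 2, 4, 6, 16, 0, 2, 4, 6, 8, 10, 12,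 14] (.cons [14, 16, 12, 10, 8, 6, 14, 10, 4, 6, 8, 0, 2, 4, 6, 14, 16, 8, 10, 4, 6, 8, 2, 4, 6, 14, 0, 2, 4, 6, 8, 10, 12] (.cons [10, 2, 0, 4, 12, 6, 4, 2, 8, 6] .nil .nil) .nil) (.cons [10, 8, 6, 16, 18, 10, 6, 8, 2, 4, 6, 16, 0, 2, 4, 6, 8, 10, 12, 14] (.cons [6, 14, 16, 12, 10, 8, 6, 14, 8, 10, 4, 6, 8, 0, 2, 4, 6, 14, 16, 8, 10, 4, 6, 8, 2, 4, 6, 14, 0, 2, 4, 6, 8, 10, 12] .nil .nil) (.cons [2, 4, 6, 16, 18, 16, 6, 8, 2, 4, 6, 16, 0, 2, 4, 6, 8, 10, 12, 14] (.cons [12, 10, 4, 6, 8, 0, 2, 14, 6, 4, 8, 6, 14, 10, 12, 8, 10, 6, 8, 4, 6, 14, 16, 2, 4, 6, 14, 0, 2, 4, 6, 8, 10, 12] .nil .nil) (.cons [8, 4, 6, 16, 18, 16, 6, 8, 2, 4, 6, 16, 0, 2, 4, 6, 8, 10, 12, 14] (.cons [10, 8, 2, 4, 6, 14, 16, 10, 8, 4,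 6, 14, 10, 12, 8, 10, 4, 6, 8, 2, 4, 6, 14, 16, 12, 10, 4, 6, 8, 2, 4, 6, 14, 0, 2, 4, 6, 8, 10, 12] (.cons [14, 10, 8, 12, 6, 4, 2, 4, 6, 12, 14, 12] .nil .nil) .nil) (.cons [10, 8, 6, 16, 18, 16, 6, 8, 2, 4, 6, 16, 0, 2, 4, 6, 8, 10, 12, 14] (.cons [14, 16, 6, 14, 8, 10, 12, 6, 8, 10, 4, 6, 8, 2, 4, 6, 14, 16, 8, 10, 6, 8, 4, 6, 14, 0, 2, 4, 6, 8, 10, 12] (.cons [6, 12, 14, 8, 4, 12, 6, 4, 2, 4, 8, 6, 10, 4] .nil .nil) .nil) (.cons [6, 8, 4, 6, 16, 18, 6, 8, 2, 4, 6, 16, 0, 2, 4, 6, 8, 10, 12, 14] (.cons [14, 10, 12, 8, 10, 6, 8, 2, 4, 6, 14, 16, 14, 12, 8, 10, 4, 6, 8, 2, 4, 6, 14, 0, 2, 4, 6, 8, 10, 12] (.cons [4, 6, 12, 14, 2, 4, 6, 12, 8, 6, 4, 2, 8, 10, 12] .nil .nil) .nil) (.cons [10, 8, 4, 6, 16, 18,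 6, 8, 2, 4, 6, 16, 0, 2, 4, 6, 8, 10, 12, 14] (.cons [10, 8, 2, 4, 6, 14, 16, 14, 6, 8, 4, 6, 14, 2, 4, 6, 8, 10, 12] (.cons [8, 4, 6, 12, 14, 2, 4, 6, 0, 2, 8, 10, 6, 8, 12] .nil .nil) .nil) (.cons [2, 4, 6, 16, 18, 12, 10, 8, 2, 4, 6, 16, 0, 2, 4, 6, 8, 10, 12, 14] (.cons [10, 8, 6, 14, 16, 4, 6, 14, 12, 8, 10, 4, 6, 8, 0, 2, 4, 6, 14, 16, 12, 10, 4, 6, 8, 2, 4, 6, 14, 0, 2, 4, 6, 8, 10, 12] (.cons [14, 12, 6, 8, 10, 14, 0, 12, 6, 4, 2, 8, 6] .nil .nil) .nil) (.cons [8, 4, 6, 16, 18, 12, 10, 8, 2, 4, 6, 16, 0, 2, 4, 6, 8, 10, 12, 14] (.cons [4, 6, 8, 2, 4, 6, 14, 16, 6, 8, 4, 6, 14, 10, 12, 6, 8, 10, 4, 6, 8, 0, 2, 4, 6, 14, 16, 12, 10, 6, 8, 2, 4, 6, 14, 0, 2, 4, 6, 8, 10, 12] (.cons [12, 6, 4, 2, 12, 14,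 8, 6, 8, 10] .nil .nil) .nil) (.cons [10, 8, 6, 16, 18, 12, 10, 8, 2, 4, 6, 16, 0, 2, 4, 6, 8, 10, 12, 14] (.cons [14, 10, 12, 8, 10, 6, 8, 0, 2, 4, 6, 14, 16, 4, 6, 8, 2, 4, 6, 14, 0, 2, 4, 6, 8, 10, 12] .nil .nil) (.cons [0, 2, 4, 6, 16, 18, 10, 8, 2, 4, 6, 16, 0, 2, 4, 6, 8, 10, 12, 14] (.cons [16, 6, 2, 4, 6, 14, 8, 10, 12, 6, 8, 10, 4, 6, 8, 0, 2, 4, 6, 14, 16, 6, 8, 4, 6, 14, 0, 2, 4, 6, 8, 10, 12] (.cons [14, 8, 2, 6, 4, 2, 8, 6] (.cons [1, 1, 3, 0, 2] .nil .nil) .nil) .nil) (.cons [8, 2, 4, 6, 16, 18, 10, 8, 2, 4, 6, 16, 0, 2, 4, 6, 8, 10, 12, 14] (.cons [10, 6, 8, 0, 2, 4, 6, 14, 12, 8, 10, 6, 8, 0, 2, 4, 6, 14, 16, 12, 10, 8, 2, 4, 6, 14, 0, 2, 4, 6, 8, 10, 12] .nil .nil) (.cons [6, 8, 4, 6, 16, 18,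 10, 8, 2, 4, 6, 16, 0, 2, 4, 6, 8, 10, 12, 14] (.cons [6, 8, 4, 6, 14, 10, 12, 8, 10, 6, 8, 2, 4, 6, 14, 16, 6, 8, 2, 4, 6, 14, 0, 2, 4, 6, 8, 10, 12] .nil .nil) (.cons [10, 8, 4, 6, 16, 18, 10, 8, 2, 4, 6, 16, 0, 2, 4, 6, 8, 10, 12, 14] (.cons [16, 4, 6, 14, 12, 6, 8, 10, 4, 6, 8, 2, 4, 6, 14, 16, 4, 6, 8, 2, 4, 6, 14, 0, 2, 4, 6, 8, 10, 12] (.cons [6, 8, 4, 6, 12, 2, 4, 6, 8, 10, 2, 4, 0, 2, 12, 14, 6, 4] .nil .nil) .nil) (.cons [12, 10, 8, 6, 16, 18, 10, 8, 2, 4, 6, 16, 0, 2, 4, 6, 8, 10, 12, 14] (.cons [8, 2, 4, 6, 14, 16, 10, 8, 6, 14, 10, 12, 6, 8, 10, 4, 6, 8, 2, 4, 6, 14, 16, 14, 12, 8, 10, 4, 6, 8, 2, 4, 6, 14, 0, 2, 4, 6, 8, 10, 12] (.cons [4, 6, 2, 0, 4, 12, 2, 6, 8, 10, 12, 6, 8] .nil .nil) .nil)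 (.cons [6, 8, 2, 4, 6, 16, 18, 8, 2, 4, 6, 16, 0, 2, 4, 6, 8, 10, 12, 14] (.cons [16, 4, 6, 14, 8, 10, 6, 8, 0, 2, 4, 6, 14, 16, 10, 4, 6, 8, 2, 4, 6, 14, 0, 2, 4, 6, 8, 10, 12] (.cons [14, 12, 6, 4, 6, 8, 10, 8, 6, 12, 14, 4, 6, 2] .nil .nil) .nil) (.cons [10, 8, 2, 4, 6, 16, 18, 8, 2, 4, 6, 16, 0, 2, 4, 6, 8, 10, 12, 14] (.cons [6, 8, 2, 4, 6, 14, 16, 10, 8, 6, 8, 10, 4, 2, 6, 14, 8, 4, 6, 14, 10, 12, 8, 10, 6, 8, 4, 6, 14, 16, 8, 2, 4, 6, 14, 0, 2, 4, 6, 8, 10, 12] (.cons [6, 12, 8, 0, 2, 4, 6, 8, 4, 2, 10, 12, 14, 8] .nil .nil) .nil) (.cons [10, 6, 8, 4, 6, 16, 18, 8, 2, 4, 6, 16, 0, 2, 4, 6, 8, 10, 12, 14] (.cons [14, 6, 8, 4, 6, 14, 10, 12, 8, 10, 6, 8, 2, 4, 6, 14, 16, 14, 8, 10, 4, 6, 8, 2, 4, 6, 14,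 0, 2, 4, 6, 8, 10, 12] .nil .nil) (.cons [16, 6, 8, 4, 6, 16, 18, 8, 2, 4, 6, 16, 0, 2, 4, 6, 8, 10, 12, 14] (.cons [14, 10, 4, 6, 8, 0, 2, 4, 6, 14, 16, 10, 8, 2, 4, 6, 14, 0, 2, 4, 6, 8, 10, 12] .nil .nil) (.cons [12, 10, 8, 4, 6, 16, 18, 8, 2, 4, 6, 16, 0, 2, 4, 6, 8, 10, 12, 14] (.cons [10, 6, 8, 2, 4, 6, 14, 16, 10, 8, 4, 6, 14, 2, 4, 6, 8, 10, 12] (.cons [10, 6, 8, 4, 6, 12, 14, 6, 8, 12, 6, 4, 2, 4, 6, 8, 6, 10, 4] .nil .nil) .nil) (.cons [14, 12, 10, 8, 6, 16, 18, 8, 2, 4, 6, 16, 0, 2, 4, 6, 8, 10, 12, 14] (.cons [8, 6, 10, 8, 2, 6, 14, 16, 4, 6, 14, 10, 12, 8, 10, 6, 8, 2, 4, 6, 14, 16, 12, 10, 8, 2, 4, 6, 14, 0, 2, 4, 6, 8, 10, 12] .nil .nil) (.cons [8, 10, 6, 8, 4, 6, 16, 18, 2, 4, 6, 16, 0, 2, 4,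 6, 8, 10, 12, 14] (.cons [16, 14, 6, 8, 2, 4, 6, 14, 10, 12, 8, 10, 6, 8, 2, 4, 6, 14, 16, 14, 8, 10, 4, 6, 8, 2, 4, 6, 14, 0, 2, 4, 6, 8, 10, 12] .nil .nil) (.cons [12, 10, 6, 8, 4, 6, 16, 18, 2, 4, 6, 16, 0, 2, 4, 6, 8, 10, 12, 14] (.cons [10, 8, 6, 14, 16, 4, 6, 14, 12, 8, 10, 6, 8, 2, 4, 6, 14, 16, 12, 10, 8, 2, 4, 6, 14, 0, 2, 4, 6, 8, 10, 12] (.cons [8, 4, 6, 0, 2, 8, 10] .nil .nil) .nil) (.cons [16, 10, 6, 8, 4, 6, 16, 18, 2, 4, 6, 16, 0, 2, 4, 6, 8, 10, 12, 14] (.cons [10, 12, 8, 10, 6, 8, 4, 6, 14, 16, 8, 10, 6, 8, 4, 6, 14, 0, 2, 4, 6, 8, 10, 12] (.cons [12, 2, 4, 6, 4, 0, 2, 10, 12, 14, 8, 6, 8, 10] (.cons [5, 2, 5] .nil .nil) .nil) .nil) (.cons [18, 16, 6, 8, 4, 6, 16, 18, 2, 4, 6, 16, 0, 2, 4, 6,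 8, 10, 12, 14] (.cons [16, 14, 6, 4, 2, 16, 0, 14, 10, 12, 8, 10, 6, 8, 4, 6, 14, 16, 8, 10, 6, 8, 4, 6, 14, 2, 4, 6, 8, 10, 12] .nil .nil) (.cons [14, 12, 10, 8, 4, 6, 16, 18, 2, 4, 6, 16, 0, 2, 4, 6, 8, 10, 12, 14] (.cons [10, 2, 4, 6, 8, 0, 2, 4, 6, 14, 16, 8, 10, 6, 8, 4, 6, 14, 0, 2, 4, 6, 8, 10, 12] (.cons [6, 10, 4, 12, 6, 4, 12, 14] .nil .nil) .nil) (.cons [16, 12, 14, 10, 12, 8, 10, 6, 8, 4, 6, 16, 0, 2, 4, 6, 8, 10, 12, 14] (.cons [16, 14, 10, 6, 8, 2, 4, 6, 14, 16, 12, 8, 10, 6, 8, 4, 6, 14, 0, 2, 4, 6, 8, 10, 12] (.cons [4, 6, 8, 14, 12, 6, 2, 8, 4, 6, 10, 0, 2, 12, 14] .nil .nil) .nil) (.cons [18, 12, 14, 10, 12, 8, 10, 6, 8, 4, 6, 16, 0, 2, 4, 6, 8, 10, 12, 14] (.cons [4, 2, 8, 6, 14, 10, 12, 8,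 10, 6, 8, 4, 6, 14, 16, 6, 8, 10, 4, 6, 8, 2, 4, 6, 14, 0, 2, 4, 6, 8, 10, 12] (.cons [4, 6, 8, 2, 10, 0, 6, 4, 2, 8, 6] .nil .nil) .nil) (.cons [6, 16, 14, 10, 12, 8, 10, 6, 8, 4, 6, 16, 0, 2, 4, 6, 8, 10, 12, 14] (.cons [14, 6, 4, 2, 0, 14, 6, 14, 8, 10, 6, 8, 4, 6, 14, 16, 12, 8, 10, 6, 8, 4, 6, 14, 2, 4, 6, 8, 10, 12] (.cons [12, 14, 4, 2, 6, 4, 8, 12, 6, 4, 0, 2, 4, 8, 10] .nil .nil) .nil) (.cons [18, 16, 14, 10, 12, 8, 10, 6, 8, 4, 6, 16, 0, 2, 4, 6, 8, 10, 12, 14] .nil (.cons [16, 18, 14, 10, 12, 8, 10, 6, 8, 4, 6, 16, 0, 2, 4, 6, 8, 10, 12, 14] (.cons [14, 16, 8, 6, 14, 6, 8, 10, 4, 6, 8, 2, 4, 6, 14, 16, 12, 8, 10, 4, 6, 8, 2, 4, 6, 14, 0, 2, 4, 6, 8, 10, 12] (.cons [6, 12, 14, 8, 4, 6, 12, 14, 8, 10,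 6, 4, 2, 12, 6, 4] .nil .nil) .nil) (.cons [4, 6, 16, 10, 12, 8, 10, 6, 8, 4, 6, 16, 0, 2, 4, 6, 8, 10, 12, 14] .nil (.cons [18, 6, 16, 10, 12, 8, 10, 6, 8, 4, 6, 16, 0, 2, 4, 6, 8, 10, 12, 14] (.cons [14, 16, 8, 4, 6, 14, 8, 10, 12, 6, 8, 10, 4, 6, 8, 2, 4, 6, 14, 16, 8, 10, 6, 8, 2, 4, 6, 14, 0, 2, 4, 6, 8, 10, 12] .nil .nil) (.cons [16, 18, 16, 10, 12, 8, 10, 6, 8, 4, 6, 16, 0, 2, 4, 6, 8, 10, 12, 14] (.cons [14, 16, 8, 4, 6, 14, 12, 6, 8, 10, 4, 6, 8, 2, 4, 6, 14, 16, 10, 6, 8, 2, 4, 6, 14, 0, 2, 4, 6, 8, 10, 12] .nil .nil) (.cons [6, 16, 18, 10, 12, 8, 10, 6, 8, 4, 6, 16, 0, 2, 4, 6, 8, 10, 12, 14] (.cons [0, 2, 4, 6, 14, 8, 10, 12, 6, 8, 10, 4, 6, 8, 2, 4, 6, 14, 16, 4, 6, 8, 2, 4, 6, 14, 0, 2, 4, 6, 8,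 10, 12] (.cons [0, 2, 4, 6, 8, 10, 2, 14, 12, 6, 4, 2, 12, 14, 6, 4] .nil .nil) .nil) (.cons [4, 6, 16, 14, 12, 8, 10, 6, 8, 4, 6, 16, 0, 2, 4, 6, 8, 10, 12, 14] (.cons [14, 16, 6, 14, 6, 8, 10, 2, 4, 6, 8, 0, 2, 4, 6, 14, 16, 12, 10, 4, 6, 8, 2, 4, 6, 14, 0, 2, 4, 6, 8, 10, 12] (.cons [2, 4, 0, 2, 12, 10, 6, 8, 4, 6, 12, 14, 10, 4, 6, 8, 10, 12, 6, 4, 2] .nil .nil) .nil) (.cons [18, 6, 16, 14, 12, 8, 10, 6, 8, 4, 6, 16, 0, 2, 4, 6, 8, 10, 12, 14] (.cons [10, 6, 8, 2, 4, 6, 14, 16, 14, 12, 8, 10, 6, 8, 4, 6, 14, 0, 2, 4, 6, 8, 10, 12] (.cons [8, 0, 2, 4, 6, 12, 14, 10, 0, 4, 2, 4, 0, 6, 8, 10, 12, 6, 4, 2] .nil .nil) .nil) (.cons [16, 18, 16, 14, 12, 8, 10, 6, 8, 4, 6, 16, 0, 2, 4, 6, 8, 10, 12, 14] (.cons [12,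 10, 6, 8, 4, 6, 14, 0, 2, 4, 6, 8, 10, 12] (.cons [2, 4, 6, 12, 8, 4, 2, 4, 10, 14, 8, 12] .nil .nil) .nil) (.cons [6, 16, 18, 14, 12, 8, 10, 6, 8, 4, 6, 16, 0, 2, 4, 6, 8, 10, 12, 14] .nil (.cons [18, 4, 6, 16, 12, 8, 10, 6, 8, 4, 6, 16, 0, 2, 4, 6, 8, 10, 12, 14] (.cons [16, 10, 8, 4, 6, 14, 10, 12, 8, 10, 4, 6, 8, 2, 4, 6, 14, 16, 14, 12, 8, 10, 4, 6, 8, 2, 4, 6, 14, 0, 2, 4, 6, 8, 10, 12] .nil .nil) (.cons [16, 18, 6, 16, 12, 8, 10, 6, 8, 4, 6, 16, 0, 2, 4, 6, 8, 10, 12, 14] (.cons [12, 10, 4, 6, 8, 0, 2, 4, 6, 14, 16, 8, 10, 6, 8, 4, 6, 14, 0, 2, 4, 6, 8, 10, 12] (.cons [4, 2, 10, 4, 6, 12, 14, 6, 8, 4, 6, 10] .nil .nil) .nil) (.cons [6, 16, 18, 16, 12, 8, 10, 6, 8, 4, 6, 16, 0, 2, 4, 6, 8, 10, 12, 14]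 (.cons [2, 4, 6, 14, 16, 10, 8, 4, 6, 14, 12, 10, 8, 6, 4, 2, 0, 10, 14, 12, 8, 10, 6, 8, 4, 6, 14, 16, 12, 10, 6, 8, 4, 6, 14, 2, 4, 6, 8, 10, 12] (.cons [12, 8, 6, 4, 6, 0, 2, 12, 14, 4, 8, 6, 10, 4] .nil .nil) .nil) (.cons [4, 6, 16, 18, 12, 8, 10, 6, 8, 4, 6, 16, 0, 2, 4, 6, 8, 10, 12, 14] (.cons [6, 14, 16, 10, 6, 8, 2, 4, 6, 14, 10, 12, 6, 8, 10, 4, 6, 8, 2, 4, 6, 14, 16, 10, 6, 8, 2, 4, 6, 14, 0, 2, 4, 6, 8, 10, 12] (.cons [10, 8, 4, 6, 12, 14, 12, 10, 4, 6, 8, 10, 0, 12, 6, 4, 2, 4] .nil .nil) .nil) (.cons [6, 16, 18, 6, 16, 8, 10, 6, 8, 4, 6, 16, 0, 2, 4, 6, 8, 10, 12, 14] .nil (.cons [8, 6, 16, 18, 16, 8, 10, 6, 8, 4, 6, 16, 0, 2, 4, 6, 8, 10, 12, 14] (.cons [6, 8, 0, 2, 4, 6, 14, 16, 10, 8, 6, 14,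 10, 12, 8, 10, 4, 6, 8, 2, 4, 6, 14, 16, 14, 10, 4, 6, 8, 2, 4, 6, 14, 0, 2, 4, 6, 8, 10, 12] .nil .nil) .nil)))))))))))))))))))))))))))))))))))))))))))))))))))))))))))))))))))))))))))))))))))))))))))))))))))))))))))))))))))))))))))))))))))))))))))))))))))))))))))))))))))))))))))))))))))))))))))))))))))))))))))))))))))))))))))))))))))))))))))))))))))))))))))))))))))))))))))))))))))))))))))))))))))))))))))))))))))))))))))))))))))))))))))))))))))))))))))))))))))))))))))) (⟨cu_l0.b, cu_l0.S, [], cu_R1, 0⟩ :: cu_tl) (0 :: cu_lk) Pd.nil 0 = true := by decide +kernel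
theorem cu_r2 : cu_S.run (.cons [8, 4, 6, 16, 18, 8, 10, 6, 8, 4, 6, 16, 0, 2, 4, 6, 8, 10, 12, 14] (.cons [8, 6, 14, 12, 8, 10, 4, 6, 8, 2, 4, 6, 14, 16, 8, 10, 6, 8, 4, 6, 14, 0, 2, 4, 6, 8, 10, 12] (.cons [6, 4, 12, 6, 14, 12, 6, 8, 10, 8, 6, 12, 14, 4, 6, 2] .nil .nil) .nil) (.cons [6, 16, 18, 16, 14, 12, 10, 6, 8, 4, 6, 16, 0, 2, 4, 6, 8, 10, 12, 14] (.cons [8, 10, 4, 6, 8, 2, 4, 6, 14, 16, 12, 10, 6, 8, 2, 4, 6, 14, 0, 2, 4, 6, 8, 10, 12] (.cons [8, 6, 12, 4, 0, 2, 6, 8, 10, 14, 8, 12] .nil .nil) .nil) (.cons [4, 6, 16, 18, 16, 12, 10, 6, 8, 4, 6, 16, 0, 2, 4, 6, 8, 10, 12, 14] (.cons [12, 10, 6, 8, 0, 2, 4, 6, 14, 16, 12, 8, 10, 4, 6, 8, 2, 4, 6, 14, 0, 2, 4, 6, 8, 10, 12] (.cons [8, 10, 8, 6, 4, 6, 12,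 14, 12, 6, 4] .nil .nil) .nil) (.cons [8, 6, 16, 18, 16, 12, 10, 6, 8, 4, 6, 16, 0, 2, 4, 6, 8, 10, 12, 14] (.cons [14, 16, 2, 4, 6, 14, 12, 6, 8, 10, 4, 6, 8, 2, 4, 6, 14, 16, 10, 6, 8, 2, 4, 6, 14, 0, 2, 4, 6, 8, 10, 12] (.cons [2, 4, 6, 12, 10, 8, 4, 6, 10, 4, 2, 12, 14] .nil .nil) .nil) (.cons [2, 4, 6, 16, 18, 12, 10, 6, 8, 4, 6, 16, 0, 2, 4, 6, 8, 10, 12, 14] (.cons [16, 6, 8, 4, 6, 14, 10, 8, 6, 4, 2, 14, 10, 12, 8, 10, 6, 8, 4, 6, 14, 16, 10, 6, 8, 4, 6, 14, 0, 2, 4, 6, 8, 10, 12] (.cons [4, 6, 0, 2, 4, 6, 8, 10, 12, 6, 4, 2] .nil .nil) .nil) (.cons [2, 4, 6, 16, 18, 16, 10, 6, 8, 4, 6, 16, 0, 2, 4, 6, 8, 10, 12, 14] (.cons [14, 16, 6, 8, 4, 6, 14, 8, 10, 12, 6, 8, 10, 4, 6, 8, 2, 4, 6, 14, 16, 6, 8,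 2, 4, 6, 14, 0, 2, 4, 6, 8, 10, 12] (.cons [12, 14, 0, 2, 4, 0, 6, 8, 10, 12, 6, 4, 2] .nil .nil) .nil) (.cons [8, 4, 6, 16, 18, 16, 10, 6, 8, 4, 6, 16, 0, 2, 4, 6, 8, 10, 12, 14] (.cons [14, 10, 12, 8, 10, 6, 8, 4, 6, 14, 16, 8, 2, 4, 6, 14, 0, 2, 4, 6, 8, 10, 12] .nil .nil) (.cons [10, 8, 6, 16, 18, 16, 10, 6, 8, 4, 6, 16, 0, 2, 4, 6, 8, 10, 12, 14] (.cons [8, 6, 14, 10, 12, 8, 10, 4, 6, 8, 0, 2, 4, 6, 14, 16, 8, 10, 4, 6, 8, 2, 4, 6, 14, 0, 2, 4, 6, 8, 10, 12] (.cons [8, 2, 6, 12, 14, 8, 6, 8, 10] .nil .nil) .nil) (.cons [0, 2, 4, 6, 16, 18, 10, 6, 8, 4, 6, 16, 0, 2, 4, 6, 8, 10, 12, 14] (.cons [14, 16, 6, 8, 4, 6, 14, 10, 8, 6, 4, 2, 0, 14, 10, 12, 8, 10, 6, 8, 4, 6, 14, 16, 8, 10, 6, 8, 4, 6, 14, 2, 4,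 6, 8, 10, 12] (.cons [14, 10, 2, 6, 8, 4, 6, 12, 6, 4, 2, 14, 12] .nil .nil) .nil) (.cons [8, 2, 4, 6, 16, 18, 10, 6, 8, 4, 6, 16, 0, 2, 4, 6, 8, 10, 12, 14] (.cons [14, 16, 6, 8, 4, 6, 14, 8, 10, 12, 6, 8, 10, 4, 6, 8, 2, 4, 6, 14, 16, 10, 4, 6, 8, 2, 4, 6, 14, 0, 2, 4, 6, 8, 10, 12] (.cons [8, 6, 4, 0, 2, 6, 4, 6, 12, 14, 8, 6, 10] .nil .nil) .nil) (.cons [6, 8, 4, 6, 16, 18, 10, 6, 8, 4, 6, 16, 0, 2, 4, 6, 8, 10, 12, 14] .nil (.cons [10, 8, 4, 6, 16, 18, 10, 6, 8, 4, 6, 16, 0, 2, 4, 6, 8, 10, 12, 14] (.cons [6, 8, 4, 6, 14, 16, 6, 8, 4, 6, 14, 10, 12, 6, 8, 10, 4, 6, 8, 0, 2, 4, 6, 14, 16, 12, 10, 4, 6, 8, 2, 4, 6, 14, 0, 2, 4, 6, 8, 10, 12] (.cons [8, 6, 8, 4, 10, 2, 6, 12, 14, 4, 8, 6, 4, 2] .nil .nil)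 .nil) (.cons [12, 10, 8, 6, 16, 18, 10, 6, 8, 4, 6, 16, 0, 2, 4, 6, 8, 10, 12, 14] (.cons [2, 4, 6, 14, 12, 8, 10, 6, 8, 4, 6, 14, 16, 14, 10, 4, 6, 8, 2, 4, 6, 14, 0, 2, 4, 6, 8, 10, 12] (.cons [14, 6, 8, 10, 0, 4, 6, 2, 4, 0, 2, 12] .nil .nil) .nil) (.cons [8, 2, 4, 6, 16, 18, 16, 6, 8, 4, 6, 16, 0, 2, 4, 6, 8, 10, 12, 14] (.cons [14, 10, 8, 6, 4, 14, 12, 8, 10, 6, 8, 2, 4, 6, 14, 16, 14, 12, 10, 6, 8, 4, 6, 14, 0, 2, 4, 6, 8, 10, 12] (.cons [10, 8, 4, 6, 12, 14, 10, 4, 6, 8, 10, 0, 12, 6, 4, 2, 4] .nil .nil) .nil) (.cons [10, 8, 4, 6, 16, 18, 16, 6, 8, 4, 6, 16, 0, 2, 4, 6, 8, 10, 12, 14] (.cons [16, 6, 0, 2, 4, 6, 14, 8, 10, 12, 6, 8, 10, 4, 6, 8, 2, 4, 6, 14, 16, 6, 8, 4, 6, 14, 0, 2, 4, 6, 8, 10, 12] (.cons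 [6, 12, 14, 4, 8, 6, 4, 10, 0, 2, 4, 6, 8, 10] .nil .nil) .nil) (.cons [12, 10, 8, 6, 16, 18, 16, 6, 8, 4, 6, 16, 0, 2, 4, 6, 8, 10, 12, 14] (.cons [14, 16, 8, 2, 10, 6, 4, 8, 6, 14, 10, 12, 8, 10, 4, 6, 8, 0, 2, 4, 6, 14, 16, 10, 8, 2, 4, 6, 14, 0, 2, 4, 6, 8, 10, 12] (.cons [2, 4, 12, 0, 2, 4, 14, 12] .nil .nil) .nil) (.cons [8, 0, 2, 4, 6, 16, 18, 6, 8, 4, 6, 16, 0, 2, 4, 6, 8, 10, 12, 14] (.cons [6, 14, 16, 8, 2, 4, 6, 14, 10, 12, 8, 10, 4, 6, 8, 2, 4, 6, 14, 16, 10, 8, 2, 4, 6, 14, 0, 2, 4, 6, 8, 10, 12] (.cons [12, 14, 0, 6, 4, 2, 8, 6] .nil .nil) .nil) (.cons [10, 6, 8, 4, 6, 16, 18, 6, 8, 4, 6, 16, 0, 2, 4, 6, 8, 10, 12, 14] (.cons [16, 6, 8, 10, 14, 6, 8, 2, 4, 6, 14, 12, 8, 10, 6, 8, 0, 2, 4, 6, 14,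 16, 12, 10, 8, 2, 4, 6, 14, 0, 2, 4, 6, 8, 10, 12] .nil .nil) (.cons [12, 10, 8, 4, 6, 16, 18, 6, 8, 4, 6, 16, 0, 2, 4, 6, 8, 10, 12, 14] (.cons [14, 12, 8, 10, 6, 8, 4, 6, 14, 16, 12, 10, 8, 4, 6, 14, 0, 2, 4, 6, 8, 10, 12] (.cons [2, 4, 6, 8, 0, 2, 4, 6, 12, 14, 4, 6, 8, 10, 12, 6, 4, 6, 2] .nil .nil) .nil) (.cons [14, 12, 10, 8, 6, 16, 18, 6, 8, 4, 6, 16, 0, 2, 4, 6, 8, 10, 12, 14] (.cons [16, 14, 8, 10, 2, 4, 6, 8, 0, 2, 4, 6, 14, 16, 8, 10, 6, 8, 2, 4, 6, 14, 0, 2, 4, 6, 8, 10, 12] (.cons [6, 4, 12, 6, 8, 10, 14, 6, 12, 14, 4, 8, 6, 4, 2] .nil .nil) .nil) (.cons [2, 4, 6, 16, 18, 14, 12, 10, 8, 4, 6, 16, 0, 2, 4, 6, 8, 10, 12, 14] (.cons [16, 4, 6, 14, 8, 10, 4, 6, 8, 0, 2, 4, 6, 14, 16, 12, 10, 4, 6, 8,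 2, 4, 6, 14, 0, 2, 4, 6, 8, 10, 12] (.cons [12, 14, 8, 6, 4, 2, 4, 8, 10] .nil .nil) .nil) (.cons [8, 4, 6, 16, 18, 14, 12, 10, 8, 4, 6, 16, 0, 2, 4, 6, 8, 10, 12, 14] (.cons [10, 8, 6, 14, 10, 4, 6, 8, 2, 4, 6, 14, 16, 12, 10, 8, 4, 6, 14, 0, 2, 4, 6, 8, 10, 12] (.cons [10, 8, 12, 14, 6, 4, 2, 12, 14, 8, 6, 4, 12] .nil .nil) .nil) (.cons [10, 8, 6, 16, 18, 14, 12, 10, 8, 4, 6, 16, 0, 2, 4, 6, 8, 10, 12, 14] (.cons [14, 6, 4, 2, 0, 14, 8, 10, 6, 8, 4, 6, 14, 16, 10, 12, 8, 10, 6, 8, 4, 6, 14, 2, 4, 6, 8, 10, 12] (.cons [2, 4, 6, 12, 14, 8, 2, 10, 0, 12, 6, 4, 2, 4] .nil .nil) .nil) (.cons [8, 2, 4, 6, 16, 18, 12, 10, 8, 4, 6, 16, 0, 2, 4, 6, 8, 10, 12, 14] (.cons [16, 10, 8, 14, 6, 4, 2, 0, 12, 8, 10, 6, 8,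 4, 6, 14, 16, 10, 12, 8, 10, 6, 8, 4, 6, 14, 2, 4, 6, 8, 10, 12] (.cons [4, 12, 2, 10, 8, 4, 6, 12, 14, 8, 6, 4, 12] .nil .nil) .nil) (.cons [6, 8, 4, 6, 16, 18, 12, 10, 8, 4, 6, 16, 0, 2, 4, 6, 8, 10, 12, 14] .nil (.cons [10, 8, 4, 6, 16, 18, 12, 10, 8, 4, 6, 16, 0, 2, 4, 6, 8, 10, 12, 14] (.cons [4, 6, 14, 16, 8, 10, 6, 8, 14, 6, 4, 2, 10, 12, 8, 10, 6, 8, 4, 6, 14, 16, 12, 10, 6, 8, 4, 6, 14, 0, 2, 4, 6, 8, 10, 12] (.cons [14, 12, 8, 6, 12, 14, 4, 6, 0, 2] .nil .nil) .nil) (.cons [12, 10, 8, 6, 16, 18, 12, 10, 8, 4, 6, 16, 0, 2, 4, 6, 8, 10, 12, 14] (.cons [2, 4, 6, 14, 16, 6, 8, 4, 6, 14, 8, 10, 12, 6, 8, 10, 4, 6, 8, 2, 4, 6, 14, 16, 14, 8, 10, 4, 6, 8, 2, 4, 6, 14, 0, 2, 4, 6, 8, 10, 12] .nil .nil) (.cons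 [8, 0, 2, 4, 6, 16, 18, 10, 8, 4, 6, 16, 0, 2, 4, 6, 8, 10, 12, 14] (.cons [6, 14, 16, 10, 8, 2, 4, 6, 14, 12, 8, 10, 4, 6, 8, 2, 4, 6, 14, 16, 10, 8, 2, 4, 6, 14, 0, 2, 4, 6, 8, 10, 12] .nil .nil) (.cons [6, 8, 2, 4, 6, 16, 18, 10, 8, 4, 6, 16, 0, 2, 4, 6, 8, 10, 12, 14] (.cons [8, 10, 4, 6, 8, 2, 4, 6, 14, 16, 6, 8, 4, 6, 14, 2, 4, 6, 8, 10, 12] .nil .nil) (.cons [10, 8, 2, 4, 6, 16, 18, 10, 8, 4, 6, 16, 0, 2, 4, 6, 8, 10, 12, 14] (.cons [10, 8, 6, 14, 16, 4, 6, 14, 10, 12, 8, 10, 6, 8, 2, 4, 6, 14, 16, 4, 6, 8, 2, 4, 6, 14, 0, 2, 4, 6, 8, 10, 12] .nil .nil) (.cons [16, 6, 8, 4, 6, 16, 18, 10, 8, 4, 6, 16, 0, 2, 4, 6, 8, 10, 12, 14] (.cons [16, 10, 14, 6, 8, 2, 4, 6, 14, 12, 8, 10, 4, 6, 8, 0, 2, 4, 6, 14,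 16, 12, 10, 8, 2, 4, 6, 14, 0, 2, 4, 6, 8, 10, 12] (.cons [0, 2, 4, 6, 12, 14, 8, 6, 4, 6, 0, 2, 8, 10] .nil .nil) .nil) (.cons [12, 10, 8, 4, 6, 16, 18, 10, 8, 4, 6, 16, 0, 2, 4, 6, 8, 10, 12, 14] (.cons [2, 6, 8, 4, 6, 14, 10, 12, 8, 10, 6, 8, 2, 4, 6, 14, 16, 14, 6, 8, 2, 4, 6, 14, 0, 2, 4, 6, 8, 10, 12] .nil .nil) (.cons [14, 12, 10, 8, 6, 16, 18, 10, 8, 4, 6, 16, 0, 2, 4, 6, 8, 10, 12, 14] (.cons [8, 6, 14, 16, 10, 8, 6, 14, 12, 6, 8, 10, 4, 6, 8, 0, 2, 4, 6, 14, 16, 14, 12, 10, 4, 6, 8, 2, 4, 6, 14, 0, 2, 4, 6, 8, 10, 12] (.cons [6, 8, 2, 4, 6, 12, 14, 12, 10, 8, 6, 4, 0, 2, 4, 8, 10] .nil .nil) .nil) (.cons [10, 8, 0, 2, 4, 6, 16, 18, 8, 4, 6, 16, 0, 2, 4, 6, 8, 10, 12, 14] (.cons [14, 16, 4, 6, 14, 8,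 16, 6, 4, 2, 0, 10, 14, 12, 8, 10, 6, 8, 4, 6, 14, 16, 12, 10, 6, 8, 4, 6, 14, 2, 4, 6, 8, 10, 12] (.cons [2, 4, 6, 12, 14, 0, 4, 12, 6, 8, 4, 2, 10, 8] .nil .nil) .nil) (.cons [12, 10, 8, 2, 4, 6, 16, 18, 8, 4, 6, 16, 0, 2, 4, 6, 8, 10, 12, 14] (.cons [8, 2, 4, 6, 14, 16, 6, 8, 4, 6, 14, 10, 12, 8, 10, 4, 6, 8, 2, 4, 6, 14, 16, 8, 10, 4, 6, 8, 2, 4, 6, 14, 0, 2, 4, 6, 8, 10, 12] .nil .nil) (.cons [14, 12, 10, 8, 4, 6, 16, 18, 8, 4, 6, 16, 0, 2, 4, 6, 8, 10, 12, 14] (.cons [16, 6, 14, 10, 12, 8, 10, 4, 6, 8, 2, 4, 6, 14, 16, 12, 10, 6, 8, 2, 4, 6, 14, 0, 2, 4, 6, 8, 10, 12] (.cons [12, 14, 8, 12, 6, 8, 10] .nil .nil) .nil) (.cons [0, 2, 4, 6, 16, 18, 14, 12, 10, 8, 6, 16, 0, 2, 4, 6, 8, 10, 12, 14] (.cons [10,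 6, 8, 4, 6, 14, 16, 14, 12, 8, 10, 6, 8, 4, 6, 14, 0, 2, 4, 6, 8, 10, 12] (.cons [12, 14, 12, 10, 4, 6, 8, 10, 0, 12, 6, 4, 2, 4] .nil .nil) .nil) (.cons [8, 2, 4, 6, 16, 18, 14, 12, 10, 8, 6, 16, 0, 2, 4, 6, 8, 10, 12, 14] (.cons [8, 6, 14, 8, 10, 4, 6, 8, 2, 4, 6, 14, 16, 12, 8, 10, 6, 8, 2, 4, 6, 14, 0, 2, 4, 6, 8, 10, 12] .nil .nil) (.cons [6, 8, 4, 6, 16, 18, 14, 12, 10, 8, 6, 16, 0, 2, 4, 6, 8, 10, 12, 14] (.cons [8, 10, 4, 6, 8, 2, 4, 6, 14, 16, 14, 10, 12, 8, 10, 6, 8, 2, 4, 6, 14, 0, 2, 4, 6, 8, 10, 12] (.cons [6, 12, 14, 0, 4, 8, 6, 4, 2] .nil .nil) .nil) (.cons [12, 10, 8, 6, 16, 18, 14, 12, 10, 8, 6, 16, 0, 2, 4, 6, 8, 10, 12, 14] (.cons [6, 14, 16, 10, 6, 8, 4, 6, 14, 10, 12, 8, 10, 4, 6, 8, 2,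 4, 6, 14, 16, 14, 8, 10, 4, 6, 8, 2, 4, 6, 14, 0, 2, 4, 6, 8, 10, 12] (.cons [2, 4, 6, 12, 14, 0, 6, 10, 8, 4, 12, 6, 4, 2, 4, 8, 10] .nil .nil) .nil) (.cons [8, 0, 2, 4, 6, 16, 18, 12, 10, 8, 6, 16, 0, 2, 4, 6, 8, 10, 12, 14] (.cons [16, 14, 8, 10, 6, 8, 2, 4, 6, 14, 16, 8, 10, 6, 8, 2, 4, 6, 14, 0, 2, 4, 6, 8, 10, 12] .nil .nil) (.cons [10, 8, 2, 4, 6, 16, 18, 12, 10, 8, 6, 16, 0, 2, 4, 6, 8, 10, 12, 14] (.cons [8, 4, 6, 14, 16, 10, 8, 6, 14, 12, 10, 4, 6, 8, 2, 4, 6, 14, 16, 8, 10, 4, 6, 8, 2, 4, 6, 14, 0, 2, 4, 6, 8, 10, 12] (.cons [14, 8, 6, 12, 10, 6, 4, 2, 4, 14, 12] .nil .nil) .nil) (.cons [16, 6, 8, 4, 6, 16, 18, 12, 10, 8, 6, 16, 0, 2, 4, 6, 8, 10, 12, 14] (.cons [14, 16, 6, 14, 12, 6, 8, 10, 2, 4,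 6, 8, 0, 2, 4, 6, 14, 16, 12, 10, 4, 6, 8, 2, 4, 6, 14, 0, 2, 4, 6, 8, 10, 12] (.cons [12, 8, 10, 6, 4, 0, 2, 6, 4, 12, 14] .nil .nil) .nil) (.cons [6, 8, 0, 2, 4, 6, 16, 18, 10, 8, 6, 16, 0, 2, 4, 6, 8, 10, 12, 14] (.cons [6, 2, 14, 6, 8, 4, 6, 14, 10, 12, 8, 10, 6, 8, 4, 6, 14, 16, 14, 6, 8, 2, 4, 6, 14, 0, 2, 4, 6, 8, 10, 12] .nil .nil) (.cons [4, 6, 8, 2, 4, 6, 16, 18, 10, 8, 6, 16, 0, 2, 4, 6, 8, 10, 12, 14] (.cons [12, 10, 8, 6, 14, 8, 10, 4, 6, 8, 2, 4, 6, 14, 16, 8, 10, 4, 6, 8, 2, 4, 6, 14, 0, 2, 4, 6, 8, 10, 12] .nil .nil) (.cons [16, 6, 8, 2, 4, 6, 16, 18, 10, 8, 6, 16, 0, 2, 4, 6, 8, 10, 12, 14] (.cons [2, 4, 6, 14, 8, 6, 4, 14, 10, 12, 8, 10, 6, 8, 2, 4, 6, 14, 16, 14, 10, 6, 8, 4, 6, 14, 0, 2,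 4, 6, 8, 10, 12] .nil .nil) (.cons [18, 16, 6, 8, 4, 6, 16, 18, 10, 8, 6, 16, 0, 2, 4, 6, 8, 10, 12, 14] (.cons [14, 4, 6, 8, 2, 4, 6, 14, 16, 4, 6, 8, 2, 4, 6, 14, 0, 2, 4, 6, 8, 10, 12] (.cons [14, 4, 0, 2, 8, 10] .nil .nil) .nil) (.cons [6, 16, 12, 14, 10, 12, 8, 10, 6, 8, 4, 6, 16, 2, 4, 6, 8, 10, 12, 14] (.cons [6, 8, 0, 2, 4, 6, 14, 16, 12, 8, 10, 6, 8, 4, 6, 14, 0, 2, 4, 6, 8, 10, 12] (.cons [6, 8, 0, 2, 4, 6, 12, 8, 6, 2, 4, 8, 10, 0, 2, 4, 6, 12, 14] .nil .nil) .nil) (.cons [4, 6, 16, 14, 10, 12, 8, 10, 6, 8, 4, 6, 16, 2, 4, 6, 8, 10, 12, 14] (.cons [14, 8, 10, 4, 6, 8, 2, 4, 6, 14, 16, 14, 12, 8, 10, 6, 8, 2, 4, 6, 14, 0, 2, 4, 6, 8, 10, 12] (.cons [2, 4, 6, 12, 2, 8, 10, 6, 4, 0, 2, 4, 12, 14] .nil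 .nil) .nil) (.cons [8, 6, 16, 14, 10, 12, 8, 10, 6, 8, 4, 6, 16, 2, 4, 6, 8, 10, 12, 14] (.cons [14, 10, 6, 8, 2, 4, 6, 14, 16, 14, 12, 8, 10, 4, 6, 8, 2, 4, 6, 14, 0, 2, 4, 6, 8, 10, 12] (.cons [0, 2, 4, 6, 12, 14, 2, 12, 6, 8, 10, 4, 8, 6, 4, 2] (.cons [1, 1, 1, 3, 3] .nil .nil) .nil) .nil) (.cons [18, 6, 16, 14, 10, 12, 8, 10, 6, 8, 4, 6, 16, 2, 4, 6, 8, 10, 12, 14] (.cons [14, 16, 6, 14, 8, 10, 4, 6, 8, 2, 4, 6, 14, 16, 14, 12, 10, 6, 8, 2, 4, 6, 14, 0, 2, 4, 6, 8, 10, 12] (.cons [8, 12, 6, 8, 4, 6, 12, 10, 0, 2, 14, 12] .nil .nil) .nil) (.cons [2, 4, 6, 16, 10, 12, 8, 10, 6, 8, 4, 6, 16, 2, 4, 6, 8, 10, 12, 14] (.cons [16, 8, 6, 14, 10, 12, 8, 10, 6, 8, 2, 4, 6, 14, 16, 8, 10, 4, 6, 8, 2, 4, 6, 14, 0, 2,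 4, 6, 8, 10, 12] .nil .nil) (.cons [8, 4, 6, 16, 10, 12, 8, 10, 6, 8, 4, 6, 16, 2, 4, 6, 8, 10, 12, 14] (.cons [8, 6, 10, 12, 10, 8, 2, 4, 6, 14, 8, 10, 4, 6, 8, 2, 4, 6, 14, 16, 12, 10, 8, 2, 4, 6, 14, 0, 2, 4, 6, 8, 10, 12] (.cons [0, 2, 6, 8, 4, 6, 12, 14, 10, 2, 4, 6, 8, 10, 12, 6, 4, 2] .nil .nil) .nil) (.cons [18, 4, 6, 16, 10, 12, 8, 10, 6, 8, 4, 6, 16, 2, 4, 6, 8, 10, 12, 14] (.cons [2, 4, 6, 8, 0, 2, 4, 6, 14, 16, 4, 6, 8, 10, 14, 6, 8, 4, 6, 14, 10, 12, 8, 10, 6, 8, 0, 2, 4, 6, 14, 16, 12, 10, 8, 2, 4, 6, 14, 0, 2, 4, 6, 8, 10, 12] (.cons [10, 8, 6, 12, 6, 8, 14, 10, 8, 6, 4, 2, 12, 6, 4] .nil .nil) .nil) (.cons [18, 8, 6, 16, 10, 12, 8, 10, 6, 8, 4, 6, 16, 2, 4, 6, 8, 10, 12, 14] (.cons [16, 4, 6,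 14, 8, 10, 4, 6, 8, 2, 4, 6, 14, 16, 8, 10, 6, 8, 2, 4, 6, 14, 0, 2, 4, 6, 8, 10, 12] .nil .nil) (.cons [16, 18, 6, 16, 10, 12, 8, 10, 6, 8, 4, 6, 16, 2, 4, 6, 8, 10, 12, 14] .nil (.cons [6, 16, 18, 16, 10, 12, 8, 10, 6, 8, 4, 6, 16, 2, 4, 6, 8, 10, 12, 14] (.cons [8, 0, 2, 4, 6, 14, 16, 10, 8, 6, 14, 10, 12, 8, 10, 4, 6, 8, 2, 4, 6, 14, 16, 12, 10, 4, 6, 8, 2, 4, 6, 14, 0, 2, 4, 6, 8, 10, 12] (.cons [2, 4, 6, 12, 6, 8, 10, 14, 12, 6, 4, 2, 8, 6] .nil .nil) .nil) (.cons [4, 6, 16, 18, 10, 12, 8, 10, 6, 8, 4, 6, 16, 2, 4, 6, 8, 10, 12, 14] (.cons [16, 10, 8, 6, 14, 10, 12, 6, 8, 10, 4, 6, 8, 2, 4, 6, 14, 16, 10, 4, 6, 8, 2, 4, 6, 14, 0, 2, 4, 6, 8, 10, 12] (.cons [14, 4, 2, 8, 4, 12, 6, 8, 4, 2, 10, 8] .nil .nil)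 .nil) (.cons [18, 4, 6, 16, 14, 12, 8, 10, 6, 8, 4, 6, 16, 2, 4, 6, 8, 10, 12, 14] (.cons [16, 10, 8, 6, 14, 10, 4, 6, 8, 2, 4, 6, 14, 16, 12, 10, 8, 2, 4, 6, 14, 0, 2, 4, 6, 8, 10, 12] .nil .nil) (.cons [6, 16, 18, 16, 14, 12, 8, 10, 6, 8, 4, 6, 16, 2, 4, 6, 8, 10, 12, 14] .nil (.cons [6, 16, 18, 6, 16, 12, 8, 10, 6, 8, 4, 6, 16, 2, 4, 6, 8, 10, 12, 14] (.cons [14, 16, 6, 4, 2, 14, 6, 4, 16, 6, 14, 12, 8, 10, 6, 8, 4, 6, 14, 16, 2, 4, 6, 14, 0, 2, 4, 6, 8, 10, 12] (.cons [6, 4, 2, 12, 14, 6, 4] .nil .nil) .nil) (.cons [8, 6, 16, 18, 16, 12, 8, 10, 6, 8, 4, 6, 16, 2, 4, 6, 8, 10, 12, 14] (.cons [16, 4, 6, 14, 12, 6, 8, 10, 4, 6, 8, 2, 4, 6, 14, 16, 14, 12, 10, 6, 8, 2, 4, 6, 14, 0, 2, 4, 6, 8, 10, 12] (.cons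 [8, 4, 6, 12, 10, 6, 8, 4, 6, 4, 2, 8, 10, 12, 14] .nil .nil) .nil) (.cons [8, 4, 6, 16, 18, 12, 8, 10, 6, 8, 4, 6, 16, 2, 4, 6, 8, 10, 12, 14] (.cons [6, 14, 12, 10, 4, 6, 8, 0, 2, 4, 6, 14, 16, 12, 8, 10, 4, 6, 8, 2, 4, 6, 14, 0, 2, 4, 6, 8, 10, 12] .nil .nil) (.cons [10, 8, 6, 16, 18, 12, 8, 10, 6, 8, 4, 6, 16, 2, 4, 6, 8, 10, 12, 14] .nil (.cons [8, 6, 16, 18, 6, 16, 8, 10, 6, 8, 4, 6, 16, 2, 4, 6, 8, 10, 12, 14] (.cons [8, 6, 14, 16, 4, 6, 14, 8, 10, 6, 8, 2, 4, 6, 14, 16, 8, 10, 4, 6, 8, 2, 4, 6, 14, 0, 2, 4, 6, 8, 10, 12] (.cons [10, 6, 12, 14, 4, 6] .nil .nil) .nil) (.cons [8, 4, 6, 16, 18, 16, 8, 10, 6, 8, 4, 6, 16, 2, 4, 6, 8, 10, 12, 14] (.cons [16, 8, 6, 14, 12, 10, 4, 6, 8, 2, 4, 6, 14, 16, 14,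 10, 4, 6, 8, 2, 4, 6, 14, 0, 2, 4, 6, 8, 10, 12] .nil .nil) (.cons [10, 8, 6, 16, 18, 16, 8, 10, 6, 8, 4, 6, 16, 2, 4, 6, 8, 10, 12, 14] (.cons [0, 2, 6, 4, 8, 10, 6, 8, 14, 6, 4, 2, 16, 6, 8, 4, 6, 14, 10, 12, 8, 10, 6, 8, 4, 6, 14, 16, 14, 10, 6, 8, 2, 4, 6, 14, 0, 2, 4, 6, 8, 10, 12] (.cons [6, 4, 12, 8, 6, 12, 14, 4, 6, 0, 2] .nil .nil) .nil) (.cons [6, 8, 4, 6, 16, 18, 8, 10, 6, 8, 4, 6, 16, 2, 4, 6, 8, 10, 12, 14] (.cons [10, 8, 2, 4, 14, 6, 16, 14, 10, 12, 6, 8, 10, 4, 6, 8, 2, 4, 6, 14, 16, 12, 10, 8, 2, 4, 6, 14, 0, 2, 4, 6, 8, 10, 12] (.cons [12, 8, 10, 0, 6, 4, 2, 4, 12, 14, 8] (.cons [3, 0, 0, 2] .nil .nil) .nil) .nil) (.cons [4, 6, 16, 18, 16, 14, 12, 10, 6, 8, 4, 6, 16, 2, 4, 6, 8, 10, 12, 14]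 (.cons [8, 2, 4, 6, 14, 6, 8, 10, 4, 6, 8, 2, 4, 6, 14, 16, 12, 10, 6, 8, 2, 4, 6, 14, 0, 2, 4, 6, 8, 10, 12] (.cons [12, 8, 6, 4, 2, 10, 12, 14, 8] .nil .nil) .nil) (.cons [2, 4, 6, 16, 18, 14, 12, 10, 6, 8, 4, 6, 16, 2, 4, 6, 8, 10, 12, 14] (.cons [16, 6, 14, 8, 10, 6, 8, 4, 6, 14, 16, 12, 8, 10, 4, 6, 8, 2, 4, 6, 14, 0, 2, 4, 6, 8, 10, 12] .nil .nil) (.cons [8, 4, 6, 16, 18, 16, 12, 10, 6, 8, 4, 6, 16, 2, 4, 6, 8, 10, 12, 14] (.cons [10, 12, 8, 10, 4, 6, 8, 2, 4, 6, 14, 16, 6, 8, 4, 6, 14, 0, 2, 4, 6, 8, 10, 12] (.cons [4, 6, 12, 14, 12, 4, 6, 8, 10, 12, 6, 4, 2, 4] .nil .nil) .nil) (.cons [0, 2, 4, 6, 16, 18, 12, 10, 6, 8, 4, 6, 16, 2, 4, 6, 8, 10, 12, 14] .nil (.cons [8, 2, 4, 6, 16, 18, 12, 10, 6, 8, 4,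 6, 16, 2, 4, 6, 8, 10, 12, 14] .nil (.cons [12, 10, 8, 6, 16, 18, 12, 10, 6, 8, 4, 6, 16, 2, 4, 6, 8, 10, 12, 14] (.cons [10, 8, 6, 14, 16, 8, 4, 6, 14, 10, 12, 8, 10, 4, 6, 8, 2, 4, 6, 14, 16, 12, 10, 4, 6, 8, 2, 4, 6, 14, 0, 2, 4, 6, 8, 10, 12] (.cons [10, 6, 8, 12, 6, 4, 6, 12, 8, 10, 0, 2, 4, 6, 12, 14] .nil .nil) .nil) (.cons [0, 2, 4, 6, 16, 18, 16, 10, 6, 8, 4, 6, 16, 2, 4, 6, 8, 10, 12, 14] (.cons [6, 8, 14, 6, 4, 8, 6, 14, 10, 12, 8, 10, 6, 8, 4, 6, 14, 16, 2, 4, 6, 14, 0, 2, 4, 6, 8, 10, 12] (.cons [6, 12, 14, 6, 4, 10, 8, 6, 4, 0, 2, 4, 6, 8, 10] (.cons [1, 2, 0, 5, 0] .nil .nil) .nil) .nil) (.cons [6, 8, 4, 6, 16, 18, 16, 10, 6, 8, 4, 6, 16, 2, 4, 6, 8, 10, 12, 14] (.cons [8, 4, 6, 14, 16, 14, 12,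 10, 6, 8, 4, 6, 14, 10, 12, 6, 8, 10, 4, 6, 8, 2, 4, 6, 14, 16, 10, 6, 8, 2, 4, 6, 14, 0, 2, 4, 6, 8, 10, 12] (.cons [0, 2, 4, 12, 6, 8, 10, 14, 12, 8, 6, 12, 14, 4, 6, 0, 2] (.cons [1, 2, 5, 3, 1, 2] .nil .nil) .nil) .nil) (.cons [10, 8, 4, 6, 16, 18, 16, 10, 6, 8, 4, 6, 16, 2, 4, 6, 8, 10, 12, 14] (.cons [8, 4, 6, 14, 10, 8, 6, 4, 2, 0, 14, 12, 8, 10, 6, 8, 4, 6, 14, 16, 12, 8, 10, 6, 8, 4, 6, 14, 2, 4, 6, 8, 10, 12] (.cons [8, 2, 10, 8, 6, 4, 2, 12, 6, 4] .nil .nil) .nil) (.cons [12, 10, 8, 6, 16, 18, 16, 10, 6, 8, 4, 6, 16, 2, 4, 6, 8, 10, 12, 14] (.cons [8, 0, 2, 4, 6, 14, 16, 14, 12, 10, 6, 8, 4, 6, 14, 2, 4, 6, 8, 10, 12] (.cons [14, 6, 4, 12, 6, 2, 8, 10, 4, 6, 0, 2] .nil .nil) .nil) (.cons [8, 0, 2,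 4, 6, 16, 18, 10, 6, 8, 4, 6, 16, 2, 4, 6, 8, 10, 12, 14] (.cons [8, 6, 14, 16, 14, 6, 8, 2, 4, 6, 14, 10, 12, 6, 8, 10, 4, 6, 8, 2, 4, 6, 14, 16, 12, 10, 6, 8, 2, 4, 6, 14, 0, 2, 4, 6, 8, 10, 12] .nil .nil) (.cons [6, 8, 2, 4, 6, 16, 18, 10, 6, 8, 4, 6, 16, 2, 4, 6, 8, 10, 12, 14] (.cons [14, 10, 12, 8, 10, 6, 8, 0, 2, 4, 6, 14, 16, 12, 8, 10, 4, 6, 8, 2, 4, 6, 14, 0, 2, 4, 6, 8, 10, 12] (.cons [12, 8, 6, 4, 2, 12, 14, 8] .nil .nil) .nil) (.cons [10, 8, 2, 4, 6, 16, 18, 10, 6, 8, 4, 6, 16, 2, 4, 6, 8, 10, 12, 14] (.cons [10, 12, 8, 10, 6, 8, 0, 2, 4, 6, 14, 16, 10, 6, 8, 4, 6, 14, 2, 4, 6, 8, 10, 12] (.cons [12, 14, 8, 6, 4, 0, 2, 8, 4, 6, 10] (.cons [2, 5, 1] .nil .nil) .nil) .nil) (.cons [10, 6, 8, 4, 6,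 16, 18, 10, 6, 8, 4, 6, 16, 2, 4, 6, 8, 10, 12, 14] (.cons [8, 2, 4, 6, 14, 10, 12, 8, 10, 6, 8, 0, 2, 4, 6, 14, 16, 8, 2, 4, 6, 14, 0, 2, 4, 6, 8, 10, 12] (.cons [6, 8, 0, 2, 4, 12, 6, 8, 4, 14, 12, 6, 4, 2, 4, 8, 10, 12, 14] .nil .nil) .nil) (.cons [12, 10, 8, 4, 6, 16, 18, 10, 6, 8, 4, 6, 16, 2, 4, 6, 8, 10, 12, 14] .nil (.cons [8, 0, 2, 4, 6, 16, 18, 16, 6, 8, 4, 6, 16, 2, 4, 6, 8, 10, 12, 14] (.cons [8, 6, 14, 16, 4, 6, 14, 10, 12, 8, 10, 4, 6, 8, 2, 4, 6, 14, 16, 12, 10, 4, 6, 8, 2, 4, 6, 14, 0, 2, 4, 6, 8, 10, 12] (.cons [8, 6, 12, 14, 4, 6, 2, 4, 6, 0, 2, 8, 10] .nil .nil) .nil) (.cons [10, 8, 2, 4, 6, 16, 18, 16, 6, 8, 4, 6, 16, 2, 4, 6, 8, 10, 12, 14] .nil (.cons [10, 6, 8, 4, 6, 16, 18, 16, 6, 8,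 4, 6, 16, 2, 4, 6, 8, 10, 12, 14] (.cons [14, 16, 6, 14, 16, 8, 6, 4, 2, 14, 10, 12, 8, 10, 6, 8, 4, 6, 14, 16, 10, 6, 8, 4, 6, 14, 0, 2, 4, 6, 8, 10, 12] (.cons [12, 0, 2, 4, 6, 4, 2, 8, 10, 12, 14] .nil .nil) .nil) (.cons [16, 6, 8, 4, 6, 16, 18, 16, 6, 8, 4, 6, 16, 2, 4, 6, 8, 10, 12, 14] .nil (.cons [12, 10, 8, 4, 6, 16, 18, 16, 6, 8, 4, 6, 16, 2, 4, 6, 8, 10, 12, 14] (.cons [0, 2, 4, 6, 8, 16, 14, 6, 4, 6, 14, 16, 12, 10, 8, 6, 14, 10, 12, 8, 10, 4, 6, 8, 2, 4, 6, 14, 16, 10, 8, 2, 4, 6, 14, 0, 2, 4, 6, 8, 10, 12] (.cons [8, 2, 6, 4, 6, 12, 14, 8, 6, 10] .nil .nil) .nil) (.cons [14, 12, 10, 8, 6, 16, 18, 16, 6, 8, 4, 6, 16, 2, 4, 6, 8, 10, 12, 14] (.cons [2, 4, 6, 14, 16, 8, 6, 10, 8, 0, 2, 4, 6, 14, 12,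 8, 10, 4, 6, 8, 2, 4, 6, 14, 16, 12, 10, 8, 2, 4, 6, 14, 0, 2, 4, 6, 8, 10, 12] (.cons [12, 14, 10, 8, 6, 4, 2, 12, 6, 4] .nil .nil) .nil) (.cons [6, 8, 0, 2, 4, 6, 16, 18, 6, 8, 4, 6, 16, 2, 4, 6, 8, 10, 12, 14] (.cons [8, 6, 14, 16, 8, 10, 6, 4, 2, 6, 14, 16, 8, 6, 14, 10, 12, 8, 10, 6, 8, 4, 6, 14, 16, 8, 2, 4, 6, 14, 0, 2, 4, 6, 8, 10, 12] (.cons [8, 6, 12, 14, 2, 4, 6, 8, 10, 12, 6, 4, 2, 4] .nil .nil) .nil) (.cons [10, 8, 0, 2, 4, 6, 16, 18, 6, 8, 4, 6, 16, 2, 4, 6, 8, 10, 12, 14] .nil (.cons [4, 6, 8, 2, 4, 6, 16, 18, 6, 8, 4, 6, 16, 2, 4, 6, 8, 10, 12, 14] (.cons [10, 12, 8, 10, 6, 8, 4, 6, 14, 16, 6, 14, 12, 8, 10, 6, 8, 2, 4, 6, 14, 0, 2, 4, 6, 8, 10, 12] (.cons [4, 6, 12, 6, 8, 4, 6, 4, 0, 2, 8, 10,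 12, 14] .nil .nil) .nil) (.cons [10, 6, 8, 2, 4, 6, 16, 18, 6, 8, 4, 6, 16, 2, 4, 6, 8, 10, 12, 14] (.cons [2, 4, 6, 14, 16, 14, 10, 6, 8, 4, 6, 14, 10, 12, 6, 8, 10, 4, 6, 8, 2, 4, 6, 14, 16, 10, 6, 8, 2, 4, 6, 14, 0, 2, 4, 6, 8, 10, 12] (.cons [8, 6, 4, 12, 14, 12, 6, 4] .nil .nil) .nil) (.cons [8, 10, 6, 8, 4, 6, 16, 18, 6, 8, 4, 6, 16, 2, 4, 6, 8, 10, 12, 14] .nil (.cons [12, 10, 6, 8, 4, 6, 16, 18, 6, 8, 4, 6, 16, 2, 4, 6, 8, 10, 12, 14] (.cons [16, 8, 6, 14, 12, 10, 4, 6, 8, 2, 4, 6, 14, 16, 12, 8, 10, 6, 8, 2, 4, 6, 14, 0, 2, 4, 6, 8, 10, 12] (.cons [8, 2, 4, 6, 12, 10, 8, 6, 4, 2, 6, 8, 10, 12, 14, 6, 4] .nil .nil) .nil) (.cons [0, 2, 4, 6, 16, 18, 14, 12, 10, 8, 4, 6, 16, 2, 4, 6, 8, 10, 12, 14] .nil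 (.cons [8, 2, 4, 6, 16, 18, 14, 12, 10, 8, 4, 6, 16, 2, 4, 6, 8, 10, 12, 14] (.cons [4, 6, 14, 8, 10, 6, 8, 4, 6, 14, 16, 12, 10, 8, 2, 4, 6, 14, 0, 2, 4, 6, 8, 10, 12] .nil .nil) (.cons [12, 10, 8, 6, 16, 18, 14, 12, 10, 8, 4, 6, 16, 2, 4, 6, 8, 10, 12, 14] (.cons [12, 8, 10, 4, 6, 8, 2, 4, 6, 14, 16, 12, 6, 8, 10, 4, 6, 8, 2, 4, 6, 14, 0, 2, 4, 6, 8, 10, 12] (.cons [6, 12, 14, 6, 8, 10, 12, 6, 4, 6, 2] (.cons [5, 3, 5, 3] .nil .nil) .nil) .nil) (.cons [8, 0, 2, 4, 6, 16, 18, 12, 10, 8, 4, 6, 16, 2, 4, 6, 8, 10, 12, 14] .nil (.cons [6, 8, 2, 4, 6, 16, 18, 12, 10, 8, 4, 6, 16, 2, 4, 6, 8, 10, 12, 14] (.cons [2, 4, 6, 14, 16, 10, 8, 4, 6, 14, 12, 10, 8, 6, 4, 2, 0, 14, 10, 12, 8, 10, 6, 8, 4, 6, 14, 16, 8, 10,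 6, 8, 4, 6, 14, 2, 4, 6, 8, 10, 12] (.cons [4, 6, 12, 14, 2, 0, 12, 4, 2, 6, 8, 10, 8, 12] .nil .nil) .nil) (.cons [10, 6, 8, 4, 6, 16, 18, 12, 10, 8, 4, 6, 16, 2, 4, 6, 8, 10, 12, 14] .nil (.cons [16, 6, 8, 4, 6, 16, 18, 12, 10, 8, 4, 6, 16, 2, 4, 6, 8, 10, 12, 14] (.cons [14, 6, 8, 0, 2, 4, 6, 14, 16, 10, 8, 2, 4, 6, 14, 10, 12, 6, 8, 10, 4, 6, 8, 2, 4, 6, 14, 16, 10, 6, 8, 2, 4, 6, 14, 0, 2, 4, 6, 8, 10, 12] (.cons [14, 12, 4, 6, 8, 2, 4, 6, 12, 14, 10, 8, 12, 6, 4, 2, 8, 6, 10, 4] (.cons [1, 1, 5, 2, 5] .nil .nil) .nil) .nil) (.cons [12, 10, 8, 4, 6, 16, 18, 12, 10, 8, 4, 6, 16, 2, 4, 6, 8, 10, 12, 14] (.cons [16, 8, 6, 14, 10, 4, 6, 8, 0, 2, 4, 6, 14, 16, 6, 14, 10, 4, 6, 8, 2, 4, 6, 14, 0, 2, 4, 6, 8,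 10, 12] (.cons [14, 12, 6, 4, 2, 12, 14, 6, 8, 4, 6, 10] (.cons [2, 1, 4, 1, 4] .nil .nil) .nil) .nil) (.cons [14, 12, 10, 8, 6, 16, 18, 12, 10, 8, 4, 6, 16, 2, 4, 6, 8, 10, 12, 14] (.cons [6, 14, 16, 2, 4, 6, 14, 8, 10, 12, 6, 8, 10, 4, 6, 8, 0, 2, 4, 6, 14, 16, 6, 8, 4, 6, 14, 0, 2, 4, 6, 8, 10, 12] (.cons [4, 6, 8, 2, 4, 6, 12, 14, 10, 6, 8, 10, 12, 6, 4, 2, 4] .nil .nil) .nil) (.cons [6, 8, 0, 2, 4, 6, 16, 18, 10, 8, 4, 6, 16, 2, 4, 6, 8, 10, 12, 14] (.cons [8, 4, 6, 14, 16, 8, 4, 6, 14, 10, 12, 8, 10, 4, 6, 8, 2, 4, 6, 14, 16, 12, 10, 4, 6, 8, 2, 4, 6, 14, 0, 2, 4, 6, 8, 10, 12] .nil .nil) (.cons [10, 8, 0, 2, 4, 6, 16, 18, 10, 8, 4, 6, 16, 2, 4, 6, 8, 10, 12, 14] (.cons [8, 0, 2, 4, 6, 14, 16, 10, 8, 6,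 4, 2, 6, 8, 4, 6, 14, 10, 12, 8, 10, 6, 8, 4, 6, 14, 16, 12, 10, 4, 6, 8, 2, 4, 6, 14, 0, 2, 4, 6, 8, 10, 12] (.cons [4, 8, 6, 4, 10, 0, 2, 4, 6, 8, 10] .nil .nil) .nil) (.cons [10, 6, 8, 2, 4, 6, 16, 18, 10, 8, 4, 6, 16, 2, 4, 6, 8, 10, 12, 14] (.cons [8, 10, 6, 8, 4, 6, 14, 16, 12, 10, 6, 8, 4, 6, 14, 0, 2, 4, 6, 8, 10, 12] .nil .nil) (.cons [12, 10, 6, 8, 4, 6, 16, 18, 10, 8, 4, 6, 16, 2, 4, 6, 8, 10, 12, 14] (.cons [12, 10, 8, 2, 4, 6, 14, 16, 8, 4, 6, 14, 10, 12, 8, 10, 4, 6, 8, 2, 4, 6, 14, 16, 12, 10, 4, 6, 8, 2, 4, 6, 14, 0, 2, 4, 6, 8, 10, 12] (.cons [2, 4, 6, 12, 14, 6, 0, 2, 4, 6, 8, 10, 12, 6, 4, 2] .nil .nil) .nil) (.cons [16, 10, 6, 8, 4, 6, 16, 18, 10, 8, 4, 6, 16, 2, 4, 6, 8, 10, 12, 14] (.cons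 [10, 8, 6, 14, 4, 6, 8, 2, 4, 6, 14, 16, 10, 8, 4, 6, 14, 0, 2, 4, 6, 8, 10, 12] .nil .nil) (.cons [14, 12, 10, 8, 4, 6, 16, 18, 10, 8, 4, 6, 16, 2, 4, 6, 8, 10, 12, 14] (.cons [10, 6, 8, 2, 4, 6, 14, 16, 6, 8, 4, 6, 14, 8, 10, 12, 6, 8, 10, 4, 6, 8, 2, 4, 6, 14, 16, 12, 10, 4, 6, 8, 2, 4, 6, 14, 0, 2, 4, 6, 8, 10, 12] (.cons [12, 4, 6, 8, 2, 4, 6, 12, 10, 8, 6, 4, 2, 8, 10, 12, 14] .nil .nil) .nil) (.cons [14, 12, 10, 8, 2, 4, 6, 16, 18, 8, 4, 6, 16, 2, 4, 6, 8, 10, 12, 14] (.cons [6, 14, 16, 8, 4, 6, 14, 10, 12, 6, 8, 10, 4, 6, 8, 2, 4, 6, 14, 16, 14, 12, 10, 6, 8, 2, 4, 6, 14, 0, 2, 4, 6, 8, 10, 12] (.cons [4, 6, 12, 14, 2, 4, 6, 0, 2] .nil .nil) .nil) (.cons [10, 8, 2, 4, 6, 16, 18, 14, 12, 10, 8, 6, 16,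 2, 4, 6, 8, 10, 12, 14] .nil (.cons [10, 6, 8, 4, 6, 16, 18, 14, 12, 10, 8, 6, 16, 2, 4, 6, 8, 10, 12, 14] (.cons [6, 8, 2, 4, 6, 14, 16, 12, 10, 6, 8, 2, 4, 6, 14, 0, 2, 4, 6, 8, 10, 12] (.cons [8, 4, 2, 12, 14, 12, 6, 8, 4, 6, 10] .nil .nil) .nil) (.cons [16, 6, 8, 4, 6, 16, 18, 14, 12, 10, 8, 6, 16, 2, 4, 6, 8, 10, 12, 14] (.cons [0, 2, 4, 6, 14, 16, 14, 12, 10, 6, 8, 4, 6, 14, 0, 2, 4, 6, 8, 10, 12] (.cons [2, 14, 8, 10, 6, 4, 2, 12, 6, 4] .nil .nil) .nil) (.cons [12, 10, 8, 4, 6, 16, 18, 14, 12, 10, 8, 6, 16, 2, 4, 6, 8, 10, 12, 14] (.cons [16, 6, 2, 4, 8, 10, 6, 14, 12, 8, 10, 6, 8, 4, 6, 14, 16, 14, 12, 8, 10, 6, 8, 2, 4, 6, 14, 0, 2, 4, 6, 8, 10, 12] (.cons [14, 8, 6, 8] .nil .nil) .nil) (.cons [6, 8,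 0, 2, 4, 6, 16, 18, 12, 10, 8, 6, 16, 2, 4, 6, 8, 10, 12, 14] (.cons [8, 6, 14, 16, 8, 4, 6, 14, 8, 10, 12, 6, 8, 10, 4, 6, 8, 2, 4, 6, 14, 16, 8, 10, 6, 8, 2, 4, 6, 14, 0, 2, 4, 6, 8, 10, 12] (.cons [14, 0, 6, 4, 12, 6, 8, 2, 10, 4, 0, 2, 8, 6] .nil .nil) .nil) (.cons [10, 8, 0, 2, 4, 6, 16, 18, 12, 10, 8, 6, 16, 2, 4, 6, 8, 10, 12, 14] (.cons [14, 16, 10, 8, 6, 14, 12, 10, 4, 6, 8, 2, 4, 6, 14, 16, 10, 4, 6, 8, 2, 4, 6, 14, 0, 2, 4, 6, 8, 10, 12] (.cons [8, 10, 12, 6, 8, 4, 10, 6, 12, 14, 4, 8, 6, 4, 2] .nil .nil) .nil) (.cons [10, 6, 8, 2, 4, 6, 16, 18, 12, 10, 8, 6, 16, 2, 4, 6, 8, 10, 12, 14] (.cons [14, 16, 6, 14, 10, 8, 6, 4, 2, 0, 4, 10, 14, 12, 8, 10, 6, 8, 4, 6, 14, 16, 12, 10, 6, 8, 4, 6, 14, 2, 4,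 6, 8, 10, 12] (.cons [8, 4, 6, 12, 14, 8, 4, 2, 0, 4, 12, 6, 4, 2, 8, 10] .nil .nil) .nil) (.cons [8, 10, 6, 8, 4, 6, 16, 18, 12, 10, 8, 6, 16, 2, 4, 6, 8, 10, 12, 14] (.cons [8, 6, 14, 10, 8, 16, 6, 4, 2, 0, 4, 10, 14, 12, 8, 10, 6, 8, 4, 6, 14, 16, 12, 10, 6, 8, 4, 6, 14, 2, 4, 6, 8, 10, 12] (.cons [14, 12, 6, 8, 4, 0, 2, 6, 12, 14, 8, 6, 10] .nil .nil) .nil) (.cons [16, 10, 6, 8, 4, 6, 16, 18, 12, 10, 8, 6, 16, 2, 4, 6, 8, 10, 12, 14] (.cons [4, 6, 14, 10, 12, 8, 10, 6, 8, 4, 6, 14, 16, 10, 12, 8, 10, 6, 8, 2, 4, 6, 14, 0, 2, 4, 6, 8, 10, 12] (.cons [14, 6, 12, 8, 6, 4, 6, 8, 10, 12, 8, 6, 12, 14, 4, 6, 0, 2] .nil .nil) .nil) (.cons [10, 8, 0, 2, 4, 6, 16, 18, 14, 12, 10, 8, 6, 16, 4, 6, 8, 10, 12, 14] (.cons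 [16, 14, 2, 4, 6, 8, 0, 2, 4, 6, 14, 16, 14, 12, 10, 4, 6, 8, 2, 4, 6, 14, 0, 2, 4, 6, 8, 10, 12] (.cons [2, 4, 8, 0, 2, 6, 4, 6, 12, 14, 8, 6, 10] .nil .nil) .nil) (.cons [10, 6, 8, 2, 4, 6, 16, 18, 14, 12, 10, 8, 6, 16, 4, 6, 8, 10, 12, 14] (.cons [4, 6, 14, 8, 10, 6, 8, 2, 4, 6, 14, 16, 14, 12, 10, 4, 6, 8, 2, 4, 6, 14, 0, 2, 4, 6, 8, 10, 12] (.cons [6, 8, 10, 4, 2, 6, 4, 12, 14, 6, 4] (.cons [3, 4, 4, 2] .nil .nil) .nil) .nil) (.cons [12, 10, 8, 2, 4, 6, 16, 18, 14, 12, 10, 8, 6, 16, 4, 6, 8, 10, 12, 14] (.cons [4, 6, 14, 16, 6, 8, 4, 6, 14, 8, 10, 12, 6, 8, 10, 4, 6, 8, 0, 2, 4, 6, 14, 16, 12, 10, 4, 6, 8, 2, 4, 6, 14, 0, 2, 4, 6, 8, 10, 12] (.cons [12, 0, 2, 4, 6, 4, 8, 10, 12, 14] .nil .nil) .nil) (.cons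 [8, 10, 6, 8, 4, 6, 16, 18, 14, 12, 10, 8, 6, 16, 4, 6, 8, 10, 12, 14] (.cons [2, 4, 6, 14, 8, 10, 6, 8, 2, 4, 6, 14, 16, 14, 12, 10, 6, 8, 2, 4, 6, 14, 0, 2, 4, 6, 8, 10, 12] (.cons [2, 4, 6, 8, 4, 0, 2, 4, 10, 8] .nil .nil) .nil) (.cons [12, 10, 6, 8, 4, 6, 16, 18, 14, 12, 10, 8, 6, 16, 4, 6, 8, 10, 12, 14] .nil (.cons [16, 10, 6, 8, 4, 6, 16, 18, 14, 12, 10, 8, 6, 16, 4, 6, 8, 10, 12, 14] .nil (.cons [10, 6, 8, 0, 2, 4, 6, 16, 18, 12, 10, 8, 6, 16, 4, 6, 8, 10, 12, 14] (.cons [14, 6, 8, 4, 6, 14, 10, 12, 8, 10, 6, 8, 2, 4, 6, 14, 16, 8, 10, 4, 6, 8, 2, 4, 6, 14, 0, 2, 4, 6, 8, 10, 12] (.cons [6, 8, 10, 2, 4, 0, 2, 12, 14, 6, 4] .nil .nil) .nil) (.cons [8, 10, 6, 8, 2, 4, 6, 16, 18, 12, 10, 8, 6, 16, 4, 6,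 8, 10, 12, 14] .nil (.cons [16, 8, 10, 6, 8, 4, 6, 16, 18, 12, 10, 8, 6, 16, 4, 6, 8, 10, 12, 14] (.cons [8, 4, 6, 14, 10, 2, 4, 6, 8, 0, 2, 4, 6, 14, 16, 12, 8, 10, 4, 6, 8, 2, 4, 6, 14, 0, 2, 4, 6, 8, 10, 12] (.cons [12, 14, 8, 4, 6, 4, 2, 8, 6, 10, 4] .nil .nil) .nil) (.cons [8, 10, 12, 6, 8, 10, 4, 6, 8, 2, 4, 6, 16, 0, 2, 4, 6, 8, 10, 12, 14] .nil (.cons [14, 10, 12, 6, 8, 10, 4, 6, 8, 2, 4, 6, 16, 0, 2, 4, 6, 8, 10, 12, 14] (.cons [14, 4, 6, 8, 2, 4, 6, 14, 16, 14, 12, 10, 6, 8, 4, 6, 14, 0, 2, 4, 6, 8, 10, 12] (.cons [6, 8, 2, 4, 6, 10, 8, 14, 12, 6, 4, 8, 10, 0, 2, 12, 14, 6, 4] (.cons [3, 1, 1, 3] .nil .nil) .nil) .nil) (.cons [18, 14, 12, 6, 8, 10, 4, 6, 8, 2, 4, 6, 16, 0, 2, 4, 6, 8, 10, 12, 14] (.cons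 [16, 0, 2, 4, 6, 14, 8, 10, 6, 8, 2, 4, 6, 14, 16, 12, 10, 6, 8, 2, 4, 6, 14, 0, 2, 4, 6, 8, 10, 12] (.cons [8, 6, 12, 14, 12, 6, 8, 4, 6, 10] .nil .nil) .nil) (.cons [16, 18, 12, 6, 8, 10, 4, 6, 8, 2, 4, 6, 16, 0, 2, 4, 6, 8, 10, 12, 14] (.cons [10, 8, 0, 2, 4, 6, 14, 16, 10, 8, 2, 4, 6, 14, 10, 12, 8, 10, 4, 6, 8, 2, 4, 6, 14, 16, 12, 10, 4, 6, 8, 2, 4, 6, 14, 0, 2, 4, 6, 8, 10, 12] (.cons [6, 12, 14, 8, 4, 6, 12, 6, 14, 8, 10, 6, 4, 2, 12, 6, 4] .nil .nil) .nil) (.cons [6, 16, 18, 6, 8, 10, 4, 6, 8, 2, 4, 6, 16, 0, 2, 4, 6, 8, 10, 12, 14] (.cons [16, 2, 4, 6, 14, 10, 12, 8, 10, 6, 8, 2, 4, 6, 14, 16, 8, 10, 4, 6, 8, 2, 4, 6, 14, 0, 2, 4, 6, 8, 10, 12] (.cons [8, 2, 4, 6, 12, 14, 8, 4, 6, 4, 2, 8, 6, 10, 4]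 .nil .nil) .nil) (.cons [16, 14, 10, 12, 8, 10, 4, 6, 8, 2, 4, 6, 16, 0, 2, 4, 6, 8, 10, 12, 14] .nil (.cons [18, 16, 10, 12, 8, 10, 4, 6, 8, 2, 4, 6, 16, 0, 2, 4, 6, 8, 10, 12, 14] (.cons [16, 8, 6, 14, 6, 4, 2, 8, 4, 6, 14, 10, 12, 8, 10, 6, 8, 4, 6, 14, 16, 8, 2, 4, 6, 14, 0, 2, 4, 6, 8, 10, 12] (.cons [14, 2, 4, 6, 0, 2] .nil .nil) .nil) (.cons [16, 18, 10, 12, 8, 10, 4, 6, 8, 2, 4, 6, 16, 0, 2, 4, 6, 8, 10, 12, 14] (.cons [12, 10, 8, 6, 4, 2, 0, 10, 12, 6, 14, 8, 10, 6, 8, 4, 6, 14, 16, 12, 8, 10, 6, 8, 4, 6, 14, 2, 4, 6, 8, 10, 12] (.cons [4, 6, 12, 14, 6, 2, 4, 10, 8, 6, 4, 0, 2, 4, 6, 8, 10] .nil .nil) .nil) (.cons [18, 16, 14, 12, 8, 10, 4, 6, 8, 2, 4, 6, 16, 0, 2, 4, 6, 8, 10, 12, 14] (.cons [6, 14,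 6, 8, 10, 4, 6, 8, 2, 4, 6, 14, 16, 14, 10, 12, 8, 10, 6, 8, 2, 4, 6, 14, 0, 2, 4, 6, 8, 10, 12] .nil .nil) (.cons [16, 18, 14, 12, 8, 10, 4, 6, 8, 2, 4, 6, 16, 0, 2, 4, 6, 8, 10, 12, 14] .nil (.cons [16, 18, 16, 12, 8, 10, 4, 6, 8, 2, 4, 6, 16, 0, 2, 4, 6, 8, 10, 12, 14] (.cons [4, 6, 8, 0, 2, 4, 6, 14, 16, 10, 12, 8, 10, 6, 8, 4, 6, 14, 0, 2, 4, 6, 8, 10, 12] .nil .nil) (.cons [6, 16, 18, 12, 8, 10, 4, 6, 8, 2, 4, 6, 16, 0, 2, 4, 6, 8, 10, 12, 14] (.cons [8, 10, 12, 6, 8, 10, 4, 6, 8, 0, 2, 4, 6, 14, 16, 14, 6, 8, 4, 6, 14, 0, 2, 4, 6, 8, 10, 12] (.cons [8, 6, 12, 14, 8, 10, 6, 4, 6, 2] .nil .nil) .nil) (.cons [6, 16, 18, 16, 8, 10, 4, 6, 8, 2, 4, 6, 16, 0, 2, 4, 6, 8, 10, 12, 14] (.cons [16, 4, 6, 14, 6,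 8, 10, 4, 6, 8, 2, 4, 6, 14, 16, 12, 10, 6, 8, 2, 4, 6, 14, 0, 2, 4, 6, 8, 10, 12] (.cons [6, 12, 14, 4, 0, 2, 8, 4, 6, 10] .nil .nil) .nil) (.cons [18, 6, 16, 14, 12, 10, 4, 6, 8, 2, 4, 6, 16, 0, 2, 4, 6, 8, 10, 12, 14] (.cons [8, 6, 14, 16, 2, 4, 6, 14, 8, 10, 4, 6, 8, 0, 2, 4, 6, 14, 16, 12, 10, 4, 6, 8, 2, 4, 6, 14, 0, 2, 4, 6, 8, 10, 12] (.cons [10, 8, 6, 12, 14, 4, 2, 0, 6, 4, 2, 8, 6] .nil .nil) .nil) (.cons [16, 18, 16, 14, 12, 10, 4, 6, 8, 2, 4, 6, 16, 0, 2, 4, 6, 8, 10, 12, 14] (.cons [6, 8, 4, 6, 14, 16, 14, 12, 10, 6, 8, 4, 6, 14, 0, 2, 4, 6, 8, 10, 12] .nil .nil) (.cons [16, 18, 6, 16, 12, 10, 4, 6, 8, 2, 4, 6, 16, 0, 2, 4, 6, 8, 10, 12, 14] (.cons [6, 14, 8, 0, 6, 4, 2, 0, 10, 14, 12, 8, 10, 6,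 8, 4, 6, 14, 16, 12, 10, 6, 8, 4, 6, 14, 2, 4, 6, 8, 10, 12] (.cons [12, 2, 4, 6, 8, 2, 10, 12, 14, 8] .nil .nil) .nil) (.cons [4, 6, 16, 18, 12, 10, 4, 6, 8, 2, 4, 6, 16, 0, 2, 4, 6, 8, 10, 12, 14] .nil (.cons [8, 6, 16, 18, 12, 10, 4, 6, 8, 2, 4, 6, 16, 0, 2, 4, 6, 8, 10, 12, 14] (.cons [6, 14, 16, 4, 6, 14, 8, 10, 4, 6, 8, 2, 4, 6, 14, 16, 10, 4, 6, 8, 2, 4, 6, 14, 0, 2, 4, 6, 8, 10, 12] (.cons [2, 0, 12, 4, 6, 2, 4, 12, 6, 8, 10, 14, 12, 8, 6, 12, 14, 4, 6, 2] .nil .nil) .nil) (.cons [6, 16, 18, 6, 16, 10, 4, 6, 8, 2, 4, 6, 16, 0, 2, 4, 6, 8, 10, 12, 14] (.cons [6, 14, 16, 8, 4, 10, 0, 2, 4, 6, 14, 12, 8, 10, 6, 8, 4, 6, 14, 16, 14, 12, 10, 6, 8, 2, 4, 6, 14, 0, 2, 4, 6, 8, 10, 12] .nil .nil) (.cons [4,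 6, 16, 18, 16, 10, 4, 6, 8, 2, 4, 6, 16, 0, 2, 4, 6, 8, 10, 12, 14] (.cons [8, 10, 6, 8, 0, 2, 4, 6, 14, 16, 10, 8, 2, 4, 6, 14, 0, 2, 4, 6, 8, 10, 12] .nil .nil) (.cons [8, 6, 16, 18, 16, 10, 4, 6, 8, 2, 4, 6, 16, 0, 2, 4, 6, 8, 10, 12, 14] (.cons [2, 4, 6, 14, 16, 14, 6, 8, 4, 6, 14, 10, 12, 8, 10, 4, 6, 8, 2, 4, 6, 14, 16, 14, 8, 10, 4, 6, 8, 2, 4, 6, 14, 0, 2, 4, 6, 8, 10, 12] (.cons [14, 12, 2, 10, 8, 4, 6, 4, 2, 8, 10] .nil .nil) .nil) (.cons [8, 4, 6, 16, 18, 10, 4, 6, 8, 2, 4, 6, 16, 0, 2, 4, 6, 8, 10, 12, 14] (.cons [12, 6, 8, 10, 4, 6, 8, 0, 2, 4, 6, 14, 16, 6, 8, 4, 6, 14, 0, 2, 4, 6, 8, 10, 12] (.cons [12, 4, 6, 2, 4, 12, 14, 6, 0, 2, 8, 10] .nil .nil) .nil) (.cons [10, 8, 6, 16, 18, 10, 4, 6, 8,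 2, 4, 6, 16, 0, 2, 4, 6, 8, 10, 12, 14] (.cons [6, 8, 0, 2, 4, 6, 14, 16, 10, 8, 12, 10, 14, 6, 4, 2, 6, 14, 8, 4, 6, 14, 10, 12, 8, 10, 6, 8, 4, 6, 14, 16, 8, 2, 4, 6, 14, 0, 2, 4, 6, 8, 10, 12] .nil .nil) (.cons [6, 16, 18, 8, 6, 16, 4, 6, 8, 2, 4, 6, 16, 0, 2, 4, 6, 8, 10, 12, 14] (.cons [4, 6, 14, 16, 14, 6, 8, 10, 14, 6, 4, 2, 4, 6, 14, 12, 8, 10, 6, 8, 4, 6, 14, 16, 14, 12, 10, 6, 8, 2, 4, 6, 14, 0, 2, 4, 6, 8, 10, 12] .nil .nil) (.cons [4, 6, 16, 18, 6, 16, 4, 6, 8, 2, 4, 6, 16, 0, 2, 4, 6, 8, 10, 12, 14] (.cons [10, 6, 8, 2, 4, 6, 14, 10, 12, 8, 10, 4, 6, 8, 2, 4, 6, 14, 16, 14, 10, 6, 8, 2, 4, 6, 14, 0, 2, 4, 6, 8, 10, 12] (.cons [6, 12, 14, 8, 12, 6, 8, 10, 4, 6, 2] .nil .nil) .nil) (.cons [10, 8,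 6, 16, 18, 16, 4, 6, 8, 2, 4, 6, 16, 0, 2, 4, 6, 8, 10, 12, 14] (.cons [4, 6, 14, 16, 12, 8, 10, 14, 6, 2, 4, 6, 14, 8, 10, 12, 6, 8, 10, 4, 6, 8, 2, 4, 6, 14, 16, 14, 6, 8, 4, 6, 14, 0, 2, 4, 6, 8, 10, 12] (.cons [4, 6, 8, 2, 4, 6, 12, 14, 6, 8, 12, 6, 8, 10, 4, 6, 2] .nil .nil) .nil) (.cons [0, 2, 4, 6, 16, 18, 4, 6, 8, 2, 4, 6, 16, 0, 2, 4, 6, 8, 10, 12, 14] (.cons [14, 10, 4, 6, 8, 0, 2, 4, 6, 14, 16, 12, 10, 8, 2, 4, 6, 14, 0, 2, 4, 6, 8, 10, 12] (.cons [14, 10, 2, 6, 4, 2, 12, 6, 4, 0, 2, 8, 10] .nil .nil) .nil) (.cons [6, 8, 4, 6, 16, 18, 4, 6, 8, 2, 4, 6, 16, 0, 2, 4, 6, 8, 10, 12, 14] (.cons [14, 16, 2, 4, 8, 6, 14, 16, 4, 6, 14, 10, 12, 8, 10, 6, 8, 4, 6, 14, 16, 6, 8, 2, 4, 6, 14, 0, 2, 4, 6, 8, 10,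 12] (.cons [14, 4, 12, 6, 8, 0, 2, 10, 4, 0, 2, 8, 6] .nil .nil) .nil) (.cons [10, 8, 4, 6, 16, 18, 4, 6, 8, 2, 4, 6, 16, 0, 2, 4, 6, 8, 10, 12, 14] (.cons [8, 6, 14, 16, 10, 8, 6, 14, 16, 6, 8, 2, 4, 6, 14, 10, 12, 8, 10, 6, 8, 0, 2, 4, 6, 14, 16, 8, 2, 4, 6, 14, 0, 2, 4, 6, 8, 10, 12] (.cons [10, 8, 6, 12, 14, 4, 2, 0, 6, 4, 2, 8, 6] .nil .nil) .nil) (.cons [6, 16, 14, 10, 12, 8, 10, 6, 8, 2, 4, 6, 16, 0, 2, 4, 6, 8, 10, 12, 14] (.cons [16, 2, 4, 6, 14, 6, 8, 10, 4, 6, 8, 2, 4, 6, 14, 16, 12, 10, 4, 6, 8, 2, 4, 6, 14, 0, 2, 4, 6, 8, 10, 12] .nil .nil) (.cons [18, 16, 14, 10, 12, 8, 10, 6, 8, 2, 4, 6, 16, 0, 2, 4, 6, 8, 10, 12, 14] (.cons [8, 4, 6, 14, 16, 14, 10, 12, 8, 10, 6, 8, 4, 6, 14, 0, 2, 4, 6, 8, 10,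 12] .nil .nil) (.cons [18, 6, 16, 10, 12, 8, 10, 6, 8, 2, 4, 6, 16, 0, 2, 4, 6, 8, 10, 12, 14] (.cons [10, 12, 6, 8, 10, 4, 6, 8, 2, 4, 6, 14, 16, 4, 6, 8, 2, 4, 6, 14, 0, 2, 4, 6, 8, 10, 12] (.cons [14, 8, 10, 0, 2, 8, 6] (.cons [2, 4, 1, 1] .nil .nil) .nil) .nil) (.cons [16, 18, 16, 10, 12, 8, 10, 6, 8, 2, 4, 6, 16, 0, 2, 4, 6, 8, 10, 12, 14] (.cons [14, 12, 10, 2, 4, 6, 8, 0, 2, 4, 6, 14, 16, 12, 8, 10, 4, 6, 8, 2, 4, 6, 14, 0, 2, 4, 6, 8, 10, 12] (.cons [8, 14, 12, 6, 4, 2, 4, 12, 14, 6, 8, 4, 6, 10] (.cons [3, 3, 1, 1, 3] .nil .nil) .nil) .nil) (.cons [18, 6, 16, 14, 12, 8, 10, 6, 8, 2, 4, 6, 16, 0, 2, 4, 6, 8, 10, 12, 14] (.cons [10, 16, 4, 6, 14, 8, 10, 6, 8, 4, 6, 14, 16, 14, 10, 12, 8, 10, 6, 8, 2,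 4, 6, 14, 0, 2, 4, 6, 8, 10, 12] (.cons [2, 0, 10, 2, 6, 4, 2, 12, 6, 4, 0, 2, 8, 10] .nil .nil) .nil) (.cons [16, 18, 16, 14, 12, 8, 10, 6, 8, 2, 4, 6, 16, 0, 2, 4, 6, 8, 10, 12, 14] (.cons [14, 16, 8, 2, 4, 6, 14, 8, 10, 4, 6, 8, 0, 2, 4, 6, 14, 16, 12, 10, 4, 6, 8, 2, 4, 6, 14, 0, 2, 4, 6, 8, 10, 12] (.cons [12, 6, 4, 2, 8, 10] .nil .nil) .nil) (.cons [6, 16, 18, 14, 12, 8, 10, 6, 8, 2, 4, 6, 16, 0, 2, 4, 6, 8, 10, 12, 14] (.cons [16, 2, 4, 6, 14, 8, 10, 6, 8, 2, 4, 6, 14, 16, 12, 8, 10, 4, 6, 8, 2, 4, 6, 14, 0, 2, 4, 6, 8, 10, 12] (.cons [14, 6, 4, 0, 2, 4, 8] .nil .nil) .nil) (.cons [16, 18, 6, 16, 12, 8, 10, 6, 8, 2, 4, 6, 16, 0, 2, 4, 6, 8, 10, 12, 14] (.cons [8, 6, 14, 16, 12, 10, 8, 6, 10, 4, 0, 2,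 6, 14, 8, 4, 6, 14, 10, 12, 8, 10, 6, 8, 4, 6, 14, 16, 8, 2, 4, 6, 14, 0, 2, 4, 6, 8, 10, 12] (.cons [14, 6, 12, 6, 4, 0, 2, 4, 14, 12] .nil .nil) .nil) (.cons [6, 16, 18, 16, 12, 8, 10, 6, 8, 2, 4, 6, 16, 0, 2, 4, 6, 8, 10, 12, 14] (.cons [14, 16, 8, 6, 14, 10, 12, 8, 10, 4, 6, 8, 0, 2, 4, 6, 14, 16, 10, 8, 2, 4, 6, 14, 0, 2, 4, 6, 8, 10, 12] (.cons [8, 2, 10, 6, 12, 14, 4, 0, 2, 8, 6] .nil .nil) .nil) (.cons [6, 16, 18, 6, 16, 8, 10, 6, 8, 2, 4, 6, 16, 0, 2, 4, 6, 8, 10, 12, 14] (.cons [6, 4, 8, 10, 6, 8, 14, 6, 4, 2, 10, 12, 8, 10, 6, 8, 4, 6, 14, 16, 12, 10, 6, 8, 4, 6, 14, 0, 2, 4, 6, 8, 10, 12] (.cons [12, 4, 6, 4, 2, 12, 6, 4] .nil .nil) .nil) (.cons [8, 6, 16, 18, 16, 8, 10, 6, 8, 2, 4, 6, 16, 0, 2,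 4, 6, 8, 10, 12, 14] (.cons [2, 4, 6, 14, 16, 8, 14, 6, 4, 8, 0, 2, 4, 6, 14, 10, 12, 8, 10, 6, 8, 4, 6, 14, 16, 8, 10, 6, 8, 2, 4, 6, 14, 0, 2, 4, 6, 8, 10, 12] (.cons [2, 4, 6, 12, 14, 10, 8, 6, 4, 0, 2, 4, 6, 8, 10] (.cons [1, 4, 0, 5] .nil .nil) .nil) .nil) (.cons [2, 4, 6, 16, 18, 8, 10, 6, 8, 2, 4, 6, 16, 0, 2, 4, 6, 8, 10, 12, 14] (.cons [10, 8, 6, 14, 16, 8, 4, 6, 14, 10, 12, 8, 10, 4, 6, 8, 2, 4, 6, 14, 16, 12, 10, 4, 6, 8, 2, 4, 6, 14, 0, 2, 4, 6, 8, 10, 12] (.cons [10, 6, 2, 0, 4, 12, 2, 6, 8, 10, 12, 6, 8] .nil .nil) .nil) (.cons [8, 4, 6, 16, 18, 8, 10, 6, 8, 2, 4, 6, 16, 0, 2, 4, 6, 8, 10, 12, 14] (.cons [6, 4, 14, 16, 6, 14, 8, 10, 6, 8, 4, 6, 14, 16, 2, 4, 6, 14, 0, 2, 4, 6, 8, 10, 12] .nil .nil)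 (.cons [10, 8, 6, 16, 18, 8, 10, 6, 8, 2, 4, 6, 16, 0, 2, 4, 6, 8, 10, 12, 14] (.cons [14, 6, 8, 2, 4, 6, 14, 16, 10, 8, 4, 6, 14, 8, 10, 12, 6, 8, 10, 4, 6, 8, 2, 4, 6, 14, 16, 14, 8, 10, 4, 6, 8, 2, 4, 6, 14, 0, 2, 4, 6, 8, 10, 12] (.cons [14, 6, 8, 10, 0, 12, 6, 4, 2, 4] .nil .nil) .nil) (.cons [8, 6, 16, 18, 14, 12, 10, 6, 8, 2, 4, 6, 16, 0, 2, 4, 6, 8, 10, 12, 14] (.cons [14, 16, 2, 4, 6, 14, 8, 10, 6, 8, 4, 6, 14, 16, 12, 10, 6, 8, 2, 4, 6, 14, 0, 2, 4, 6, 8, 10, 12] (.cons [0, 2, 10, 8, 6, 12, 14, 12, 6, 4] .nil .nil) .nil) (.cons [8, 6, 16, 18, 16, 12, 10, 6, 8, 2, 4, 6, 16, 0, 2, 4, 6, 8, 10, 12, 14] (.cons [8, 6, 14, 12, 8, 10, 4, 6, 8, 2, 4, 6, 14, 16, 12, 10, 4, 6, 8, 2, 4, 6, 14, 0, 2, 4, 6, 8,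 10, 12] .nil .nil) (.cons [2, 4, 6, 16, 18, 12, 10, 6, 8, 2, 4, 6, 16, 0, 2, 4, 6, 8, 10, 12, 14] (.cons [16, 14, 6, 8, 4, 2, 6, 4, 8, 6, 14, 10, 12, 8, 10, 6, 8, 4, 6, 14, 16, 2, 4, 6, 14, 0, 2, 4, 6, 8, 10, 12] (.cons [2, 10, 8, 4, 6, 12, 14, 6, 12, 4, 6, 8, 10, 12, 6, 4, 2, 4] .nil .nil) .nil) (.cons [10, 8, 6, 16, 18, 12, 10, 6, 8, 2, 4, 6, 16, 0, 2, 4, 6, 8, 10, 12, 14] (.cons [16, 14, 0, 2, 6, 4, 10, 12, 14, 16, 6, 14, 8, 10, 6, 8, 4, 6, 14, 16, 2, 4, 6, 14, 0, 2, 4, 6, 8, 10, 12] (.cons [12, 6, 4, 2, 8, 10, 12, 14] .nil .nil) .nil) (.cons [2, 4, 6, 16, 18, 16, 10, 6, 8, 2, 4, 6, 16, 0, 2, 4, 6, 8, 10, 12, 14] (.cons [16, 8, 4, 6, 14, 12, 8, 10, 4, 6, 8, 2, 4, 6, 14, 16, 14, 10, 4, 6, 8, 2, 4, 6, 14, 0,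 2, 4, 6, 8, 10, 12] (.cons [4, 6, 2, 8, 10, 6, 4, 0, 2, 4, 12] .nil .nil) .nil) (.cons [8, 4, 6, 16, 18, 16, 10, 6, 8, 2, 4, 6, 16, 0, 2, 4, 6, 8, 10, 12, 14] (.cons [6, 8, 4, 6, 14, 16, 8, 10, 14, 6, 8, 4, 6, 14, 10, 12, 8, 10, 6, 8, 0, 2, 4, 6, 14, 16, 12, 10, 8, 2, 4, 6, 14, 0, 2, 4, 6, 8, 10, 12] (.cons [10, 8, 6, 12, 4, 6, 2, 8, 4, 6, 10, 0, 2, 12, 14] .nil .nil) .nil) (.cons [10, 8, 6, 16, 18, 16, 10, 6, 8, 2, 4, 6, 16, 0, 2, 4, 6, 8, 10, 12, 14] (.cons [4, 6, 14, 16, 10, 8, 6, 14, 10, 12, 6, 8, 10, 4, 6, 8, 0, 2, 4, 6, 14, 16, 10, 4, 6, 8, 2, 4, 6, 14, 0, 2, 4, 6, 8, 10, 12] .nil .nil) (.cons [0, 2, 4, 6, 16, 18, 10, 6, 8, 2, 4, 6, 16, 0, 2, 4, 6, 8, 10, 12, 14] (.cons [14, 6, 4, 16, 6, 14, 12, 8, 10,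 6, 8, 4, 6, 14, 16, 2, 4, 6, 14, 0, 2, 4, 6, 8, 10, 12] (.cons [2, 4, 6, 12, 10, 8, 6, 2, 4, 6, 0, 2, 8, 10, 12, 14] .nil .nil) .nil) (.cons [8, 2, 4, 6, 16, 18, 10, 6, 8, 2, 4, 6, 16, 0, 2, 4, 6, 8, 10, 12, 14] (.cons [8, 4, 6, 14, 16, 8, 10, 14, 6, 8, 2, 4, 6, 14, 10, 12, 8, 10, 6, 8, 2, 4, 6, 14, 16, 12, 10, 8, 2, 4, 6, 14, 0, 2, 4, 6, 8, 10, 12] (.cons [8, 6, 12, 4, 6, 0, 2, 4, 8, 10, 12, 14] .nil .nil) .nil) (.cons [6, 8, 4, 6, 16, 18, 10, 6, 8, 2, 4, 6, 16, 0, 2, 4, 6, 8, 10, 12, 14] (.cons [16, 14, 12, 6, 8, 10, 4, 6, 8, 2, 4, 6, 14, 16, 14, 8, 10, 6, 8, 4, 6, 14, 0, 2, 4, 6, 8, 10, 12] (.cons [0, 2, 4, 6, 12, 14, 10, 8, 6, 4, 2, 4, 8, 10] .nil .nil) .nil) (.cons [10, 8, 4, 6, 16, 18, 10, 6, 8, 2, 4,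 6, 16, 0, 2, 4, 6, 8, 10, 12, 14] (.cons [8, 6, 14, 16, 4, 6, 14, 8, 10, 6, 8, 2, 4, 6, 14, 16, 8, 2, 4, 6, 14, 0, 2, 4, 6, 8, 10, 12] .nil .nil) (.cons [12, 10, 8, 6, 16, 18, 10, 6, 8, 2, 4, 6, 16, 0, 2, 4, 6, 8, 10, 12, 14] (.cons [6, 14, 16, 2, 4, 6, 14, 10, 12, 8, 10, 6, 8, 2, 4, 6, 14, 16, 14, 8, 10, 4, 6, 8, 2, 4, 6, 14, 0, 2, 4, 6, 8, 10, 12] (.cons [4, 14, 10, 8, 6, 4, 2, 12, 6, 4, 14, 12] .nil .nil) .nil) (.cons [0, 2, 4, 6, 16, 18, 16, 6, 8, 2, 4, 6, 16, 0, 2, 4, 6, 8, 10, 12, 14] (.cons [10, 8, 2, 4, 6, 14, 16, 10, 8, 4, 6, 14, 2, 4, 6, 8, 10, 12] (.cons [6, 8, 4, 2, 12, 6, 8, 10] .nil .nil) .nil) (.cons [8, 2, 4, 6, 16, 18, 16, 6, 8, 2, 4, 6, 16, 0, 2, 4, 6, 8, 10, 12, 14] (.cons [6, 14, 16, 4, 6,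 8, 2, 4, 6, 14, 8, 10, 12, 6, 8, 10, 4, 6, 8, 2, 4, 6, 14, 16, 6, 8, 2, 4, 6, 14, 0, 2, 4, 6, 8, 10, 12] (.cons [12, 14, 2, 4, 6, 8, 10, 12, 6, 4, 2] .nil .nil) .nil) (.cons [6, 8, 4, 6, 16, 18, 16, 6, 8, 2, 4, 6, 16, 0, 2, 4, 6, 8, 10, 12, 14] (.cons [6, 14, 16, 10, 8, 4, 6, 14, 8, 10, 12, 6, 8, 10, 4, 6, 8, 0, 2, 4, 6, 14, 16, 12, 10, 4, 6, 8, 2, 4, 6, 14, 0, 2, 4, 6, 8, 10, 12] (.cons [10, 6, 8, 10, 14, 4, 6, 12, 14, 8, 6, 4, 0, 2] .nil .nil) .nil) (.cons [12, 10, 8, 6, 16, 18, 16, 6, 8, 2, 4, 6, 16, 0, 2, 4, 6, 8, 10, 12, 14] (.cons [14, 16, 8, 6, 14, 10, 12, 6, 8, 10, 4, 6, 8, 2, 4, 6, 14, 16, 14, 10, 6, 8, 2, 4, 6, 14, 0, 2, 4, 6, 8, 10, 12] (.cons [8, 10, 12, 6, 4, 2, 4] .nil .nil) .nil) (.cons [8, 0,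 2, 4, 6, 16, 18, 6, 8, 2, 4, 6, 16, 0, 2, 4, 6, 8, 10, 12, 14] (.cons [8, 4, 6, 14, 16, 4, 6, 8, 10, 14, 6, 8, 4, 6, 14, 10, 12, 8, 10, 6, 8, 0, 2, 4, 6, 14, 16, 12, 10, 8, 2, 4, 6, 14, 0, 2, 4, 6, 8, 10, 12] .nil .nil) (.cons [6, 8, 2, 4, 6, 16, 18, 6, 8, 2, 4, 6, 16, 0, 2, 4, 6, 8, 10, 12, 14] (.cons [10, 8, 2, 4, 6, 14, 16, 8, 4, 6, 14, 10, 12, 8, 10, 4, 6, 8, 2, 4, 6, 14, 16, 14, 8, 10, 4, 6, 8, 2, 4, 6, 14, 0, 2, 4, 6, 8, 10, 12] .nil .nil) (.cons [10, 8, 2, 4, 6, 16, 18, 6, 8, 2, 4, 6, 16, 0, 2, 4, 6, 8, 10, 12, 14] .nil (.cons [10, 6, 8, 4, 6, 16, 18, 6, 8, 2, 4, 6, 16, 0, 2, 4, 6, 8, 10, 12, 14] (.cons [12, 4, 6, 8, 10, 14, 0, 8, 6, 14, 16, 4, 6, 14, 8, 10, 12, 6, 8, 10, 4, 6, 8, 2, 4, 6, 14, 16, 6,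 8, 4, 6, 14, 0, 2, 4, 6, 8, 10, 12] (.cons [10, 14, 0, 8, 6, 4, 2, 12, 6, 8, 10, 8] .nil .nil) .nil) (.cons [16, 6, 8, 4, 6, 16, 18, 6, 8, 2, 4, 6, 16, 0, 2, 4, 6, 8, 10, 12, 14] (.cons [4, 6, 14, 8, 10, 6, 8, 0, 2, 4, 6, 14, 16, 8, 2, 4, 6, 14, 0, 2, 4, 6, 8, 10, 12] (.cons [10, 8, 6, 4, 2, 6, 10, 4, 6, 12, 14, 8, 6, 10] (.cons [3, 3, 1, 5, 0] .nil .nil) .nil) .nil) (.cons [14, 12, 10, 8, 6, 16, 18, 6, 8, 2, 4, 6, 16, 0, 2, 4, 6, 8, 10, 12, 14] (.cons [6, 14, 16, 2, 4, 6, 14, 12, 8, 10, 6, 8, 2, 4, 6, 14, 16, 14, 8, 10, 6, 8, 2, 4, 6, 14, 0, 2, 4, 6, 8, 10, 12] (.cons [8, 4, 6, 12, 6, 4, 0, 2, 14, 8, 10, 12, 6, 4] .nil .nil) .nil) (.cons [10, 8, 6, 16, 18, 14, 12, 10, 8, 2, 4, 6, 16, 0, 2, 4, 6, 8, 10, 12,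 14] (.cons [6, 8, 2, 4, 6, 14, 16, 14, 10, 12, 8, 10, 4, 6, 8, 2, 4, 6, 14, 0, 2, 4, 6, 8, 10, 12] (.cons [14, 10, 2, 6, 8, 4, 6, 12, 6, 4, 2, 14, 12] .nil .nil) .nil) (.cons [0, 2, 4, 6, 16, 18, 12, 10, 8, 2, 4, 6, 16, 0, 2, 4, 6, 8, 10, 12, 14] (.cons [14, 6, 8, 2, 4, 6, 14, 16, 14, 10, 4, 6, 8, 2, 4, 6, 14, 0, 2, 4, 6, 8, 10, 12] .nil .nil) (.cons [8, 2, 4, 6, 16, 18, 12, 10, 8, 2, 4, 6, 16, 0, 2, 4, 6, 8, 10, 12, 14] .nil (.cons [6, 8, 4, 6, 16, 18, 12, 10, 8, 2, 4, 6, 16, 0, 2, 4, 6, 8, 10, 12, 14] (.cons [16, 14, 8, 10, 4, 6, 8, 2, 4, 6, 14, 16, 8, 10, 4, 6, 8, 2, 4, 6, 14, 0, 2, 4, 6, 8, 10, 12] (.cons [12, 10, 8, 14, 0, 6, 4, 2, 12, 8, 6, 4, 12] .nil .nil) .nil) (.cons [12, 10, 8, 6, 16, 18, 12, 10,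 8, 2, 4, 6, 16, 0, 2, 4, 6, 8, 10, 12, 14] (.cons [16, 8, 2, 4, 6, 14, 6, 8, 10, 4, 6, 8, 2, 4, 6, 14, 16, 12, 10, 6, 8, 2, 4, 6, 14, 0, 2, 4, 6, 8, 10, 12] (.cons [14, 6, 12, 8, 10, 6, 4, 2, 12, 6, 4] .nil .nil) .nil) (.cons [8, 0, 2, 4, 6, 16, 18, 10, 8, 2, 4, 6, 16, 0, 2, 4, 6, 8, 10, 12, 14] (.cons [8, 6, 14, 16, 4, 6, 14, 10, 12, 8, 10, 4, 6, 8, 2, 4, 6, 14, 16, 12, 10, 4, 6, 8, 2, 4, 6, 14, 0, 2, 4, 6, 8, 10, 12] (.cons [0, 2, 4, 6, 12, 8, 0, 2, 4, 6, 4, 2, 4, 8, 10, 12, 14] .nil .nil) .nil) (.cons [12, 10, 8, 4, 6, 16, 18, 10, 8, 2, 4, 6, 16, 0, 2, 4, 6, 8, 10, 12, 14] (.cons [8, 4, 6, 14, 16, 14, 6, 8, 4, 6, 14, 10, 12, 8, 10, 4, 6, 8, 2, 4, 6, 14, 16, 12, 10, 4, 6, 8, 2, 4, 6, 14, 0, 2, 4, 6, 8, 10,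 12] .nil .nil) (.cons [14, 12, 10, 8, 6, 16, 18, 10, 8, 2, 4, 6, 16, 0, 2, 4, 6, 8, 10, 12, 14] (.cons [16, 6, 14, 12, 8, 10, 2, 4, 6, 8, 0, 2, 4, 6, 14, 16, 8, 10, 6, 8, 2, 4, 6, 14, 0, 2, 4, 6, 8, 10, 12] .nil .nil) (.cons [6, 8, 0, 2, 4, 6, 16, 18, 8, 2, 4, 6, 16, 0, 2, 4, 6, 8, 10, 12, 14] (.cons [16, 14, 12, 10, 4, 6, 8, 0, 2, 4, 6, 14, 16, 10, 8, 2, 4, 6, 14, 0, 2, 4, 6, 8, 10, 12] (.cons [14, 4, 6, 8, 12, 6, 4, 0, 2, 6, 8, 10, 12] .nil .nil) .nil) (.cons [10, 8, 0, 2, 4, 6, 16, 18, 8, 2, 4, 6, 16, 0, 2, 4, 6, 8, 10, 12, 14] (.cons [10, 14, 6, 8, 6, 14, 16, 4, 6, 14, 10, 12, 8, 10, 6, 8, 2, 4, 6, 14, 16, 12, 10, 8, 2, 4, 6, 14, 0, 2, 4, 6, 8, 10, 12] .nil .nil) (.cons [8, 10, 6, 8, 4, 6, 16, 18, 8, 2,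 4, 6, 16, 0, 2, 4, 6, 8, 10, 12, 14] (.cons [6, 14, 10, 12, 8, 10, 4, 6, 8, 2, 4, 6, 14, 16, 12, 10, 4, 6, 8, 2, 4, 6, 14, 0, 2, 4, 6, 8, 10, 12] (.cons [2, 4, 6, 12, 10, 6, 8, 4, 6, 4, 2, 8, 10, 12, 14] .nil .nil) .nil) (.cons [16, 10, 6, 8, 4, 6, 16, 18, 8, 2, 4, 6, 16, 0, 2, 4, 6, 8, 10, 12, 14] (.cons [6, 14, 16, 4, 6, 14, 10, 12, 8, 10, 6, 8, 4, 6, 14, 16, 14, 4, 6, 8, 2, 4, 6, 14, 0, 2, 4, 6, 8, 10, 12] (.cons [6, 12, 4, 6, 2, 4, 0, 2, 4, 8, 10, 12, 14] .nil .nil) .nil) (.cons [18, 16, 6, 8, 4, 6, 16, 18, 8, 2, 4, 6, 16, 0, 2, 4, 6, 8, 10, 12, 14] (.cons [8, 0, 2, 4, 6, 14, 16, 8, 2, 4, 6, 14, 10, 12, 8, 10, 4, 6, 8, 2, 4, 6, 14, 16, 14, 12, 10, 4, 6, 8, 2, 4, 6, 14, 0, 2, 4, 6, 8, 10, 12] (.cons [4, 6,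 12, 2, 4, 8, 6, 4, 0, 2, 8, 10, 6, 4, 12, 14] .nil .nil) .nil) (.cons [14, 12, 10, 8, 4, 6, 16, 18, 8, 2, 4, 6, 16, 0, 2, 4, 6, 8, 10, 12, 14] (.cons [0, 2, 4, 6, 8, 14, 6, 4, 8, 6, 14, 10, 12, 8, 10, 6, 8, 4, 6, 14, 16, 2, 4, 6, 14, 0, 2, 4, 6, 8, 10, 12] (.cons [10, 4, 6, 8, 10, 12, 6, 4, 2, 6, 12, 14, 4, 6] .nil .nil) .nil) (.cons [16, 12, 10, 6, 8, 4, 6, 16, 18, 2, 4, 6, 16, 0, 2, 4, 6, 8, 10, 12, 14] .nil (.cons [18, 16, 10, 6, 8, 4, 6, 16, 18, 2, 4, 6, 16, 0, 2, 4, 6, 8, 10, 12, 14] (.cons [8, 2, 4, 6, 14, 16, 8, 2, 10, 6, 4, 8, 6, 14, 10, 12, 8, 10, 4, 6, 8, 0, 2, 4, 6, 14, 16, 10, 8, 2, 4, 6, 14, 0, 2, 4, 6, 8, 10, 12] (.cons [12, 6, 4, 12, 14, 6, 8, 2, 10, 8] .nil .nil) .nil) (.cons [16, 18, 12, 14,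 10, 12, 8, 10, 6, 8, 4, 6, 16, 0, 2, 4, 6, 8, 10, 12, 14] (.cons [14, 12, 10, 6, 8, 4, 2, 14, 6, 4, 8, 6, 14, 10, 12, 8, 10, 6, 8, 4, 6, 14, 16, 2, 4, 6, 14, 0, 2, 4, 6, 8, 10, 12] .nil .nil) (.cons [4, 6, 16, 14, 10, 12, 8, 10, 6, 8, 4, 6, 16, 0, 2, 4, 6, 8, 10, 12, 14] (.cons [8, 2, 4, 6, 14, 8, 10, 4, 6, 8, 2, 4, 6, 14, 16, 12, 10, 6, 8, 2, 4, 6, 14, 0, 2, 4, 6, 8, 10, 12] (.cons [10, 8, 6, 8, 4, 2, 14, 6, 8, 4, 6, 8, 10] .nil .nil) .nil) (.cons [8, 6, 16, 14, 10, 12, 8, 10, 6, 8, 4, 6, 16, 0, 2, 4, 6, 8, 10, 12, 14] (.cons [16, 4, 6, 14, 8, 10, 6, 8, 4, 6, 14, 16, 12, 10, 8, 4, 6, 14, 2, 4, 6, 8, 10, 12] .nil .nil) (.cons [18, 6, 16, 14, 10, 12, 8, 10, 6, 8, 4, 6, 16, 0, 2, 4, 6, 8, 10, 12, 14] (.cons [4,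 6, 8, 10, 2, 4, 6, 8, 0, 2, 4, 6, 14, 16, 12, 10, 4, 6, 8, 2, 4, 6, 14, 0, 2, 4, 6, 8, 10, 12] (.cons [8, 4, 6, 12, 10, 8, 4, 6, 8, 4, 2, 10, 12, 14, 8] .nil .nil) .nil) (.cons [16, 18, 16, 14, 10, 12, 8, 10, 6, 8, 4, 6, 16, 0, 2, 4, 6, 8, 10, 12, 14] (.cons [14, 16, 0, 2, 4, 6, 14, 8, 10, 6, 8, 4, 6, 14, 16, 14, 12, 8, 10, 4, 6, 8, 2, 4, 6, 14, 0, 2, 4, 6, 8, 10, 12] (.cons [0, 2, 10, 8, 6, 4, 12, 14] .nil .nil) .nil) (.cons [6, 16, 18, 14, 10, 12, 8, 10, 6, 8, 4, 6, 16, 0, 2, 4, 6, 8, 10, 12, 14] (.cons [14, 8, 10, 4, 6, 8, 2, 4, 6, 14, 16, 12, 10, 8, 4, 6, 14, 0, 2, 4, 6, 8, 10, 12] (.cons [0, 2, 4, 6, 12, 8, 6, 10, 4, 0, 2, 4, 6, 4, 12, 14] .nil .nil) .nil) (.cons [8, 4, 6, 16, 10, 12, 8, 10, 6, 8, 4, 6,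 16, 0, 2, 4, 6, 8, 10, 12, 14] (.cons [14, 16, 6, 14, 10, 12, 6, 8, 10, 4, 6, 8, 2, 4, 6, 14, 16, 8, 10, 4, 6, 8, 2, 4, 6, 14, 0, 2, 4, 6, 8, 10, 12] (.cons [14, 12, 6, 4, 2, 6, 4, 6, 12, 14, 8, 6, 10] .nil .nil) .nil) (.cons [18, 4, 6, 16, 10, 12, 8, 10, 6, 8, 4, 6, 16, 0, 2, 4, 6, 8, 10, 12, 14] (.cons [6, 4, 2, 16, 0, 14, 10, 12, 8, 10, 6, 8, 4, 6, 14, 16, 8, 10, 6, 8, 4, 6, 14, 2, 4, 6, 8, 10, 12] .nil .nil) (.cons [18, 8, 6, 16, 10, 12, 8, 10, 6, 8, 4, 6, 16, 0, 2, 4, 6, 8, 10, 12, 14] (.cons [6, 8, 4, 6, 14, 10, 12, 6, 8, 10, 4, 6, 8, 2, 4, 6, 14, 16, 4, 6, 8, 2, 4, 6, 14, 0, 2, 4, 6, 8, 10, 12] .nil .nil) (.cons [16, 18, 6, 16, 10, 12, 8, 10, 6, 8, 4, 6, 16, 0, 2, 4, 6, 8, 10, 12, 14] (.cons [4, 0, 16,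 2, 4, 6, 14, 10, 12, 8, 10, 6, 8, 4, 6, 14, 16, 10, 8, 2, 4, 6, 14, 0, 2, 4, 6, 8, 10, 12] (.cons [6, 12, 14, 8, 4, 6, 4, 2, 4, 8, 10] .nil .nil) .nil) (.cons [6, 16, 18, 16, 10, 12, 8, 10, 6, 8, 4, 6, 16, 0, 2, 4, 6, 8, 10, 12, 14] (.cons [16, 10, 8, 6, 14, 2, 6, 8, 4, 6, 14, 10, 12, 8, 10, 6, 8, 2, 4, 6, 14, 16, 14, 6, 8, 2, 4, 6, 14, 0, 2, 4, 6, 8, 10, 12] (.cons [2, 4, 6, 12, 8, 10, 6, 4, 2, 12, 14, 6, 4] .nil .nil) .nil) (.cons [4, 6, 16, 18, 10, 12, 8, 10, 6, 8, 4, 6, 16, 0, 2, 4, 6, 8, 10, 12, 14] (.cons [14, 10, 6, 8, 2, 4, 6, 14, 16, 12, 8, 10, 4, 6, 8, 2, 4, 6, 14, 0, 2, 4, 6, 8, 10, 12] (.cons [8, 0, 2, 4, 6, 12, 6, 8, 4, 6, 2, 4, 0, 2, 8, 10, 12, 14] .nil .nil) .nil) (.cons [18, 4, 6, 16, 14, 12,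 8, 10, 6, 8, 4, 6, 16, 0, 2, 4, 6, 8, 10, 12, 14] (.cons [14, 16, 4, 6, 14, 8, 10, 6, 8, 2, 4, 6, 14, 16, 12, 10, 4, 6, 8, 2, 4, 6, 14, 0, 2, 4, 6, 8, 10, 12] (.cons [6, 12, 10, 0, 2, 14, 12] .nil .nil) .nil) (.cons [6, 16, 18, 16, 14, 12, 8, 10, 6, 8, 4, 6, 16, 0, 2, 4, 6, 8, 10, 12, 14] (.cons [16, 2, 4, 6, 14, 8, 10, 4, 6, 8, 2, 4, 6, 14, 16, 14, 12, 8, 10, 4, 6, 8, 2, 4, 6, 14, 0, 2, 4, 6, 8, 10, 12] (.cons [10, 8, 6, 4, 12, 6, 4, 12, 14] .nil .nil) .nil) (.cons [8, 6, 16, 18, 14, 12, 8, 10, 6, 8, 4, 6, 16, 0, 2, 4, 6, 8, 10, 12, 14] (.cons [10, 4, 6, 8, 2, 4, 6, 14, 16, 12, 8, 10, 6, 8, 2, 4, 6, 14, 0, 2, 4, 6, 8, 10, 12] (.cons [10, 8, 2, 6, 4, 2, 12, 14, 6, 4] .nil .nil) .nil) (.cons [6, 16, 18, 6, 16,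 12, 8, 10, 6, 8, 4, 6, 16, 0, 2, 4, 6, 8, 10, 12, 14] (.cons [12, 10, 4, 6, 8, 2, 4, 6, 14, 16, 12, 10, 6, 8, 4, 6, 14, 0, 2, 4, 6, 8, 10, 12] .nil .nil) (.cons [4, 6, 16, 18, 16, 12, 8, 10, 6, 8, 4, 6, 16, 0, 2, 4, 6, 8, 10, 12, 14] (.cons [8, 10, 4, 6, 8, 0, 2, 4, 6, 14, 16, 12, 10, 8, 2, 4, 6, 14, 0, 2, 4, 6, 8, 10, 12] (.cons [8, 10, 2, 4, 6, 0, 2, 4, 12, 6, 8, 10, 14, 4, 6, 12, 14, 8, 6, 4, 0, 2] .nil .nil) .nil) (.cons [8, 6, 16, 18, 16, 12, 8, 10, 6, 8, 4, 6, 16, 0, 2, 4, 6, 8, 10, 12, 14] (.cons [4, 6, 8, 2, 4, 6, 14, 16, 12, 10, 8, 6, 14, 0, 2, 4, 6, 8, 10, 12] (.cons [8, 6, 12, 14, 6, 8, 10, 4, 6, 0, 2] .nil .nil) .nil) (.cons [8, 4, 6, 16, 18, 12, 8, 10, 6, 8, 4, 6, 16, 0, 2, 4, 6, 8, 10, 12, 14]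 (.cons [14, 10, 6, 8, 4, 6, 14, 16, 6, 14, 12, 10, 4, 6, 8, 2, 4, 6, 14, 0, 2, 4, 6, 8, 10, 12] (.cons [2, 10, 8, 6, 4, 2, 12, 6, 4] .nil .nil) .nil) (.cons [10, 8, 6, 16, 18, 12, 8, 10, 6, 8, 4, 6, 16, 0, 2, 4, 6, 8, 10, 12, 14] (.cons [12, 8, 10, 4, 6, 8, 2, 4, 6, 14, 16, 14, 10, 6, 8, 4, 6, 14, 0, 2, 4, 6, 8, 10, 12] (.cons [2, 4, 6, 12, 14, 0, 4, 2, 4, 0, 6, 8, 10, 12, 6, 4, 2] (.cons [1, 1, 3, 0] .nil .nil) .nil) .nil) (.cons [8, 6, 16, 18, 6, 16, 8, 10, 6, 8, 4, 6, 16, 0, 2, 4, 6, 8, 10, 12, 14] (.cons [12, 10, 4, 6, 8, 2, 4, 6, 14, 16, 8, 10, 6, 8, 4, 6, 14, 0, 2, 4, 6, 8, 10, 12] (.cons [0, 2, 4, 6, 10, 8, 14, 12, 6, 4, 0, 2, 8, 10, 12, 14] .nil .nil) .nil) (.cons [2, 4, 6, 16, 18, 16, 8, 10, 6, 8, 4,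 6, 16, 0, 2, 4, 6, 8, 10, 12, 14] (.cons [14, 16, 8, 12, 10, 8, 0, 2, 4, 6, 14, 12, 8, 10, 4, 6, 8, 2, 4, 6, 14, 16, 10, 8, 2, 4, 6, 14, 0, 2, 4, 6, 8, 10, 12] .nil .nil) (.cons [8, 4, 6, 16, 18, 16, 8, 10, 6, 8, 4, 6, 16, 0, 2, 4, 6, 8, 10, 12, 14] (.cons [14, 16, 2, 4, 6, 14, 8, 10, 12, 6, 8, 10, 4, 6, 8, 2, 4, 6, 14, 16, 14, 8, 10, 4, 6, 8, 2, 4, 6, 14, 0, 2, 4, 6, 8, 10, 12] (.cons [6, 12, 6, 4, 14, 12] .nil .nil) .nil) (.cons [10, 8, 6, 16, 18, 16, 8, 10, 6, 8, 4, 6, 16, 0, 2, 4, 6, 8, 10, 12, 14] (.cons [12, 10, 8, 6, 4, 8, 6, 14, 10, 12, 8, 10, 6, 8, 4, 6, 14, 16, 2, 4, 6, 14, 0, 2, 4, 6, 8, 10, 12] (.cons [12, 2, 4, 6, 8, 0, 2, 4, 6, 12, 14, 10, 12, 6, 8, 10, 0, 12, 6, 4, 2, 4] .nil .nil) .nil) (.cons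 [0, 2, 4, 6, 16, 18, 8, 10, 6, 8, 4, 6, 16, 0, 2, 4, 6, 8, 10, 12, 14] (.cons [8, 6, 14, 16, 12, 10, 8, 6, 14, 10, 12, 8, 10, 4, 6, 8, 0, 2, 4, 6, 14, 16, 8, 10, 4, 6, 8, 2, 4, 6, 14, 0, 2, 4, 6, 8, 10, 12] (.cons [8, 2, 4, 6, 12, 10, 8, 6, 4, 8, 10, 0, 2, 12, 14, 6, 4] .nil .nil) .nil) (.cons [8, 2, 4, 6, 16, 18, 8, 10, 6, 8, 4, 6, 16, 0, 2, 4, 6, 8, 10, 12, 14] (.cons [8, 4, 6, 14, 16, 12, 10, 8, 6, 14, 10, 12, 8, 10, 4, 6, 8, 0, 2, 4, 6, 14, 16, 8, 10, 4, 6, 8, 2, 4, 6, 14, 0, 2, 4, 6, 8, 10, 12] (.cons [12, 14, 6, 2, 4, 0, 2, 10, 8, 4, 6, 8, 10] .nil .nil) .nil) (.cons [6, 8, 4, 6, 16, 18, 8, 10, 6, 8, 4, 6, 16, 0, 2, 4, 6, 8, 10, 12, 14] (.cons [6, 8, 0, 2, 4, 6, 14, 16, 10, 8, 4, 6, 14, 8, 10, 12, 6, 8,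 10, 4, 6, 8, 0, 2, 4, 6, 14, 16, 12, 10, 4, 6, 8, 2, 4, 6, 14, 0, 2, 4, 6, 8, 10, 12] (.cons [8, 0, 2, 4, 6, 12, 10, 8, 2, 4, 6, 4, 2, 8, 10, 12, 14] .nil .nil) .nil) (.cons [10, 8, 4, 6, 16, 18, 8, 10, 6, 8, 4, 6, 16, 0, 2, 4, 6, 8, 10, 12, 14] (.cons [6, 14, 16, 8, 4, 6, 14, 10, 8, 6, 4, 2, 0, 6, 14, 12, 8, 10, 6, 8, 4, 6, 14, 16, 8, 10, 6, 8, 4, 6, 14, 2, 4, 6, 8, 10, 12] (.cons [8, 10, 8, 6, 4, 2, 6, 12, 4, 14, 12] .nil .nil) .nil) (.cons [4, 6, 16, 18, 16, 14, 12, 10, 6, 8, 4, 6, 16, 0, 2, 4, 6, 8, 10, 12, 14] (.cons [16, 14, 10, 6, 8, 4, 6, 14, 16, 12, 10, 6, 8, 4, 6, 14, 0, 2, 4, 6, 8, 10, 12] (.cons [10, 8, 6, 12, 14, 4, 12, 6, 4, 0, 2, 8, 6, 10, 4] .nil .nil) .nil) (.cons [8, 6, 16, 18, 16, 14, 12,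 10, 6, 8, 4, 6, 16, 0, 2, 4, 6, 8, 10, 12, 14] .nil (.cons [2, 4, 6, 16, 18, 14, 12, 10, 6, 8, 4, 6, 16, 0, 2, 4, 6, 8, 10, 12, 14] (.cons [4, 6, 14, 8, 6, 4, 2, 6, 14, 8, 10, 6, 8, 4, 6, 14, 16, 12, 10, 6, 8, 4, 6, 14, 0, 2, 4, 6, 8, 10, 12] (.cons [12, 10, 8, 4, 6, 8, 4, 2, 4, 10, 12, 14, 8] .nil .nil) .nil) (.cons [2, 4, 6, 16, 18, 16, 12, 10, 6, 8, 4, 6, 16, 0, 2, 4, 6, 8, 10, 12, 14] (.cons [14, 10, 12, 8, 10, 6, 8, 4, 6, 14, 16, 10, 4, 6, 8, 2, 4, 6, 14, 0, 2, 4, 6, 8, 10, 12] (.cons [6, 8, 0, 2, 4, 6, 12, 14, 10, 6, 8, 10, 12, 6, 4, 2] .nil .nil) .nil) (.cons [8, 4, 6, 16, 18, 16, 12, 10, 6, 8, 4, 6, 16, 0, 2, 4, 6, 8, 10, 12, 14] (.cons [4, 6, 8, 0, 2, 4, 6, 14, 16, 10, 8, 4, 6, 14, 0, 2, 4, 6, 8, 10,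 12] (.cons [12, 6, 14, 4, 6, 12, 6, 8, 4, 2, 6, 10, 8] .nil .nil) .nil) (.cons [8, 2, 4, 6, 16, 18, 12, 10, 6, 8, 4, 6, 16, 0, 2, 4, 6, 8, 10, 12, 14] (.cons [6, 14, 16, 8, 4, 6, 14, 10, 12, 8, 10, 2, 4, 6, 8, 0, 2, 4, 6, 14, 16, 8, 10, 4, 6, 8, 2, 4, 6, 14, 0, 2, 4, 6, 8, 10, 12] (.cons [8, 6, 2, 4, 8, 0, 2, 4, 6, 12, 14, 8, 6, 10] .nil .nil) .nil) (.cons [6, 8, 4, 6, 16, 18, 12, 10, 6, 8, 4, 6, 16, 0, 2, 4, 6, 8, 10, 12, 14] (.cons [14, 4, 6, 8, 2, 4, 6, 14, 16, 10, 8, 6, 14, 8, 10, 12, 6, 8, 10, 4, 6, 8, 2, 4, 6, 14, 16, 8, 10, 4, 6, 8, 2, 4, 6, 14, 0, 2, 4, 6, 8, 10, 12] (.cons [0, 2, 4, 10, 8, 6, 12, 6, 4, 14, 12] .nil .nil) .nil) (.cons [12, 10, 8, 6, 16, 18, 12, 10, 6, 8, 4, 6, 16, 0, 2, 4, 6, 8, 10,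 12, 14] (.cons [16, 10, 12, 8, 10, 6, 8, 4, 6, 14, 0, 2, 4, 6, 8, 10, 12] .nil .nil) (.cons [0, 2, 4, 6, 16, 18, 16, 10, 6, 8, 4, 6, 16, 0, 2, 4, 6, 8, 10, 12, 14] (.cons [8, 4, 6, 14, 8, 10, 12, 6, 8, 10, 4, 6, 8, 2, 4, 6, 14, 16, 8, 10, 6, 8, 2, 4, 6, 14, 0, 2, 4, 6, 8, 10, 12] (.cons [14, 4, 6, 4, 2, 4, 8, 6, 10, 4] (.cons [0, 3, 1, 1, 4] .nil .nil) .nil) .nil) (.cons [8, 2, 4, 6, 16, 18, 16, 10, 6, 8, 4, 6, 16, 0, 2, 4, 6, 8, 10, 12, 14] (.cons [16, 10, 8, 6, 14, 12, 8, 10, 4, 6, 8, 0, 2, 4, 6, 14, 16, 12, 10, 8, 2, 4, 6, 14, 0, 2, 4, 6, 8, 10, 12] .nil .nil) (.cons [8, 0, 2, 4, 6, 16, 18, 10, 6, 8, 4, 6, 16, 0, 2, 4, 6, 8, 10, 12, 14] (.cons [6, 14, 10, 12, 6, 8, 10, 4, 6, 8, 0, 2, 4, 6, 14, 16, 12, 10,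 6, 8, 2, 4, 6, 14, 0, 2, 4, 6, 8, 10, 12] (.cons [12, 6, 4, 12, 6, 0, 2, 4, 8, 10, 6, 4, 12, 14] .nil .nil) .nil) (.cons [6, 8, 2, 4, 6, 16, 18, 10, 6, 8, 4, 6, 16, 0, 2, 4, 6, 8, 10, 12, 14] .nil (.cons [16, 6, 8, 4, 6, 16, 18, 10, 6, 8, 4, 6, 16, 0, 2, 4, 6, 8, 10, 12, 14] (.cons [8, 6, 14, 10, 8, 16, 6, 4, 2, 0, 4, 10, 14, 12, 8, 10, 6, 8, 4, 6, 14, 16, 12, 10, 6, 8, 4, 6, 14, 2, 4, 6, 8, 10, 12] (.cons [4, 6, 12, 14, 4, 2, 12, 6, 8, 10, 4, 8, 6, 4, 2] .nil .nil) .nil) (.cons [14, 12, 10, 8, 6, 16, 18, 10, 6, 8, 4, 6, 16, 0, 2, 4, 6, 8, 10, 12, 14] (.cons [6, 8, 4, 6, 14, 16, 10, 8, 6, 14, 8, 10, 12, 6, 8, 10, 4, 6, 8, 2, 4, 6, 14, 16, 10, 4, 6, 8, 2, 4, 6, 14, 0, 2, 4, 6, 8, 10, 12] .nil .nil) (.cons [8,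 0, 2, 4, 6, 16, 18, 16, 6, 8, 4, 6, 16, 0, 2, 4, 6, 8, 10, 12, 14] (.cons [16, 8, 10, 0, 2, 4, 6, 14, 16, 8, 6, 14, 10, 12, 8, 10, 6, 8, 4, 6, 14, 16, 8, 2, 4, 6, 14, 0, 2, 4, 6, 8, 10, 12] (.cons [6, 2, 4, 8, 10, 6, 12, 14, 12, 6, 4] .nil .nil) .nil) (.cons [10, 8, 2, 4, 6, 16, 18, 16, 6, 8, 4, 6, 16, 0, 2, 4, 6, 8, 10, 12, 14] (.cons [14, 10, 6, 8, 2, 4, 6, 14, 16, 14, 8, 10, 6, 8, 2, 4, 6, 14, 0, 2, 4, 6, 8, 10, 12] (.cons [10, 0, 4, 2, 6, 12, 14, 4, 0, 2, 8, 6] .nil .nil) .nil) (.cons [10, 6, 8, 4, 6, 16, 18, 16, 6, 8, 4, 6, 16, 0, 2, 4, 6, 8, 10, 12, 14] (.cons [6, 14, 16, 4, 6, 14, 8, 10, 6, 8, 4, 6, 14, 16, 14, 10, 6, 8, 2, 4, 6, 14, 0, 2, 4, 6, 8, 10, 12] .nil .nil) (.cons [16, 6, 8, 4, 6, 16, 18, 16,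 6, 8, 4, 6, 16, 0, 2, 4, 6, 8, 10, 12, 14] (.cons [10, 6, 8, 2, 4, 6, 14, 10, 12, 8, 10, 4, 6, 8, 2, 4, 6, 14, 16, 10, 6, 8, 2, 4, 6, 14, 0, 2, 4, 6, 8, 10, 12] (.cons [14, 12, 4, 6, 8, 10, 12, 6, 2, 4, 6, 2] .nil .nil) .nil) (.cons [12, 10, 8, 4, 6, 16, 18, 16, 6, 8, 4, 6, 16, 0, 2, 4, 6, 8, 10, 12, 14] (.cons [16, 2, 4, 6, 14, 10, 8, 6, 4, 2, 14, 12, 8, 10, 6, 8, 4, 6, 14, 16, 12, 10, 6, 8, 4, 6, 14, 0, 2, 4, 6, 8, 10, 12] (.cons [6, 8, 6, 4, 2, 12, 6, 8, 10, 8] .nil .nil) .nil) (.cons [14, 12, 10, 8, 6, 16, 18, 16, 6, 8, 4, 6, 16, 0, 2, 4, 6, 8, 10, 12, 14] (.cons [8, 6, 14, 16, 8, 4, 6, 14, 8, 10, 12, 6, 8, 10, 4, 6, 8, 0, 2, 4, 6, 14, 16, 10, 6, 8, 2, 4, 6, 14, 0, 2, 4, 6, 8, 10, 12] (.cons [10, 8, 6, 12,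 4, 2, 4, 14, 8, 12] .nil .nil) .nil) (.cons [10, 8, 0, 2, 4, 6, 16, 18, 6, 8, 4, 6, 16, 0, 2, 4, 6, 8, 10, 12, 14] (.cons [8, 6, 14, 10, 12, 6, 8, 10, 4, 6, 8, 0, 2, 4, 6, 14, 16, 10, 4, 6, 8, 2, 4, 6, 14, 0, 2, 4, 6, 8, 10, 12] .nil .nil) (.cons [4, 6, 8, 2, 4, 6, 16, 18, 6, 8, 4, 6, 16, 0, 2, 4, 6, 8, 10, 12, 14] (.cons [16, 2, 4, 6, 14, 6, 8, 10, 4, 6, 8, 2, 4, 6, 14, 16, 14, 6, 8, 4, 6, 14, 0, 2, 4, 6, 8, 10, 12] (.cons [2, 0, 4, 2, 6, 12, 14, 12, 6, 8, 4, 6, 10] (.cons [3, 1, 5, 5, 0] .nil .nil) .nil) .nil) (.cons [10, 6, 8, 2, 4, 6, 16, 18, 6, 8, 4, 6, 16, 0, 2, 4, 6, 8, 10, 12, 14] (.cons [10, 8, 2, 4, 6, 14, 16, 12, 8, 10, 6, 8, 4, 6, 14, 0, 2, 4, 6, 8, 10, 12] (.cons [4, 6, 12, 14, 12, 6, 8, 10, 4,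 8, 6, 4, 2] .nil .nil) .nil) (.cons [8, 2, 4, 6, 16, 18, 14, 12, 10, 8, 4, 6, 16, 0, 2, 4, 6, 8, 10, 12, 14] .nil (.cons [10, 8, 4, 6, 16, 18, 14, 12, 10, 8, 4, 6, 16, 0, 2, 4, 6, 8, 10, 12, 14] (.cons [16, 14, 8, 10, 6, 8, 4, 6, 14, 16, 14, 10, 12, 8, 10, 6, 8, 2, 4, 6, 14, 0, 2, 4, 6, 8, 10, 12] .nil .nil) (.cons [12, 10, 8, 6, 16, 18, 14, 12, 10, 8, 4, 6, 16, 0, 2, 4, 6, 8, 10, 12, 14] (.cons [16, 10, 8, 0, 4, 2, 6, 4, 8, 6, 14, 10, 12, 8, 10, 6, 8, 4, 6, 14, 16, 2, 4, 6, 14, 0, 2, 4, 6, 8, 10, 12] (.cons [14, 12, 14, 10, 8, 6, 4, 2, 12, 6, 8, 10] .nil .nil) .nil) (.cons [10, 8, 2, 4, 6, 16, 18, 12, 10, 8, 4, 6, 16, 0, 2, 4, 6, 8, 10, 12, 14] (.cons [12, 10, 8, 6, 14, 6, 8, 10, 4, 6, 8, 2, 4, 6, 14, 16, 12,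 10, 6, 8, 2, 4, 6, 14, 0, 2, 4, 6, 8, 10, 12] .nil .nil) (.cons [10, 6, 8, 4, 6, 16, 18, 12, 10, 8, 4, 6, 16, 0, 2, 4, 6, 8, 10, 12, 14] (.cons [0, 2, 4, 6, 14, 16, 6, 8, 4, 6, 14, 8, 10, 12, 6, 8, 10, 4, 6, 8, 2, 4, 6, 14, 16, 8, 10, 4, 6, 8, 2, 4, 6, 14, 0, 2, 4, 6, 8, 10, 12] (.cons [12, 10, 2, 8, 4, 6, 4, 0, 2, 12, 14] .nil .nil) .nil) (.cons [12, 10, 8, 4, 6, 16, 18, 12, 10, 8, 4, 6, 16, 0, 2, 4, 6, 8, 10, 12, 14] (.cons [14, 4, 6, 8, 2, 4, 6, 14, 16, 10, 6, 8, 4, 6, 14, 0, 2, 4, 6, 8, 10, 12] (.cons [6, 12, 14, 10, 8, 2, 12, 6, 8, 4, 0, 2, 10, 8] (.cons [5, 5, 2, 5, 2] .nil .nil) .nil) .nil) (.cons [14, 12, 10, 8, 6, 16, 18, 12, 10, 8, 4, 6, 16, 0, 2, 4, 6, 8, 10, 12, 14] (.cons [4, 6, 14, 16, 10, 8, 6,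 4, 2, 6, 8, 4, 6, 14, 10, 12, 8, 10, 6, 8, 4, 6, 14, 16, 12, 10, 4, 6, 8, 2, 4, 6, 14, 0, 2, 4, 6, 8, 10, 12] (.cons [12, 14, 8, 6, 4, 0, 2, 4, 6, 10, 4] .nil .nil) .nil) (.cons [16, 6, 8, 2, 4, 6, 16, 18, 10, 8, 4, 6, 16, 0, 2, 4, 6, 8, 10, 12, 14] (.cons [10, 8, 6, 14, 16, 2, 4, 6, 14, 10, 12, 6, 8, 10, 4, 6, 8, 2, 4, 6, 14, 16, 12, 10, 4, 6, 8, 2, 4, 6, 14, 0, 2, 4, 6, 8, 10, 12] (.cons [8, 10, 6, 12, 6, 4, 0, 2, 4, 14, 12] .nil .nil) .nil) (.cons [12, 10, 8, 2, 4, 6, 16, 18, 10, 8, 4, 6, 16, 0, 2, 4, 6, 8, 10, 12, 14] .nil (.cons [14, 12, 10, 8, 4, 6, 16, 18, 10, 8, 4, 6, 16, 0, 2, 4, 6, 8, 10, 12, 14] .nil (.cons [12, 10, 8, 0, 2, 4, 6, 16, 18, 8, 4, 6, 16, 0, 2, 4, 6, 8, 10, 12, 14] (.cons [14, 12, 10,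 6, 8, 0, 2, 4, 6, 14, 16, 12, 10, 8, 2, 4, 6, 14, 0, 2, 4, 6, 8, 10, 12] (.cons [4, 6, 10, 8, 10, 0, 6, 4, 2, 8, 6] .nil .nil) .nil) (.cons [14, 12, 10, 8, 2, 4, 6, 16, 18, 8, 4, 6, 16, 0, 2, 4, 6, 8, 10, 12, 14] (.cons [14, 6, 8, 10, 4, 6, 8, 2, 4, 6, 14, 16, 10, 6, 8, 2, 4, 6, 14, 0, 2, 4, 6, 8, 10, 12] (.cons [8, 4, 6, 12, 14, 6, 8, 10, 12, 6, 4, 6, 2] .nil .nil) .nil) (.cons [8, 0, 2, 4, 6, 16, 18, 14, 12, 10, 8, 6, 16, 0, 2, 4, 6, 8, 10, 12, 14] (.cons [10, 8, 0, 2, 4, 6, 14, 16, 14, 12, 10, 6, 8, 2, 4, 6, 14, 0, 2, 4, 6, 8, 10, 12] (.cons [6, 4, 0, 2, 4, 6, 8, 6, 10, 8] .nil .nil) .nil) (.cons [6, 8, 2, 4, 6, 16, 18, 14, 12, 10, 8, 6, 16, 0, 2, 4, 6, 8, 10, 12, 14] .nil (.cons [10, 8, 2, 4, 6, 16, 18,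 14, 12, 10, 8, 6, 16, 0, 2, 4, 6, 8, 10, 12, 14] .nil (.cons [10, 8, 0, 2, 4, 6, 16, 18, 12, 10, 8, 6, 16, 0, 2, 4, 6, 8, 10, 12, 14] .nil (.cons [4, 6, 8, 2, 4, 6, 16, 18, 12, 10, 8, 6, 16, 0, 2, 4, 6, 8, 10, 12, 14] (.cons [4, 6, 14, 8, 10, 4, 6, 8, 2, 4, 6, 14, 16, 12, 10, 8, 4, 6, 14, 0, 2, 4, 6, 8, 10, 12] (.cons [4, 10, 12, 2, 8, 6, 12, 14, 4, 6, 0, 2] .nil .nil) .nil) (.cons [16, 6, 8, 2, 4, 6, 16, 18, 12, 10, 8, 6, 16, 0, 2, 4, 6, 8, 10, 12, 14] (.cons [8, 4, 6, 14, 16, 8, 4, 6, 14, 10, 12, 8, 10, 4, 6, 8, 2, 4, 6, 14, 16, 10, 4, 6, 8, 2, 4, 6, 14, 0, 2, 4, 6, 8, 10, 12] .nil .nil) (.cons [8, 10, 6, 8, 4, 6, 16, 18, 12, 10, 8, 6, 16, 0, 2, 4, 6, 8, 10, 12, 14] (.cons [14, 16, 4, 6, 14, 12, 8, 10, 6,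 8, 0, 2, 4, 6, 14, 16, 12, 10, 4, 6, 8, 2, 4, 6, 14, 0, 2, 4, 6, 8, 10, 12] (.cons [14, 4, 2, 4, 12, 6, 4, 2, 8, 10] .nil .nil) .nil) (.cons [16, 10, 6, 8, 4, 6, 16, 18, 12, 10, 8, 6, 16, 0, 2, 4, 6, 8, 10, 12, 14] .nil (.cons [18, 16, 6, 8, 4, 6, 16, 18, 12, 10, 8, 6, 16, 0, 2, 4, 6, 8, 10, 12, 14] (.cons [10, 8, 4, 6, 14, 16, 10, 12, 8, 10, 6, 8, 2, 4, 6, 14, 0, 2, 4, 6, 8, 10, 12] (.cons [2, 4, 6, 12, 14, 8, 6, 10] .nil .nil) .nil) (.cons [4, 6, 8, 0, 2, 4, 6, 16, 18, 10, 8, 6, 16, 0, 2, 4, 6, 8, 10, 12, 14] (.cons [10, 6, 8, 0, 4, 2, 14, 6, 4, 8, 6, 14, 10, 12, 8, 10, 6, 8, 4, 6, 14, 16, 2, 4, 6, 14, 0, 2, 4, 6, 8, 10, 12] (.cons [14, 6, 8, 6, 2, 4, 0, 2, 10, 8] .nil .nil) .nil) (.cons [16, 4, 6, 8, 2, 4,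 6, 16, 18, 10, 8, 6, 16, 0, 2, 4, 6, 8, 10, 12, 14] (.cons [10, 8, 6, 4, 2, 0, 6, 8, 12, 4, 6, 14, 8, 10, 6, 8, 4, 6, 14, 16, 12, 10, 8, 4, 6, 14, 2, 4, 6, 8, 10, 12] (.cons [10, 8, 6, 12, 4, 6, 8, 4, 2, 4, 10, 12, 14, 8] (.cons [3, 1, 3, 0, 4] .nil .nil) .nil) .nil) (.cons [8, 6, 16, 12, 14, 10, 12, 8, 10, 6, 8, 4, 6, 16, 2, 4, 6, 8, 10, 12, 14] .nil (.cons [18, 6, 16, 12, 14, 10, 12, 8, 10, 6, 8, 4, 6, 16, 2, 4, 6, 8, 10, 12, 14] .nil (.cons [16, 18, 16, 12, 14, 10, 12, 8, 10, 6, 8, 4, 6, 16, 2, 4, 6, 8, 10, 12, 14] (.cons [0, 2, 4, 6, 14, 8, 10, 6, 8, 4, 6, 14, 16, 6, 14, 12, 10, 4, 6, 8, 2, 4, 6, 14, 0, 2, 4, 6, 8, 10, 12] (.cons [6, 2, 12, 8, 10, 14, 6, 4, 8, 6, 12, 6, 4, 14, 12] .nil .nil) .nil) (.cons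 [6, 16, 18, 12, 14, 10, 12, 8, 10, 6, 8, 4, 6, 16, 2, 4, 6, 8, 10, 12, 14] (.cons [14, 16, 4, 6, 14, 12, 10, 8, 0, 6, 4, 2, 0, 10, 14, 12, 8, 10, 6, 8, 4, 6, 14, 16, 12, 10, 6, 8, 4, 6, 14, 2, 4, 6, 8, 10, 12] .nil .nil) (.cons [18, 8, 6, 16, 14, 10, 12, 8, 10, 6, 8, 4, 6, 16, 2, 4, 6, 8, 10, 12, 14] (.cons [8, 4, 6, 14, 16, 12, 10, 8, 6, 14, 0, 2, 4, 6, 8, 10, 12] .nil .nil) (.cons [16, 18, 6, 16, 14, 10, 12, 8, 10, 6, 8, 4, 6, 16, 2, 4, 6, 8, 10, 12, 14] (.cons [4, 6, 14, 10, 2, 4, 6, 8, 0, 2, 4, 6, 14, 16, 12, 8, 10, 4, 6, 8, 2, 4, 6, 14, 0, 2, 4, 6, 8, 10, 12] (.cons [12, 6, 8, 4, 6, 12, 14, 10, 12, 6, 8, 6, 4, 0, 2, 4, 10, 8] .nil .nil) .nil) (.cons [6, 16, 18, 16, 14, 10, 12, 8, 10, 6, 8, 4, 6, 16, 2,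 4, 6, 8, 10, 12, 14] (.cons [10, 8, 6, 14, 10, 4, 6, 8, 2, 4, 6, 14, 16, 12, 6, 8, 10, 4, 6, 8, 2, 4, 6, 14, 0, 2, 4, 6, 8, 10, 12] (.cons [6, 8, 2, 4, 6, 12, 14, 10, 8, 6, 4, 0, 2, 4, 8, 10] .nil .nil) .nil) (.cons [4, 6, 16, 18, 14, 10, 12, 8, 10, 6, 8, 4, 6, 16, 2, 4, 6, 8, 10, 12, 14] (.cons [8, 4, 6, 14, 6, 8, 10, 4, 6, 8, 2, 4, 6, 14, 16, 12, 10, 6, 8, 2, 4, 6, 14, 0, 2, 4, 6, 8, 10, 12] (.cons [14, 8, 4, 6, 12, 14, 6, 4, 2, 12, 6, 8, 10] .nil .nil) .nil) (.cons [8, 6, 16, 18, 14, 10, 12, 8, 10, 6, 8, 4, 6, 16, 2, 4, 6, 8, 10, 12, 14] .nil (.cons [8, 2, 4, 6, 16, 10, 12, 8, 10, 6, 8, 4, 6, 16, 2, 4, 6, 8, 10, 12, 14] (.cons [16, 12, 10, 8, 6, 14, 10, 12, 8, 10, 4, 6, 8, 2, 4, 6, 14, 16, 10, 6, 8, 2, 4,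 6, 14, 0, 2, 4, 6, 8, 10, 12] (.cons [14, 12, 6, 8, 4, 6, 10, 8, 14, 12, 6, 4, 2, 8, 10, 12, 14] .nil .nil) .nil) (.cons [6, 8, 4, 6, 16, 10, 12, 8, 10, 6, 8, 4, 6, 16, 2, 4, 6, 8, 10, 12, 14] (.cons [8, 6, 14, 10, 12, 8, 10, 6, 8, 0, 2, 4, 6, 14, 16, 6, 8, 2, 4, 6, 14, 0, 2, 4, 6, 8, 10, 12] (.cons [14, 6, 12, 2, 6, 8, 10, 14, 8, 12] .nil .nil) .nil) (.cons [18, 8, 4, 6, 16, 10, 12, 8, 10, 6, 8, 4, 6, 16, 2, 4, 6, 8, 10, 12, 14] (.cons [16, 2, 4, 6, 14, 10, 12, 8, 10, 6, 8, 4, 6, 14, 16, 10, 8, 2, 4, 6, 14, 0, 2, 4, 6, 8, 10, 12] (.cons [0, 2, 4, 6, 12, 14, 10, 4, 2, 4, 0, 6, 8, 10, 12, 6, 4, 2] .nil .nil) .nil) (.cons [4, 6, 16, 18, 16, 10, 12, 8, 10, 6, 8, 4, 6, 16, 2, 4, 6, 8, 10, 12, 14] (.cons [12, 10,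 8, 6, 14, 10, 12, 8, 10, 4, 6, 8, 2, 4, 6, 14, 16, 10, 8, 2, 4, 6, 14, 0, 2, 4, 6, 8, 10, 12] .nil .nil) (.cons [2, 4, 6, 16, 18, 10, 12, 8, 10, 6, 8, 4, 6, 16, 2, 4, 6, 8, 10, 12, 14] (.cons [16, 10, 6, 8, 0, 2, 4, 6, 14, 12, 8, 10, 6, 8, 0, 2, 4, 6, 14, 16, 12, 10, 8, 2, 4, 6, 14, 0, 2, 4, 6, 8, 10, 12] (.cons [0, 2, 4, 6, 12, 14, 2, 6, 8, 10, 0, 4, 8, 6, 4, 2] .nil .nil) .nil) (.cons [8, 4, 6, 16, 18, 10, 12, 8, 10, 6, 8, 4, 6, 16, 2, 4, 6, 8, 10, 12, 14] (.cons [10, 6, 8, 4, 6, 14, 16, 14, 12, 8, 10, 6, 8, 2, 4, 6, 14, 0, 2, 4, 6, 8, 10, 12] (.cons [8, 4, 6, 12, 6, 8, 4, 6, 10, 4, 2, 12, 14] .nil .nil) .nil) (.cons [6, 16, 18, 6, 16, 14, 12, 8, 10, 6, 8, 4, 6, 16, 2, 4, 6, 8, 10, 12, 14] .nil (.cons [8,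 6, 16, 18, 16, 14, 12, 8, 10, 6, 8, 4, 6, 16, 2, 4, 6, 8, 10, 12, 14] (.cons [2, 4, 6, 14, 6, 8, 10, 4, 6, 8, 0, 2, 4, 6, 14, 16, 12, 10, 4, 6, 8, 2, 4, 6, 14, 0, 2, 4, 6, 8, 10, 12] .nil .nil) (.cons [8, 4, 6, 16, 18, 14, 12, 8, 10, 6, 8, 4, 6, 16, 2, 4, 6, 8, 10, 12, 14] (.cons [14, 6, 8, 10, 4, 6, 8, 2, 4, 6, 14, 16, 12, 10, 4, 6, 8, 2, 4, 6, 14, 0, 2, 4, 6, 8, 10, 12] (.cons [4, 12, 2, 6, 8, 10, 8, 6, 12, 14, 4, 6, 0, 2] .nil .nil) .nil) (.cons [10, 8, 6, 16, 18, 14, 12, 8, 10, 6, 8, 4, 6, 16, 2, 4, 6, 8, 10, 12, 14] (.cons [16, 2, 4, 6, 14, 8, 10, 4, 6, 8, 2, 4, 6, 14, 16, 12, 10, 4, 6, 8, 2, 4, 6, 14, 0, 2, 4, 6, 8, 10, 12] (.cons [6, 8, 10, 12, 6, 12, 2, 4, 6, 0, 2, 12, 14] .nil .nil) .nil) (.cons [8,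 6, 16, 18, 6, 16, 12, 8, 10, 6, 8, 4, 6, 16, 2, 4, 6, 8, 10, 12, 14] (.cons [8, 10, 6, 8, 0, 2, 4, 6, 14, 16, 4, 6, 8, 2, 4, 6, 14, 0, 2, 4, 6, 8, 10, 12] (.cons [14, 10, 8, 0, 6, 4, 2, 8, 6] .nil .nil) .nil) (.cons [8, 4, 6, 16, 18, 16, 12, 8, 10, 6, 8, 4, 6, 16, 2, 4, 6, 8, 10, 12, 14] (.cons [8, 4, 6, 14, 16, 10, 8, 6, 14, 10, 12, 6, 8, 10, 4, 6, 8, 0, 2, 4, 6, 14, 16, 10, 4, 6, 8, 2, 4, 6, 14, 0, 2, 4, 6, 8, 10, 12] (.cons [12, 0, 2, 14, 8, 10, 12, 6, 4] .nil .nil) .nil) (.cons [10, 8, 6, 16, 18, 16, 12, 8, 10, 6, 8, 4, 6, 16, 2, 4, 6, 8, 10, 12, 14] (.cons [12, 10, 8, 6, 14, 12, 8, 10, 4, 6, 8, 2, 4, 6, 14, 16, 10, 4, 6, 8, 2, 4, 6, 14, 0, 2, 4, 6, 8, 10, 12] (.cons [12, 14, 2, 4, 12, 6, 4, 2, 8, 10] .nil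 .nil) .nil) (.cons [8, 2, 4, 6, 16, 18, 12, 8, 10, 6, 8, 4, 6, 16, 2, 4, 6, 8, 10, 12, 14] (.cons [14, 10, 2, 4, 6, 8, 0, 2, 4, 6, 14, 16, 10, 8, 4, 6, 14, 8, 10, 12, 6, 8, 10, 4, 6, 8, 2, 4, 6, 14, 16, 14, 8, 10, 4, 6, 8, 2, 4, 6, 14, 0, 2, 4, 6, 8, 10, 12] (.cons [2, 4, 14, 12, 6, 8, 4, 6, 12, 14, 12, 6, 8, 10, 4, 6, 2] .nil .nil) .nil) (.cons [10, 8, 4, 6, 16, 18, 12, 8, 10, 6, 8, 4, 6, 16, 2, 4, 6, 8, 10, 12, 14] (.cons [10, 8, 14, 6, 4, 2, 0, 10, 12, 8, 10, 6, 8, 4, 6, 14, 16, 12, 8, 10, 6, 8, 4, 6, 14, 2, 4, 6, 8, 10, 12] (.cons [14, 8, 2, 10, 4, 0, 2, 8, 6] (.cons [3, 3, 0, 0] .nil .nil) .nil) .nil) (.cons [10, 8, 6, 16, 18, 6, 16, 8, 10, 6, 8, 4, 6, 16, 2, 4, 6, 8, 10, 12, 14] (.cons [12, 10, 8, 4, 6,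 14, 16, 8, 10, 14, 6, 2, 4, 6, 14, 8, 10, 12, 6, 8, 10, 4, 6, 8, 0, 2, 4, 6, 14, 16, 6, 8, 4, 6, 14, 0, 2, 4, 6, 8, 10, 12] (.cons [6, 12, 14, 4, 6, 8, 10, 12, 6, 4, 6, 2, 4] .nil .nil) .nil) (.cons [12, 10, 8, 6, 16, 18, 16, 8, 10, 6, 8, 4, 6, 16, 2, 4, 6, 8, 10, 12, 14] .nil (.cons [6, 8, 2, 4, 6, 16, 18, 8, 10, 6, 8, 4, 6, 16, 2, 4, 6, 8, 10, 12, 14] (.cons [2, 4, 6, 14, 8, 10, 6, 8, 4, 6, 14, 16, 12, 8, 10, 6, 8, 2, 4, 6, 14, 0, 2, 4, 6, 8, 10, 12] .nil .nil) (.cons [10, 6, 8, 4, 6, 16, 18, 8, 10, 6, 8, 4, 6, 16, 2, 4, 6, 8, 10, 12, 14] (.cons [8, 4, 6, 14, 16, 10, 8, 6, 14, 12, 8, 10, 4, 6, 8, 2, 4, 6, 14, 16, 12, 10, 4, 6, 8, 2, 4, 6, 14, 0, 2, 4, 6, 8, 10, 12] (.cons [2, 4, 6, 12, 14, 8, 2, 4, 6, 4, 0,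 2, 4, 8, 10] .nil .nil) .nil) (.cons [16, 6, 8, 4, 6, 16, 18, 8, 10, 6, 8, 4, 6, 16, 2, 4, 6, 8, 10, 12, 14] (.cons [16, 6, 10, 8, 2, 4, 6, 14, 10, 12, 8, 10, 4, 6, 8, 2, 4, 6, 14, 16, 12, 10, 8, 2, 4, 6, 14, 0, 2, 4, 6, 8, 10, 12] .nil .nil) (.cons [2, 4, 6, 16, 18, 16, 14, 12, 10, 6, 8, 4, 6, 16, 2, 4, 6, 8, 10, 12, 14] (.cons [16, 14, 10, 6, 8, 0, 2, 4, 6, 14, 16, 14, 12, 10, 4, 6, 8, 2, 4, 6, 14, 0, 2, 4, 6, 8, 10, 12] (.cons [12, 14, 8, 10, 8, 6, 4, 0, 2] .nil .nil) .nil) (.cons [10, 8, 6, 16, 18, 16, 14, 12, 10, 6, 8, 4, 6, 16, 2, 4, 6, 8, 10, 12, 14] (.cons [14, 6, 8, 10, 4, 6, 8, 2, 4, 6, 14, 16, 12, 10, 4, 6, 8, 2, 4, 6, 14, 0, 2, 4, 6, 8, 10, 12] (.cons [8, 0, 2, 4, 6, 12, 14, 4, 2, 4, 0, 6, 8, 10,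 12, 6, 4, 2] .nil .nil) .nil) (.cons [0, 2, 4, 6, 16, 18, 14, 12, 10, 6, 8, 4, 6, 16, 2, 4, 6, 8, 10, 12, 14] (.cons [14, 16, 8, 6, 14, 6, 8, 10, 4, 6, 8, 0, 2, 4, 6, 14, 16, 14, 12, 10, 4, 6, 8, 2, 4, 6, 14, 0, 2, 4, 6, 8, 10, 12] (.cons [2, 4, 6, 12, 14, 0, 10, 8, 4, 2, 12, 6, 4, 0, 2, 8, 10] .nil .nil) .nil) (.cons [10, 8, 4, 6, 16, 18, 14, 12, 10, 6, 8, 4, 6, 16, 2, 4, 6, 8, 10, 12, 14] (.cons [14, 16, 8, 6, 14, 10, 4, 6, 8, 2, 4, 6, 14, 16, 14, 12, 10, 4, 6, 8, 2, 4, 6, 14, 0, 2, 4, 6, 8, 10, 12] (.cons [4, 6, 12, 14, 8, 2, 4, 6, 0, 2, 4, 6, 8, 10] (.cons [3, 1, 2, 2, 2] .nil .nil) .nil) .nil) (.cons [12, 10, 8, 6, 16, 18, 14, 12, 10, 6, 8, 4, 6, 16, 2, 4, 6, 8, 10, 12, 14] (.cons [16, 14, 6, 2, 4, 6, 14,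 8, 10, 12, 6, 8, 10, 4, 6, 8, 0, 2, 4, 6, 14, 16, 6, 8, 4, 6, 14, 0, 2, 4, 6, 8, 10, 12] (.cons [12, 6, 4, 0, 2, 4, 6, 8, 10] .nil .nil) .nil) (.cons [0, 2, 4, 6, 16, 18, 16, 12, 10, 6, 8, 4, 6, 16, 2, 4, 6, 8, 10, 12, 14] .nil (.cons [8, 2, 4, 6, 16, 18, 16, 12, 10, 6, 8, 4, 6, 16, 2, 4, 6, 8, 10, 12, 14] (.cons [8, 6, 14, 16, 4, 6, 14, 8, 10, 4, 6, 8, 2, 4, 6, 14, 16, 14, 12, 10, 4, 6, 8, 2, 4, 6, 14, 0, 2, 4, 6, 8, 10, 12] (.cons [6, 12, 10, 6, 4, 2, 4, 6, 12, 14] .nil .nil) .nil) (.cons [10, 8, 4, 6, 16, 18, 16, 12, 10, 6, 8, 4, 6, 16, 2, 4, 6, 8, 10, 12, 14] (.cons [14, 12, 10, 6, 8, 2, 4, 6, 14, 16, 8, 10, 6, 8, 4, 6, 14, 0, 2, 4, 6, 8, 10, 12] .nil .nil) (.cons [10, 8, 2, 4, 6, 16, 18, 12, 10, 6, 8, 4,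 6, 16, 2, 4, 6, 8, 10, 12, 14] .nil (.cons [10, 6, 8, 4, 6, 16, 18, 12, 10, 6, 8, 4, 6, 16, 2, 4, 6, 8, 10, 12, 14] (.cons [16, 10, 2, 4, 6, 14, 8, 10, 12, 6, 8, 10, 4, 6, 8, 0, 2, 4, 6, 14, 16, 6, 8, 4, 6, 14, 0, 2, 4, 6, 8, 10, 12] (.cons [2, 4, 6, 12, 10, 8, 6, 4, 2, 4, 8, 10, 12, 14] .nil .nil) .nil) (.cons [16, 6, 8, 4, 6, 16, 18, 12, 10, 6, 8, 4, 6, 16, 2, 4, 6, 8, 10, 12, 14] (.cons [14, 16, 2, 4, 6, 14, 12, 8, 10, 6, 8, 4, 6, 14, 16, 14, 8, 10, 6, 8, 2, 4, 6, 14, 0, 2, 4, 6, 8, 10, 12] .nil .nil) (.cons [12, 10, 8, 4, 6, 16, 18, 12, 10, 6, 8, 4, 6, 16, 2, 4, 6, 8, 10, 12, 14] (.cons [16, 14, 12, 8, 10, 6, 8, 4, 6, 14, 16, 6, 14, 10, 4, 6, 8, 2, 4, 6, 14, 0, 2, 4, 6, 8, 10, 12] (.cons [0, 4, 10, 12, 6,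 8, 4, 2, 6, 10, 8] .nil .nil) .nil) (.cons [8, 0, 2, 4, 6, 16, 18, 16, 10, 6, 8, 4, 6, 16, 2, 4, 6, 8, 10, 12, 14] (.cons [2, 0, 14, 8, 10, 6, 8, 4, 6, 14, 16, 10, 12, 8, 10, 6, 8, 4, 6, 14, 2, 4, 6, 8, 10, 12] .nil .nil) (.cons [12, 10, 8, 4, 6, 16, 18, 16, 10, 6, 8, 4, 6, 16, 2, 4, 6, 8, 10, 12, 14] (.cons [16, 14, 10, 12, 6, 8, 10, 4, 6, 8, 0, 2, 4, 6, 14, 16, 6, 8, 4, 6, 14, 0, 2, 4, 6, 8, 10, 12] (.cons [12, 6, 4, 0, 2, 12, 14, 8] .nil .nil) .nil) (.cons [6, 8, 0, 2, 4, 6, 16, 18, 10, 6, 8, 4, 6, 16, 2, 4, 6, 8, 10, 12, 14] (.cons [0, 2, 6, 14, 4, 6, 8, 10, 16, 14, 8, 6, 14, 16, 4, 6, 14, 8, 10, 12, 6, 8, 10, 4, 6, 8, 2, 4, 6, 14, 16, 6, 8, 4, 6, 14, 0, 2, 4, 6, 8, 10, 12] .nil .nil) (.cons [10, 8, 0, 2,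 4, 6, 16, 18, 10, 6, 8, 4, 6, 16, 2, 4, 6, 8, 10, 12, 14] (.cons [16, 14, 12, 10, 2, 4, 6, 8, 0, 2, 4, 6, 14, 16, 14, 10, 4, 6, 8, 2, 4, 6, 14, 0, 2, 4, 6, 8, 10, 12] (.cons [0, 2, 8, 6, 4, 12, 6, 8, 10, 14, 4, 6, 12, 14, 8, 6, 4, 0, 2] .nil .nil) .nil) (.cons [10, 6, 8, 2, 4, 6, 16, 18, 10, 6, 8, 4, 6, 16, 2, 4, 6, 8, 10, 12, 14] (.cons [14, 8, 10, 4, 6, 8, 2, 4, 6, 14, 16, 12, 10, 8, 2, 4, 6, 14, 0, 2, 4, 6, 8, 10, 12] (.cons [2, 4, 6, 12, 6, 8, 10, 8, 6, 12, 14, 4, 6, 2] .nil .nil) .nil) (.cons [12, 10, 8, 2, 4, 6, 16, 18, 10, 6, 8, 4, 6, 16, 2, 4, 6, 8, 10, 12, 14] (.cons [10, 12, 8, 10, 4, 6, 8, 2, 4, 6, 14, 16, 14, 12, 8, 10, 6, 8, 2, 4, 6, 14, 0, 2, 4, 6, 8, 10, 12] (.cons [8, 6, 4, 12, 14, 6, 0, 2, 8,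 10] .nil .nil) .nil) (.cons [8, 10, 6, 8, 4, 6, 16, 18, 10, 6, 8, 4, 6, 16, 2, 4, 6, 8, 10, 12, 14] (.cons [6, 14, 8, 10, 4, 6, 8, 2, 4, 6, 14, 16, 12, 8, 10, 6, 8, 2, 4, 6, 14, 0, 2, 4, 6, 8, 10, 12] (.cons [6, 0, 2, 10, 8, 6, 12, 14, 4, 6] .nil .nil) .nil) (.cons [12, 10, 6, 8, 4, 6, 16, 18, 10, 6, 8, 4, 6, 16, 2, 4, 6, 8, 10, 12, 14] (.cons [6, 8, 2, 4, 6, 14, 16, 14, 6, 8, 4, 6, 14, 10, 12, 6, 8, 10, 4, 6, 8, 2, 4, 6, 14, 16, 14, 12, 10, 6, 8, 2, 4, 6, 14, 0, 2, 4, 6, 8, 10, 12] (.cons [12, 14, 2, 4, 12, 6, 8, 4, 0, 2, 4, 10, 8] .nil .nil) .nil) (.cons [16, 10, 6, 8, 4, 6, 16, 18, 10, 6, 8, 4, 6, 16, 2, 4, 6, 8, 10, 12, 14] (.cons [14, 10, 6, 8, 4, 6, 14, 16, 14, 12, 8, 10, 4, 6, 8, 2, 4, 6, 14, 0, 2, 4,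 6, 8, 10, 12] .nil .nil) (.cons [4, 6, 8, 2, 4, 6, 16, 18, 16, 6, 8, 4, 6, 16, 2, 4, 6, 8, 10, 12, 14] (.cons [12, 10, 8, 4, 6, 14, 10, 12, 8, 10, 4, 6, 8, 2, 4, 6, 14, 16, 10, 6, 8, 2, 4, 6, 14, 0, 2, 4, 6, 8, 10, 12] .nil .nil) (.cons [10, 6, 8, 2, 4, 6, 16, 18, 16, 6, 8, 4, 6, 16, 2, 4, 6, 8, 10, 12, 14] .nil (.cons [16, 6, 8, 2, 4, 6, 16, 18, 16, 6, 8, 4, 6, 16, 2, 4, 6, 8, 10, 12, 14] (.cons [16, 12, 10, 8, 6, 14, 12, 10, 4, 6, 8, 2, 4, 6, 14, 16, 12, 10, 8, 2, 4, 6, 14, 0, 2, 4, 6, 8, 10, 12] .nil .nil) (.cons [12, 10, 8, 2, 4, 6, 16, 18, 16, 6, 8, 4, 6, 16, 2, 4, 6, 8, 10, 12, 14] (.cons [12, 10, 8, 4, 6, 14, 8, 10, 4, 6, 8, 2, 4, 6, 14, 16, 12, 8, 10, 6, 8, 2, 4, 6, 14, 0, 2, 4, 6, 8, 10, 12] .nil .nil)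 (.cons [8, 10, 6, 8, 4, 6, 16, 18, 16, 6, 8, 4, 6, 16, 2, 4, 6, 8, 10, 12, 14] (.cons [10, 8, 6, 14, 12, 8, 10, 4, 6, 8, 2, 4, 6, 14, 16, 8, 10, 4, 6, 8, 2, 4, 6, 14, 0, 2, 4, 6, 8, 10, 12] (.cons [6, 12, 14, 10, 6, 8, 10, 12, 6, 2, 4, 0, 2] (.cons [5, 1, 4, 1, 1] .nil .nil) .nil) .nil) (.cons [12, 10, 6, 8, 4, 6, 16, 18, 16, 6, 8, 4, 6, 16, 2, 4, 6, 8, 10, 12, 14] (.cons [8, 6, 14, 16, 12, 10, 8, 6, 14, 12, 8, 10, 4, 6, 8, 2, 4, 6, 14, 16, 10, 4, 6, 8, 2, 4, 6, 14, 0, 2, 4, 6, 8, 10, 12] (.cons [0, 2, 4, 6, 12, 8, 10, 8, 6, 2, 4, 0, 2, 12, 14] .nil .nil) .nil) .nil))))))))))))))))))))))))))))))))))))))))))))))))))))))))))))))))))))))))))))))))))))))))))))))))))))))))))))))))))))))))))))))))))))))))))))))))))))))))))))))))))))))))))))))))))))))))))))))))))))))))))))))))))))))))))))))))))))))))))))))))))))))))))))))))))))))))))))))))))))))))))))))))))))))))))))))))))))))))))))))))))))))))))))))))))))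 (⟨cu_l0.b, cu_l0.S, [], cu_R2, 0⟩ :: cu_tl) (0 :: cu_lk) Pd.nil 0 = true := by decide +kernel
theorem cu_r3 : cu_S.run (.cons [16, 10, 6, 8, 4, 6, 16, 18, 16, 6, 8, 4, 6, 16, 2, 4, 6, 8, 10, 12, 14] .nil (.cons [14, 12, 10, 8, 4, 6, 16, 18, 16, 6, 8, 4, 6, 16, 2, 4, 6, 8, 10, 12, 14] (.cons [10, 8, 6, 14, 16, 2, 4, 6, 14, 10, 12, 6, 8, 10, 4, 6, 8, 2, 4, 6, 14, 16, 12, 10, 4, 6, 8, 2, 4, 6, 14, 0, 2, 4, 6, 8, 10, 12] (.cons [2, 8, 12] .nil .nil) .nil) (.cons [4, 6, 8, 0, 2, 4, 6, 16, 18, 6, 8, 4, 6, 16, 2, 4, 6, 8, 10, 12, 14] (.cons [14, 16, 4, 6, 14, 8, 10, 12, 6, 8, 10, 4, 6, 8, 2, 4, 6, 14, 16, 14, 10, 4, 6, 8, 2, 4, 6, 14, 0, 2, 4, 6, 8, 10, 12] .nil .nil) (.cons [10, 6, 8, 0, 2, 4, 6, 16, 18, 6, 8, 4,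 6, 16, 2, 4, 6, 8, 10, 12, 14] (.cons [16, 14, 6, 8, 10, 4, 6, 8, 0, 2, 4, 6, 14, 16, 4, 6, 8, 2, 4, 6, 14, 0, 2, 4, 6, 8, 10, 12] (.cons [12, 6, 4, 2, 10, 8, 14, 4, 6, 12, 14, 8, 6, 4, 12] .nil .nil) .nil) (.cons [8, 10, 6, 8, 2, 4, 6, 16, 18, 6, 8, 4, 6, 16, 2, 4, 6, 8, 10, 12, 14] (.cons [12, 10, 6, 8, 2, 4, 6, 14, 16, 14, 8, 10, 6, 8, 4, 6, 14, 0, 2, 4, 6, 8, 10, 12] (.cons [0, 2, 4, 8, 10, 12, 6, 8, 10, 4, 6, 12, 14, 8, 6, 4, 0, 2] .nil .nil) .nil) (.cons [12, 8, 10, 6, 8, 4, 6, 16, 18, 6, 8, 4, 6, 16, 2, 4, 6, 8, 10, 12, 14] (.cons [6, 8, 2, 4, 6, 14, 16, 14, 10, 12, 8, 10, 6, 8, 4, 6, 14, 0, 2, 4, 6, 8, 10, 12] (.cons [4, 2, 14, 10, 12, 6, 4, 14, 8, 12, 6, 8, 10] .nil .nil) .nil) (.cons [10, 6, 8, 4,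 6, 16, 18, 14, 12, 10, 8, 4, 6, 16, 2, 4, 6, 8, 10, 12, 14] .nil (.cons [12, 10, 8, 4, 6, 16, 18, 14, 12, 10, 8, 4, 6, 16, 2, 4, 6, 8, 10, 12, 14] (.cons [2, 4, 6, 14, 16, 8, 10, 14, 6, 8, 0, 2, 4, 6, 14, 12, 8, 10, 4, 6, 8, 0, 2, 4, 6, 14, 16, 12, 10, 8, 2, 4, 6, 14, 0, 2, 4, 6, 8, 10, 12] (.cons [0, 12, 6, 4, 2, 14, 12, 6, 8, 4, 6, 10] .nil .nil) .nil) (.cons [14, 12, 10, 8, 6, 16, 18, 14, 12, 10, 8, 4, 6, 16, 2, 4, 6, 8, 10, 12, 14] (.cons [14, 16, 8, 6, 14, 10, 4, 6, 8, 0, 2, 4, 6, 14, 16, 12, 10, 4, 6, 8, 2, 4, 6, 14, 0, 2, 4, 6, 8, 10, 12] (.cons [4, 6, 8, 2, 4, 6, 12, 14, 4, 6, 8, 12, 6, 8, 10, 4, 6, 0, 2] (.cons [4, 1, 5, 2, 1, 3] .nil .nil) .nil) .nil) (.cons [6, 8, 0, 2, 4, 6, 16, 18, 12, 10, 8, 4,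 6, 16, 2, 4, 6, 8, 10, 12, 14] (.cons [6, 8, 0, 2, 4, 6, 14, 16, 8, 0, 2, 4, 6, 14, 8, 10, 12, 6, 8, 10, 4, 6, 8, 2, 4, 6, 14, 16, 10, 4, 6, 8, 2, 4, 6, 14, 0, 2, 4, 6, 8, 10, 12] .nil .nil) (.cons [12, 10, 8, 2, 4, 6, 16, 18, 12, 10, 8, 4, 6, 16, 2, 4, 6, 8, 10, 12, 14] (.cons [16, 12, 10, 8, 2, 4, 6, 14, 12, 8, 10, 4, 6, 8, 2, 4, 6, 14, 16, 8, 10, 6, 8, 2, 4, 6, 14, 0, 2, 4, 6, 8, 10, 12] (.cons [10, 4, 6, 8, 10, 0, 12, 6, 4, 2, 4] .nil .nil) .nil) (.cons [8, 10, 6, 8, 4, 6, 16, 18, 12, 10, 8, 4, 6, 16, 2, 4, 6, 8, 10, 12, 14] .nil (.cons [12, 10, 6, 8, 4, 6, 16, 18, 12, 10, 8, 4, 6, 16, 2, 4, 6, 8, 10, 12, 14] (.cons [8, 6, 14, 10, 0, 8, 6, 4, 2, 0, 14, 10, 12, 8, 10, 6, 8, 4, 6, 14, 16, 8, 10, 6, 8, 4, 6,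 14, 2, 4, 6, 8, 10, 12] .nil .nil) (.cons [16, 10, 6, 8, 4, 6, 16, 18, 12, 10, 8, 4, 6, 16, 2, 4, 6, 8, 10, 12, 14] (.cons [10, 8, 6, 14, 16, 14, 12, 8, 10, 6, 8, 4, 6, 14, 0, 2, 4, 6, 8, 10, 12] (.cons [14, 6, 0, 2] .nil .nil) .nil) (.cons [14, 12, 10, 8, 4, 6, 16, 18, 12, 10, 8, 4, 6, 16, 2, 4, 6, 8, 10, 12, 14] (.cons [6, 14, 16, 10, 8, 6, 14, 12, 6, 8, 10, 4, 6, 8, 0, 2, 4, 6, 14, 16, 10, 4, 6, 8, 2, 4, 6, 14, 0, 2, 4, 6, 8, 10, 12] .nil .nil) (.cons [10, 6, 8, 0, 2, 4, 6, 16, 18, 10, 8, 4, 6, 16, 2, 4, 6, 8, 10, 12, 14] (.cons [6, 14, 16, 14, 6, 8, 4, 6, 14, 10, 12, 8, 10, 4, 6, 8, 0, 2, 4, 6, 14, 16, 10, 4, 6, 8, 2, 4, 6, 14, 0, 2, 4, 6, 8, 10, 12] .nil .nil) (.cons [12, 10, 8, 0, 2, 4, 6, 16, 18, 10,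 8, 4, 6, 16, 2, 4, 6, 8, 10, 12, 14] (.cons [16, 10, 8, 10, 6, 14, 0, 6, 4, 2, 8, 4, 6, 14, 10, 12, 8, 10, 6, 8, 4, 6, 14, 16, 8, 2, 4, 6, 14, 0, 2, 4, 6, 8, 10, 12] (.cons [8, 4, 2, 6, 12, 14, 8, 12, 6, 8, 10] .nil .nil) .nil) (.cons [12, 10, 6, 8, 2, 4, 6, 16, 18, 10, 8, 4, 6, 16, 2, 4, 6, 8, 10, 12, 14] (.cons [8, 4, 6, 14, 16, 14, 6, 8, 4, 6, 14, 10, 12, 8, 10, 6, 8, 2, 4, 6, 14, 16, 4, 6, 8, 2, 4, 6, 14, 0, 2, 4, 6, 8, 10, 12] (.cons [4, 6, 12, 10, 8, 6, 10, 4, 0, 2, 12, 6, 4, 12, 14] .nil .nil) .nil) (.cons [14, 12, 10, 8, 2, 4, 6, 16, 18, 10, 8, 4, 6, 16, 2, 4, 6, 8, 10, 12, 14] (.cons [16, 6, 14, 12, 8, 10, 4, 6, 8, 0, 2, 4, 6, 14, 16, 10, 4, 6, 8, 2, 4, 6, 14, 0, 2, 4, 6, 8, 10, 12] .nil .nil) (.cons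 [14, 12, 10, 6, 8, 4, 6, 16, 18, 10, 8, 4, 6, 16, 2, 4, 6, 8, 10, 12, 14] (.cons [14, 6, 8, 2, 4, 6, 14, 16, 8, 10, 4, 6, 8, 2, 4, 6, 14, 0, 2, 4, 6, 8, 10, 12] (.cons [12, 14, 8, 10, 6, 4, 0, 2, 4, 12] .nil .nil) .nil) (.cons [16, 12, 10, 6, 8, 4, 6, 16, 18, 10, 8, 4, 6, 16, 2, 4, 6, 8, 10, 12, 14] .nil (.cons [14, 12, 10, 8, 0, 2, 4, 6, 16, 18, 8, 4, 6, 16, 2, 4, 6, 8, 10, 12, 14] (.cons [6, 14, 12, 6, 8, 10, 4, 6, 8, 0, 2, 4, 6, 14, 16, 8, 10, 6, 8, 4, 6, 14, 0, 2, 4, 6, 8, 10, 12] (.cons [6, 10] .nil .nil) .nil) (.cons [12, 10, 8, 2, 4, 6, 16, 18, 14, 12, 10, 8, 6, 16, 2, 4, 6, 8, 10, 12, 14] (.cons [16, 2, 4, 6, 14, 8, 10, 6, 8, 2, 4, 6, 14, 16, 14, 12, 10, 4, 6, 8, 2, 4, 6, 14, 0, 2, 4, 6, 8, 10, 12] .nil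 .nil) (.cons [8, 10, 6, 8, 4, 6, 16, 18, 14, 12, 10, 8, 6, 16, 2, 4, 6, 8, 10, 12, 14] (.cons [10, 8, 6, 14, 16, 12, 10, 6, 8, 2, 4, 6, 14, 0, 2, 4, 6, 8, 10, 12] (.cons [8, 6, 12, 0, 2, 4, 6, 4, 2, 4, 8, 10, 12, 14] .nil .nil) .nil) (.cons [12, 10, 6, 8, 4, 6, 16, 18, 14, 12, 10, 8, 6, 16, 2, 4, 6, 8, 10, 12, 14] (.cons [16, 6, 10, 8, 0, 2, 4, 6, 14, 12, 8, 10, 4, 6, 8, 0, 2, 4, 6, 14, 16, 12, 10, 8, 2, 4, 6, 14, 0, 2, 4, 6, 8, 10, 12] (.cons [6, 2, 8, 10] .nil .nil) .nil) (.cons [8, 10, 6, 8, 2, 4, 6, 16, 18, 12, 10, 8, 6, 16, 2, 4, 6, 8, 10, 12, 14] (.cons [4, 6, 14, 12, 8, 10, 6, 8, 2, 4, 6, 14, 16, 14, 10, 4, 6, 8, 2, 4, 6, 14, 0, 2, 4, 6, 8, 10, 12] (.cons [12, 14, 6, 8, 2, 4, 12, 6, 4, 2, 8, 10] .nil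 .nil) .nil) (.cons [10, 6, 8, 0, 2, 4, 6, 16, 18, 14, 12, 10, 8, 6, 16, 4, 6, 8, 10, 12, 14] (.cons [4, 6, 14, 8, 10, 6, 8, 4, 6, 14, 16, 12, 10, 8, 6, 14, 4, 6, 8, 10, 12] (.cons [8, 4, 6, 4, 2, 4, 8, 6, 10, 4] .nil .nil) .nil) (.cons [12, 10, 8, 0, 2, 4, 6, 16, 18, 14, 12, 10, 8, 6, 16, 4, 6, 8, 10, 12, 14] (.cons [4, 6, 14, 16, 10, 12, 8, 10, 6, 8, 4, 6, 14, 10, 12, 8, 10, 6, 8, 0, 2, 4, 6, 14, 16, 12, 10, 8, 2, 4, 6, 14, 0, 2, 4, 6, 8, 10, 12] (.cons [2, 0, 2, 4, 6, 8, 10, 6, 4, 8, 2, 12, 6, 8] .nil .nil) .nil) (.cons [16, 12, 10, 6, 8, 4, 6, 16, 18, 14, 12, 10, 8, 6, 16, 4, 6, 8, 10, 12, 14] .nil (.cons [8, 10, 6, 8, 0, 2, 4, 6, 16, 18, 12, 10, 8, 6, 16, 4, 6, 8, 10, 12, 14] (.cons [16, 14, 8, 10, 4, 6,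 8, 2, 4, 6, 14, 16, 12, 10, 4, 6, 8, 2, 4, 6, 14, 0, 2, 4, 6, 8, 10, 12] (.cons [2, 8, 6, 4, 10, 8, 6, 12, 14, 2, 4, 6, 8, 10, 12, 6, 4, 2, 4] .nil .nil) .nil) (.cons [6, 16, 8, 10, 6, 8, 4, 6, 16, 18, 12, 10, 8, 6, 16, 4, 6, 8, 10, 12, 14] (.cons [6, 14, 16, 4, 6, 14, 10, 12, 8, 10, 4, 6, 8, 0, 2, 4, 6, 14, 16, 8, 10, 6, 8, 2, 4, 6, 14, 0, 2, 4, 6, 8, 10, 12] (.cons [0, 2, 4, 6, 12, 14, 0, 2, 12, 6, 8, 10] .nil .nil) .nil) (.cons [18, 8, 10, 12, 6, 8, 10, 4, 6, 8, 2, 4, 6, 16, 0, 2, 4, 6, 8, 10, 12, 14] (.cons [6, 8, 2, 4, 6, 14, 16, 6, 8, 4, 6, 14, 10, 12, 6, 8, 10, 4, 6, 8, 2, 4, 6, 14, 16, 8, 10, 4, 6, 8, 2, 4, 6, 14, 0, 2, 4, 6, 8, 10, 12] (.cons [6, 4, 0, 2, 4, 6, 12, 4, 14, 12] .nil .nil) .nil) (.cons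 [18, 14, 10, 12, 6, 8, 10, 4, 6, 8, 2, 4, 6, 16, 0, 2, 4, 6, 8, 10, 12, 14] (.cons [10, 8, 6, 14, 16, 12, 10, 6, 8, 4, 6, 14, 2, 4, 6, 8, 10, 12] (.cons [6, 8, 10, 14, 12, 6, 4, 0, 2, 4, 12, 14] .nil .nil) .nil) (.cons [16, 18, 10, 12, 6, 8, 10, 4, 6, 8, 2, 4, 6, 16, 0, 2, 4, 6, 8, 10, 12, 14] (.cons [12, 10, 8, 6, 14, 16, 14, 8, 10, 6, 8, 4, 6, 14, 0, 2, 4, 6, 8, 10, 12] (.cons [10, 8, 4, 6, 12, 14, 6, 8, 4, 12, 6, 4, 0, 2, 8, 6, 10, 4] .nil .nil) .nil) (.cons [6, 16, 18, 12, 6, 8, 10, 4, 6, 8, 2, 4, 6, 16, 0, 2, 4, 6, 8, 10, 12, 14] (.cons [16, 4, 6, 14, 8, 10, 12, 6, 8, 10, 4, 6, 8, 2, 4, 6, 14, 16, 10, 6, 8, 2, 4, 6, 14, 0, 2, 4, 6, 8, 10, 12] (.cons [4, 8, 6, 12, 14, 4, 12, 10, 8, 6, 4, 0, 2, 4, 8, 10]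 .nil .nil) .nil) (.cons [8, 6, 16, 18, 6, 8, 10, 4, 6, 8, 2, 4, 6, 16, 0, 2, 4, 6, 8, 10, 12, 14] (.cons [14, 16, 10, 8, 6, 14, 12, 10, 4, 6, 8, 2, 4, 6, 14, 16, 14, 10, 4, 6, 8, 2, 4, 6, 14, 0, 2, 4, 6, 8, 10, 12] (.cons [4, 2, 4, 8, 10, 12] .nil .nil) .nil) (.cons [16, 12, 14, 10, 12, 8, 10, 4, 6, 8, 2, 4, 6, 16, 0, 2, 4, 6, 8, 10, 12, 14] (.cons [4, 2, 4, 6, 8, 10, 14, 8, 6, 14, 16, 4, 6, 14, 8, 10, 12, 6, 8, 10, 4, 6, 8, 2, 4, 6, 14, 16, 6, 8, 4, 6, 14, 0, 2, 4, 6, 8, 10, 12] (.cons [8, 0, 6, 8, 4, 2, 12, 6, 8, 10] .nil .nil) .nil) (.cons [18, 12, 14, 10, 12, 8, 10, 4, 6, 8, 2, 4, 6, 16, 0, 2, 4, 6, 8, 10, 12, 14] (.cons [6, 8, 2, 4, 6, 14, 16, 14, 6, 8, 4, 6, 14, 10, 8, 6, 4, 2, 14, 10, 12, 8, 10, 6, 8,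 4, 6, 14, 16, 10, 6, 8, 4, 6, 14, 0, 2, 4, 6, 8, 10, 12] (.cons [12, 10, 8, 6, 8, 2, 10, 12, 14, 0, 6, 4, 2, 8, 6] .nil .nil) .nil) (.cons [16, 18, 14, 10, 12, 8, 10, 4, 6, 8, 2, 4, 6, 16, 0, 2, 4, 6, 8, 10, 12, 14] .nil (.cons [16, 18, 16, 10, 12, 8, 10, 4, 6, 8, 2, 4, 6, 16, 0, 2, 4, 6, 8, 10, 12, 14] .nil (.cons [6, 16, 18, 10, 12, 8, 10, 4, 6, 8, 2, 4, 6, 16, 0, 2, 4, 6, 8, 10, 12, 14] .nil (.cons [6, 16, 18, 14, 12, 8, 10, 4, 6, 8, 2, 4, 6, 16, 0, 2, 4, 6, 8, 10, 12, 14] (.cons [16, 6, 14, 4, 6, 8, 2, 4, 6, 14, 16, 6, 14, 12, 10, 4, 6, 8, 2, 4, 6, 14, 0, 2, 4, 6, 8, 10, 12] .nil .nil) (.cons [4, 6, 16, 18, 12, 8, 10, 4, 6, 8, 2, 4, 6, 16, 0, 2, 4, 6, 8, 10, 12, 14] .nil (.cons [6, 16, 18, 16, 14, 12, 10,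 4, 6, 8, 2, 4, 6, 16, 0, 2, 4, 6, 8, 10, 12, 14] (.cons [10, 2, 4, 6, 8, 0, 2, 4, 6, 14, 16, 14, 12, 10, 4, 6, 8, 2, 4, 6, 14, 0, 2, 4, 6, 8, 10, 12] (.cons [6, 12, 14, 12, 2, 10, 8, 4, 6, 4, 2, 8, 10] .nil .nil) .nil) (.cons [4, 6, 16, 18, 14, 12, 10, 4, 6, 8, 2, 4, 6, 16, 0, 2, 4, 6, 8, 10, 12, 14] .nil (.cons [8, 6, 16, 18, 14, 12, 10, 4, 6, 8, 2, 4, 6, 16, 0, 2, 4, 6, 8, 10, 12, 14] (.cons [16, 4, 6, 14, 6, 8, 10, 4, 6, 8, 2, 4, 6, 14, 16, 14, 12, 10, 6, 8, 2, 4, 6, 14, 0, 2, 4, 6, 8, 10, 12] (.cons [8, 10, 4, 6, 8, 2, 4, 6, 12, 14, 6, 2, 4, 0, 6, 8, 10, 12, 6, 4, 2] .nil .nil) .nil) (.cons [4, 6, 16, 18, 16, 12, 10, 4, 6, 8, 2, 4, 6, 16, 0, 2, 4, 6, 8, 10, 12, 14] (.cons [14, 12, 10, 6, 8, 4, 6, 14, 16,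 12, 10, 6, 8, 4, 6, 14, 2, 4, 6, 8, 10, 12] (.cons [4, 6, 8, 2, 4, 10, 12, 6, 8, 14, 12, 6, 4, 0, 2, 8, 10, 12, 14] .nil .nil) .nil) (.cons [8, 6, 16, 18, 16, 12, 10, 4, 6, 8, 2, 4, 6, 16, 0, 2, 4, 6, 8, 10, 12, 14] (.cons [8, 4, 6, 14, 16, 8, 4, 6, 14, 10, 12, 8, 10, 2, 4, 6, 8, 0, 2, 4, 6, 14, 16, 14, 10, 4, 6, 8, 2, 4, 6, 14, 0, 2, 4, 6, 8, 10, 12] (.cons [2, 8, 10, 8, 6, 4, 12, 6, 8, 10, 14, 12, 6, 4, 2, 12, 14] .nil .nil) .nil) (.cons [8, 4, 6, 16, 18, 12, 10, 4, 6, 8, 2, 4, 6, 16, 0, 2, 4, 6, 8, 10, 12, 14] (.cons [6, 14, 16, 10, 8, 12, 10, 6, 4, 2, 14, 8, 6, 4, 10, 16, 6, 14, 12, 8, 10, 6, 8, 4, 6, 14, 16, 2, 4, 6, 14, 0, 2, 4, 6, 8, 10, 12] (.cons [4, 12, 6, 8, 0, 2, 10, 4, 0, 2, 8, 6] .nil .nil) .nil)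 (.cons [8, 6, 16, 18, 6, 16, 10, 4, 6, 8, 2, 4, 6, 16, 0, 2, 4, 6, 8, 10, 12, 14] (.cons [14, 16, 4, 10, 2, 4, 6, 14, 16, 8, 6, 14, 10, 12, 8, 10, 6, 8, 4, 6, 14, 16, 8, 2, 4, 6, 14, 0, 2, 4, 6, 8, 10, 12] (.cons [12, 4, 6, 8, 10, 12, 6, 4, 12, 14] .nil .nil) .nil) (.cons [8, 4, 6, 16, 18, 16, 10, 4, 6, 8, 2, 4, 6, 16, 0, 2, 4, 6, 8, 10, 12, 14] (.cons [2, 4, 6, 14, 10, 8, 6, 4, 2, 14, 12, 8, 10, 6, 8, 4, 6, 14, 16, 12, 10, 6, 8, 4, 6, 14, 0, 2, 4, 6, 8, 10, 12] (.cons [12, 14, 2, 8, 12, 6, 8, 10, 4, 6, 2] .nil .nil) .nil) (.cons [0, 2, 4, 6, 16, 18, 10, 4, 6, 8, 2, 4, 6, 16, 0, 2, 4, 6, 8, 10, 12, 14] (.cons [8, 4, 6, 14, 16, 14, 6, 8, 4, 6, 14, 0, 2, 4, 6, 8, 10, 12] (.cons [6, 12, 14, 4, 6, 8, 10] .nil .nil)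 .nil) (.cons [8, 2, 4, 6, 16, 18, 10, 4, 6, 8, 2, 4, 6, 16, 0, 2, 4, 6, 8, 10, 12, 14] (.cons [16, 14, 10, 6, 8, 2, 4, 6, 14, 16, 14, 8, 10, 6, 8, 2, 4, 6, 14, 0, 2, 4, 6, 8, 10, 12] .nil .nil) (.cons [4, 6, 16, 18, 8, 6, 16, 4, 6, 8, 2, 4, 6, 16, 0, 2, 4, 6, 8, 10, 12, 14] (.cons [0, 2, 4, 6, 14, 16, 14, 10, 6, 8, 4, 6, 14, 10, 12, 6, 8, 10, 4, 6, 8, 2, 4, 6, 14, 16, 10, 6, 8, 2, 4, 6, 14, 0, 2, 4, 6, 8, 10, 12] (.cons [10, 6, 8, 12, 6, 4, 2, 4, 8, 10] .nil .nil) .nil) (.cons [2, 4, 6, 16, 18, 6, 16, 4, 6, 8, 2, 4, 6, 16, 0, 2, 4, 6, 8, 10, 12, 14] (.cons [10, 8, 6, 14, 12, 10, 4, 6, 8, 2, 4, 6, 14, 16, 6, 14, 10, 4, 6, 8, 2, 4, 6, 14, 0, 2, 4, 6, 8, 10, 12] (.cons [2, 4, 0, 2, 4, 8, 10, 12, 14] .nil .nil)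 .nil) (.cons [10, 8, 6, 16, 18, 6, 16, 4, 6, 8, 2, 4, 6, 16, 0, 2, 4, 6, 8, 10, 12, 14] (.cons [2, 4, 6, 14, 16, 8, 6, 14, 10, 12, 8, 10, 4, 6, 8, 0, 2, 4, 6, 14, 16, 14, 12, 10, 6, 8, 2, 4, 6, 14, 0, 2, 4, 6, 8, 10, 12] .nil .nil) (.cons [0, 2, 4, 6, 16, 18, 16, 4, 6, 8, 2, 4, 6, 16, 0, 2, 4, 6, 8, 10, 12, 14] (.cons [8, 0, 6, 4, 2, 14, 16, 6, 14, 10, 12, 8, 10, 6, 8, 4, 6, 14, 16, 8, 2, 4, 6, 14, 0, 2, 4, 6, 8, 10, 12] (.cons [2, 4, 6, 8, 0, 2, 4, 6, 12, 14, 12, 6, 8, 10, 4, 6, 2, 4, 0, 2] .nil .nil) .nil) (.cons [8, 2, 4, 6, 16, 18, 16, 4, 6, 8, 2, 4, 6, 16, 0, 2, 4, 6, 8, 10, 12, 14] (.cons [8, 6, 14, 16, 8, 4, 6, 14, 10, 12, 8, 10, 4, 6, 8, 2, 4, 6, 14, 16, 8, 10, 6, 8, 2, 4, 6, 14, 0, 2, 4, 6, 8, 10, 12]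 (.cons [10, 4, 6, 8, 2, 4, 6, 12, 14, 2, 4, 10, 8, 12, 6, 4, 2, 8, 6, 10, 4] .nil .nil) .nil) (.cons [6, 8, 4, 6, 16, 18, 16, 4, 6, 8, 2, 4, 6, 16, 0, 2, 4, 6, 8, 10, 12, 14] (.cons [2, 4, 6, 14, 16, 8, 2, 4, 6, 14, 10, 12, 6, 8, 10, 4, 6, 8, 2, 4, 6, 14, 16, 14, 12, 10, 4, 6, 8, 2, 4, 6, 14, 0, 2, 4, 6, 8, 10, 12] (.cons [8, 2, 4, 6, 12, 10, 6, 8, 10, 6, 4, 2, 12, 14, 6, 4] .nil .nil) .nil) (.cons [10, 8, 4, 6, 16, 18, 16, 4, 6, 8, 2, 4, 6, 16, 0, 2, 4, 6, 8, 10, 12, 14] (.cons [4, 6, 14, 12, 8, 10, 6, 8, 2, 4, 6, 14, 16, 14, 10, 6, 8, 2, 4, 6, 14, 0, 2, 4, 6, 8, 10, 12] (.cons [8, 12, 6, 2, 4, 0, 2, 4, 8, 10] .nil .nil) .nil) (.cons [12, 10, 8, 6, 16, 18, 16, 4, 6, 8, 2, 4, 6, 16, 0, 2, 4, 6, 8, 10, 12, 14]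 (.cons [8, 0, 2, 4, 6, 14, 16, 10, 8, 6, 14, 10, 12, 8, 10, 4, 6, 8, 2, 4, 6, 14, 16, 14, 10, 4, 6, 8, 2, 4, 6, 14, 0, 2, 4, 6, 8, 10, 12] (.cons [6, 12, 14, 12, 6, 8, 10, 0, 4, 8, 6, 4, 2] .nil .nil) .nil) (.cons [8, 0, 2, 4, 6, 16, 18, 4, 6, 8, 2, 4, 6, 16, 0, 2, 4, 6, 8, 10, 12, 14] (.cons [0, 2, 4, 6, 14, 16, 8, 2, 10, 6, 14, 0, 6, 4, 2, 8, 4, 6, 14, 10, 12, 8, 10, 6, 8, 4, 6, 14, 16, 8, 2, 4, 6, 14, 0, 2, 4, 6, 8, 10, 12] (.cons [8, 6, 8, 12, 14, 0, 6, 4, 2, 8, 6] .nil .nil) .nil) (.cons [10, 6, 8, 4, 6, 16, 18, 4, 6, 8, 2, 4, 6, 16, 0, 2, 4, 6, 8, 10, 12, 14] (.cons [6, 14, 10, 12, 8, 10, 6, 8, 2, 4, 6, 14, 16, 14, 6, 8, 4, 6, 14, 2, 4, 6, 8, 10, 12] (.cons [14, 6, 12, 6, 4, 2, 6, 8, 10, 14, 12] .nil .nil)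 .nil) (.cons [16, 6, 8, 4, 6, 16, 18, 4, 6, 8, 2, 4, 6, 16, 0, 2, 4, 6, 8, 10, 12, 14] .nil (.cons [12, 10, 8, 4, 6, 16, 18, 4, 6, 8, 2, 4, 6, 16, 0, 2, 4, 6, 8, 10, 12, 14] (.cons [2, 4, 6, 14, 16, 10, 6, 8, 2, 4, 6, 14, 10, 12, 6, 8, 10, 4, 6, 8, 2, 4, 6, 14, 16, 10, 6, 8, 2, 4, 6, 14, 0, 2, 4, 6, 8, 10, 12] (.cons [14, 2, 4, 8, 6, 10, 12, 6, 8, 4, 2, 6, 10, 8] .nil .nil) .nil) (.cons [6, 16, 12, 14, 10, 12, 8, 10, 6, 8, 2, 4, 6, 16, 0, 2, 4, 6, 8, 10, 12, 14] (.cons [6, 14, 16, 10, 6, 8, 4, 6, 14, 8, 10, 12, 6, 8, 10, 4, 6, 8, 2, 4, 6, 14, 16, 10, 4, 6, 8, 2, 4, 6, 14, 0, 2, 4, 6, 8, 10, 12] (.cons [6, 4, 8, 10, 12, 6, 8, 10, 4, 6, 12, 14, 8, 6, 4, 2] .nil .nil) .nil) (.cons [18, 16, 12, 14, 10, 12, 8, 10,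 6, 8, 2, 4, 6, 16, 0, 2, 4, 6, 8, 10, 12, 14] (.cons [8, 6, 14, 16, 14, 6, 8, 2, 4, 6, 14, 10, 12, 8, 10, 6, 8, 2, 4, 6, 14, 16, 14, 8, 10, 4, 6, 8, 2, 4, 6, 14, 0, 2, 4, 6, 8, 10, 12] .nil .nil) (.cons [8, 6, 16, 14, 10, 12, 8, 10, 6, 8, 2, 4, 6, 16, 0, 2, 4, 6, 8, 10, 12, 14] (.cons [2, 4, 6, 8, 0, 2, 4, 6, 14, 16, 12, 10, 6, 8, 2, 4, 6, 14, 0, 2, 4, 6, 8, 10, 12] (.cons [10, 8, 4, 6, 12, 14, 2, 4, 0, 6, 8, 10, 12, 6, 4, 2] .nil .nil) .nil) (.cons [18, 6, 16, 14, 10, 12, 8, 10, 6, 8, 2, 4, 6, 16, 0, 2, 4, 6, 8, 10, 12, 14] (.cons [16, 2, 4, 6, 14, 8, 10, 6, 8, 4, 6, 14, 16, 12, 10, 8, 4, 6, 14, 0, 2, 4, 6, 8, 10, 12] (.cons [2, 8, 6, 4, 12, 6, 8, 10, 14, 12, 8, 6, 12, 14, 4, 6, 0, 2] .nil .nil) .nil) (.cons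 [6, 16, 18, 14, 10, 12, 8, 10, 6, 8, 2, 4, 6, 16, 0, 2, 4, 6, 8, 10, 12, 14] .nil (.cons [18, 8, 6, 16, 10, 12, 8, 10, 6, 8, 2, 4, 6, 16, 0, 2, 4, 6, 8, 10, 12, 14] (.cons [16, 0, 2, 8, 4, 6, 14, 10, 12, 8, 10, 6, 8, 4, 6, 14, 16, 12, 8, 10, 6, 8, 2, 4, 6, 14, 0, 2, 4, 6, 8, 10, 12] (.cons [8, 2, 4, 6, 12, 14, 8, 10, 8, 6, 4, 2] .nil .nil) .nil) (.cons [6, 16, 18, 16, 14, 12, 8, 10, 6, 8, 2, 4, 6, 16, 0, 2, 4, 6, 8, 10, 12, 14] (.cons [14, 16, 8, 2, 4, 6, 14, 6, 8, 10, 4, 6, 8, 2, 4, 6, 14, 16, 12, 10, 8, 2, 4, 6, 14, 0, 2, 4, 6, 8, 10, 12] (.cons [6, 8, 4, 6, 12, 14, 10, 0, 2, 4, 6, 8, 10, 12, 6, 4, 2] .nil .nil) .nil) (.cons [4, 6, 16, 18, 14, 12, 8, 10, 6, 8, 2, 4, 6, 16, 0, 2, 4, 6, 8, 10, 12, 14] (.cons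 [6, 8, 4, 6, 14, 16, 14, 10, 12, 8, 10, 4, 6, 8, 2, 4, 6, 14, 0, 2, 4, 6, 8, 10, 12] (.cons [2, 12, 14, 6, 8, 4, 6, 12, 14, 10, 8, 6, 4, 2, 8, 10] .nil .nil) .nil) (.cons [8, 6, 16, 18, 14, 12, 8, 10, 6, 8, 2, 4, 6, 16, 0, 2, 4, 6, 8, 10, 12, 14] (.cons [16, 14, 6, 8, 10, 4, 6, 8, 2, 4, 6, 14, 16, 14, 12, 10, 6, 8, 4, 6, 14, 0, 2, 4, 6, 8, 10, 12] .nil .nil) (.cons [4, 6, 16, 18, 16, 12, 8, 10, 6, 8, 2, 4, 6, 16, 0, 2, 4, 6, 8, 10, 12, 14] .nil (.cons [8, 6, 16, 18, 16, 12, 8, 10, 6, 8, 2, 4, 6, 16, 0, 2, 4, 6, 8, 10, 12, 14] (.cons [16, 14, 8, 10, 6, 8, 4, 6, 14, 16, 14, 8, 10, 4, 6, 8, 2, 4, 6, 14, 0, 2, 4, 6, 8, 10, 12] (.cons [2, 12, 4, 8, 6, 12, 14, 12, 6, 8, 10] .nil .nil) .nil) (.cons [2, 4, 6, 16, 18,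 12, 8, 10, 6, 8, 2, 4, 6, 16, 0, 2, 4, 6, 8, 10, 12, 14] (.cons [6, 14, 16, 2, 4, 6, 14, 8, 10, 6, 8, 2, 4, 6, 14, 16, 10, 6, 8, 2, 4, 6, 14, 0, 2, 4, 6, 8, 10, 12] (.cons [12, 14, 12, 6, 8, 4, 2, 4, 10, 8] .nil .nil) .nil) (.cons [8, 4, 6, 16, 18, 12, 8, 10, 6, 8, 2, 4, 6, 16, 0, 2, 4, 6, 8, 10, 12, 14] (.cons [14, 16, 12, 10, 8, 6, 14, 10, 12, 6, 8, 10, 4, 6, 8, 2, 4, 6, 14, 16, 12, 10, 4, 6, 8, 2, 4, 6, 14, 0, 2, 4, 6, 8, 10, 12] (.cons [6, 12, 14, 6, 8, 10, 4, 6, 2, 4, 0, 2] .nil .nil) .nil) (.cons [4, 6, 16, 18, 6, 16, 8, 10, 6, 8, 2, 4, 6, 16, 0, 2, 4, 6, 8, 10, 12, 14] (.cons [8, 6, 14, 10, 12, 8, 10, 4, 6, 8, 2, 4, 6, 14, 16, 10, 4, 6, 8, 2, 4, 6, 14, 0, 2, 4, 6, 8, 10, 12] (.cons [14, 12, 2, 8, 10,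 6, 4, 0, 2, 4, 12] .nil .nil) .nil) (.cons [2, 4, 6, 16, 18, 16, 8, 10, 6, 8, 2, 4, 6, 16, 0, 2, 4, 6, 8, 10, 12, 14] (.cons [16, 12, 10, 8, 0, 2, 4, 6, 14, 12, 8, 10, 6, 8, 0, 2, 4, 6, 14, 16, 12, 10, 8, 2, 4, 6, 14, 0, 2, 4, 6, 8, 10, 12] .nil .nil) (.cons [10, 8, 6, 16, 18, 16, 8, 10, 6, 8, 2, 4, 6, 16, 0, 2, 4, 6, 8, 10, 12, 14] (.cons [6, 14, 16, 10, 8, 6, 14, 12, 6, 8, 10, 4, 6, 8, 2, 4, 6, 14, 16, 12, 10, 4, 6, 8, 2, 4, 6, 14, 0, 2, 4, 6, 8, 10, 12] (.cons [4, 2, 10, 8, 6, 12, 14, 12, 6, 4] .nil .nil) .nil) (.cons [0, 2, 4, 6, 16, 18, 8, 10, 6, 8, 2, 4, 6, 16, 0, 2, 4, 6, 8, 10, 12, 14] (.cons [14, 6, 8, 10, 4, 6, 8, 2, 4, 6, 14, 16, 12, 8, 10, 6, 8, 2, 4, 6, 14, 0, 2, 4, 6, 8, 10, 12] (.cons [4, 6, 14,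 12, 6, 8, 10, 8, 6, 12, 14, 4, 6, 2] .nil .nil) .nil) (.cons [6, 8, 4, 6, 16, 18, 8, 10, 6, 8, 2, 4, 6, 16, 0, 2, 4, 6, 8, 10, 12, 14] (.cons [6, 14, 16, 4, 6, 14, 10, 12, 8, 10, 6, 8, 0, 2, 4, 6, 14, 16, 12, 10, 8, 2, 4, 6, 14, 0, 2, 4, 6, 8, 10, 12] .nil .nil) (.cons [10, 8, 4, 6, 16, 18, 8, 10, 6, 8, 2, 4, 6, 16, 0, 2, 4, 6, 8, 10, 12, 14] (.cons [4, 2, 4, 6, 14, 8, 10, 6, 8, 4, 6, 14, 16, 12, 10, 8, 4, 6, 14, 0, 2, 4, 6, 8, 10, 12] (.cons [8, 6, 4, 2, 12, 14, 4, 8, 6, 10, 4] .nil .nil) .nil) (.cons [12, 10, 8, 6, 16, 18, 8, 10, 6, 8, 2, 4, 6, 16, 0, 2, 4, 6, 8, 10, 12, 14] .nil (.cons [2, 4, 6, 16, 18, 14, 12, 10, 6, 8, 2, 4, 6, 16, 0, 2, 4, 6, 8, 10, 12, 14] (.cons [10, 8, 2, 4, 6, 14, 16, 6, 14, 12, 10,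 4, 6, 8, 2, 4, 6, 14, 0, 2, 4, 6, 8, 10, 12] (.cons [8, 2, 4, 6, 12, 14, 4, 2, 12, 6, 8, 10, 4, 8, 6, 4, 2] .nil .nil) .nil) (.cons [8, 4, 6, 16, 18, 14, 12, 10, 6, 8, 2, 4, 6, 16, 0, 2, 4, 6, 8, 10, 12, 14] (.cons [14, 10, 6, 8, 2, 4, 6, 14, 16, 6, 14, 12, 10, 4, 6, 8, 2, 4, 6, 14, 0, 2, 4, 6, 8, 10, 12] (.cons [10, 8, 6, 4, 2, 8, 10] .nil .nil) .nil) (.cons [10, 8, 6, 16, 18, 14, 12, 10, 6, 8, 2, 4, 6, 16, 0, 2, 4, 6, 8, 10, 12, 14] (.cons [4, 6, 14, 16, 12, 10, 8, 6, 14, 2, 4, 6, 8, 10, 12] (.cons [8, 4, 6, 12, 14, 4, 2, 10, 8, 4, 6, 4, 2, 8, 10] .nil .nil) .nil) (.cons [2, 4, 6, 16, 18, 16, 12, 10, 6, 8, 2, 4, 6, 16, 0, 2, 4, 6, 8, 10, 12, 14] (.cons [16, 14, 12, 10, 4, 6, 8, 2, 4, 6, 14, 16, 12, 10, 6,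 8, 2, 4, 6, 14, 0, 2, 4, 6, 8, 10, 12] .nil .nil) (.cons [8, 4, 6, 16, 18, 16, 12, 10, 6, 8, 2, 4, 6, 16, 0, 2, 4, 6, 8, 10, 12, 14] .nil (.cons [10, 8, 6, 16, 18, 16, 12, 10, 6, 8, 2, 4, 6, 16, 0, 2, 4, 6, 8, 10, 12, 14] (.cons [8, 14, 6, 4, 2, 16, 6, 8, 4, 6, 14, 10, 12, 8, 10, 6, 8, 4, 6, 14, 16, 14, 10, 6, 8, 2, 4, 6, 14, 0, 2, 4, 6, 8, 10, 12] (.cons [6, 12, 14, 10, 6, 8, 4, 12, 6, 8, 4, 2, 4, 10, 8] .nil .nil) .nil) (.cons [10, 8, 4, 6, 16, 18, 12, 10, 6, 8, 2, 4, 6, 16, 0, 2, 4, 6, 8, 10, 12, 14] (.cons [10, 8, 6, 14, 16, 8, 4, 6, 14, 8, 10, 12, 6, 8, 10, 4, 6, 8, 2, 4, 6, 14, 16, 14, 10, 4, 6, 8, 2, 4, 6, 14, 0, 2, 4, 6, 8, 10, 12] (.cons [14, 8, 10, 12, 8, 6, 12, 2, 4, 0, 2, 14, 12] .nil .nil) .nil)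 (.cons [0, 2, 4, 6, 16, 18, 16, 10, 6, 8, 2, 4, 6, 16, 0, 2, 4, 6, 8, 10, 12, 14] (.cons [4, 6, 14, 16, 8, 10, 8, 6, 14, 16, 6, 8, 2, 4, 6, 14, 10, 12, 8, 10, 6, 8, 0, 2, 4, 6, 14, 16, 8, 2, 4, 6, 14, 0, 2, 4, 6, 8, 10, 12] .nil .nil) (.cons [10, 8, 4, 6, 16, 18, 16, 10, 6, 8, 2, 4, 6, 16, 0, 2, 4, 6, 8, 10, 12, 14] (.cons [12, 10, 4, 6, 8, 0, 2, 4, 6, 14, 16, 10, 8, 2, 4, 6, 14, 0, 2, 4, 6, 8, 10, 12] (.cons [10, 6, 2, 4, 12, 6, 8, 10, 14, 4, 6, 12, 14, 8, 6, 4, 0, 2] .nil .nil) .nil) (.cons [12, 10, 8, 6, 16, 18, 16, 10, 6, 8, 2, 4, 6, 16, 0, 2, 4, 6, 8, 10, 12, 14] (.cons [14, 16, 6, 14, 10, 12, 6, 8, 10, 4, 6, 8, 2, 4, 6, 14, 16, 14, 12, 8, 10, 6, 8, 2, 4, 6, 14, 0, 2, 4, 6, 8, 10, 12] (.cons [0, 2, 4, 6,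 12, 14, 12, 2, 6, 8, 10, 12, 6, 4, 6, 2, 4] .nil .nil) .nil) (.cons [8, 0, 2, 4, 6, 16, 18, 10, 6, 8, 2, 4, 6, 16, 0, 2, 4, 6, 8, 10, 12, 14] (.cons [14, 8, 10, 6, 8, 0, 2, 4, 6, 14, 16, 14, 6, 8, 4, 6, 14, 2, 4, 6, 8, 10, 12] (.cons [14, 2, 4, 0, 2, 12, 6, 4, 2, 10, 8, 6, 8, 10] .nil .nil) .nil) (.cons [6, 8, 2, 4, 6, 16, 18, 10, 6, 8, 2, 4, 6, 16, 0, 2, 4, 6, 8, 10, 12, 14] (.cons [14, 16, 10, 8, 4, 6, 14, 12, 6, 8, 10, 4, 6, 8, 0, 2, 4, 6, 14, 16, 12, 10, 4, 6, 8, 2, 4, 6, 14, 0, 2, 4, 6, 8, 10, 12] (.cons [6, 12, 14, 6, 4, 0, 2, 4, 6] (.cons [2, 4, 2, 1, 1] .nil .nil) .nil) .nil) (.cons [10, 8, 2, 4, 6, 16, 18, 10, 6, 8, 2, 4, 6, 16, 0, 2, 4, 6, 8, 10, 12, 14] (.cons [4, 6, 14, 16, 8, 6, 12, 10, 8, 4, 6,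 14, 10, 12, 8, 10, 4, 6, 8, 0, 2, 4, 6, 14, 16, 12, 10, 8, 2, 4, 6, 14, 0, 2, 4, 6, 8, 10, 12] (.cons [8, 0, 2, 4, 6, 12, 8, 6, 2, 8, 4, 6, 10, 0, 2, 12, 14] .nil .nil) .nil) (.cons [16, 6, 8, 4, 6, 16, 18, 10, 6, 8, 2, 4, 6, 16, 0, 2, 4, 6, 8, 10, 12, 14] .nil (.cons [12, 10, 8, 4, 6, 16, 18, 10, 6, 8, 2, 4, 6, 16, 0, 2, 4, 6, 8, 10, 12, 14] (.cons [0, 2, 4, 6, 14, 16, 6, 14, 4, 6, 8, 2, 4, 6, 14, 0, 2, 4, 6, 8, 10, 12] (.cons [10, 2, 4, 0, 6, 8, 10, 12, 6, 4, 2] .nil .nil) .nil) (.cons [10, 8, 2, 4, 6, 16, 18, 16, 6, 8, 2, 4, 6, 16, 0, 2, 4, 6, 8, 10, 12, 14] (.cons [6, 14, 8, 6, 16, 4, 2, 10, 12, 8, 10, 6, 8, 4, 6, 14, 16, 12, 10, 6, 8, 4, 6, 14, 0, 2, 4, 6, 8, 10, 12] (.cons [8, 6, 12, 10, 6, 8, 4, 6, 4,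 2, 8, 10, 12, 14] .nil .nil) .nil) (.cons [12, 10, 8, 4, 6, 16, 18, 16, 6, 8, 2, 4, 6, 16, 0, 2, 4, 6, 8, 10, 12, 14] (.cons [6, 8, 2, 4, 6, 14, 16, 8, 10, 6, 8, 4, 6, 14, 2, 4, 6, 8, 10, 12] (.cons [6, 12, 8, 14, 4, 12, 6, 4, 2, 8, 6] .nil .nil) .nil) (.cons [14, 12, 10, 8, 6, 16, 18, 16, 6, 8, 2, 4, 6, 16, 0, 2, 4, 6, 8, 10, 12, 14] (.cons [12, 10, 8, 4, 6, 14, 12, 8, 10, 4, 6, 8, 2, 4, 6, 14, 16, 10, 6, 8, 2, 4, 6, 14, 0, 2, 4, 6, 8, 10, 12] (.cons [14, 10, 2, 8, 4, 6, 8, 4, 2, 10, 8] .nil .nil) .nil) (.cons [6, 8, 0, 2, 4, 6, 16, 18, 6, 8, 2, 4, 6, 16, 0, 2, 4, 6, 8, 10, 12, 14] (.cons [16, 2, 4, 6, 14, 8, 10, 6, 8, 4, 6, 14, 16, 14, 8, 10, 6, 8, 2, 4, 6, 14, 0, 2, 4, 6, 8, 10, 12] (.cons [6, 4, 8, 10, 6,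 12, 6, 4, 14, 12] .nil .nil) .nil) (.cons [10, 8, 0, 2, 4, 6, 16, 18, 6, 8, 2, 4, 6, 16, 0, 2, 4, 6, 8, 10, 12, 14] (.cons [16, 12, 10, 8, 2, 4, 6, 14, 8, 10, 4, 6, 8, 2, 4, 6, 14, 16, 10, 8, 2, 4, 6, 14, 0, 2, 4, 6, 8, 10, 12] .nil .nil) (.cons [4, 6, 8, 2, 4, 6, 16, 18, 6, 8, 2, 4, 6, 16, 0, 2, 4, 6, 8, 10, 12, 14] (.cons [8, 6, 14, 10, 4, 6, 8, 0, 2, 4, 6, 14, 16, 12, 8, 10, 6, 8, 2, 4, 6, 14, 0, 2, 4, 6, 8, 10, 12] (.cons [6, 8, 0, 2, 10, 6, 12, 14, 4, 0, 2, 8, 6] .nil .nil) .nil) (.cons [10, 6, 8, 2, 4, 6, 16, 18, 6, 8, 2, 4, 6, 16, 0, 2, 4, 6, 8, 10, 12, 14] .nil (.cons [16, 6, 8, 2, 4, 6, 16, 18, 6, 8, 2, 4, 6, 16, 0, 2, 4, 6, 8, 10, 12, 14] (.cons [16, 8, 6, 14, 8, 10, 4, 6, 8, 0, 2, 4, 6, 14, 16, 14,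 10, 4, 6, 8, 2, 4, 6, 14, 0, 2, 4, 6, 8, 10, 12] (.cons [12, 6, 4, 6, 12, 8, 10, 0, 2, 4, 6, 12, 14] .nil .nil) .nil) (.cons [12, 10, 8, 2, 4, 6, 16, 18, 6, 8, 2, 4, 6, 16, 0, 2, 4, 6, 8, 10, 12, 14] (.cons [10, 6, 2, 0, 2, 4, 6, 14, 8, 10, 12, 6, 8, 10, 4, 6, 8, 2, 4, 6, 14, 16, 14, 6, 8, 4, 6, 14, 0, 2, 4, 6, 8, 10, 12] (.cons [14, 12, 2, 4, 6, 0, 2, 4, 12, 6, 8, 10, 14, 12, 8, 6, 12, 14, 4, 6, 0, 2] .nil .nil) .nil) (.cons [12, 10, 6, 8, 4, 6, 16, 18, 6, 8, 2, 4, 6, 16, 0, 2, 4, 6, 8, 10, 12, 14] (.cons [6, 14, 16, 10, 8, 6, 14, 8, 10, 12, 6, 8, 10, 4, 6, 8, 0, 2, 4, 6, 14, 16, 8, 10, 4, 6, 8, 2, 4, 6, 14, 0, 2, 4, 6, 8, 10, 12] (.cons [6, 8, 0, 2, 4, 6, 12, 14, 8, 2, 4, 6, 8, 10, 2, 4, 6, 0, 2, 4] (.cons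 [5, 1, 1, 1, 5, 1] .nil .nil) .nil) .nil) (.cons [16, 10, 6, 8, 4, 6, 16, 18, 6, 8, 2, 4, 6, 16, 0, 2, 4, 6, 8, 10, 12, 14] (.cons [10, 8, 2, 4, 6, 14, 16, 12, 10, 8, 6, 10, 4, 0, 2, 6, 14, 8, 4, 6, 14, 10, 12, 8, 10, 6, 8, 4, 6, 14, 16, 8, 2, 4, 6, 14, 0, 2, 4, 6, 8, 10, 12] (.cons [14, 12, 6, 8, 4, 6, 12, 14, 12, 6, 2, 8, 10, 4, 6, 0, 2] .nil .nil) .nil) (.cons [14, 12, 10, 8, 4, 6, 16, 18, 6, 8, 2, 4, 6, 16, 0, 2, 4, 6, 8, 10, 12, 14] (.cons [16, 6, 14, 12, 8, 10, 4, 6, 8, 2, 4, 6, 14, 16, 12, 8, 10, 6, 8, 2, 4, 6, 14, 0, 2, 4, 6, 8, 10, 12] (.cons [10, 6, 12, 14, 0, 4, 8, 6, 4, 2] .nil .nil) .nil) (.cons [0, 2, 4, 6, 16, 18, 14, 12, 10, 8, 2, 4, 6, 16, 0, 2, 4, 6, 8, 10, 12, 14] (.cons [6, 14, 16, 8, 6,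 14, 10, 2, 4, 6, 8, 0, 2, 4, 6, 14, 16, 12, 8, 10, 4, 6, 8, 2, 4, 6, 14, 0, 2, 4, 6, 8, 10, 12] .nil .nil) (.cons [8, 2, 4, 6, 16, 18, 14, 12, 10, 8, 2, 4, 6, 16, 0, 2, 4, 6, 8, 10, 12, 14] (.cons [6, 14, 8, 10, 6, 8, 2, 4, 6, 14, 16, 12, 10, 8, 6, 14, 0, 2, 4, 6, 8, 10, 12] (.cons [6, 4, 8, 12, 14, 6, 4, 2, 12, 14, 8, 6, 4, 12] .nil .nil) .nil) (.cons [6, 8, 4, 6, 16, 18, 14, 12, 10, 8, 2, 4, 6, 16, 0, 2, 4, 6, 8, 10, 12, 14] (.cons [16, 10, 8, 6, 14, 4, 6, 8, 0, 2, 4, 6, 14, 16, 12, 6, 8, 10, 4, 6, 8, 2, 4, 6, 14, 0, 2, 4, 6, 8, 10, 12] (.cons [0, 2, 4, 14, 10, 2, 12, 6, 8, 10, 6, 12, 14, 4, 8, 6, 4, 2] .nil .nil) .nil) (.cons [10, 8, 4, 6, 16, 18, 14, 12, 10, 8, 2, 4, 6, 16, 0, 2, 4, 6, 8, 10, 12, 14] (.cons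 [16, 14, 10, 6, 8, 2, 4, 6, 14, 16, 12, 6, 8, 10, 4, 6, 8, 2, 4, 6, 14, 0, 2, 4, 6, 8, 10, 12] (.cons [4, 6, 12, 6, 4, 2, 8, 10, 14, 12] .nil .nil) .nil) (.cons [12, 10, 8, 6, 16, 18, 14, 12, 10, 8, 2, 4, 6, 16, 0, 2, 4, 6, 8, 10, 12, 14] (.cons [16, 14, 6, 8, 2, 4, 6, 14, 16, 10, 8, 6, 14, 10, 12, 8, 10, 4, 6, 8, 2, 4, 6, 14, 16, 14, 12, 8, 10, 4, 6, 8, 2, 4, 6, 14, 0, 2, 4, 6, 8, 10, 12] (.cons [12, 14, 6, 8, 6, 4, 0, 2, 4, 10, 8] .nil .nil) .nil) (.cons [8, 0, 2, 4, 6, 16, 18, 12, 10, 8, 2, 4, 6, 16, 0, 2, 4, 6, 8, 10, 12, 14] (.cons [6, 8, 2, 4, 6, 14, 16, 10, 8, 6, 14, 0, 2, 4, 6, 8, 10, 12] (.cons [2, 4, 6, 12, 6, 8, 4, 6, 4, 0, 2, 8, 10, 12, 14] .nil .nil) .nil) (.cons [10, 8, 2, 4, 6, 16, 18, 12, 10,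 8, 2, 4, 6, 16, 0, 2, 4, 6, 8, 10, 12, 14] (.cons [14, 8, 6, 4, 2, 0, 6, 14, 10, 12, 8, 10, 6, 8, 4, 6, 14, 16, 8, 10, 6, 8, 4, 6, 14, 2, 4, 6, 8, 10, 12] (.cons [10, 8, 6, 12, 4, 6, 8, 2, 4, 10, 12, 14, 8] .nil .nil) .nil) (.cons [6, 8, 0, 2, 4, 6, 16, 18, 10, 8, 2, 4, 6, 16, 0, 2, 4, 6, 8, 10, 12, 14] (.cons [4, 6, 14, 8, 10, 6, 8, 2, 4, 6, 14, 16, 10, 8, 2, 4, 6, 14, 0, 2, 4, 6, 8, 10, 12] (.cons [6, 12, 6, 4, 6, 8, 0, 2, 4, 10, 12, 14, 8] .nil .nil) .nil) (.cons [10, 8, 0, 2, 4, 6, 16, 18, 10, 8, 2, 4, 6, 16, 0, 2, 4, 6, 8, 10, 12, 14] (.cons [14, 16, 4, 6, 14, 12, 8, 10, 6, 8, 2, 4, 6, 14, 16, 14, 8, 10, 6, 8, 2, 4, 6, 14, 0, 2, 4, 6, 8, 10, 12] (.cons [12, 14, 8, 6, 10] .nil .nil) .nil) (.cons [16, 6,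 8, 2, 4, 6, 16, 18, 10, 8, 2, 4, 6, 16, 0, 2, 4, 6, 8, 10, 12, 14] (.cons [0, 2, 4, 6, 14, 16, 8, 0, 2, 4, 6, 14, 10, 12, 8, 10, 4, 6, 8, 2, 4, 6, 14, 16, 10, 4, 6, 8, 2, 4, 6, 14, 0, 2, 4, 6, 8, 10, 12] (.cons [8, 10, 8, 6, 4, 12, 14, 12, 6, 4] .nil .nil) .nil) (.cons [12, 10, 8, 2, 4, 6, 16, 18, 10, 8, 2, 4, 6, 16, 0, 2, 4, 6, 8, 10, 12, 14] .nil (.cons [8, 10, 6, 8, 4, 6, 16, 18, 10, 8, 2, 4, 6, 16, 0, 2, 4, 6, 8, 10, 12, 14] (.cons [2, 6, 4, 14, 16, 6, 14, 8, 10, 6, 8, 4, 6, 14, 16, 2, 4, 6, 14, 0, 2, 4, 6, 8, 10, 12] (.cons [14, 6, 12, 2, 8, 10, 6, 4, 0, 2, 4, 12] .nil .nil) .nil) (.cons [12, 10, 6, 8, 4, 6, 16, 18, 10, 8, 2, 4, 6, 16, 0, 2, 4, 6, 8, 10, 12, 14] (.cons [16, 14, 4, 6, 8, 0, 2, 4, 6, 14,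 16, 12, 8, 10, 6, 8, 2, 4, 6, 14, 0, 2, 4, 6, 8, 10, 12] (.cons [8, 0, 2, 4, 6, 12, 10, 6, 8, 4, 6, 4, 2, 8, 10, 12, 14] .nil .nil) .nil) (.cons [14, 12, 10, 8, 4, 6, 16, 18, 10, 8, 2, 4, 6, 16, 0, 2, 4, 6, 8, 10, 12, 14] (.cons [14, 16, 8, 6, 14, 6, 4, 2, 8, 4, 6, 14, 10, 12, 8, 10, 6, 8, 4, 6, 14, 16, 8, 2, 4, 6, 14, 0, 2, 4, 6, 8, 10, 12] (.cons [6, 14, 12, 6, 4, 14, 8, 12, 6, 8, 10] .nil .nil) .nil) (.cons [16, 6, 8, 0, 2, 4, 6, 16, 18, 8, 2, 4, 6, 16, 0, 2, 4, 6, 8, 10, 12, 14] (.cons [8, 4, 6, 14, 16, 8, 2, 4, 6, 14, 10, 12, 8, 10, 4, 6, 8, 2, 4, 6, 14, 16, 14, 12, 10, 4, 6, 8, 2, 4, 6, 14, 0, 2, 4, 6, 8, 10, 12] (.cons [6, 8, 0, 2, 4, 6, 12, 14, 12, 10, 8, 6, 4, 0, 2, 4, 8, 10] .nil .nil) .nil) (.cons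 [12, 10, 8, 0, 2, 4, 6, 16, 18, 8, 2, 4, 6, 16, 0, 2, 4, 6, 8, 10, 12, 14] .nil (.cons [12, 10, 6, 8, 2, 4, 6, 16, 18, 8, 2, 4, 6, 16, 0, 2, 4, 6, 8, 10, 12, 14] (.cons [16, 6, 14, 4, 6, 8, 2, 4, 6, 14, 16, 12, 10, 6, 8, 2, 4, 6, 14, 0, 2, 4, 6, 8, 10, 12] (.cons [14, 6, 8, 4, 6, 2, 8, 10] .nil .nil) .nil) (.cons [16, 10, 6, 8, 2, 4, 6, 16, 18, 8, 2, 4, 6, 16, 0, 2, 4, 6, 8, 10, 12, 14] (.cons [10, 8, 0, 2, 4, 6, 14, 16, 10, 8, 4, 6, 14, 10, 12, 8, 10, 4, 6, 8, 2, 4, 6, 14, 16, 10, 4, 6, 8, 2, 4, 6, 14, 0, 2, 4, 6, 8, 10, 12] (.cons [8, 4, 6, 12, 4, 2, 14, 4, 8, 10, 12, 6, 4] .nil .nil) .nil) (.cons [18, 16, 6, 8, 2, 4, 6, 16, 18, 8, 2, 4, 6, 16, 0, 2, 4, 6, 8, 10, 12, 14] (.cons [6, 14, 16, 10, 8, 6, 14, 12,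 10, 4, 6, 8, 0, 2, 4, 6, 14, 16, 14, 12, 10, 4, 6, 8, 2, 4, 6, 14, 0, 2, 4, 6, 8, 10, 12] (.cons [6, 12, 14, 0, 4, 12, 6, 8, 4, 2, 10, 8] .nil .nil) .nil) (.cons [14, 12, 10, 8, 2, 4, 6, 16, 18, 8, 2, 4, 6, 16, 0, 2, 4, 6, 8, 10, 12, 14] (.cons [6, 8, 2, 4, 6, 14, 16, 6, 8, 2, 4, 6, 14, 10, 8, 6, 4, 2, 14, 10, 12, 8, 10, 6, 8, 4, 6, 14, 16, 10, 6, 8, 4, 6, 14, 0, 2, 4, 6, 8, 10, 12] (.cons [6, 12, 14, 8, 10, 12, 6, 2, 4, 0, 2] (.cons [2, 0, 5, 1, 4, 1] .nil .nil) .nil) .nil) (.cons [12, 8, 10, 6, 8, 4, 6, 16, 18, 8, 2, 4, 6, 16, 0, 2, 4, 6, 8, 10, 12, 14] .nil (.cons [16, 8, 10, 6, 8, 4, 6, 16, 18, 8, 2, 4, 6, 16, 0, 2, 4, 6, 8, 10, 12, 14] (.cons [6, 14, 16, 12, 10, 8, 6, 14, 6, 8, 10, 4, 6, 8, 2, 4, 6, 14,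 16, 10, 4, 6, 8, 2, 4, 6, 14, 0, 2, 4, 6, 8, 10, 12] (.cons [2, 4, 12, 6, 8, 2, 4, 6, 12, 14, 6, 2, 8, 10, 4, 6, 0, 2] .nil .nil) .nil) (.cons [16, 12, 10, 6, 8, 4, 6, 16, 18, 8, 2, 4, 6, 16, 0, 2, 4, 6, 8, 10, 12, 14] (.cons [8, 6, 14, 16, 10, 8, 6, 14, 12, 8, 10, 4, 6, 8, 0, 2, 4, 6, 14, 16, 12, 10, 4, 6, 8, 2, 4, 6, 14, 0, 2, 4, 6, 8, 10, 12] .nil .nil) (.cons [18, 16, 10, 6, 8, 4, 6, 16, 18, 8, 2, 4, 6, 16, 0, 2, 4, 6, 8, 10, 12, 14] (.cons [16, 4, 6, 8, 2, 0, 4, 2, 6, 4, 8, 6, 14, 10, 12, 8, 10, 6, 8, 4, 6, 14, 16, 2, 4, 6, 14, 0, 2, 4, 6, 8, 10, 12] .nil .nil) (.cons [6, 16, 8, 10, 6, 8, 4, 6, 16, 18, 2, 4, 6, 16, 0, 2, 4, 6, 8, 10, 12, 14] (.cons [6, 14, 16, 6, 8, 4, 6, 14, 10, 12, 8, 10, 4, 6, 8, 2,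 4, 6, 14, 16, 8, 10, 6, 8, 2, 4, 6, 14, 0, 2, 4, 6, 8, 10, 12] (.cons [6, 12, 4, 10, 0, 2, 4, 6, 12, 14] .nil .nil) .nil) (.cons [8, 6, 16, 12, 14, 10, 12, 8, 10, 6, 8, 4, 6, 16, 0, 2, 4, 6, 8, 10, 12, 14] (.cons [8, 6, 4, 6, 14, 16, 12, 10, 8, 6, 14, 10, 12, 8, 10, 4, 6, 8, 2, 4, 6, 14, 16, 10, 8, 2, 4, 6, 14, 0, 2, 4, 6, 8, 10, 12] .nil .nil) (.cons [16, 18, 16, 12, 14, 10, 12, 8, 10, 6, 8, 4, 6, 16, 0, 2, 4, 6, 8, 10, 12, 14] (.cons [8, 6, 14, 16, 12, 10, 8, 6, 10, 4, 0, 2, 6, 14, 8, 4, 6, 14, 10, 12, 8, 10, 6, 8, 4, 6, 14, 16, 8, 2, 4, 6, 14, 0, 2, 4, 6, 8, 10, 12] (.cons [0, 2, 10, 8, 6, 12, 14, 12, 6, 8, 4, 6, 10] .nil .nil) .nil) (.cons [8, 4, 6, 16, 14, 10, 12, 8, 10, 6, 8, 4, 6, 16, 0, 2, 4, 6, 8, 10,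 12, 14] (.cons [16, 10, 8, 6, 14, 8, 10, 4, 6, 8, 0, 2, 4, 6, 14, 16, 12, 8, 10, 4, 6, 8, 2, 4, 6, 14, 0, 2, 4, 6, 8, 10, 12] (.cons [12, 2, 4, 6, 8, 0, 2, 4, 10, 12, 6, 8, 14, 12, 6, 4, 2, 4, 8, 10, 12, 14] (.cons [1, 1, 5, 2, 5] .nil .nil) .nil) .nil) (.cons [18, 4, 6, 16, 14, 10, 12, 8, 10, 6, 8, 4, 6, 16, 0, 2, 4, 6, 8, 10, 12, 14] (.cons [8, 0, 2, 4, 6, 14, 16, 12, 10, 8, 4, 6, 14, 0, 2, 4, 6, 8, 10, 12] (.cons [6, 12, 8, 2, 4, 6, 4, 12, 14, 6, 0, 2, 8, 10] .nil .nil) .nil) (.cons [18, 8, 6, 16, 14, 10, 12, 8, 10, 6, 8, 4, 6, 16, 0, 2, 4, 6, 8, 10, 12, 14] (.cons [2, 4, 6, 14, 8, 10, 6, 8, 0, 2, 4, 6, 14, 16, 14, 12, 10, 6, 8, 2, 4, 6, 14, 0, 2, 4, 6, 8, 10, 12] (.cons [10, 4, 12, 6, 8, 10, 12, 6, 2, 4,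 0, 2] .nil .nil) .nil) (.cons [16, 18, 6, 16, 14, 10, 12, 8, 10, 6, 8, 4, 6, 16, 0, 2, 4, 6, 8, 10, 12, 14] (.cons [8, 10, 6, 8, 4, 6, 14, 16, 14, 12, 8, 10, 6, 8, 4, 6, 14, 0, 2, 4, 6, 8, 10, 12] (.cons [8, 4, 6, 8, 10, 4, 2, 6, 12, 4, 14, 8, 12] .nil .nil) .nil) (.cons [6, 16, 18, 16, 14, 10, 12, 8, 10, 6, 8, 4, 6, 16, 0, 2, 4, 6, 8, 10, 12, 14] .nil (.cons [4, 6, 16, 18, 14, 10, 12, 8, 10, 6, 8, 4, 6, 16, 0, 2, 4, 6, 8, 10, 12, 14] (.cons [14, 16, 6, 14, 8, 10, 6, 8, 4, 6, 14, 16, 14, 12, 8, 10, 4, 6, 8, 2, 4, 6, 14, 0, 2, 4, 6, 8, 10, 12] .nil .nil) (.cons [18, 8, 4, 6, 16, 10, 12, 8, 10, 6, 8, 4, 6, 16, 0, 2, 4, 6, 8, 10, 12, 14] (.cons [0, 2, 4, 6, 14, 16, 8, 4, 6, 14, 10, 12, 8, 10, 4, 6, 8, 0, 2, 4,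 6, 14, 16, 10, 6, 8, 2, 4, 6, 14, 0, 2, 4, 6, 8, 10, 12] (.cons [0, 2, 4, 6, 12, 6, 8, 10, 8, 6, 12, 14, 4, 6, 0, 2] .nil .nil) .nil) (.cons [4, 6, 16, 18, 16, 10, 12, 8, 10, 6, 8, 4, 6, 16, 0, 2, 4, 6, 8, 10, 12, 14] (.cons [16, 8, 2, 4, 6, 14, 10, 12, 8, 10, 6, 8, 2, 4, 6, 14, 16, 12, 10, 4, 6, 8, 2, 4, 6, 14, 0, 2, 4, 6, 8, 10, 12] (.cons [12, 4, 6, 8, 10, 12, 14, 6, 4, 2, 8, 6] .nil .nil) .nil) (.cons [8, 6, 16, 18, 16, 10, 12, 8, 10, 6, 8, 4, 6, 16, 0, 2, 4, 6, 8, 10, 12, 14] (.cons [16, 10, 6, 8, 2, 4, 6, 14, 10, 12, 8, 10, 4, 6, 8, 2, 4, 6, 14, 16, 10, 4, 6, 8, 2, 4, 6, 14, 0, 2, 4, 6, 8, 10, 12] (.cons [4, 6, 12, 8, 6, 2, 4, 0, 2, 4, 8, 10, 12, 14] .nil .nil) .nil) (.cons [2, 4, 6, 16, 18, 10, 12, 8,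 10, 6, 8, 4, 6, 16, 0, 2, 4, 6, 8, 10, 12, 14] (.cons [6, 14, 16, 10, 8, 6, 14, 10, 12, 8, 10, 4, 6, 8, 2, 4, 6, 14, 16, 10, 8, 2, 4, 6, 14, 0, 2, 4, 6, 8, 10, 12] (.cons [8, 4, 6, 12, 14, 2, 4, 6, 8, 10, 2, 4, 6, 0, 2, 4] (.cons [0, 2, 4] .nil .nil) .nil) .nil) (.cons [10, 8, 6, 16, 18, 10, 12, 8, 10, 6, 8, 4, 6, 16, 0, 2, 4, 6, 8, 10, 12, 14] (.cons [8, 6, 14, 16, 10, 8, 6, 14, 10, 12, 8, 10, 4, 6, 8, 0, 2, 4, 6, 14, 16, 8, 10, 4, 6, 8, 2, 4, 6, 14, 0, 2, 4, 6, 8, 10, 12] (.cons [0, 2, 4, 6, 12, 14, 8, 4, 6, 2, 4, 6, 0, 2, 8, 10] .nil .nil) .nil) (.cons [6, 16, 18, 6, 16, 14, 12, 8, 10, 6, 8, 4, 6, 16, 0, 2, 4, 6, 8, 10, 12, 14] (.cons [14, 6, 8, 2, 4, 6, 14, 16, 6, 14, 12, 10, 4, 6, 8, 2, 4, 6, 14, 0, 2,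 4, 6, 8, 10, 12] (.cons [8, 6, 12, 8, 4, 6, 2, 4, 0, 2, 4, 8, 10, 12, 14] .nil .nil) .nil) (.cons [8, 6, 16, 18, 16, 14, 12, 8, 10, 6, 8, 4, 6, 16, 0, 2, 4, 6, 8, 10, 12, 14] .nil (.cons [2, 4, 6, 16, 18, 14, 12, 8, 10, 6, 8, 4, 6, 16, 0, 2, 4, 6, 8, 10, 12, 14] (.cons [16, 8, 6, 14, 4, 6, 8, 2, 4, 6, 14, 16, 12, 10, 8, 2, 4, 6, 14, 0, 2, 4, 6, 8, 10, 12] (.cons [6, 12, 14, 8, 6, 8, 2, 4, 6, 0, 2, 8, 10] .nil .nil) .nil) (.cons [8, 4, 6, 16, 18, 14, 12, 8, 10, 6, 8, 4, 6, 16, 0, 2, 4, 6, 8, 10, 12, 14] (.cons [16, 8, 6, 14, 8, 10, 4, 6, 8, 2, 4, 6, 14, 16, 12, 10, 8, 2, 4, 6, 14, 0, 2, 4, 6, 8, 10, 12] (.cons [6, 12, 4, 6, 8, 0, 2, 4, 10, 12, 14, 8] .nil .nil) .nil) (.cons [8, 6, 16, 18, 6, 16, 12, 8, 10, 6,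 8, 4, 6, 16, 0, 2, 4, 6, 8, 10, 12, 14] (.cons [14, 12, 10, 4, 6, 8, 2, 4, 6, 14, 16, 14, 12, 10, 4, 6, 8, 2, 4, 6, 14, 0, 2, 4, 6, 8, 10, 12] (.cons [14, 4] .nil .nil) .nil) (.cons [8, 4, 6, 16, 18, 16, 12, 8, 10, 6, 8, 4, 6, 16, 0, 2, 4, 6, 8, 10, 12, 14] (.cons [16, 6, 14, 10, 12, 6, 8, 10, 2, 4, 6, 8, 0, 2, 4, 6, 14, 16, 12, 10, 4, 6, 8, 2, 4, 6, 14, 0, 2, 4, 6, 8, 10, 12] (.cons [10, 8, 6, 8, 10] .nil .nil) .nil) (.cons [8, 2, 4, 6, 16, 18, 12, 8, 10, 6, 8, 4, 6, 16, 0, 2, 4, 6, 8, 10, 12, 14] (.cons [4, 6, 8, 2, 4, 6, 14, 16, 14, 6, 8, 2, 4, 6, 14, 10, 12, 6, 8, 10, 4, 6, 8, 2, 4, 6, 14, 16, 8, 10, 6, 8, 2, 4, 6, 14, 0, 2, 4, 6, 8, 10, 12] (.cons [2, 4, 6, 12, 4, 6, 8, 10, 2, 8, 4, 6, 4, 0, 2, 12, 14]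 .nil .nil) .nil) (.cons [10, 8, 4, 6, 16, 18, 12, 8, 10, 6, 8, 4, 6, 16, 0, 2, 4, 6, 8, 10, 12, 14] (.cons [10, 8, 6, 14, 12, 6, 8, 10, 4, 6, 8, 2, 4, 6, 14, 16, 14, 12, 8, 10, 4, 6, 8, 2, 4, 6, 14, 0, 2, 4, 6, 8, 10, 12] (.cons [6, 8, 2, 10, 6, 12, 14, 4, 2, 8, 6] (.cons [2, 5, 2, 5, 1] .nil .nil) .nil) .nil) (.cons [12, 10, 8, 6, 16, 18, 12, 8, 10, 6, 8, 4, 6, 16, 0, 2, 4, 6, 8, 10, 12, 14] (.cons [8, 0, 2, 4, 6, 14, 16, 6, 8, 4, 6, 14, 10, 12, 8, 10, 2, 4, 6, 8, 0, 2, 4, 6, 14, 16, 12, 10, 4, 6, 8, 2, 4, 6, 14, 0, 2, 4, 6, 8, 10, 12] (.cons [14, 2, 4, 12, 6, 12, 8, 10, 6, 4, 2, 12, 6, 4] .nil .nil) .nil) (.cons [10, 8, 6, 16, 18, 6, 16, 8, 10, 6, 8, 4, 6, 16, 0, 2, 4, 6, 8, 10, 12, 14] (.cons [6, 14, 8, 10,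 2, 4, 6, 8, 0, 2, 4, 6, 14, 16, 10, 4, 6, 8, 2, 4, 6, 14, 0, 2, 4, 6, 8, 10, 12] (.cons [6, 12, 8, 4, 6, 4, 0, 2, 8, 10, 12, 14] (.cons [0, 2, 2, 5, 5] .nil .nil) .nil) .nil) (.cons [8, 2, 4, 6, 16, 18, 16, 8, 10, 6, 8, 4, 6, 16, 0, 2, 4, 6, 8, 10, 12, 14] (.cons [10, 8, 4, 6, 14, 16, 12, 10, 8, 4, 6, 14, 10, 12, 8, 10, 4, 6, 8, 2, 4, 6, 14, 16, 10, 4, 6, 8, 2, 4, 6, 14, 0, 2, 4, 6, 8, 10, 12] .nil .nil) (.cons [6, 8, 4, 6, 16, 18, 16, 8, 10, 6, 8, 4, 6, 16, 0, 2, 4, 6, 8, 10, 12, 14] (.cons [16, 14, 10, 12, 8, 10, 4, 6, 8, 2, 4, 6, 14, 16, 12, 8, 10, 4, 6, 8, 2, 4, 6, 14, 0, 2, 4, 6, 8, 10, 12] .nil .nil) (.cons [6, 8, 2, 4, 6, 16, 18, 8, 10, 6, 8, 4, 6, 16, 0, 2, 4, 6, 8, 10, 12, 14] (.cons [6, 8, 4, 6, 14,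 10, 12, 8, 10, 6, 8, 2, 4, 6, 14, 16, 8, 2, 4, 6, 14, 0, 2, 4, 6, 8, 10, 12] .nil .nil) (.cons [10, 8, 2, 4, 6, 16, 18, 8, 10, 6, 8, 4, 6, 16, 0, 2, 4, 6, 8, 10, 12, 14] (.cons [14, 6, 8, 4, 6, 14, 16, 10, 8, 6, 14, 8, 10, 12, 6, 8, 10, 4, 6, 8, 2, 4, 6, 14, 16, 8, 10, 4, 6, 8, 2, 4, 6, 14, 0, 2, 4, 6, 8, 10, 12] (.cons [6, 12, 14, 10, 8, 4, 6, 8, 4, 2, 4, 10, 8] .nil .nil) .nil) (.cons [10, 6, 8, 4, 6, 16, 18, 8, 10, 6, 8, 4, 6, 16, 0, 2, 4, 6, 8, 10, 12, 14] (.cons [6, 8, 4, 14, 16, 6, 14, 10, 12, 8, 10, 4, 6, 8, 2, 4, 6, 14, 16, 12, 10, 8, 2, 4, 6, 14, 0, 2, 4, 6, 8, 10, 12] (.cons [12, 14, 8, 6, 4, 0, 2, 4, 8, 6, 10, 4] .nil .nil) .nil) (.cons [14, 12, 10, 8, 6, 16, 18, 8, 10, 6, 8, 4, 6, 16, 0, 2, 4, 6,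 8, 10, 12, 14] (.cons [14, 12, 10, 4, 6, 8, 2, 4, 6, 14, 16, 14, 10, 6, 8, 2, 4, 6, 14, 0, 2, 4, 6, 8, 10, 12] .nil .nil) (.cons [8, 4, 6, 16, 18, 16, 14, 12, 10, 6, 8, 4, 6, 16, 0, 2, 4, 6, 8, 10, 12, 14] (.cons [16, 6, 14, 8, 10, 6, 8, 2, 4, 6, 14, 16, 10, 12, 8, 10, 6, 8, 2, 4, 6, 14, 0, 2, 4, 6, 8, 10, 12] (.cons [12, 4, 14, 12, 6, 8, 4, 6, 10] .nil .nil) .nil) (.cons [8, 2, 4, 6, 16, 18, 14, 12, 10, 6, 8, 4, 6, 16, 0, 2, 4, 6, 8, 10, 12, 14] .nil (.cons [6, 8, 4, 6, 16, 18, 14, 12, 10, 6, 8, 4, 6, 16, 0, 2, 4, 6, 8, 10, 12, 14] .nil (.cons [0, 2, 4, 6, 16, 18, 16, 12, 10, 6, 8, 4, 6, 16, 0, 2, 4, 6, 8, 10, 12, 14] (.cons [8, 2, 4, 6, 14, 16, 8, 4, 6, 14, 10, 12, 8, 10, 2, 4, 6, 8, 0, 2, 4, 6, 14, 16, 8,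 10, 4, 6, 8, 2, 4, 6, 14, 0, 2, 4, 6, 8, 10, 12] (.cons [12, 8, 6, 10, 4, 2, 6, 4, 12, 14] .nil .nil) .nil) (.cons [8, 2, 4, 6, 16, 18, 16, 12, 10, 6, 8, 4, 6, 16, 0, 2, 4, 6, 8, 10, 12, 14] (.cons [2, 4, 6, 14, 16, 8, 4, 6, 14, 10, 12, 8, 10, 2, 4, 6, 8, 0, 2, 4, 6, 14, 16, 8, 10, 4, 6, 8, 2, 4, 6, 14, 0, 2, 4, 6, 8, 10, 12] (.cons [8, 0, 2, 4, 6, 12, 4, 6, 8, 10, 2, 8, 4, 6, 4, 0, 2, 12, 14] .nil .nil) .nil) (.cons [6, 8, 4, 6, 16, 18, 16, 12, 10, 6, 8, 4, 6, 16, 0, 2, 4, 6, 8, 10, 12, 14] (.cons [6, 8, 0, 2, 4, 6, 14, 16, 6, 8, 10, 14, 6, 2, 4, 6, 14, 8, 10, 12, 6, 8, 10, 4, 6, 8, 0, 2, 4, 6, 14, 16, 6, 8, 4, 6, 14, 0, 2, 4, 6, 8, 10, 12] (.cons [2, 4, 12, 14, 12, 6, 8, 10, 4, 6, 12, 14, 8, 6, 4, 2] .nil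 .nil) .nil) (.cons [12, 10, 8, 6, 16, 18, 16, 12, 10, 6, 8, 4, 6, 16, 0, 2, 4, 6, 8, 10, 12, 14] (.cons [6, 14, 12, 10, 4, 6, 8, 2, 4, 6, 14, 16, 12, 10, 8, 2, 4, 6, 14, 0, 2, 4, 6, 8, 10, 12] (.cons [2, 4, 14, 2, 8, 6, 12, 14, 6, 8, 10, 12, 6, 4, 6, 2, 4] .nil .nil) .nil) (.cons [8, 0, 2, 4, 6, 16, 18, 12, 10, 6, 8, 4, 6, 16, 0, 2, 4, 6, 8, 10, 12, 14] (.cons [12, 10, 8, 0, 2, 4, 6, 14, 16, 12, 10, 6, 8, 4, 6, 14, 0, 2, 4, 6, 8, 10, 12] .nil .nil) (.cons [6, 8, 2, 4, 6, 16, 18, 12, 10, 6, 8, 4, 6, 16, 0, 2, 4, 6, 8, 10, 12, 14] (.cons [6, 14, 12, 8, 10, 4, 6, 8, 2, 4, 6, 14, 16, 12, 8, 10, 4, 6, 8, 2, 4, 6, 14, 0, 2, 4, 6, 8, 10, 12] (.cons [2, 4, 6, 12, 14, 6, 4, 8, 12, 6, 4, 0, 2, 4, 6, 8, 10] .nil .nil)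 .nil) (.cons [10, 8, 2, 4, 6, 16, 18, 12, 10, 6, 8, 4, 6, 16, 0, 2, 4, 6, 8, 10, 12, 14] (.cons [14, 10, 12, 6, 8, 10, 4, 6, 8, 2, 4, 6, 14, 16, 4, 6, 8, 2, 4, 6, 14, 0, 2, 4, 6, 8, 10, 12] .nil .nil) (.cons [16, 6, 8, 4, 6, 16, 18, 12, 10, 6, 8, 4, 6, 16, 0, 2, 4, 6, 8, 10, 12, 14] (.cons [0, 2, 4, 6, 14, 16, 10, 8, 6, 14, 10, 12, 6, 8, 10, 4, 6, 8, 0, 2, 4, 6, 14, 16, 10, 4, 6, 8, 2, 4, 6, 14, 0, 2, 4, 6, 8, 10, 12] (.cons [12, 14, 6, 12, 8, 10, 6, 4, 0, 2, 4, 12] .nil .nil) .nil) (.cons [12, 10, 8, 4, 6, 16, 18, 12, 10, 6, 8, 4, 6, 16, 0, 2, 4, 6, 8, 10, 12, 14] (.cons [14, 16, 6, 14, 10, 12, 8, 10, 2, 4, 6, 8, 0, 2, 4, 6, 14, 16, 14, 10, 4, 6, 8, 2, 4, 6, 14, 0, 2, 4, 6, 8, 10, 12] (.cons [4, 6, 8, 12, 6,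 4, 0, 2, 8, 10] .nil .nil) .nil) (.cons [14, 12, 10, 8, 6, 16, 18, 12, 10, 6, 8, 4, 6, 16, 0, 2, 4, 6, 8, 10, 12, 14] (.cons [12, 10, 8, 2, 16, 14, 6, 4, 8, 10, 16, 6, 14, 12, 8, 10, 6, 8, 4, 6, 14, 16, 2, 4, 6, 14, 0, 2, 4, 6, 8, 10, 12] (.cons [0, 2, 4, 12, 6, 8, 14, 12, 6, 4, 0, 2, 8, 10, 12, 14] .nil .nil) .nil) (.cons [6, 8, 2, 4, 6, 16, 18, 16, 10, 6, 8, 4, 6, 16, 0, 2, 4, 6, 8, 10, 12, 14] (.cons [16, 6, 4, 2, 14, 16, 6, 14, 10, 12, 8, 10, 6, 8, 4, 6, 14, 16, 8, 2, 4, 6, 14, 0, 2, 4, 6, 8, 10, 12] (.cons [4, 6, 8, 10, 2, 8, 4, 6, 12, 4, 0, 2, 14, 12] .nil .nil) .nil) (.cons [10, 8, 2, 4, 6, 16, 18, 16, 10, 6, 8, 4, 6, 16, 0, 2, 4, 6, 8, 10, 12, 14] (.cons [16, 6, 8, 2, 4, 6, 14, 10, 12, 8, 10, 6, 8, 0,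 2, 4, 6, 14, 16, 8, 2, 4, 6, 14, 0, 2, 4, 6, 8, 10, 12] .nil .nil) (.cons [16, 6, 8, 4, 6, 16, 18, 16, 10, 6, 8, 4, 6, 16, 0, 2, 4, 6, 8, 10, 12, 14] (.cons [2, 4, 6, 14, 10, 12, 8, 10, 6, 8, 2, 4, 6, 14, 16, 10, 8, 2, 4, 6, 14, 0, 2, 4, 6, 8, 10, 12] (.cons [6, 8, 12, 6, 4, 2, 12, 6, 8, 4, 6, 10] .nil .nil) .nil) (.cons [12, 10, 8, 4, 6, 16, 18, 16, 10, 6, 8, 4, 6, 16, 0, 2, 4, 6, 8, 10, 12, 14] .nil (.cons [14, 12, 10, 8, 6, 16, 18, 16, 10, 6, 8, 4, 6, 16, 0, 2, 4, 6, 8, 10, 12, 14] (.cons [6, 14, 16, 10, 6, 2, 4, 6, 14, 8, 10, 12, 6, 8, 10, 4, 6, 8, 0, 2, 4, 6, 14, 16, 6, 8, 4, 6, 14, 0, 2, 4, 6, 8, 10, 12] (.cons [8, 6, 12, 4, 6, 0, 2, 4, 8, 10, 12, 14] (.cons [0, 0, 3, 4] .nil .nil) .nil) .nil) (.cons [6,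 8, 0, 2, 4, 6, 16, 18, 10, 6, 8, 4, 6, 16, 0, 2, 4, 6, 8, 10, 12, 14] (.cons [10, 8, 6, 14, 16, 0, 2, 4, 6, 14, 8, 10, 12, 6, 8, 10, 4, 6, 8, 2, 4, 6, 14, 16, 4, 6, 8, 2, 4, 6, 14, 0, 2, 4, 6, 8, 10, 12] (.cons [8, 6, 4, 0, 2, 4, 6, 12, 14, 12] .nil .nil) .nil) (.cons [10, 8, 0, 2, 4, 6, 16, 18, 10, 6, 8, 4, 6, 16, 0, 2, 4, 6, 8, 10, 12, 14] (.cons [16, 8, 2, 4, 6, 14, 10, 12, 8, 10, 6, 8, 2, 4, 6, 14, 16, 8, 10, 6, 8, 2, 4, 6, 14, 0, 2, 4, 6, 8, 10, 12] (.cons [4, 6, 8, 6, 2, 4, 0, 2, 10, 8] .nil .nil) .nil) (.cons [4, 6, 8, 2, 4, 6, 16, 18, 10, 6, 8, 4, 6, 16, 0, 2, 4, 6, 8, 10, 12, 14] (.cons [8, 14, 6, 4, 8, 0, 2, 4, 6, 14, 10, 12, 8, 10, 6, 8, 4, 6, 14, 16, 8, 10, 6, 8, 2, 4, 6, 14, 0, 2, 4, 6, 8, 10, 12]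 .nil .nil) (.cons [16, 6, 8, 2, 4, 6, 16, 18, 10, 6, 8, 4, 6, 16, 0, 2, 4, 6, 8, 10, 12, 14] .nil (.cons [12, 10, 8, 2, 4, 6, 16, 18, 10, 6, 8, 4, 6, 16, 0, 2, 4, 6, 8, 10, 12, 14] (.cons [6, 14, 12, 8, 10, 6, 8, 4, 6, 14, 16, 14, 10, 6, 8, 2, 4, 6, 14, 0, 2, 4, 6, 8, 10, 12] (.cons [6, 4, 10, 12, 6, 8, 4, 2, 6, 10, 8] (.cons [1, 2, 0, 0, 4, 0] .nil .nil) .nil) .nil) (.cons [18, 16, 6, 8, 4, 6, 16, 18, 10, 6, 8, 4, 6, 16, 0, 2, 4, 6, 8, 10, 12, 14] (.cons [16, 14, 12, 8, 10, 6, 8, 2, 4, 6, 14, 16, 8, 10, 6, 8, 4, 6, 14, 0, 2, 4, 6, 8, 10, 12] .nil .nil) (.cons [14, 12, 10, 8, 4, 6, 16, 18, 10, 6, 8, 4, 6, 16, 0, 2, 4, 6, 8, 10, 12, 14] (.cons [6, 8, 0, 2, 4, 6, 14, 16, 10, 8, 2, 4, 6, 14, 10, 12, 8, 10, 4, 6,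 8, 2, 4, 6, 14, 16, 10, 6, 8, 2, 4, 6, 14, 0, 2, 4, 6, 8, 10, 12] (.cons [12, 14, 2, 10, 6, 4, 0, 2, 4, 12] .nil .nil) .nil) (.cons [6, 8, 0, 2, 4, 6, 16, 18, 16, 6, 8, 4, 6, 16, 0, 2, 4, 6, 8, 10, 12, 14] (.cons [14, 0, 6, 4, 2, 0, 4, 10, 14, 12, 8, 10, 6, 8, 4, 6, 14, 16, 12, 10, 6, 8, 4, 6, 14, 2, 4, 6, 8, 10, 12] (.cons [6, 2, 4, 6, 14, 12, 6, 8, 10, 8, 6, 12, 14, 4, 6, 0, 2] .nil .nil) .nil) (.cons [10, 8, 0, 2, 4, 6, 16, 18, 16, 6, 8, 4, 6, 16, 0, 2, 4, 6, 8, 10, 12, 14] .nil (.cons [12, 10, 8, 2, 4, 6, 16, 18, 16, 6, 8, 4, 6, 16, 0, 2, 4, 6, 8, 10, 12, 14] .nil (.cons [12, 10, 6, 8, 4, 6, 16, 18, 16, 6, 8, 4, 6, 16, 0, 2, 4, 6, 8, 10, 12, 14] (.cons [16, 14, 6, 8, 12, 10, 14, 8, 6, 14, 16, 4, 6, 14, 8,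 10, 12, 6, 8, 10, 4, 6, 8, 2, 4, 6, 14, 16, 6, 8, 4, 6, 14, 0, 2, 4, 6, 8, 10, 12] (.cons [6, 12, 14, 4, 2, 8, 6] .nil .nil) .nil) (.cons [10, 6, 8, 0, 2, 4, 6, 16, 18, 6, 8, 4, 6, 16, 0, 2, 4, 6, 8, 10, 12, 14] (.cons [14, 16, 4, 6, 8, 2, 4, 6, 14, 10, 12, 8, 10, 6, 8, 0, 2, 4, 6, 14, 16, 10, 8, 2, 4, 6, 14, 0, 2, 4, 6, 8, 10, 12] (.cons [14, 4, 8, 10] .nil .nil) .nil) (.cons [10, 4, 6, 8, 2, 4, 6, 16, 18, 6, 8, 4, 6, 16, 0, 2, 4, 6, 8, 10, 12, 14] (.cons [6, 14, 8, 0, 6, 4, 2, 0, 10, 14, 12, 8, 10, 6, 8, 4, 6, 14, 16, 12, 10, 6, 8, 4, 6, 14, 2, 4, 6, 8, 10, 12] (.cons [8, 6, 2, 8, 4, 6, 10, 0, 2, 12, 14] .nil .nil) .nil) (.cons [12, 10, 6, 8, 2, 4, 6, 16, 18, 6, 8, 4, 6, 16, 0, 2, 4, 6, 8, 10, 12, 14] (.cons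 [16, 14, 12, 10, 4, 6, 8, 2, 4, 6, 14, 16, 8, 10, 4, 6, 8, 2, 4, 6, 14, 0, 2, 4, 6, 8, 10, 12] (.cons [4, 6, 8, 0, 2, 4, 6, 12, 14, 10, 8, 12, 6, 4, 0, 2, 8, 6, 10, 4] .nil .nil) .nil) (.cons [12, 8, 10, 6, 8, 4, 6, 16, 18, 6, 8, 4, 6, 16, 0, 2, 4, 6, 8, 10, 12, 14] (.cons [6, 14, 16, 8, 6, 14, 12, 6, 8, 10, 4, 6, 8, 0, 2, 4, 6, 14, 16, 10, 4, 6, 8, 2, 4, 6, 14, 0, 2, 4, 6, 8, 10, 12] (.cons [4, 2, 10, 12, 6, 4, 14, 8, 12, 6, 8, 10] .nil .nil) .nil) (.cons [14, 12, 10, 6, 8, 4, 6, 16, 18, 6, 8, 4, 6, 16, 0, 2, 4, 6, 8, 10, 12, 14] (.cons [0, 2, 4, 6, 14, 16, 6, 8, 10, 14, 6, 4, 6, 14, 8, 10, 12, 6, 8, 10, 4, 6, 8, 2, 4, 6, 14, 16, 14, 6, 8, 4, 6, 14, 0, 2, 4, 6, 8, 10, 12] .nil .nil) (.cons [6, 8, 2, 4, 6, 16,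 18, 14, 12, 10, 8, 4, 6, 16, 0, 2, 4, 6, 8, 10, 12, 14] (.cons [6, 14, 6, 8, 10, 4, 6, 8, 2, 4, 6, 14, 16, 12, 10, 8, 4, 6, 14, 0, 2, 4, 6, 8, 10, 12] (.cons [2, 4, 2, 12, 6, 8, 10, 6, 12, 14, 0, 4, 8, 6, 4, 2] .nil .nil) .nil) (.cons [10, 8, 2, 4, 6, 16, 18, 14, 12, 10, 8, 4, 6, 16, 0, 2, 4, 6, 8, 10, 12, 14] (.cons [8, 6, 14, 8, 10, 4, 6, 8, 2, 4, 6, 14, 16, 12, 8, 10, 6, 8, 2, 4, 6, 14, 0, 2, 4, 6, 8, 10, 12] .nil .nil) (.cons [10, 6, 8, 4, 6, 16, 18, 14, 12, 10, 8, 4, 6, 16, 0, 2, 4, 6, 8, 10, 12, 14] (.cons [4, 6, 8, 0, 2, 4, 6, 14, 16, 12, 10, 6, 8, 4, 6, 14, 0, 2, 4, 6, 8, 10, 12] (.cons [4, 0, 2, 10, 12, 6, 8, 4, 6, 12, 14, 6, 2, 4, 6, 8, 10, 12, 6, 4, 2] (.cons [4, 3, 4, 3, 4] .nil .nil) .nil) .nil)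 (.cons [16, 6, 8, 4, 6, 16, 18, 14, 12, 10, 8, 4, 6, 16, 0, 2, 4, 6, 8, 10, 12, 14] (.cons [16, 6, 14, 4, 6, 8, 2, 4, 6, 14, 16, 14, 12, 8, 10, 4, 6, 8, 2, 4, 6, 14, 0, 2, 4, 6, 8, 10, 12] (.cons [2, 4, 14, 12, 6, 8, 10, 6, 12, 14, 4, 0, 2, 8, 6] .nil .nil) .nil) (.cons [14, 12, 10, 8, 6, 16, 18, 14, 12, 10, 8, 4, 6, 16, 0, 2, 4, 6, 8, 10, 12, 14] (.cons [6, 14, 12, 10, 4, 6, 8, 2, 4, 6, 14, 16, 12, 8, 10, 6, 8, 4, 6, 14, 0, 2, 4, 6, 8, 10, 12] (.cons [14, 10, 2, 4, 0, 2] .nil .nil) .nil) (.cons [4, 6, 8, 2, 4, 6, 16, 18, 12, 10, 8, 4, 6, 16, 0, 2, 4, 6, 8, 10, 12, 14] (.cons [16, 4, 10, 0, 2, 4, 6, 14, 16, 8, 6, 14, 10, 12, 8, 10, 6, 8, 4, 6, 14, 16, 8, 2, 4, 6, 14, 0, 2, 4, 6, 8, 10, 12] (.cons [4, 2, 6, 12,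 8, 6, 4, 6, 8, 10, 12, 8, 6, 12, 14, 4, 6, 0, 2] (.cons [1, 5, 2, 1, 4] .nil .nil) .nil) .nil) (.cons [16, 6, 8, 2, 4, 6, 16, 18, 12, 10, 8, 4, 6, 16, 0, 2, 4, 6, 8, 10, 12, 14] (.cons [6, 14, 16, 12, 10, 8, 6, 14, 12, 10, 4, 6, 8, 2, 4, 6, 14, 16, 12, 10, 4, 6, 8, 2, 4, 6, 14, 0, 2, 4, 6, 8, 10, 12] (.cons [8, 4, 6, 8, 10, 12, 14, 6, 4, 2, 8, 6] .nil .nil) .nil) (.cons [8, 10, 6, 8, 4, 6, 16, 18, 12, 10, 8, 4, 6, 16, 0, 2, 4, 6, 8, 10, 12, 14] (.cons [16, 14, 12, 8, 10, 6, 8, 4, 6, 14, 16, 10, 6, 8, 2, 4, 6, 14, 0, 2, 4, 6, 8, 10, 12] (.cons [0, 8, 6, 12, 4, 6, 8, 6, 2, 4, 0, 2, 10, 8] .nil .nil) .nil) (.cons [12, 10, 6, 8, 4, 6, 16, 18, 12, 10, 8, 4, 6, 16, 0, 2, 4, 6, 8, 10, 12, 14] (.cons [14, 16, 10, 8,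 6, 14, 10, 12, 6, 8, 10, 4, 6, 8, 2, 4, 6, 14, 16, 14, 12, 8, 10, 4, 6, 8, 2, 4, 6, 14, 0, 2, 4, 6, 8, 10, 12] (.cons [14, 12, 10, 6, 4, 2, 12, 6, 4, 14, 12] .nil .nil) .nil) (.cons [16, 10, 6, 8, 4, 6, 16, 18, 12, 10, 8, 4, 6, 16, 0, 2, 4, 6, 8, 10, 12, 14] (.cons [10, 8, 0, 2, 4, 6, 14, 16, 6, 14, 10, 4, 6, 8, 2, 4, 6, 14, 0, 2, 4, 6, 8, 10, 12] (.cons [14, 2, 0, 4, 12, 6, 2, 12, 8, 10, 6, 8, 12] .nil .nil) .nil) (.cons [18, 16, 6, 8, 4, 6, 16, 18, 12, 10, 8, 4, 6, 16, 0, 2, 4, 6, 8, 10, 12, 14] (.cons [4, 6, 14, 16, 12, 10, 6, 2, 4, 6, 14, 8, 10, 12, 6, 8, 10, 4, 6, 8, 2, 4, 6, 14, 16, 14, 6, 8, 4, 6, 14, 0, 2, 4, 6, 8, 10, 12] (.cons [14, 6, 12, 10, 14, 0, 6, 4, 2, 12, 6, 4] .nil .nil) .nil) (.cons [14,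 12, 10, 8, 4, 6, 16, 18, 12, 10, 8, 4, 6, 16, 0, 2, 4, 6, 8, 10, 12, 14] (.cons [6, 0, 2, 4, 6, 14, 8, 10, 12, 6, 8, 10, 4, 6, 8, 0, 2, 4, 6, 14, 16, 6, 8, 4, 6, 14, 0, 2, 4, 6, 8, 10, 12] (.cons [0, 2, 4, 12, 6, 8, 10, 14, 4, 6, 12, 14, 8, 6, 4, 0, 2] .nil .nil) .nil) (.cons [4, 6, 8, 0, 2, 4, 6, 16, 18, 10, 8, 4, 6, 16, 0, 2, 4, 6, 8, 10, 12, 14] (.cons [14, 10, 6, 8, 2, 4, 6, 14, 16, 14, 6, 8, 4, 6, 14, 2, 4, 6, 8, 10, 12] (.cons [6, 12, 4, 6, 0, 2, 8, 10, 14, 6, 8, 12] .nil .nil) .nil) (.cons [16, 10, 6, 8, 2, 4, 6, 16, 18, 10, 8, 4, 6, 16, 0, 2, 4, 6, 8, 10, 12, 14] .nil (.cons [14, 12, 10, 6, 8, 4, 6, 16, 18, 10, 8, 4, 6, 16, 0, 2, 4, 6, 8, 10, 12, 14] (.cons [6, 14, 12, 6, 8, 10, 4, 6, 8, 2, 4, 6, 14,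 16, 8, 10, 4, 6, 8, 2, 4, 6, 14, 0, 2, 4, 6, 8, 10, 12] (.cons [8, 6, 4, 2, 6, 8, 4, 6, 8, 10] .nil .nil) .nil) (.cons [18, 16, 10, 6, 8, 4, 6, 16, 18, 10, 8, 4, 6, 16, 0, 2, 4, 6, 8, 10, 12, 14] (.cons [2, 4, 6, 14, 16, 8, 6, 14, 10, 8, 0, 6, 4, 2, 0, 14, 12, 8, 10, 6, 8, 4, 6, 14, 16, 12, 8, 10, 6, 8, 4, 6, 14, 2, 4, 6, 8, 10, 12] (.cons [12, 2, 4, 6, 8, 4, 10, 12, 14, 8] .nil .nil) .nil) (.cons [14, 12, 10, 8, 0, 2, 4, 6, 16, 18, 8, 4, 6, 16, 0, 2, 4, 6, 8, 10, 12, 14] (.cons [8, 4, 6, 14, 16, 8, 4, 6, 14, 10, 8, 6, 4, 2, 0, 14, 12, 8, 10, 6, 8, 4, 6, 14, 16, 12, 8, 10, 6, 8, 4, 6, 14, 2, 4, 6, 8, 10, 12] (.cons [2, 4, 6, 12, 14, 8, 10, 8, 6, 4, 0, 2] .nil .nil) .nil) (.cons [6, 8, 0, 2, 4, 6, 16, 18, 14,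 12, 10, 8, 6, 16, 0, 2, 4, 6, 8, 10, 12, 14] (.cons [14, 16, 4, 6, 14, 8, 10, 6, 8, 4, 6, 14, 16, 12, 10, 8, 4, 6, 14, 2, 4, 6, 8, 10, 12] (.cons [8, 4, 6, 12, 14, 4, 2, 4, 12, 6, 8, 10, 4, 6, 2, 4, 0, 2] .nil .nil) .nil) (.cons [4, 6, 8, 2, 4, 6, 16, 18, 14, 12, 10, 8, 6, 16, 0, 2, 4, 6, 8, 10, 12, 14] (.cons [8, 2, 4, 6, 14, 16, 12, 10, 8, 4, 6, 14, 0, 2, 4, 6, 8, 10, 12] (.cons [0, 2, 4, 6, 12, 14, 8, 6, 2, 4, 0, 2, 8, 10] .nil .nil) .nil) (.cons [10, 6, 8, 2, 4, 6, 16, 18, 14, 12, 10, 8, 6, 16, 0, 2, 4, 6, 8, 10, 12, 14] (.cons [6, 14, 16, 2, 4, 6, 14, 8, 10, 4, 6, 8, 2, 4, 6, 14, 16, 14, 12, 10, 4, 6, 8, 2, 4, 6, 14, 0, 2, 4, 6, 8, 10, 12] .nil .nil) (.cons [16, 6, 8, 2, 4, 6, 16, 18, 14, 12, 10, 8, 6,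 16, 0, 2, 4, 6, 8, 10, 12, 14] (.cons [8, 10, 6, 8, 2, 4, 6, 14, 16, 6, 14, 12, 10, 4, 6, 8, 2, 4, 6, 14, 0, 2, 4, 6, 8, 10, 12] (.cons [2, 0, 12, 6, 4, 2, 10, 6, 8, 4, 6, 10] .nil .nil) .nil) (.cons [8, 10, 6, 8, 4, 6, 16, 18, 14, 12, 10, 8, 6, 16, 0, 2, 4, 6, 8, 10, 12, 14] (.cons [16, 8, 6, 14, 10, 12, 8, 10, 6, 8, 4, 6, 14, 2, 4, 6, 8, 10, 12] (.cons [2, 4, 6, 8, 10, 4, 6, 12, 14, 8, 6, 4, 2, 4] (.cons [1, 3, 4, 1, 1] .nil .nil) .nil) .nil) (.cons [12, 10, 6, 8, 4, 6, 16, 18, 14, 12, 10, 8, 6, 16, 0, 2, 4, 6, 8, 10, 12, 14] (.cons [16, 0, 2, 4, 6, 14, 12, 8, 10, 6, 8, 4, 6, 14, 16, 6, 8, 10, 4, 6, 8, 2, 4, 6, 14, 0, 2, 4, 6, 8, 10, 12] (.cons [4, 6, 12, 4, 6, 2, 8, 4, 6, 10, 0, 2, 12, 14] .nil .nil) .nil)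 (.cons [16, 10, 6, 8, 4, 6, 16, 18, 14, 12, 10, 8, 6, 16, 0, 2, 4, 6, 8, 10, 12, 14] (.cons [16, 4, 6, 14, 8, 10, 6, 8, 2, 4, 6, 14, 16, 12, 8, 10, 4, 6, 8, 2, 4, 6, 14, 0, 2, 4, 6, 8, 10, 12] (.cons [12, 14, 0, 2, 8, 4, 2, 0, 6, 4, 2, 12, 14, 8, 6, 4, 12] .nil .nil) .nil) (.cons [4, 6, 8, 0, 2, 4, 6, 16, 18, 12, 10, 8, 6, 16, 0, 2, 4, 6, 8, 10, 12, 14] (.cons [6, 8, 10, 14, 6, 8, 6, 14, 16, 4, 6, 14, 10, 12, 8, 10, 6, 8, 2, 4, 6, 14, 16, 12, 10, 8, 2, 4, 6, 14, 0, 2, 4, 6, 8, 10, 12] (.cons [0, 2, 4, 6, 12, 14, 2, 6, 8, 10, 4, 8, 6, 4, 2] .nil .nil) .nil) (.cons [10, 6, 8, 0, 2, 4, 6, 16, 18, 12, 10, 8, 6, 16, 0, 2, 4, 6, 8, 10, 12, 14] (.cons [8, 4, 6, 14, 10, 12, 8, 10, 6, 8, 4, 6, 14, 16, 14, 12, 10, 4,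 6, 8, 2, 4, 6, 14, 0, 2, 4, 6, 8, 10, 12] .nil .nil) (.cons [8, 10, 6, 8, 2, 4, 6, 16, 18, 12, 10, 8, 6, 16, 0, 2, 4, 6, 8, 10, 12, 14] (.cons [16, 6, 14, 10, 12, 6, 8, 10, 4, 6, 8, 0, 2, 4, 6, 14, 16, 12, 10, 6, 8, 2, 4, 6, 14, 0, 2, 4, 6, 8, 10, 12] (.cons [10, 12, 6, 8, 6, 12, 14, 4, 10, 0, 2, 4, 8, 6] .nil .nil) .nil) (.cons [16, 10, 6, 8, 2, 4, 6, 16, 18, 12, 10, 8, 6, 16, 0, 2, 4, 6, 8, 10, 12, 14] (.cons [16, 0, 2, 4, 6, 14, 8, 10, 6, 8, 2, 4, 6, 14, 16, 14, 8, 10, 6, 8, 2, 4, 6, 14, 0, 2, 4, 6, 8, 10, 12] .nil .nil) (.cons [18, 16, 10, 6, 8, 4, 6, 16, 18, 12, 10, 8, 6, 16, 0, 2, 4, 6, 8, 10, 12, 14] (.cons [10, 8, 0, 2, 4, 6, 14, 16, 10, 8, 4, 6, 14, 10, 12, 8, 10, 4, 6, 8, 2, 4, 6, 14, 16, 14, 8, 10,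 4, 6, 8, 2, 4, 6, 14, 0, 2, 4, 6, 8, 10, 12] .nil .nil) (.cons [6, 16, 4, 6, 8, 2, 4, 6, 16, 18, 10, 8, 6, 16, 0, 2, 4, 6, 8, 10, 12, 14] (.cons [8, 6, 14, 16, 12, 10, 8, 4, 6, 14, 10, 12, 6, 8, 10, 4, 6, 8, 2, 4, 6, 14, 16, 10, 6, 8, 2, 4, 6, 14, 0, 2, 4, 6, 8, 10, 12] .nil .nil) (.cons [10, 8, 6, 16, 12, 14, 10, 12, 8, 10, 6, 8, 4, 6, 16, 2, 4, 6, 8, 10, 12, 14] (.cons [4, 6, 14, 8, 10, 6, 8, 4, 6, 14, 16, 14, 12, 10, 4, 6, 8, 2, 4, 6, 14, 0, 2, 4, 6, 8, 10, 12] (.cons [4, 6, 0, 2, 12, 14, 6, 4, 2, 8, 6] .nil .nil) .nil) (.cons [6, 16, 18, 16, 12, 14, 10, 12, 8, 10, 6, 8, 4, 6, 16, 2, 4, 6, 8, 10, 12, 14] (.cons [8, 6, 4, 2, 6, 8, 4, 6, 14, 10, 12, 8, 10, 6, 8, 4, 6, 14, 16, 14, 10, 6, 8, 2, 4, 6, 14, 0, 2,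 4, 6, 8, 10, 12] (.cons [14, 12, 8, 6, 4, 2, 6, 8, 10, 12, 14, 6, 4] .nil .nil) .nil) (.cons [8, 6, 16, 18, 12, 14, 10, 12, 8, 10, 6, 8, 4, 6, 16, 2, 4, 6, 8, 10, 12, 14] (.cons [10, 8, 4, 6, 14, 16, 8, 4, 6, 14, 10, 12, 8, 10, 4, 6, 8, 2, 4, 6, 14, 16, 10, 8, 2, 4, 6, 14, 0, 2, 4, 6, 8, 10, 12] (.cons [4, 6, 8, 0, 2, 10, 6, 4, 12, 6, 8, 14, 12, 6, 4, 2, 8, 10, 12, 14] .nil .nil) .nil) (.cons [8, 2, 4, 6, 16, 14, 10, 12, 8, 10, 6, 8, 4, 6, 16, 2, 4, 6, 8, 10, 12, 14] (.cons [6, 14, 10, 4, 6, 8, 0, 2, 4, 6, 14, 16, 12, 8, 10, 6, 8, 2, 4, 6, 14, 0, 2, 4, 6, 8, 10, 12] .nil .nil) (.cons [6, 16, 18, 6, 16, 14, 10, 12, 8, 10, 6, 8, 4, 6, 16, 2, 4, 6, 8, 10, 12, 14] (.cons [6, 8, 4, 6, 14, 16, 12, 8, 10, 4, 6, 8,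 2, 4, 6, 14, 0, 2, 4, 6, 8, 10, 12] (.cons [2, 4, 6, 12, 14, 8, 6, 4, 0, 2, 4, 6, 8, 10] .nil .nil) .nil) (.cons [2, 4, 6, 16, 18, 14, 10, 12, 8, 10, 6, 8, 4, 6, 16, 2, 4, 6, 8, 10, 12, 14] (.cons [10, 8, 2, 4, 6, 14, 16, 12, 8, 10, 6, 8, 2, 4, 6, 14, 0, 2, 4, 6, 8, 10, 12] .nil .nil) (.cons [8, 4, 6, 16, 18, 14, 10, 12, 8, 10, 6, 8, 4, 6, 16, 2, 4, 6, 8, 10, 12, 14] (.cons [14, 8, 10, 6, 8, 4, 6, 14, 16, 12, 10, 6, 8, 4, 6, 14, 2, 4, 6, 8, 10, 12] .nil .nil) (.cons [10, 8, 6, 16, 18, 14, 10, 12, 8, 10, 6, 8, 4, 6, 16, 2, 4, 6, 8, 10, 12, 14] (.cons [2, 4, 6, 14, 16, 8, 6, 14, 8, 10, 4, 6, 8, 2, 4, 6, 14, 16, 12, 8, 10, 4, 6, 8, 2, 4, 6, 14, 0, 2, 4, 6, 8, 10, 12] (.cons [8, 2, 4, 6, 10, 8, 14, 12, 6, 8, 4,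 10, 2, 12, 14, 6, 4] .nil .nil) .nil) (.cons [6, 8, 2, 4, 6, 16, 10, 12, 8, 10, 6, 8, 4, 6, 16, 2, 4, 6, 8, 10, 12, 14] .nil (.cons [16, 6, 8, 4, 6, 16, 10, 12, 8, 10, 6, 8, 4, 6, 16, 2, 4, 6, 8, 10, 12, 14] (.cons [6, 14, 12, 10, 4, 6, 8, 2, 4, 6, 14, 16, 10, 6, 8, 2, 4, 6, 14, 0, 2, 4, 6, 8, 10, 12] (.cons [6, 12, 8, 4, 6, 2, 4, 0, 2, 8, 10, 12, 14] .nil .nil) .nil) (.cons [18, 6, 8, 4, 6, 16, 10, 12, 8, 10, 6, 8, 4, 6, 16, 2, 4, 6, 8, 10, 12, 14] (.cons [16, 6, 10, 4, 0, 2, 6, 14, 8, 4, 6, 14, 10, 12, 8, 10, 6, 8, 4, 6, 14, 16, 8, 2, 4, 6, 14, 0, 2, 4, 6, 8, 10, 12] (.cons [8, 12, 6, 2, 8, 4, 6, 12, 10, 0, 2, 14, 12] (.cons [0, 2, 2, 4, 2] (.cons [5, 0] (.cons [1] (.leaf 0) .nil) .nil) .nil) .nil) .nil) (.cons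 [8, 4, 6, 16, 18, 16, 10, 12, 8, 10, 6, 8, 4, 6, 16, 2, 4, 6, 8, 10, 12, 14] (.cons [12, 10, 8, 0, 2, 4, 6, 14, 16, 4, 6, 8, 2, 4, 6, 14, 0, 2, 4, 6, 8, 10, 12] (.cons [8, 2, 4, 6, 12, 10, 6, 8, 6, 2, 4, 6, 0, 2, 8, 10, 12, 14] .nil .nil) .nil) (.cons [8, 2, 4, 6, 16, 18, 10, 12, 8, 10, 6, 8, 4, 6, 16, 2, 4, 6, 8, 10, 12, 14] (.cons [16, 10, 8, 4, 6, 14, 10, 12, 8, 10, 4, 6, 8, 2, 4, 6, 14, 16, 12, 10, 6, 8, 2, 4, 6, 14, 0, 2, 4, 6, 8, 10, 12] .nil .nil) (.cons [12, 10, 8, 6, 16, 18, 10, 12, 8, 10, 6, 8, 4, 6, 16, 2, 4, 6, 8, 10, 12, 14] (.cons [16, 4, 6, 14, 8, 10, 6, 8, 4, 6, 14, 16, 12, 10, 4, 6, 8, 2, 4, 6, 14, 0, 2, 4, 6, 8, 10, 12] .nil .nil) (.cons [8, 6, 16, 18, 6, 16, 14, 12, 8, 10, 6, 8, 4, 6, 16,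 2, 4, 6, 8, 10, 12, 14] (.cons [4, 6, 14, 8, 10, 6, 8, 2, 4, 6, 14, 16, 12, 8, 10, 6, 8, 2, 4, 6, 14, 0, 2, 4, 6, 8, 10, 12] (.cons [12, 0, 2, 0, 6, 4, 2, 12, 6, 8, 10, 8] .nil .nil) .nil) (.cons [8, 4, 6, 16, 18, 16, 14, 12, 8, 10, 6, 8, 4, 6, 16, 2, 4, 6, 8, 10, 12, 14] (.cons [6, 14, 16, 8, 6, 14, 6, 8, 10, 4, 6, 8, 2, 4, 6, 14, 16, 14, 12, 10, 4, 6, 8, 2, 4, 6, 14, 0, 2, 4, 6, 8, 10, 12] (.cons [4, 6, 8, 10, 12, 8, 6, 12, 14, 4, 6, 2] .nil .nil) .nil) (.cons [6, 8, 4, 6, 16, 18, 14, 12, 8, 10, 6, 8, 4, 6, 16, 2, 4, 6, 8, 10, 12, 14] (.cons [8, 10, 6, 8, 4, 6, 14, 16, 12, 10, 8, 6, 14, 4, 6, 8, 10, 12] (.cons [6, 12, 14, 6, 8, 4, 12, 6, 2, 8, 10, 4, 6, 0, 2] .nil .nil) .nil) (.cons [10, 8, 2, 4, 6, 16, 18,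 12, 8, 10, 6, 8, 4, 6, 16, 2, 4, 6, 8, 10, 12, 14] (.cons [8, 2, 4, 6, 14, 10, 12, 8, 10, 6, 8, 2, 4, 6, 14, 16, 14, 10, 6, 8, 2, 4, 6, 14, 0, 2, 4, 6, 8, 10, 12] (.cons [12, 4, 14, 8, 12] .nil .nil) .nil) (.cons [16, 6, 8, 4, 6, 16, 18, 12, 8, 10, 6, 8, 4, 6, 16, 2, 4, 6, 8, 10, 12, 14] (.cons [6, 14, 16, 8, 6, 14, 10, 12, 8, 10, 4, 6, 8, 2, 4, 6, 14, 16, 8, 10, 4, 6, 8, 2, 4, 6, 14, 0, 2, 4, 6, 8, 10, 12] (.cons [14, 6, 8, 4, 12, 6, 4, 2, 8, 10] .nil .nil) .nil) (.cons [12, 10, 8, 4, 6, 16, 18, 12, 8, 10, 6, 8, 4, 6, 16, 2, 4, 6, 8, 10, 12, 14] (.cons [10, 8, 10, 12, 10, 8, 4, 6, 14, 6, 8, 10, 4, 6, 8, 2, 4, 6, 14, 16, 12, 10, 6, 8, 2, 4, 6, 14, 0, 2, 4, 6, 8, 10, 12] (.cons [6, 4, 0, 2, 10, 12, 14, 8] .nil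 .nil) .nil) (.cons [14, 12, 10, 8, 6, 16, 18, 12, 8, 10, 6, 8, 4, 6, 16, 2, 4, 6, 8, 10, 12, 14] (.cons [16, 4, 6, 14, 12, 10, 8, 6, 4, 2, 14, 10, 12, 8, 10, 6, 8, 4, 6, 14, 16, 10, 6, 8, 4, 6, 14, 0, 2, 4, 6, 8, 10, 12] (.cons [2, 12, 14, 4, 8, 6, 10, 4] .nil .nil) .nil) (.cons [12, 10, 8, 6, 16, 18, 6, 16, 8, 10, 6, 8, 4, 6, 16, 2, 4, 6, 8, 10, 12, 14] (.cons [16, 14, 2, 4, 6, 8, 0, 2, 4, 6, 14, 16, 12, 10, 4, 6, 8, 2, 4, 6, 14, 0, 2, 4, 6, 8, 10, 12] (.cons [8, 6, 2, 4, 0, 2, 4, 6, 8, 10] .nil .nil) .nil) (.cons [10, 6, 8, 2, 4, 6, 16, 18, 8, 10, 6, 8, 4, 6, 16, 2, 4, 6, 8, 10, 12, 14] .nil (.cons [16, 6, 8, 2, 4, 6, 16, 18, 8, 10, 6, 8, 4, 6, 16, 2, 4, 6, 8, 10, 12, 14] (.cons [14, 16, 6, 0, 2, 4, 2, 6,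 14, 8, 4, 6, 14, 10, 12, 8, 10, 6, 8, 4, 6, 14, 16, 8, 2, 4, 6, 14, 0, 2, 4, 6, 8, 10, 12] (.cons [10, 8, 6, 12, 14, 2, 4, 6, 0, 2, 4, 8, 10] .nil .nil) .nil) (.cons [8, 10, 6, 8, 4, 6, 16, 18, 8, 10, 6, 8, 4, 6, 16, 2, 4, 6, 8, 10, 12, 14] (.cons [6, 14, 16, 4, 6, 14, 8, 10, 6, 8, 4, 6, 14, 16, 14, 4, 6, 8, 2, 4, 6, 14, 0, 2, 4, 6, 8, 10, 12] (.cons [6, 12, 6, 8, 4, 6, 4, 2, 8, 10, 12, 14] .nil .nil) .nil) (.cons [12, 10, 6, 8, 4, 6, 16, 18, 8, 10, 6, 8, 4, 6, 16, 2, 4, 6, 8, 10, 12, 14] (.cons [8, 0, 2, 4, 6, 14, 16, 6, 4, 8, 10, 6, 8, 14, 6, 4, 2, 10, 12, 8, 10, 6, 8, 4, 6, 14, 16, 12, 10, 6, 8, 4, 6, 14, 0, 2, 4, 6, 8, 10, 12] (.cons [2, 6, 8, 10, 8, 6, 4, 12, 14, 6, 4] .nil .nil) .nil) (.cons [16, 10, 6,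 8, 4, 6, 16, 18, 8, 10, 6, 8, 4, 6, 16, 2, 4, 6, 8, 10, 12, 14] (.cons [8, 0, 2, 4, 6, 14, 16, 8, 0, 2, 4, 6, 14, 10, 12, 8, 10, 4, 6, 8, 2, 4, 6, 14, 16, 8, 10, 4, 6, 8, 2, 4, 6, 14, 0, 2, 4, 6, 8, 10, 12] (.cons [6, 8, 0, 2, 4, 6, 12, 14, 10, 8, 6, 4, 0, 2, 4, 8, 10] .nil .nil) .nil) (.cons [8, 2, 4, 6, 16, 18, 16, 14, 12, 10, 6, 8, 4, 6, 16, 2, 4, 6, 8, 10, 12, 14] (.cons [14, 6, 8, 10, 4, 6, 8, 2, 4, 6, 14, 16, 14, 12, 8, 10, 6, 8, 2, 4, 6, 14, 0, 2, 4, 6, 8, 10, 12] (.cons [2, 4, 6, 12, 14, 12, 0, 6, 10, 8, 4, 12, 6, 4, 2, 4, 8, 10] (.cons [4, 1, 1, 1, 3] .nil .nil) .nil) .nil) (.cons [10, 8, 4, 6, 16, 18, 16, 14, 12, 10, 6, 8, 4, 6, 16, 2, 4, 6, 8, 10, 12, 14] (.cons [10, 8, 0, 2, 4, 6, 14, 16, 10, 12,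 8, 10, 6, 8, 4, 6, 14, 0, 2, 4, 6, 8, 10, 12] .nil .nil) (.cons [12, 10, 8, 6, 16, 18, 16, 14, 12, 10, 6, 8, 4, 6, 16, 2, 4, 6, 8, 10, 12, 14] (.cons [2, 4, 6, 14, 16, 8, 4, 6, 14, 10, 12, 6, 8, 10, 4, 6, 8, 2, 4, 6, 14, 16, 14, 12, 10, 4, 6, 8, 2, 4, 6, 14, 0, 2, 4, 6, 8, 10, 12] (.cons [0, 4, 2, 6, 4, 8, 6, 12, 6, 4, 14, 12] .nil .nil) .nil) (.cons [8, 0, 2, 4, 6, 16, 18, 14, 12, 10, 6, 8, 4, 6, 16, 2, 4, 6, 8, 10, 12, 14] .nil (.cons [6, 8, 2, 4, 6, 16, 18, 14, 12, 10, 6, 8, 4, 6, 16, 2, 4, 6, 8, 10, 12, 14] (.cons [6, 14, 16, 12, 10, 6, 8, 2, 4, 6, 14, 0, 2, 4, 6, 8, 10, 12] (.cons [4, 6, 12, 8, 2, 4, 6, 4, 2, 8, 10, 12, 14] .nil .nil) .nil) (.cons [16, 6, 8, 4, 6, 16, 18, 14, 12, 10, 6, 8, 4, 6, 16, 2,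 4, 6, 8, 10, 12, 14] (.cons [10, 8, 6, 14, 16, 12, 10, 4, 6, 8, 2, 4, 6, 14, 0, 2, 4, 6, 8, 10, 12] .nil .nil) (.cons [14, 12, 10, 8, 6, 16, 18, 14, 12, 10, 6, 8, 4, 6, 16, 2, 4, 6, 8, 10, 12, 14] (.cons [8, 6, 12, 10, 8, 0, 2, 4, 6, 14, 10, 12, 8, 10, 4, 6, 8, 2, 4, 6, 14, 16, 12, 10, 8, 2, 4, 6, 14, 0, 2, 4, 6, 8, 10, 12] (.cons [14, 2, 8, 10, 4, 6, 0, 2] .nil .nil) .nil) (.cons [8, 0, 2, 4, 6, 16, 18, 16, 12, 10, 6, 8, 4, 6, 16, 2, 4, 6, 8, 10, 12, 14] (.cons [8, 6, 14, 16, 10, 8, 6, 14, 10, 12, 8, 10, 4, 6, 8, 2, 4, 6, 14, 16, 12, 10, 4, 6, 8, 2, 4, 6, 14, 0, 2, 4, 6, 8, 10, 12] (.cons [10, 0, 2, 4, 6, 8, 2, 10, 4, 6, 12, 14, 8, 6, 4, 0, 2] .nil .nil) .nil) (.cons [10, 6, 8, 4, 6, 16, 18, 16, 12, 10, 6,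 8, 4, 6, 16, 2, 4, 6, 8, 10, 12, 14] (.cons [16, 14, 12, 6, 8, 10, 2, 4, 6, 8, 0, 2, 4, 6, 14, 16, 8, 10, 6, 8, 4, 6, 14, 0, 2, 4, 6, 8, 10, 12] (.cons [6, 12, 14, 10, 8, 4, 12, 6, 8, 4, 2, 4, 10, 8] .nil .nil) .nil) (.cons [16, 6, 8, 4, 6, 16, 18, 16, 12, 10, 6, 8, 4, 6, 16, 2, 4, 6, 8, 10, 12, 14] (.cons [16, 12, 10, 8, 4, 6, 14, 8, 10, 4, 6, 8, 2, 4, 6, 14, 16, 12, 8, 10, 4, 6, 8, 2, 4, 6, 14, 0, 2, 4, 6, 8, 10, 12] (.cons [6, 0, 4, 2, 6, 8, 4, 6, 12, 14, 10, 8, 6, 4, 2, 8, 10] .nil .nil) .nil) (.cons [12, 10, 8, 4, 6, 16, 18, 16, 12, 10, 6, 8, 4, 6, 16, 2, 4, 6, 8, 10, 12, 14] (.cons [6, 14, 16, 8, 4, 6, 8, 10, 2, 4, 0, 2, 6, 14, 8, 4, 6, 14, 10, 12, 8, 10, 6, 8, 4, 6, 14, 16, 8, 2, 4, 6, 14, 0, 2, 4, 6,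 8, 10, 12] (.cons [8, 4, 14, 6, 12, 4, 6, 2, 8, 10, 6, 8, 12] (.cons [2, 1, 1, 2, 5] .nil .nil) .nil) .nil) (.cons [14, 12, 10, 8, 6, 16, 18, 16, 12, 10, 6, 8, 4, 6, 16, 2, 4, 6, 8, 10, 12, 14] (.cons [8, 4, 6, 14, 10, 12, 8, 10, 6, 8, 4, 6, 14, 16, 4, 6, 8, 2, 4, 6, 14, 0, 2, 4, 6, 8, 10, 12] (.cons [14, 2, 4, 6, 8, 12, 6, 4, 0, 2, 8, 10] .nil .nil) .nil) (.cons [10, 8, 0, 2, 4, 6, 16, 18, 12, 10, 6, 8, 4, 6, 16, 2, 4, 6, 8, 10, 12, 14] (.cons [4, 6, 8, 0, 2, 4, 6, 14, 16, 14, 6, 8, 4, 6, 14, 10, 12, 6, 8, 10, 4, 6, 8, 2, 4, 6, 14, 16, 12, 10, 6, 8, 2, 4, 6, 14, 0, 2, 4, 6, 8, 10, 12] (.cons [8, 2, 4, 6, 12, 14, 0, 2, 12, 6, 8, 10] (.cons [5, 3, 1, 5] .nil .nil) .nil) .nil) (.cons [12, 10, 8, 2, 4, 6, 16, 18,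 12, 10, 6, 8, 4, 6, 16, 2, 4, 6, 8, 10, 12, 14] (.cons [2, 4, 6, 14, 16, 8, 6, 14, 10, 12, 6, 8, 10, 4, 6, 8, 0, 2, 4, 6, 14, 16, 14, 12, 10, 4, 6, 8, 2, 4, 6, 14, 0, 2, 4, 6, 8, 10, 12] (.cons [2, 12, 6, 8, 4, 6, 12, 14, 10, 8, 6, 4, 2, 8, 10] .nil .nil) .nil) (.cons [6, 8, 0, 2, 4, 6, 16, 18, 16, 10, 6, 8, 4, 6, 16, 2, 4, 6, 8, 10, 12, 14] (.cons [8, 2, 4, 6, 14, 16, 8, 4, 6, 14, 8, 10, 12, 6, 8, 10, 4, 6, 8, 2, 4, 6, 14, 16, 10, 4, 6, 8, 2, 4, 6, 14, 0, 2, 4, 6, 8, 10, 12] .nil .nil) (.cons [10, 8, 0, 2, 4, 6, 16, 18, 16, 10, 6, 8, 4, 6, 16, 2, 4, 6, 8, 10, 12, 14] (.cons [6, 14, 16, 8, 6, 10, 8, 2, 4, 6, 14, 12, 8, 10, 4, 6, 8, 0, 2, 4, 6, 14, 16, 12, 10, 8, 2, 4, 6, 14, 0, 2, 4, 6, 8, 10, 12] (.cons [6,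 8, 4, 12, 14, 6, 0, 2, 8, 10] .nil .nil) .nil) (.cons [16, 10, 6, 8, 4, 6, 16, 18, 16, 10, 6, 8, 4, 6, 16, 2, 4, 6, 8, 10, 12, 14] (.cons [14, 16, 10, 8, 4, 6, 14, 10, 12, 8, 10, 4, 6, 8, 2, 4, 6, 14, 16, 12, 8, 10, 6, 8, 2, 4, 6, 14, 0, 2, 4, 6, 8, 10, 12] (.cons [14, 6, 12, 6, 8, 4, 2, 10, 14, 8, 12] .nil .nil) .nil) (.cons [14, 12, 10, 8, 4, 6, 16, 18, 16, 10, 6, 8, 4, 6, 16, 2, 4, 6, 8, 10, 12, 14] (.cons [8, 6, 14, 16, 4, 6, 8, 2, 4, 6, 14, 10, 12, 6, 8, 10, 4, 6, 8, 2, 4, 6, 14, 16, 6, 8, 2, 4, 6, 14, 0, 2, 4, 6, 8, 10, 12] (.cons [14, 8, 6, 4, 10, 0, 2, 4, 8, 6] (.cons [1, 2, 5, 5, 3] .nil .nil) .nil) .nil) (.cons [10, 6, 8, 0, 2, 4, 6, 16, 18, 10, 6, 8, 4, 6, 16, 2, 4, 6, 8, 10, 12, 14] (.cons [6, 14,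 16, 8, 12, 10, 6, 14, 0, 6, 4, 2, 8, 4, 6, 14, 10, 12, 8, 10, 6, 8, 4, 6, 14, 16, 8, 2, 4, 6, 14, 0, 2, 4, 6, 8, 10, 12] (.cons [2, 4, 6, 12, 14, 8, 10, 4, 0, 2, 8, 6] .nil .nil) .nil) (.cons [12, 10, 8, 0, 2, 4, 6, 16, 18, 10, 6, 8, 4, 6, 16, 2, 4, 6, 8, 10, 12, 14] .nil (.cons [8, 10, 6, 8, 2, 4, 6, 16, 18, 10, 6, 8, 4, 6, 16, 2, 4, 6, 8, 10, 12, 14] (.cons [14, 4, 6, 8, 0, 2, 4, 6, 14, 16, 14, 10, 6, 8, 4, 6, 14, 10, 12, 8, 10, 4, 6, 8, 2, 4, 6, 14, 16, 12, 10, 4, 6, 8, 2, 4, 6, 14, 0, 2, 4, 6, 8, 10, 12] (.cons [8, 2, 10, 0, 6, 4, 2, 8, 6] .nil .nil) .nil) (.cons [12, 8, 10, 6, 8, 4, 6, 16, 18, 10, 6, 8, 4, 6, 16, 2, 4, 6, 8, 10, 12, 14] (.cons [4, 6, 14, 8, 10, 6, 8, 4, 6, 14, 16, 6, 14, 4, 6, 8, 2, 4,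 6, 14, 0, 2, 4, 6, 8, 10, 12] (.cons [6, 12, 14, 2, 4, 6, 12, 8, 10, 6, 4, 2, 4, 12] .nil .nil) .nil) (.cons [16, 8, 10, 6, 8, 4, 6, 16, 18, 10, 6, 8, 4, 6, 16, 2, 4, 6, 8, 10, 12, 14] .nil (.cons [10, 6, 8, 0, 2, 4, 6, 16, 18, 16, 6, 8, 4, 6, 16, 2, 4, 6, 8, 10, 12, 14] (.cons [12, 10, 8, 2, 4, 6, 14, 16, 6, 8, 4, 6, 14, 8, 10, 12, 6, 8, 10, 4, 6, 8, 2, 4, 6, 14, 16, 12, 10, 4, 6, 8, 2, 4, 6, 14, 0, 2, 4, 6, 8, 10, 12] (.cons [8, 0, 2, 4, 12, 6, 8, 4, 14, 12, 6, 4, 2, 4, 8, 10, 12, 14] .nil .nil) .nil) (.cons [16, 6, 8, 0, 2, 4, 6, 16, 18, 16, 6, 8, 4, 6, 16, 2, 4, 6, 8, 10, 12, 14] (.cons [4, 6, 8, 2, 4, 6, 14, 16, 10, 8, 6, 14, 12, 8, 10, 4, 6, 8, 2, 4, 6, 14, 16, 12, 8, 10, 4, 6, 8, 2, 4, 6, 14, 0, 2, 4,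 6, 8, 10, 12] (.cons [14, 6, 4, 0, 2, 8] .nil .nil) .nil) (.cons [12, 10, 8, 0, 2, 4, 6, 16, 18, 16, 6, 8, 4, 6, 16, 2, 4, 6, 8, 10, 12, 14] (.cons [16, 12, 10, 8, 14, 6, 4, 2, 6, 14, 8, 4, 6, 14, 10, 12, 8, 10, 6, 8, 4, 6, 14, 16, 8, 2, 4, 6, 14, 0, 2, 4, 6, 8, 10, 12] (.cons [4, 6, 12, 10, 8, 4, 6, 4, 0, 2, 8, 10, 12, 14] .nil .nil) .nil) (.cons [10, 4, 6, 8, 2, 4, 6, 16, 18, 16, 6, 8, 4, 6, 16, 2, 4, 6, 8, 10, 12, 14] (.cons [2, 4, 6, 8, 0, 2, 4, 6, 14, 16, 12, 10, 8, 6, 14, 8, 10, 12, 6, 8, 10, 4, 6, 8, 2, 4, 6, 14, 16, 10, 4, 6, 8, 2, 4, 6, 14, 0, 2, 4, 6, 8, 10, 12] (.cons [6, 8, 14, 12, 6, 4, 0, 2, 6, 4, 6, 12, 14, 8, 6, 10] .nil .nil) .nil) (.cons [16, 4, 6, 8, 2, 4, 6, 16, 18, 16, 6, 8, 4, 6, 16, 2,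 4, 6, 8, 10, 12, 14] (.cons [12, 10, 4, 6, 8, 0, 2, 4, 6, 14, 16, 6, 8, 4, 6, 14, 2, 4, 6, 8, 10, 12] (.cons [14, 8, 6, 12, 14, 8, 10, 6, 2, 4, 0, 2, 12] .nil .nil) .nil) (.cons [12, 10, 6, 8, 2, 4, 6, 16, 18, 16, 6, 8, 4, 6, 16, 2, 4, 6, 8, 10, 12, 14] (.cons [16, 14, 8, 10, 6, 8, 0, 2, 4, 6, 14, 16, 6, 14, 12, 10, 4, 6, 8, 2, 4, 6, 14, 0, 2, 4, 6, 8, 10, 12] (.cons [0, 2, 4, 8, 6, 12, 14, 2, 4, 6, 8, 10, 12, 6, 4, 2, 4] .nil .nil) .nil) (.cons [12, 8, 10, 6, 8, 4, 6, 16, 18, 16, 6, 8, 4, 6, 16, 2, 4, 6, 8, 10, 12, 14] (.cons [6, 14, 16, 10, 6, 8, 2, 4, 6, 14, 10, 12, 8, 10, 4, 6, 8, 2, 4, 6, 14, 16, 10, 4, 6, 8, 2, 4, 6, 14, 0, 2, 4, 6, 8, 10, 12] (.cons [8, 6, 12, 10, 0, 2, 14, 12] .nil .nil) .nil) (.cons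 [16, 8, 10, 6, 8, 4, 6, 16, 18, 16, 6, 8, 4, 6, 16, 2, 4, 6, 8, 10, 12, 14] (.cons [4, 6, 14, 10, 12, 8, 10, 6, 8, 0, 2, 4, 6, 14, 16, 4, 6, 8, 2, 4, 6, 14, 0, 2, 4, 6, 8, 10, 12] (.cons [0, 4, 2, 12, 8, 6, 4, 12] .nil .nil) .nil) (.cons [14, 12, 10, 6, 8, 4, 6, 16, 18, 16, 6, 8, 4, 6, 16, 2, 4, 6, 8, 10, 12, 14] (.cons [16, 14, 2, 4, 6, 0, 2, 4, 10, 8, 6, 14, 16, 6, 8, 4, 6, 14, 10, 12, 6, 8, 10, 4, 6, 8, 2, 4, 6, 14, 16, 12, 10, 6, 8, 2, 4, 6, 14, 0, 2, 4, 6, 8, 10, 12] (.cons [4, 6, 12, 8, 4, 6, 4, 2, 12, 14, 4, 8, 6, 10, 4] .nil .nil) .nil) (.cons [16, 12, 10, 6, 8, 4, 6, 16, 18, 16, 6, 8, 4, 6, 16, 2, 4, 6, 8, 10, 12, 14] (.cons [14, 6, 8, 2, 10, 8, 6, 14, 16, 4, 6, 14, 8, 10, 12, 6, 8, 10, 4, 6, 8, 2,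 4, 6, 14, 16, 6, 8, 4, 6, 14, 0, 2, 4, 6, 8, 10, 12] (.cons [4, 6, 12, 14, 12, 6, 0, 2, 8, 10, 4, 6, 0, 2] .nil .nil) .nil) (.cons [10, 4, 6, 8, 0, 2, 4, 6, 16, 18, 6, 8, 4, 6, 16, 2, 4, 6, 8, 10, 12, 14] (.cons [10, 6, 8, 4, 6, 14, 16, 14, 6, 8, 4, 6, 14, 10, 12, 8, 10, 6, 8, 2, 4, 6, 14, 16, 12, 10, 4, 6, 8, 2, 4, 6, 14, 0, 2, 4, 6, 8, 10, 12] .nil .nil) (.cons [8, 10, 6, 8, 0, 2, 4, 6, 16, 18, 6, 8, 4, 6, 16, 2, 4, 6, 8, 10, 12, 14] (.cons [6, 14, 16, 2, 4, 6, 14, 8, 10, 6, 8, 2, 4, 6, 14, 16, 4, 6, 8, 2, 4, 6, 14, 0, 2, 4, 6, 8, 10, 12] (.cons [6, 8, 14, 12, 6, 4, 2, 12, 14, 6, 8, 4, 6, 10] .nil .nil) .nil) (.cons [12, 10, 6, 8, 0, 2, 4, 6, 16, 18, 6, 8, 4, 6, 16, 2, 4, 6, 8, 10, 12, 14] (.cons [16, 14,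 6, 8, 4, 6, 14, 10, 12, 8, 10, 6, 8, 2, 4, 6, 14, 16, 14, 12, 10, 6, 8, 2, 4, 6, 14, 0, 2, 4, 6, 8, 10, 12] (.cons [4, 14, 12, 2, 6, 8, 10, 8, 6, 12, 14, 4, 6, 2] (.cons [0, 0, 5, 0, 0] .nil .nil) .nil) .nil) (.cons [14, 12, 10, 8, 0, 2, 4, 6, 16, 18, 6, 8, 4, 6, 16, 2, 4, 6, 8, 10, 12, 14] (.cons [16, 12, 10, 2, 6, 14, 8, 6, 4, 10, 16, 6, 14, 12, 8, 10, 6, 8, 4, 6, 14, 16, 2, 4, 6, 14, 0, 2, 4, 6, 8, 10, 12] (.cons [2, 4, 12, 6, 8, 10, 12, 6, 4, 2, 6, 12, 14, 4, 6] .nil .nil) .nil) (.cons [12, 10, 4, 6, 8, 2, 4, 6, 16, 18, 6, 8, 4, 6, 16, 2, 4, 6, 8, 10, 12, 14] (.cons [16, 14, 10, 6, 8, 4, 6, 14, 16, 12, 10, 6, 8, 4, 6, 14, 0, 2, 4, 6, 8, 10, 12] (.cons [14, 12, 6, 4, 8, 2, 12, 6, 8] .nil .nil) .nil) (.cons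 [10, 6, 8, 2, 4, 6, 16, 18, 14, 12, 10, 8, 4, 6, 16, 2, 4, 6, 8, 10, 12, 14] (.cons [16, 2, 4, 6, 14, 8, 10, 2, 4, 6, 8, 0, 2, 4, 6, 14, 16, 12, 10, 4, 6, 8, 2, 4, 6, 14, 0, 2, 4, 6, 8, 10, 12] (.cons [0, 8, 4, 2, 6, 10, 8] .nil .nil) .nil) (.cons [8, 10, 6, 8, 4, 6, 16, 18, 14, 12, 10, 8, 4, 6, 16, 2, 4, 6, 8, 10, 12, 14] (.cons [16, 2, 4, 6, 14, 8, 10, 2, 4, 6, 8, 0, 2, 4, 6, 14, 16, 12, 10, 4, 6, 8, 2, 4, 6, 14, 0, 2, 4, 6, 8, 10, 12] (.cons [12, 8, 6, 4, 0, 2, 6, 8, 10, 14, 12] .nil .nil) .nil) (.cons [12, 10, 6, 8, 4, 6, 16, 18, 14, 12, 10, 8, 4, 6, 16, 2, 4, 6, 8, 10, 12, 14] (.cons [10, 6, 8, 4, 6, 14, 16, 6, 8, 4, 6, 14, 0, 2, 4, 6, 8, 10, 12] (.cons [12, 2, 0, 6, 8, 4, 2, 12, 6, 8, 10] .nil .nil) .nil)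 (.cons [16, 10, 6, 8, 4, 6, 16, 18, 14, 12, 10, 8, 4, 6, 16, 2, 4, 6, 8, 10, 12, 14] .nil (.cons [12, 10, 8, 0, 2, 4, 6, 16, 18, 12, 10, 8, 4, 6, 16, 2, 4, 6, 8, 10, 12, 14] (.cons [6, 14, 16, 8, 6, 14, 10, 4, 6, 8, 0, 2, 4, 6, 14, 16, 12, 8, 10, 4, 6, 8, 2, 4, 6, 14, 0, 2, 4, 6, 8, 10, 12] (.cons [10, 6, 8, 2, 4, 6, 12, 14, 10, 2, 4, 0, 6, 8, 10, 12, 6, 4, 2] (.cons [5, 1, 1, 1, 5, 1] .nil .nil) .nil) .nil) (.cons [8, 10, 6, 8, 2, 4, 6, 16, 18, 12, 10, 8, 4, 6, 16, 2, 4, 6, 8, 10, 12, 14] (.cons [0, 2, 4, 6, 14, 12, 8, 10, 6, 8, 2, 4, 6, 14, 16, 14, 10, 6, 8, 2, 4, 6, 14, 0, 2, 4, 6, 8, 10, 12] (.cons [6, 12, 8, 4, 6, 2, 8, 10, 12, 14] .nil .nil) .nil) (.cons [14, 12, 10, 8, 2, 4, 6, 16, 18, 12, 10, 8, 4, 6,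 16, 2, 4, 6, 8, 10, 12, 14] .nil (.cons [12, 8, 10, 6, 8, 4, 6, 16, 18, 12, 10, 8, 4, 6, 16, 2, 4, 6, 8, 10, 12, 14] (.cons [16, 4, 6, 14, 10, 12, 8, 10, 6, 8, 0, 2, 4, 6, 14, 16, 10, 6, 8, 2, 4, 6, 14, 0, 2, 4, 6, 8, 10, 12] .nil .nil) (.cons [14, 12, 10, 6, 8, 4, 6, 16, 18, 12, 10, 8, 4, 6, 16, 2, 4, 6, 8, 10, 12, 14] (.cons [0, 4, 2, 0, 12, 6, 14, 8, 10, 6, 8, 4, 6, 14, 16, 12, 8, 10, 6, 8, 4, 6, 14, 2, 4, 6, 8, 10, 12] (.cons [8, 2, 4, 0, 2, 4, 12, 14, 6, 8, 4, 6, 10] .nil .nil) .nil) (.cons [14, 12, 10, 8, 0, 2, 4, 6, 16, 18, 10, 8, 4, 6, 16, 2, 4, 6, 8, 10, 12, 14] (.cons [4, 6, 14, 6, 8, 10, 4, 6, 8, 2, 4, 6, 14, 16, 8, 10, 4, 6, 8, 2, 4, 6, 14, 0, 2, 4, 6, 8, 10, 12] (.cons [2, 4, 6, 12, 10, 8, 6, 4,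 2, 4, 8, 10, 12, 14] .nil .nil) .nil) (.cons [8, 10, 6, 8, 2, 4, 6, 16, 18, 14, 12, 10, 8, 6, 16, 2, 4, 6, 8, 10, 12, 14] (.cons [14, 6, 8, 2, 4, 6, 14, 16, 6, 14, 12, 10, 4, 6, 8, 2, 4, 6, 14, 0, 2, 4, 6, 8, 10, 12] (.cons [14, 12, 10, 0, 8, 6, 4, 2, 12, 6, 4, 14, 12] .nil .nil) .nil) (.cons [12, 8, 10, 6, 8, 4, 6, 16, 18, 14, 12, 10, 8, 6, 16, 2, 4, 6, 8, 10, 12, 14] .nil (.cons [8, 10, 6, 8, 0, 2, 4, 6, 16, 18, 14, 12, 10, 8, 6, 16, 4, 6, 8, 10, 12, 14] (.cons [6, 8, 4, 6, 14, 16, 14, 12, 8, 10, 6, 8, 4, 6, 14, 0, 2, 4, 6, 8, 10, 12] .nil .nil) (.cons [10, 12, 8, 10, 6, 8, 4, 6, 16, 18, 14, 12, 10, 8, 6, 16, 4, 6, 8, 10, 12, 14] (.cons [14, 8, 10, 6, 8, 4, 6, 14, 16, 14, 10, 12, 8, 10, 4, 6, 8, 2, 4, 6, 14,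 0, 2, 4, 6, 8, 10, 12] (.cons [8, 6, 12, 14, 10, 8, 12, 6, 4, 2, 8, 6, 10, 4] .nil .nil) .nil) (.cons [16, 12, 8, 10, 6, 8, 4, 6, 16, 18, 14, 12, 10, 8, 6, 16, 4, 6, 8, 10, 12, 14] (.cons [4, 6, 14, 8, 10, 6, 8, 4, 6, 14, 16, 6, 8, 2, 4, 6, 14, 0, 2, 4, 6, 8, 10, 12] (.cons [2, 0, 2, 6, 4, 8, 12, 14, 6, 4, 2, 12, 14, 8, 6, 4, 12] .nil .nil) .nil) (.cons [18, 14, 8, 10, 12, 6, 8, 10, 4, 6, 8, 2, 4, 6, 16, 0, 2, 4, 6, 8, 10, 12, 14] .nil (.cons [16, 18, 8, 10, 12, 6, 8, 10, 4, 6, 8, 2, 4, 6, 16, 0, 2, 4, 6, 8, 10, 12, 14] (.cons [8, 6, 16, 4, 2, 0, 6, 14, 8, 10, 6, 8, 4, 6, 14, 16, 12, 8, 10, 6, 8, 4, 6, 14, 2, 4, 6, 8, 10, 12] (.cons [12, 14, 6, 10, 4, 2, 4] .nil .nil) .nil) (.cons [18, 12, 14, 10, 12, 6, 8,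 10, 4, 6, 8, 2, 4, 6, 16, 0, 2, 4, 6, 8, 10, 12, 14] (.cons [12, 10, 4, 6, 8, 0, 2, 4, 6, 14, 16, 6, 8, 4, 6, 14, 2, 4, 6, 8, 10, 12] (.cons [14, 6, 4, 0, 2, 8, 10] .nil .nil) .nil) .nil))))))))))))))))))))))))))))))))))))))))))))))))))))))))))))))))))))))))))))))))))))))))))))))))))))))))))))))))))))))))))))))))))))))))))))))))))))))))))))))))))))))))))))))))))))))))))))))))))))))))))))))))))))))))))))))))))))))))))))))))))))))))))))))))))))))))))))))))))))))))))))))))))))))))))))))))))))))))) (⟨cu_l0.b, cu_l0.S, [], cu_R3, 0⟩ :: cu_tl) (0 :: cu_lk) Pd.nil 0 = true := by decide +kernel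
theorem cu_r4 : cu_S.run (.cons [8, 4, 6, 16, 18, 6, 8, 10, 4, 6, 8, 2, 4, 6, 16, 0, 2, 4, 6, 8, 10, 12, 14] (.cons [14, 6, 8, 10, 2, 4, 6, 8, 0, 2, 4, 6, 14, 16, 12, 10, 6, 8, 2, 4, 6, 14, 0, 2, 4, 6, 8, 10, 12] (.cons [12, 10, 8, 6, 4, 2, 12, 6, 4] .nil .nil) .nil) (.cons [10, 8, 6, 16, 18, 6, 8, 10, 4, 6, 8, 2, 4, 6, 16, 0, 2, 4, 6, 8, 10, 12, 14] (.cons [6, 14, 16, 2, 4, 2, 8, 6, 14, 16, 4, 6, 14, 10, 12, 8, 10, 6, 8, 4, 6, 14, 16, 6, 8, 2, 4, 6, 14, 0, 2, 4, 6, 8, 10, 12] (.cons [2, 0, 2, 4, 6, 10, 12, 6, 8, 4, 2, 6, 10, 8] .nil .nil) .nil) (.cons [16, 18, 16, 14, 10, 12, 8, 10, 4, 6, 8, 2, 4, 6, 16, 0, 2, 4, 6, 8, 10, 12, 14] (.cons [14, 6, 8, 4, 6, 14, 10, 12, 8, 10, 6, 8, 4, 6, 14, 0, 2, 4, 6, 8, 10,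 12] (.cons [0, 2, 8, 6, 10, 8, 4, 6, 12, 14, 8, 6, 4, 12] .nil .nil) .nil) (.cons [6, 16, 18, 14, 10, 12, 8, 10, 4, 6, 8, 2, 4, 6, 16, 0, 2, 4, 6, 8, 10, 12, 14] (.cons [4, 6, 14, 16, 12, 10, 6, 8, 4, 6, 14, 2, 4, 6, 8, 10, 12] (.cons [14, 8, 10, 2, 4, 6, 12, 6, 4, 0, 2, 14, 12] .nil .nil) .nil) (.cons [6, 16, 18, 16, 10, 12, 8, 10, 4, 6, 8, 2, 4, 6, 16, 0, 2, 4, 6, 8, 10, 12, 14] (.cons [6, 14, 16, 12, 10, 8, 6, 14, 8, 10, 4, 6, 8, 2, 4, 6, 14, 16, 8, 10, 4, 6, 8, 2, 4, 6, 14, 0, 2, 4, 6, 8, 10, 12] (.cons [4, 2, 4, 6, 12, 14, 8, 6, 4, 2, 10, 8] .nil .nil) .nil) (.cons [8, 6, 16, 18, 14, 12, 8, 10, 4, 6, 8, 2, 4, 6, 16, 0, 2, 4, 6, 8, 10, 12, 14] (.cons [14, 16, 8, 6, 14, 4, 6, 8, 2, 4, 6, 14, 16, 12, 10, 4,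 6, 8, 2, 4, 6, 14, 0, 2, 4, 6, 8, 10, 12] (.cons [12, 8, 6, 4, 8, 10, 0, 2, 4, 6, 12, 14] .nil .nil) .nil) (.cons [4, 6, 16, 18, 16, 12, 8, 10, 4, 6, 8, 2, 4, 6, 16, 0, 2, 4, 6, 8, 10, 12, 14] .nil (.cons [8, 6, 16, 18, 16, 12, 8, 10, 4, 6, 8, 2, 4, 6, 16, 0, 2, 4, 6, 8, 10, 12, 14] (.cons [10, 8, 6, 14, 16, 4, 6, 14, 12, 8, 10, 6, 8, 0, 2, 4, 6, 14, 16, 8, 10, 6, 8, 2, 4, 6, 14, 0, 2, 4, 6, 8, 10, 12] (.cons [10, 0, 12, 4, 2, 14, 6, 8, 4, 6, 12, 14, 10, 8, 6, 4, 2, 8, 10] .nil .nil) .nil) (.cons [10, 8, 6, 16, 18, 12, 8, 10, 4, 6, 8, 2, 4, 6, 16, 0, 2, 4, 6, 8, 10, 12, 14] (.cons [6, 14, 16, 8, 2, 4, 6, 14, 10, 12, 8, 10, 6, 8, 2, 4, 6, 14, 16, 12, 10, 8, 2, 4, 6, 14, 0, 2, 4, 6, 8, 10, 12] (.cons [12, 14,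 10, 8, 6, 12, 8, 10, 6, 4, 2, 14, 12] (.cons [4, 0, 4, 0, 0] .nil .nil) .nil) .nil) (.cons [2, 4, 6, 16, 18, 16, 8, 10, 4, 6, 8, 2, 4, 6, 16, 0, 2, 4, 6, 8, 10, 12, 14] (.cons [10, 6, 8, 4, 6, 14, 16, 10, 12, 8, 10, 6, 8, 4, 6, 14, 10, 12, 8, 10, 6, 8, 0, 2, 4, 6, 14, 16, 12, 10, 8, 2, 4, 6, 14, 0, 2, 4, 6, 8, 10, 12] (.cons [14, 12, 6, 8, 10, 14, 8, 12] .nil .nil) .nil) (.cons [10, 8, 6, 16, 18, 16, 8, 10, 4, 6, 8, 2, 4, 6, 16, 0, 2, 4, 6, 8, 10, 12, 14] (.cons [6, 14, 6, 8, 10, 4, 6, 8, 2, 4, 6, 14, 16, 4, 6, 8, 2, 4, 6, 14, 0, 2, 4, 6, 8, 10, 12] .nil .nil) (.cons [8, 2, 4, 6, 16, 18, 8, 10, 4, 6, 8, 2, 4, 6, 16, 0, 2, 4, 6, 8, 10, 12, 14] .nil (.cons [6, 8, 4, 6, 16, 18, 8, 10, 4, 6, 8, 2, 4, 6, 16, 0, 2,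 4, 6, 8, 10, 12, 14] (.cons [8, 6, 14, 16, 8, 4, 6, 14, 10, 12, 8, 10, 2, 4, 6, 8, 0, 2, 4, 6, 14, 16, 12, 10, 4, 6, 8, 2, 4, 6, 14, 0, 2, 4, 6, 8, 10, 12] (.cons [14, 2, 4, 0, 2, 6, 12, 8, 6, 4, 6, 12, 6, 8, 10, 8, 6, 12, 14, 4, 6, 0, 2] .nil .nil) .nil) (.cons [10, 8, 4, 6, 16, 18, 8, 10, 4, 6, 8, 2, 4, 6, 16, 0, 2, 4, 6, 8, 10, 12, 14] (.cons [0, 2, 4, 8, 6, 14, 10, 12, 8, 10, 4, 6, 8, 0, 2, 4, 6, 14, 16, 10, 8, 2, 4, 6, 14, 0, 2, 4, 6, 8, 10, 12] (.cons [12, 8, 4, 6, 2, 4, 0, 2, 8, 10, 12, 14] .nil .nil) .nil) (.cons [12, 10, 8, 6, 16, 18, 8, 10, 4, 6, 8, 2, 4, 6, 16, 0, 2, 4, 6, 8, 10, 12, 14] (.cons [2, 4, 6, 14, 8, 10, 6, 8, 4, 6, 14, 16, 8, 10, 6, 8, 2, 4, 6, 14, 0, 2, 4, 6, 8, 10, 12] .nil .nil) (.cons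 [10, 8, 6, 16, 18, 14, 12, 10, 4, 6, 8, 2, 4, 6, 16, 0, 2, 4, 6, 8, 10, 12, 14] (.cons [14, 16, 6, 14, 4, 6, 8, 2, 4, 6, 14, 16, 12, 10, 4, 6, 8, 2, 4, 6, 14, 0, 2, 4, 6, 8, 10, 12] (.cons [14, 12, 8, 6, 12, 2, 4, 0, 2, 14, 12] .nil .nil) .nil) (.cons [8, 4, 6, 16, 18, 16, 12, 10, 4, 6, 8, 2, 4, 6, 16, 0, 2, 4, 6, 8, 10, 12, 14] (.cons [16, 14, 12, 8, 10, 6, 8, 2, 4, 6, 14, 16, 12, 10, 4, 6, 8, 2, 4, 6, 14, 0, 2, 4, 6, 8, 10, 12] (.cons [2, 4, 12] .nil .nil) .nil) (.cons [8, 2, 4, 6, 16, 18, 12, 10, 4, 6, 8, 2, 4, 6, 16, 0, 2, 4, 6, 8, 10, 12, 14] (.cons [8, 4, 6, 14, 12, 8, 10, 4, 6, 8, 2, 4, 6, 14, 16, 12, 10, 4, 6, 8, 2, 4, 6, 14, 0, 2, 4, 6, 8, 10, 12] (.cons [14, 4, 2, 0, 4, 12, 6, 4, 2, 8, 10] .nil .nil)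 .nil) (.cons [10, 8, 4, 6, 16, 18, 12, 10, 4, 6, 8, 2, 4, 6, 16, 0, 2, 4, 6, 8, 10, 12, 14] (.cons [4, 6, 14, 16, 10, 8, 6, 14, 10, 12, 6, 8, 10, 4, 6, 8, 0, 2, 4, 6, 14, 16, 12, 10, 4, 6, 8, 2, 4, 6, 14, 0, 2, 4, 6, 8, 10, 12] .nil .nil) (.cons [2, 4, 6, 16, 18, 6, 16, 10, 4, 6, 8, 2, 4, 6, 16, 0, 2, 4, 6, 8, 10, 12, 14] (.cons [10, 8, 2, 4, 6, 14, 16, 12, 10, 6, 8, 4, 6, 14, 10, 12, 8, 10, 4, 6, 8, 2, 4, 6, 14, 16, 10, 4, 6, 8, 2, 4, 6, 14, 0, 2, 4, 6, 8, 10, 12] .nil .nil) (.cons [8, 4, 6, 16, 18, 6, 16, 10, 4, 6, 8, 2, 4, 6, 16, 0, 2, 4, 6, 8, 10, 12, 14] (.cons [6, 14, 16, 4, 6, 14, 12, 8, 10, 6, 8, 4, 6, 14, 16, 10, 6, 8, 2, 4, 6, 14, 0, 2, 4, 6, 8, 10, 12] (.cons [6, 8, 4, 6, 12, 6, 8, 4, 6, 2, 4, 6,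 0, 2, 8, 10, 12, 14] .nil .nil) .nil) (.cons [8, 2, 4, 6, 16, 18, 16, 10, 4, 6, 8, 2, 4, 6, 16, 0, 2, 4, 6, 8, 10, 12, 14] (.cons [16, 14, 6, 8, 4, 6, 14, 16, 14, 10, 6, 8, 4, 6, 14, 10, 12, 8, 10, 4, 6, 8, 2, 4, 6, 14, 16, 10, 4, 6, 8, 2, 4, 6, 14, 0, 2, 4, 6, 8, 10, 12] (.cons [8, 4, 6, 12, 14, 8, 2, 4, 6, 12, 8, 10, 6, 4, 2, 14, 12] .nil .nil) .nil) (.cons [6, 8, 4, 6, 16, 18, 16, 10, 4, 6, 8, 2, 4, 6, 16, 0, 2, 4, 6, 8, 10, 12, 14] (.cons [8, 0, 2, 4, 6, 14, 10, 12, 8, 10, 4, 6, 8, 2, 4, 6, 14, 16, 12, 10, 4, 6, 8, 2, 4, 6, 14, 0, 2, 4, 6, 8, 10, 12] (.cons [8, 6, 12, 14, 4, 10, 8, 12, 6, 4, 2, 8, 6, 10, 4] .nil .nil) .nil) (.cons [10, 8, 4, 6, 16, 18, 16, 10, 4, 6, 8, 2, 4, 6, 16, 0, 2, 4, 6, 8, 10, 12,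 14] (.cons [16, 14, 8, 10, 6, 8, 0, 2, 4, 6, 14, 16, 10, 6, 8, 2, 4, 6, 14, 0, 2, 4, 6, 8, 10, 12] (.cons [0, 10, 6, 4, 2, 12, 6, 4, 0, 2, 8, 10] .nil .nil) .nil) (.cons [12, 10, 8, 6, 16, 18, 16, 10, 4, 6, 8, 2, 4, 6, 16, 0, 2, 4, 6, 8, 10, 12, 14] (.cons [2, 4, 6, 14, 8, 10, 6, 8, 0, 2, 4, 6, 14, 16, 8, 2, 4, 6, 14, 0, 2, 4, 6, 8, 10, 12] (.cons [6, 10, 8, 10, 6, 4, 2, 8, 6] .nil .nil) .nil) (.cons [6, 8, 2, 4, 6, 16, 18, 10, 4, 6, 8, 2, 4, 6, 16, 0, 2, 4, 6, 8, 10, 12, 14] (.cons [14, 16, 8, 6, 14, 10, 12, 8, 10, 6, 8, 4, 6, 14, 16, 14, 12, 10, 6, 8, 2, 4, 6, 14, 0, 2, 4, 6, 8, 10, 12] .nil .nil) (.cons [10, 8, 2, 4, 6, 16, 18, 10, 4, 6, 8, 2, 4, 6, 16, 0, 2, 4, 6, 8, 10, 12, 14] (.cons [10, 8, 4, 2, 14,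 6, 4, 8, 10, 16, 6, 14, 12, 8, 10, 6, 8, 4, 6, 14, 16, 2, 4, 6, 14, 0, 2, 4, 6, 8, 10, 12] (.cons [14, 8, 6, 12, 6, 8, 4, 2, 10, 14, 8, 12] .nil .nil) .nil) (.cons [16, 6, 8, 4, 6, 16, 18, 10, 4, 6, 8, 2, 4, 6, 16, 0, 2, 4, 6, 8, 10, 12, 14] (.cons [2, 4, 6, 14, 16, 10, 8, 6, 14, 10, 12, 8, 10, 4, 6, 8, 2, 4, 6, 14, 16, 10, 4, 6, 8, 2, 4, 6, 14, 0, 2, 4, 6, 8, 10, 12] .nil .nil) (.cons [12, 10, 8, 4, 6, 16, 18, 10, 4, 6, 8, 2, 4, 6, 16, 0, 2, 4, 6, 8, 10, 12, 14] (.cons [0, 2, 4, 6, 14, 16, 10, 8, 6, 14, 10, 12, 6, 8, 10, 4, 6, 8, 2, 4, 6, 14, 16, 10, 6, 8, 2, 4, 6, 14, 0, 2, 4, 6, 8, 10, 12] (.cons [2, 4, 6, 14, 12, 6, 8, 10, 8, 6, 12, 14, 4, 6, 0, 2] .nil .nil) .nil) (.cons [2, 4, 6, 16, 18, 8, 6, 16, 4, 6,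 8, 2, 4, 6, 16, 0, 2, 4, 6, 8, 10, 12, 14] (.cons [16, 14, 6, 8, 2, 4, 6, 14, 16, 10, 8, 4, 6, 14, 10, 12, 8, 10, 4, 6, 8, 2, 4, 6, 14, 16, 10, 4, 6, 8, 2, 4, 6, 14, 0, 2, 4, 6, 8, 10, 12] (.cons [14, 8, 6, 4, 2, 8] .nil .nil) .nil) (.cons [0, 2, 4, 6, 16, 18, 6, 16, 4, 6, 8, 2, 4, 6, 16, 0, 2, 4, 6, 8, 10, 12, 14] (.cons [8, 2, 4, 6, 14, 16, 14, 10, 6, 8, 4, 6, 14, 10, 12, 8, 10, 4, 6, 8, 2, 4, 6, 14, 16, 14, 12, 10, 6, 8, 2, 4, 6, 14, 0, 2, 4, 6, 8, 10, 12] (.cons [12, 0, 2, 10, 8, 4, 6, 12, 14, 4, 12, 6, 8, 10, 12, 6, 4, 6, 2, 4] .nil .nil) .nil) (.cons [6, 8, 2, 4, 6, 16, 18, 16, 4, 6, 8, 2, 4, 6, 16, 0, 2, 4, 6, 8, 10, 12, 14] (.cons [6, 14, 16, 10, 6, 8, 2, 4, 6, 14, 10, 12, 8, 10, 6, 8, 0, 2, 4, 6, 14,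 16, 12, 10, 8, 2, 4, 6, 14, 0, 2, 4, 6, 8, 10, 12] (.cons [4, 6, 12, 10, 8, 6, 4, 0, 2, 8, 10, 12, 14] .nil .nil) .nil) (.cons [10, 8, 2, 4, 6, 16, 18, 16, 4, 6, 8, 2, 4, 6, 16, 0, 2, 4, 6, 8, 10, 12, 14] (.cons [16, 14, 6, 8, 0, 2, 4, 6, 14, 16, 10, 8, 6, 14, 10, 12, 6, 8, 10, 4, 6, 8, 2, 4, 6, 14, 16, 10, 4, 6, 8, 2, 4, 6, 14, 0, 2, 4, 6, 8, 10, 12] (.cons [14, 8, 6, 12, 14, 8, 6, 4, 2, 12, 6, 4] .nil .nil) .nil) (.cons [10, 6, 8, 4, 6, 16, 18, 16, 4, 6, 8, 2, 4, 6, 16, 0, 2, 4, 6, 8, 10, 12, 14] .nil (.cons [12, 10, 8, 4, 6, 16, 18, 16, 4, 6, 8, 2, 4, 6, 16, 0, 2, 4, 6, 8, 10, 12, 14] .nil (.cons [6, 8, 0, 2, 4, 6, 16, 18, 4, 6, 8, 2, 4, 6, 16, 0, 2, 4, 6, 8, 10, 12, 14] (.cons [6, 14, 16, 10, 8, 2, 4, 6,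 14, 10, 12, 8, 10, 4, 6, 8, 2, 4, 6, 14, 16, 12, 10, 4, 6, 8, 2, 4, 6, 14, 0, 2, 4, 6, 8, 10, 12] (.cons [10, 0, 8, 2, 6, 8] .nil .nil) .nil) (.cons [4, 6, 8, 2, 4, 6, 16, 18, 4, 6, 8, 2, 4, 6, 16, 0, 2, 4, 6, 8, 10, 12, 14] (.cons [14, 12, 8, 10, 6, 8, 2, 4, 6, 14, 16, 14, 6, 8, 2, 4, 6, 14, 0, 2, 4, 6, 8, 10, 12] (.cons [2, 4, 6, 12, 14, 10, 6, 8, 12, 6, 4, 2, 8, 10] .nil .nil) .nil) (.cons [16, 6, 8, 2, 4, 6, 16, 18, 4, 6, 8, 2, 4, 6, 16, 0, 2, 4, 6, 8, 10, 12, 14] (.cons [6, 14, 16, 8, 12, 10, 6, 4, 2, 14, 8, 6, 4, 10, 16, 6, 14, 12, 8, 10, 6, 8, 4, 6, 14, 16, 2, 4, 6, 14, 0, 2, 4, 6, 8, 10, 12] (.cons [12, 2, 6, 8, 10, 12, 6, 4, 8, 6, 12, 14, 12, 6, 4] .nil .nil) .nil) (.cons [12, 10, 8, 2, 4, 6, 16, 18,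 4, 6, 8, 2, 4, 6, 16, 0, 2, 4, 6, 8, 10, 12, 14] (.cons [6, 14, 16, 8, 6, 14, 12, 10, 8, 0, 6, 4, 2, 0, 10, 14, 12, 8, 10, 6, 8, 4, 6, 14, 16, 12, 10, 6, 8, 4, 6, 14, 2, 4, 6, 8, 10, 12] (.cons [8, 6, 4, 2, 8, 6, 12, 14, 8, 6, 4, 12] .nil .nil) .nil) (.cons [8, 10, 6, 8, 4, 6, 16, 18, 4, 6, 8, 2, 4, 6, 16, 0, 2, 4, 6, 8, 10, 12, 14] (.cons [8, 4, 6, 14, 16, 8, 10, 6, 4, 6, 14, 8, 10, 12, 6, 8, 10, 4, 6, 8, 2, 4, 6, 14, 16, 14, 6, 8, 4, 6, 14, 0, 2, 4, 6, 8, 10, 12] (.cons [4, 6, 12, 4, 2, 6, 8, 10, 14, 12] .nil .nil) .nil) (.cons [16, 10, 6, 8, 4, 6, 16, 18, 4, 6, 8, 2, 4, 6, 16, 0, 2, 4, 6, 8, 10, 12, 14] (.cons [8, 6, 14, 16, 4, 6, 14, 6, 8, 10, 4, 6, 8, 2, 4, 6, 14, 16, 14, 8, 10, 4, 6, 8, 2, 4, 6, 14, 0,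 2, 4, 6, 8, 10, 12] (.cons [14, 8, 4, 6, 12, 14, 0, 6, 4, 2, 12, 6, 8, 10] .nil .nil) .nil) (.cons [18, 16, 6, 8, 4, 6, 16, 18, 4, 6, 8, 2, 4, 6, 16, 0, 2, 4, 6, 8, 10, 12, 14] (.cons [4, 6, 14, 16, 10, 8, 6, 14, 10, 12, 6, 8, 10, 4, 6, 8, 2, 4, 6, 14, 16, 14, 12, 10, 4, 6, 8, 2, 4, 6, 14, 0, 2, 4, 6, 8, 10, 12] (.cons [12, 2, 4, 6, 8, 0, 2, 4, 6, 12, 14, 10, 0, 2, 4, 0, 6, 8, 10, 12, 6, 4, 2] .nil .nil) .nil) (.cons [14, 12, 10, 8, 4, 6, 16, 18, 4, 6, 8, 2, 4, 6, 16, 0, 2, 4, 6, 8, 10, 12, 14] (.cons [14, 16, 8, 2, 4, 6, 14, 10, 12, 8, 10, 4, 6, 8, 2, 4, 6, 14, 16, 14, 10, 4, 6, 8, 2, 4, 6, 14, 0, 2, 4, 6, 8, 10, 12] (.cons [12, 6, 8, 2, 4, 6, 12, 14, 12, 10, 4, 6, 8, 10, 0, 12, 6, 4, 2, 4] .nil .nil) .nil)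 (.cons [8, 6, 16, 12, 14, 10, 12, 8, 10, 6, 8, 2, 4, 6, 16, 0, 2, 4, 6, 8, 10, 12, 14] (.cons [0, 2, 4, 6, 14, 8, 10, 4, 6, 8, 0, 2, 4, 6, 14, 16, 10, 6, 8, 2, 4, 6, 14, 0, 2, 4, 6, 8, 10, 12] (.cons [6, 8, 10, 6, 4, 2, 4, 6, 12, 14, 12] .nil .nil) .nil) (.cons [6, 16, 18, 12, 14, 10, 12, 8, 10, 6, 8, 2, 4, 6, 16, 0, 2, 4, 6, 8, 10, 12, 14] (.cons [8, 4, 6, 14, 10, 12, 8, 10, 6, 8, 2, 4, 6, 14, 16, 14, 12, 10, 4, 6, 8, 2, 4, 6, 14, 0, 2, 4, 6, 8, 10, 12] (.cons [12, 6, 8, 4, 2, 4, 12, 14, 6, 8, 4, 6, 10] .nil .nil) .nil) (.cons [6, 16, 18, 16, 14, 10, 12, 8, 10, 6, 8, 2, 4, 6, 16, 0, 2, 4, 6, 8, 10, 12, 14] (.cons [8, 10, 4, 6, 8, 2, 4, 6, 14, 16, 12, 10, 8, 4, 6, 14, 0, 2, 4, 6, 8, 10, 12] (.cons [2, 4, 14,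 12, 6, 8, 10, 6, 12, 14, 4, 0, 2, 8, 6] .nil .nil) .nil) (.cons [8, 6, 16, 18, 14, 10, 12, 8, 10, 6, 8, 2, 4, 6, 16, 0, 2, 4, 6, 8, 10, 12, 14] (.cons [10, 8, 6, 14, 16, 14, 10, 12, 8, 10, 6, 8, 2, 4, 6, 14, 0, 2, 4, 6, 8, 10, 12] (.cons [14, 12, 6, 2, 8, 4, 6, 12, 10, 0, 2, 14, 12] (.cons [2, 4, 1, 1] .nil .nil) .nil) .nil) (.cons [6, 16, 18, 6, 16, 10, 12, 8, 10, 6, 8, 2, 4, 6, 16, 0, 2, 4, 6, 8, 10, 12, 14] (.cons [2, 4, 6, 14, 10, 12, 8, 10, 6, 8, 0, 2, 4, 6, 14, 16, 10, 6, 8, 2, 4, 6, 14, 0, 2, 4, 6, 8, 10, 12] (.cons [12, 14, 12, 0, 6, 10, 8, 4, 12, 6, 4, 2, 4, 8, 10] (.cons [4, 2, 1, 3, 1] .nil .nil) .nil) .nil) (.cons [4, 6, 16, 18, 16, 10, 12, 8, 10, 6, 8, 2, 4, 6, 16, 0, 2, 4, 6, 8, 10, 12, 14] (.cons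 [4, 8, 6, 14, 10, 12, 8, 10, 4, 6, 8, 2, 4, 6, 14, 16, 14, 6, 8, 4, 6, 14, 0, 2, 4, 6, 8, 10, 12] (.cons [12, 6, 8, 10, 2, 4, 0, 2, 12, 14, 6, 4] .nil .nil) .nil) (.cons [8, 6, 16, 18, 16, 10, 12, 8, 10, 6, 8, 2, 4, 6, 16, 0, 2, 4, 6, 8, 10, 12, 14] (.cons [6, 14, 12, 10, 4, 6, 8, 2, 4, 6, 14, 16, 10, 6, 8, 2, 4, 6, 14, 0, 2, 4, 6, 8, 10, 12] (.cons [0, 2, 6, 8, 6, 12, 4, 14, 12] .nil .nil) .nil) (.cons [2, 4, 6, 16, 18, 10, 12, 8, 10, 6, 8, 2, 4, 6, 16, 0, 2, 4, 6, 8, 10, 12, 14] (.cons [4, 6, 10, 8, 2, 16, 14, 6, 4, 8, 6, 14, 10, 12, 8, 10, 6, 8, 4, 6, 14, 16, 2, 4, 6, 14, 0, 2, 4, 6, 8, 10, 12] (.cons [6, 12, 14, 6, 8, 4, 2, 12, 6, 4, 0, 2, 8, 10] .nil .nil) .nil) (.cons [8, 4, 6, 16, 18, 10, 12, 8, 10, 6,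 8, 2, 4, 6, 16, 0, 2, 4, 6, 8, 10, 12, 14] (.cons [16, 14, 10, 12, 8, 10, 6, 8, 2, 4, 6, 14, 16, 12, 10, 6, 8, 2, 4, 6, 14, 0, 2, 4, 6, 8, 10, 12] (.cons [2, 4, 6, 12, 14, 8, 6, 4, 0, 2] .nil .nil) .nil) (.cons [10, 8, 6, 16, 18, 10, 12, 8, 10, 6, 8, 2, 4, 6, 16, 0, 2, 4, 6, 8, 10, 12, 14] (.cons [14, 16, 2, 4, 6, 14, 8, 10, 4, 6, 8, 2, 4, 6, 14, 16, 14, 12, 8, 10, 4, 6, 8, 2, 4, 6, 14, 0, 2, 4, 6, 8, 10, 12] (.cons [8, 10, 4, 2, 6, 8, 6, 12, 4, 14, 12] .nil .nil) .nil) (.cons [6, 16, 18, 6, 16, 14, 12, 8, 10, 6, 8, 2, 4, 6, 16, 0, 2, 4, 6, 8, 10, 12, 14] (.cons [14, 8, 10, 2, 4, 6, 8, 0, 2, 4, 6, 14, 16, 12, 8, 10, 6, 8, 2, 4, 6, 14, 0, 2, 4, 6, 8, 10, 12] (.cons [14, 4, 0, 2, 8, 6, 10, 4] .nil .nil) .nil)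 (.cons [2, 4, 6, 16, 18, 14, 12, 8, 10, 6, 8, 2, 4, 6, 16, 0, 2, 4, 6, 8, 10, 12, 14] (.cons [6, 14, 16, 12, 10, 6, 8, 4, 6, 14, 0, 2, 4, 6, 8, 10, 12] (.cons [8, 10, 8, 6, 12, 6, 4, 0, 2, 14, 12] .nil .nil) .nil) (.cons [10, 8, 6, 16, 18, 14, 12, 8, 10, 6, 8, 2, 4, 6, 16, 0, 2, 4, 6, 8, 10, 12, 14] (.cons [14, 16, 6, 14, 2, 4, 6, 8, 0, 2, 4, 6, 14, 16, 12, 6, 8, 10, 4, 6, 8, 2, 4, 6, 14, 0, 2, 4, 6, 8, 10, 12] (.cons [0, 2, 6, 12, 10, 8, 6, 4, 12, 6, 8, 10, 14, 12, 6, 4, 2, 12, 14] .nil .nil) .nil) (.cons [4, 6, 16, 18, 6, 16, 12, 8, 10, 6, 8, 2, 4, 6, 16, 0, 2, 4, 6, 8, 10, 12, 14] (.cons [8, 0, 2, 4, 6, 14, 16, 6, 14, 10, 4, 6, 8, 2, 4, 6, 14, 0, 2, 4, 6, 8, 10, 12] .nil .nil) (.cons [2, 4, 6, 16, 18, 16,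 12, 8, 10, 6, 8, 2, 4, 6, 16, 0, 2, 4, 6, 8, 10, 12, 14] (.cons [6, 14, 8, 6, 4, 2, 14, 12, 8, 10, 6, 8, 4, 6, 14, 16, 12, 10, 6, 8, 4, 6, 14, 0, 2, 4, 6, 8, 10, 12] (.cons [4, 6, 12, 6, 4, 2, 8, 10, 14, 12] .nil .nil) .nil) (.cons [8, 4, 6, 16, 18, 16, 12, 8, 10, 6, 8, 2, 4, 6, 16, 0, 2, 4, 6, 8, 10, 12, 14] (.cons [16, 8, 6, 14, 10, 4, 6, 8, 2, 4, 6, 14, 16, 14, 10, 4, 6, 8, 2, 4, 6, 14, 0, 2, 4, 6, 8, 10, 12] (.cons [10, 6, 8, 4, 2, 6, 10, 8] .nil .nil) .nil) (.cons [10, 8, 6, 16, 18, 16, 12, 8, 10, 6, 8, 2, 4, 6, 16, 0, 2, 4, 6, 8, 10, 12, 14] (.cons [14, 16, 8, 6, 14, 8, 10, 4, 6, 8, 2, 4, 6, 14, 16, 14, 10, 4, 6, 8, 2, 4, 6, 14, 0, 2, 4, 6, 8, 10, 12] (.cons [6, 0, 4, 2, 8, 6, 12, 14, 8, 6, 4, 12] .nil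 .nil) .nil) (.cons [0, 2, 4, 6, 16, 18, 12, 8, 10, 6, 8, 2, 4, 6, 16, 0, 2, 4, 6, 8, 10, 12, 14] (.cons [14, 16, 2, 4, 6, 14, 12, 8, 10, 4, 6, 8, 2, 4, 6, 14, 16, 14, 12, 10, 4, 6, 8, 2, 4, 6, 14, 0, 2, 4, 6, 8, 10, 12] (.cons [0, 2, 4, 6, 12, 14, 12, 2, 6, 8, 10, 0, 12, 6, 4, 2, 4] .nil .nil) .nil) (.cons [8, 2, 4, 6, 16, 18, 12, 8, 10, 6, 8, 2, 4, 6, 16, 0, 2, 4, 6, 8, 10, 12, 14] (.cons [8, 6, 14, 16, 10, 6, 8, 4, 6, 14, 10, 12, 8, 10, 4, 6, 8, 0, 2, 4, 6, 14, 16, 10, 4, 6, 8, 2, 4, 6, 14, 0, 2, 4, 6, 8, 10, 12] (.cons [4, 2, 12, 4, 14, 8, 12, 6, 8, 10] .nil .nil) .nil) (.cons [12, 10, 8, 6, 16, 18, 12, 8, 10, 6, 8, 2, 4, 6, 16, 0, 2, 4, 6, 8, 10, 12, 14] (.cons [8, 4, 6, 14, 16, 14, 12, 8, 10, 6, 8, 2, 4,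 6, 14, 0, 2, 4, 6, 8, 10, 12] (.cons [10, 8, 4, 6, 10, 4, 2, 12, 14] .nil .nil) .nil) (.cons [8, 4, 6, 16, 18, 6, 16, 8, 10, 6, 8, 2, 4, 6, 16, 0, 2, 4, 6, 8, 10, 12, 14] (.cons [16, 6, 14, 10, 8, 16, 6, 4, 2, 0, 14, 12, 8, 10, 6, 8, 4, 6, 14, 16, 12, 8, 10, 6, 8, 4, 6, 14, 2, 4, 6, 8, 10, 12] (.cons [4, 6, 12, 6, 8, 10, 14, 12, 6, 4, 2, 8, 6] .nil .nil) .nil) (.cons [8, 2, 4, 6, 16, 18, 16, 8, 10, 6, 8, 2, 4, 6, 16, 0, 2, 4, 6, 8, 10, 12, 14] (.cons [14, 6, 8, 4, 6, 14, 8, 10, 12, 6, 8, 10, 4, 6, 8, 2, 4, 6, 14, 16, 6, 8, 2, 4, 6, 14, 0, 2, 4, 6, 8, 10, 12] .nil .nil) (.cons [6, 8, 4, 6, 16, 18, 16, 8, 10, 6, 8, 2, 4, 6, 16, 0, 2, 4, 6, 8, 10, 12, 14] (.cons [8, 4, 6, 14, 16, 6, 8, 4, 6, 14, 10, 12, 8, 10,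 4, 6, 8, 2, 4, 6, 14, 16, 10, 4, 6, 8, 2, 4, 6, 14, 0, 2, 4, 6, 8, 10, 12] (.cons [12, 4, 6, 8, 4, 10, 12, 8, 6, 4, 12, 14] .nil .nil) .nil) (.cons [10, 8, 4, 6, 16, 18, 16, 8, 10, 6, 8, 2, 4, 6, 16, 0, 2, 4, 6, 8, 10, 12, 14] (.cons [16, 14, 6, 8, 4, 6, 14, 10, 12, 8, 10, 6, 8, 0, 2, 4, 6, 14, 16, 10, 6, 8, 2, 4, 6, 14, 0, 2, 4, 6, 8, 10, 12] (.cons [8, 6, 12, 14, 8, 6, 4, 2, 12, 6, 4] .nil .nil) .nil) (.cons [12, 10, 8, 6, 16, 18, 16, 8, 10, 6, 8, 2, 4, 6, 16, 0, 2, 4, 6, 8, 10, 12, 14] (.cons [10, 6, 8, 2, 4, 6, 14, 16, 14, 12, 10, 6, 8, 4, 6, 14, 2, 4, 6, 8, 10, 12] (.cons [4, 6, 12, 14, 8, 2, 0, 4, 12, 6, 4, 2, 8, 10] .nil .nil) .nil) (.cons [16, 6, 8, 4, 6, 16, 18, 8, 10, 6, 8, 2, 4, 6, 16, 0, 2, 4, 6,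 8, 10, 12, 14] (.cons [14, 16, 6, 14, 8, 6, 4, 12, 14, 16, 6, 14, 8, 10, 6, 8, 4, 6, 14, 16, 2, 4, 6, 14, 0, 2, 4, 6, 8, 10, 12] (.cons [2, 4, 6, 12, 0, 2, 4, 8, 10, 14, 12] .nil .nil) .nil) (.cons [12, 10, 8, 4, 6, 16, 18, 8, 10, 6, 8, 2, 4, 6, 16, 0, 2, 4, 6, 8, 10, 12, 14] (.cons [14, 4, 6, 8, 0, 2, 4, 6, 14, 16, 8, 10, 4, 6, 8, 2, 4, 6, 14, 0, 2, 4, 6, 8, 10, 12] (.cons [6, 12, 4, 6, 12, 14] .nil .nil) .nil) (.cons [14, 12, 10, 8, 6, 16, 18, 8, 10, 6, 8, 2, 4, 6, 16, 0, 2, 4, 6, 8, 10, 12, 14] (.cons [14, 16, 6, 14, 12, 8, 10, 4, 6, 8, 0, 2, 4, 6, 14, 16, 14, 10, 4, 6, 8, 2, 4, 6, 14, 0, 2, 4, 6, 8, 10, 12] (.cons [6, 8, 0, 2, 4, 6, 12, 14, 10, 8, 12, 6, 4, 2, 4, 8, 10] .nil .nil) .nil) (.cons [8, 2, 4,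 6, 16, 18, 14, 12, 10, 6, 8, 2, 4, 6, 16, 0, 2, 4, 6, 8, 10, 12, 14] .nil (.cons [12, 10, 8, 6, 16, 18, 14, 12, 10, 6, 8, 2, 4, 6, 16, 0, 2, 4, 6, 8, 10, 12, 14] (.cons [14, 16, 6, 14, 8, 10, 12, 6, 8, 10, 4, 6, 8, 2, 4, 6, 14, 16, 14, 10, 6, 8, 2, 4, 6, 14, 0, 2, 4, 6, 8, 10, 12] (.cons [10, 8, 0, 2, 4, 6, 12, 14, 6, 8, 4, 12, 6, 4, 0, 2, 8, 6, 10, 4] .nil .nil) .nil) (.cons [8, 2, 4, 6, 16, 18, 16, 12, 10, 6, 8, 2, 4, 6, 16, 0, 2, 4, 6, 8, 10, 12, 14] (.cons [8, 4, 6, 14, 16, 14, 8, 10, 6, 8, 4, 6, 14, 2, 4, 6, 8, 10, 12] (.cons [0, 2, 0, 12, 4, 2, 6, 12, 14, 8, 6, 4, 12] .nil .nil) .nil) (.cons [12, 10, 8, 6, 16, 18, 16, 12, 10, 6, 8, 2, 4, 6, 16, 0, 2, 4, 6, 8, 10, 12, 14] (.cons [16, 14, 10, 12, 8, 10,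 4, 6, 8, 0, 2, 4, 6, 14, 16, 8, 10, 4, 6, 8, 2, 4, 6, 14, 0, 2, 4, 6, 8, 10, 12] (.cons [6, 12, 14, 2, 4, 6, 12, 8, 6, 4, 2, 8, 10, 12] .nil .nil) .nil) (.cons [10, 6, 8, 4, 6, 16, 18, 12, 10, 6, 8, 2, 4, 6, 16, 0, 2, 4, 6, 8, 10, 12, 14] (.cons [16, 8, 2, 4, 6, 14, 8, 10, 12, 6, 8, 10, 4, 6, 8, 2, 4, 6, 14, 16, 14, 8, 10, 4, 6, 8, 2, 4, 6, 14, 0, 2, 4, 6, 8, 10, 12] .nil .nil) (.cons [16, 6, 8, 4, 6, 16, 18, 12, 10, 6, 8, 2, 4, 6, 16, 0, 2, 4, 6, 8, 10, 12, 14] (.cons [8, 10, 6, 8, 0, 2, 4, 6, 14, 16, 6, 8, 2, 4, 6, 14, 0, 2, 4, 6, 8, 10, 12] (.cons [12, 14, 2, 4, 8, 0, 2, 0, 4, 12, 6, 4, 2, 8, 10] .nil .nil) .nil) (.cons [14, 12, 10, 8, 6, 16, 18, 12, 10, 6, 8, 2, 4, 6, 16, 0, 2, 4, 6, 8, 10, 12, 14] (.cons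 [10, 6, 8, 4, 6, 14, 16, 14, 8, 10, 6, 8, 2, 4, 6, 14, 0, 2, 4, 6, 8, 10, 12] (.cons [10, 8, 6, 12, 14, 4, 6, 2, 4, 0, 2, 8, 10] .nil .nil) .nil) (.cons [8, 0, 2, 4, 6, 16, 18, 16, 10, 6, 8, 2, 4, 6, 16, 0, 2, 4, 6, 8, 10, 12, 14] (.cons [12, 10, 4, 6, 8, 14, 12, 10, 6, 8, 4, 6, 14, 16, 14, 10, 12, 8, 10, 6, 8, 2, 4, 6, 14, 0, 2, 4, 6, 8, 10, 12] (.cons [6, 12, 10, 14, 6, 4, 2, 12, 6, 4] .nil .nil) .nil) (.cons [6, 8, 2, 4, 6, 16, 18, 16, 10, 6, 8, 2, 4, 6, 16, 0, 2, 4, 6, 8, 10, 12, 14] (.cons [16, 14, 6, 8, 10, 4, 6, 8, 2, 4, 6, 14, 16, 14, 8, 10, 6, 8, 4, 6, 14, 0, 2, 4, 6, 8, 10, 12] .nil .nil) (.cons [10, 8, 2, 4, 6, 16, 18, 16, 10, 6, 8, 2, 4, 6, 16, 0, 2, 4, 6, 8, 10, 12, 14] .nil (.cons [16, 6, 8, 4,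 6, 16, 18, 16, 10, 6, 8, 2, 4, 6, 16, 0, 2, 4, 6, 8, 10, 12, 14] (.cons [2, 4, 6, 14, 8, 10, 6, 8, 4, 6, 14, 16, 14, 10, 6, 8, 2, 4, 6, 14, 0, 2, 4, 6, 8, 10, 12] .nil .nil) (.cons [14, 12, 10, 8, 6, 16, 18, 16, 10, 6, 8, 2, 4, 6, 16, 0, 2, 4, 6, 8, 10, 12, 14] (.cons [10, 4, 6, 8, 2, 4, 6, 14, 16, 14, 8, 10, 6, 8, 2, 4, 6, 14, 0, 2, 4, 6, 8, 10, 12] (.cons [10, 4, 2, 12, 6, 4, 12, 14] .nil .nil) .nil) (.cons [6, 8, 0, 2, 4, 6, 16, 18, 10, 6, 8, 2, 4, 6, 16, 0, 2, 4, 6, 8, 10, 12, 14] (.cons [6, 14, 8, 10, 12, 6, 8, 10, 4, 6, 8, 2, 4, 6, 14, 16, 14, 4, 6, 8, 2, 4, 6, 14, 0, 2, 4, 6, 8, 10, 12] .nil .nil) (.cons [10, 8, 0, 2, 4, 6, 16, 18, 10, 6, 8, 2, 4, 6, 16, 0, 2, 4, 6, 8, 10, 12, 14] (.cons [10, 6, 8, 4,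 6, 14, 16, 14, 6, 8, 4, 6, 14, 2, 4, 6, 8, 10, 12] (.cons [12, 14, 10, 8, 2, 4, 6, 4, 0, 2, 8, 4, 6, 8, 10] .nil .nil) .nil) (.cons [4, 6, 8, 2, 4, 6, 16, 18, 10, 6, 8, 2, 4, 6, 16, 0, 2, 4, 6, 8, 10, 12, 14] (.cons [6, 0, 2, 4, 16, 6, 14, 12, 8, 10, 6, 8, 4, 6, 14, 16, 2, 4, 6, 14, 0, 2, 4, 6, 8, 10, 12] (.cons [14, 12, 6, 8, 4, 6, 12, 10, 8, 4, 6, 8, 4, 2, 10, 12, 14, 8] .nil .nil) .nil) (.cons [12, 10, 8, 2, 4, 6, 16, 18, 10, 6, 8, 2, 4, 6, 16, 0, 2, 4, 6, 8, 10, 12, 14] (.cons [14, 6, 8, 4, 6, 14, 10, 12, 6, 8, 10, 4, 6, 8, 2, 4, 6, 14, 16, 10, 4, 6, 8, 2, 4, 6, 14, 0, 2, 4, 6, 8, 10, 12] (.cons [12, 8, 6, 12, 4, 0, 2, 6, 8, 10, 14, 8, 12] .nil .nil) .nil) (.cons [8, 10, 6, 8, 4, 6, 16, 18, 10, 6, 8, 2,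 4, 6, 16, 0, 2, 4, 6, 8, 10, 12, 14] (.cons [14, 16, 8, 6, 14, 8, 10, 12, 6, 8, 10, 4, 6, 8, 2, 4, 6, 14, 16, 10, 4, 6, 8, 2, 4, 6, 14, 0, 2, 4, 6, 8, 10, 12] (.cons [14, 8, 6, 12, 14, 6, 8, 10, 0, 12, 6, 4, 2, 4] .nil .nil) .nil) (.cons [14, 12, 10, 8, 4, 6, 16, 18, 10, 6, 8, 2, 4, 6, 16, 0, 2, 4, 6, 8, 10, 12, 14] .nil (.cons [10, 8, 0, 2, 4, 6, 16, 18, 16, 6, 8, 2, 4, 6, 16, 0, 2, 4, 6, 8, 10, 12, 14] (.cons [10, 8, 6, 4, 0, 2, 6, 14, 8, 4, 6, 14, 10, 12, 8, 10, 6, 8, 4, 6, 14, 16, 8, 2, 4, 6, 14, 0, 2, 4, 6, 8, 10, 12] (.cons [8, 0, 2, 10, 6, 4, 12, 6, 8, 14, 12, 6, 4, 2, 8, 10, 12, 14] .nil .nil) .nil) (.cons [4, 6, 8, 2, 4, 6, 16, 18, 16, 6, 8, 2, 4, 6, 16, 0, 2, 4, 6, 8, 10, 12, 14] (.cons [14, 16, 8,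 6, 14, 12, 10, 4, 6, 8, 2, 4, 6, 14, 16, 6, 8, 10, 4, 6, 8, 2, 4, 6, 14, 0, 2, 4, 6, 8, 10, 12] (.cons [0, 2, 4, 6, 8, 14, 12, 6, 4, 0, 2, 4, 8, 10, 12, 14] .nil .nil) .nil) (.cons [10, 6, 8, 2, 4, 6, 16, 18, 16, 6, 8, 2, 4, 6, 16, 0, 2, 4, 6, 8, 10, 12, 14] (.cons [14, 6, 8, 4, 6, 14, 16, 14, 12, 10, 6, 8, 4, 6, 14, 0, 2, 4, 6, 8, 10, 12] .nil .nil) (.cons [8, 10, 6, 8, 4, 6, 16, 18, 16, 6, 8, 2, 4, 6, 16, 0, 2, 4, 6, 8, 10, 12, 14] (.cons [16, 8, 6, 14, 10, 12, 8, 10, 6, 8, 2, 4, 6, 14, 16, 14, 12, 10, 6, 8, 2, 4, 6, 14, 0, 2, 4, 6, 8, 10, 12] (.cons [4, 6, 12, 14, 4, 6, 8, 10, 12, 6, 2, 4, 6, 2] (.cons [5, 0, 4, 1, 1] .nil .nil) .nil) .nil) (.cons [4, 6, 8, 0, 2, 4, 6, 16, 18, 6, 8, 2, 4, 6, 16, 0, 2, 4,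 6, 8, 10, 12, 14] (.cons [14, 8, 10, 6, 8, 0, 2, 4, 6, 14, 16, 14, 6, 8, 4, 6, 14, 0, 2, 4, 6, 8, 10, 12] (.cons [8, 4, 6, 12, 2, 4, 6, 0, 2, 4, 8, 10, 12, 14] .nil .nil) .nil) (.cons [16, 6, 8, 0, 2, 4, 6, 16, 18, 6, 8, 2, 4, 6, 16, 0, 2, 4, 6, 8, 10, 12, 14] (.cons [10, 8, 0, 2, 4, 6, 14, 16, 10, 8, 10, 6, 2, 4, 6, 14, 8, 10, 12, 6, 8, 10, 4, 6, 8, 0, 2, 4, 6, 14, 16, 6, 8, 4, 6, 14, 0, 2, 4, 6, 8, 10, 12] .nil .nil) (.cons [10, 4, 6, 8, 2, 4, 6, 16, 18, 6, 8, 2, 4, 6, 16, 0, 2, 4, 6, 8, 10, 12, 14] (.cons [14, 16, 6, 14, 10, 12, 6, 8, 10, 4, 6, 8, 2, 4, 6, 14, 16, 14, 10, 6, 8, 2, 4, 6, 14, 0, 2, 4, 6, 8, 10, 12] (.cons [4, 6, 8, 10, 14, 12, 6, 4, 0, 2, 4, 12, 14] .nil .nil) .nil) (.cons [8, 10, 6, 8, 2,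 4, 6, 16, 18, 6, 8, 2, 4, 6, 16, 0, 2, 4, 6, 8, 10, 12, 14] (.cons [8, 0, 2, 4, 6, 14, 16, 10, 8, 4, 6, 4, 2, 8, 4, 6, 14, 10, 12, 8, 10, 6, 8, 4, 6, 14, 16, 12, 8, 10, 6, 8, 2, 4, 6, 14, 0, 2, 4, 6, 8, 10, 12] (.cons [4, 6, 12, 14, 2, 12, 6, 8, 10, 4, 8, 6, 4, 2] .nil .nil) .nil) (.cons [18, 16, 6, 8, 2, 4, 6, 16, 18, 6, 8, 2, 4, 6, 16, 0, 2, 4, 6, 8, 10, 12, 14] .nil (.cons [12, 8, 10, 6, 8, 4, 6, 16, 18, 6, 8, 2, 4, 6, 16, 0, 2, 4, 6, 8, 10, 12, 14] (.cons [4, 6, 14, 16, 8, 2, 4, 6, 14, 10, 12, 8, 10, 4, 6, 8, 2, 4, 6, 14, 16, 14, 8, 10, 4, 6, 8, 2, 4, 6, 14, 0, 2, 4, 6, 8, 10, 12] (.cons [4, 6, 12, 8, 10, 6, 4, 0, 2, 6, 4, 12, 14] .nil .nil) .nil) (.cons [16, 12, 10, 6, 8, 4, 6, 16, 18, 6, 8, 2, 4, 6, 16,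 0, 2, 4, 6, 8, 10, 12, 14] (.cons [16, 6, 0, 12, 10, 8, 2, 4, 6, 14, 8, 10, 4, 6, 8, 2, 4, 6, 14, 16, 12, 10, 8, 2, 4, 6, 14, 0, 2, 4, 6, 8, 10, 12] (.cons [8, 10, 6, 2, 4, 6, 0, 2] .nil .nil) .nil) (.cons [16, 6, 8, 4, 6, 16, 18, 14, 12, 10, 8, 2, 4, 6, 16, 0, 2, 4, 6, 8, 10, 12, 14] (.cons [14, 4, 6, 8, 2, 4, 6, 14, 16, 12, 8, 10, 6, 8, 2, 4, 6, 14, 0, 2, 4, 6, 8, 10, 12] (.cons [6, 8, 10, 4, 2, 6, 4, 12, 14, 12, 6, 4] .nil .nil) .nil) (.cons [6, 8, 0, 2, 4, 6, 16, 18, 12, 10, 8, 2, 4, 6, 16, 0, 2, 4, 6, 8, 10, 12, 14] (.cons [16, 4, 6, 14, 6, 8, 10, 4, 6, 8, 2, 4, 6, 14, 16, 8, 10, 6, 8, 4, 6, 14, 0, 2, 4, 6, 8, 10, 12] (.cons [12, 0, 2, 10, 6, 8, 4, 12, 6, 8, 10] .nil .nil) .nil) (.cons [16, 6, 8, 2, 4,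 6, 16, 18, 12, 10, 8, 2, 4, 6, 16, 0, 2, 4, 6, 8, 10, 12, 14] (.cons [14, 16, 4, 6, 14, 8, 6, 4, 14, 10, 12, 8, 10, 6, 8, 2, 4, 6, 14, 16, 14, 10, 6, 8, 4, 6, 14, 0, 2, 4, 6, 8, 10, 12] .nil .nil) (.cons [8, 10, 6, 8, 4, 6, 16, 18, 12, 10, 8, 2, 4, 6, 16, 0, 2, 4, 6, 8, 10, 12, 14] (.cons [14, 4, 6, 8, 2, 4, 6, 14, 16, 14, 10, 6, 8, 4, 6, 14, 10, 12, 8, 10, 4, 6, 8, 2, 4, 6, 14, 16, 14, 8, 10, 4, 6, 8, 2, 4, 6, 14, 0, 2, 4, 6, 8, 10, 12] .nil .nil) (.cons [16, 10, 6, 8, 4, 6, 16, 18, 12, 10, 8, 2, 4, 6, 16, 0, 2, 4, 6, 8, 10, 12, 14] (.cons [14, 6, 8, 4, 6, 14, 10, 12, 8, 10, 4, 6, 8, 2, 4, 6, 14, 16, 12, 10, 4, 6, 8, 2, 4, 6, 14, 0, 2, 4, 6, 8, 10, 12] (.cons [12, 10, 6, 8, 6, 2, 4, 6, 0, 2, 8, 10, 12, 14]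 .nil .nil) .nil) (.cons [14, 12, 10, 8, 4, 6, 16, 18, 12, 10, 8, 2, 4, 6, 16, 0, 2, 4, 6, 8, 10, 12, 14] (.cons [4, 6, 14, 16, 14, 10, 6, 8, 4, 6, 14, 10, 12, 6, 8, 10, 4, 6, 8, 2, 4, 6, 14, 16, 10, 6, 8, 2, 4, 6, 14, 0, 2, 4, 6, 8, 10, 12] (.cons [14, 12, 6, 4, 2, 10, 12, 14, 6, 8, 4, 6, 10] .nil .nil) .nil) (.cons [16, 6, 8, 0, 2, 4, 6, 16, 18, 10, 8, 2, 4, 6, 16, 0, 2, 4, 6, 8, 10, 12, 14] (.cons [6, 14, 16, 6, 8, 4, 6, 14, 10, 12, 6, 8, 10, 4, 6, 8, 2, 4, 6, 14, 16, 12, 10, 6, 8, 2, 4, 6, 14, 0, 2, 4, 6, 8, 10, 12] .nil .nil) (.cons [10, 4, 6, 8, 2, 4, 6, 16, 18, 10, 8, 2, 4, 6, 16, 0, 2, 4, 6, 8, 10, 12, 14] (.cons [16, 14, 12, 10, 4, 6, 8, 2, 4, 6, 14, 16, 14, 10, 4, 6, 8, 2, 4, 6, 14, 0, 2, 4, 6, 8, 10,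 12] .nil .nil) (.cons [12, 10, 6, 8, 2, 4, 6, 16, 18, 10, 8, 2, 4, 6, 16, 0, 2, 4, 6, 8, 10, 12, 14] (.cons [4, 6, 14, 16, 6, 8, 2, 4, 6, 14, 10, 12, 8, 10, 4, 6, 8, 2, 4, 6, 14, 16, 14, 8, 10, 4, 6, 8, 2, 4, 6, 14, 0, 2, 4, 6, 8, 10, 12] (.cons [0, 2, 4, 6, 8, 0, 2, 10, 8, 6, 12, 4, 14, 12] .nil .nil) .nil) (.cons [14, 12, 10, 8, 2, 4, 6, 16, 18, 10, 8, 2, 4, 6, 16, 0, 2, 4, 6, 8, 10, 12, 14] (.cons [4, 6, 8, 2, 4, 6, 14, 16, 6, 8, 4, 6, 14, 8, 10, 12, 6, 8, 10, 4, 6, 8, 2, 4, 6, 14, 16, 8, 10, 6, 8, 2, 4, 6, 14, 0, 2, 4, 6, 8, 10, 12] (.cons [2, 4, 6, 10, 8, 14, 12, 6, 4, 0, 2, 8, 10, 12, 14] .nil .nil) .nil) (.cons [12, 8, 10, 6, 8, 4, 6, 16, 18, 10, 8, 2, 4, 6, 16, 0, 2, 4, 6, 8, 10, 12, 14] (.cons [0, 2,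 4, 6, 14, 16, 6, 8, 4, 6, 14, 10, 12, 8, 10, 4, 6, 8, 2, 4, 6, 14, 16, 8, 10, 6, 8, 2, 4, 6, 14, 0, 2, 4, 6, 8, 10, 12] (.cons [14, 6, 12, 6, 14, 12, 4, 2, 6, 8, 10, 8, 12] .nil .nil) .nil) (.cons [16, 8, 10, 6, 8, 4, 6, 16, 18, 10, 8, 2, 4, 6, 16, 0, 2, 4, 6, 8, 10, 12, 14] .nil (.cons [14, 12, 10, 6, 8, 4, 6, 16, 18, 10, 8, 2, 4, 6, 16, 0, 2, 4, 6, 8, 10, 12, 14] (.cons [16, 14, 10, 12, 8, 10, 6, 8, 4, 6, 14, 16, 4, 6, 8, 2, 4, 6, 14, 0, 2, 4, 6, 8, 10, 12] (.cons [0, 2, 4, 6, 12, 14, 8, 2, 0, 4, 12, 6, 4, 2, 8, 10] .nil .nil) .nil) (.cons [16, 12, 10, 6, 8, 4, 6, 16, 18, 10, 8, 2, 4, 6, 16, 0, 2, 4, 6, 8, 10, 12, 14] (.cons [14, 16, 8, 6, 14, 12, 10, 4, 6, 8, 2, 4, 6, 14, 16, 14, 12, 10, 4, 6, 8, 2, 4, 6,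 14, 0, 2, 4, 6, 8, 10, 12] (.cons [10, 0, 2, 4, 6, 12, 14, 12] .nil .nil) .nil) (.cons [14, 12, 10, 8, 0, 2, 4, 6, 16, 18, 8, 2, 4, 6, 16, 0, 2, 4, 6, 8, 10, 12, 14] (.cons [16, 14, 12, 8, 10, 4, 6, 8, 2, 4, 6, 14, 16, 14, 12, 10, 6, 8, 2, 4, 6, 14, 0, 2, 4, 6, 8, 10, 12] (.cons [14, 10, 8, 6, 12, 6, 8, 10, 14, 12, 6, 4, 2, 8, 6] .nil .nil) .nil) (.cons [12, 8, 10, 6, 8, 2, 4, 6, 16, 18, 8, 2, 4, 6, 16, 0, 2, 4, 6, 8, 10, 12, 14] .nil (.cons [16, 8, 10, 6, 8, 2, 4, 6, 16, 18, 8, 2, 4, 6, 16, 0, 2, 4, 6, 8, 10, 12, 14] (.cons [8, 6, 14, 16, 10, 8, 2, 4, 6, 14, 10, 12, 8, 10, 6, 8, 0, 2, 4, 6, 14, 16, 12, 10, 8, 2, 4, 6, 14, 0, 2, 4, 6, 8, 10, 12] (.cons [8, 0, 2, 6, 4, 8, 6, 12, 14, 6, 8, 10, 12, 6, 4, 6, 2,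 4] .nil .nil) .nil) (.cons [14, 12, 10, 6, 8, 2, 4, 6, 16, 18, 8, 2, 4, 6, 16, 0, 2, 4, 6, 8, 10, 12, 14] (.cons [12, 10, 8, 6, 14, 16, 4, 6, 14, 12, 8, 10, 6, 8, 2, 4, 6, 14, 16, 8, 10, 4, 6, 8, 2, 4, 6, 14, 0, 2, 4, 6, 8, 10, 12] .nil .nil) (.cons [16, 12, 10, 6, 8, 2, 4, 6, 16, 18, 8, 2, 4, 6, 16, 0, 2, 4, 6, 8, 10, 12, 14] .nil (.cons [18, 16, 10, 6, 8, 2, 4, 6, 16, 18, 8, 2, 4, 6, 16, 0, 2, 4, 6, 8, 10, 12, 14] .nil (.cons [14, 12, 8, 10, 6, 8, 4, 6, 16, 18, 8, 2, 4, 6, 16, 0, 2, 4, 6, 8, 10, 12, 14] (.cons [0, 2, 4, 6, 14, 16, 14, 10, 6, 8, 4, 6, 14, 10, 12, 8, 10, 4, 6, 8, 2, 4, 6, 14, 16, 14, 8, 10, 4, 6, 8, 2, 4, 6, 14, 0, 2, 4, 6, 8, 10, 12] (.cons [8, 6, 12, 14, 6, 8, 4, 12, 6, 4, 0, 2, 8, 6, 10,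 4] .nil .nil) .nil) (.cons [16, 12, 8, 10, 6, 8, 4, 6, 16, 18, 8, 2, 4, 6, 16, 0, 2, 4, 6, 8, 10, 12, 14] .nil (.cons [16, 14, 12, 10, 6, 8, 4, 6, 16, 18, 8, 2, 4, 6, 16, 0, 2, 4, 6, 8, 10, 12, 14] (.cons [14, 16, 2, 4, 6, 14, 10, 12, 6, 8, 10, 4, 6, 8, 2, 4, 6, 14, 16, 8, 10, 4, 6, 8, 2, 4, 6, 14, 0, 2, 4, 6, 8, 10, 12] (.cons [6, 12, 8, 6, 4, 2, 6, 12, 14, 8, 6, 8, 10] .nil .nil) .nil) (.cons [14, 10, 12, 8, 10, 6, 8, 4, 6, 16, 18, 2, 4, 6, 16, 0, 2, 4, 6, 8, 10, 12, 14] (.cons [8, 2, 10, 6, 14, 0, 6, 4, 2, 8, 4, 6, 14, 10, 12, 8, 10, 6, 8, 4, 6, 14, 16, 8, 2, 4, 6, 14, 0, 2, 4, 6, 8, 10, 12] (.cons [4, 2, 8, 4, 12, 6, 8, 4, 2, 10, 8] .nil .nil) .nil) (.cons [16, 10, 12, 8, 10, 6, 8, 4, 6, 16, 18, 2, 4, 6,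 16, 0, 2, 4, 6, 8, 10, 12, 14] (.cons [2, 4, 8, 6, 14, 10, 12, 8, 10, 6, 8, 4, 6, 14, 16, 2, 4, 6, 14, 0, 2, 4, 6, 8, 10, 12] (.cons [4, 6, 12, 14, 8, 2, 10, 8, 6, 4, 0, 2] .nil .nil) .nil) (.cons [16, 14, 12, 8, 10, 6, 8, 4, 6, 16, 18, 2, 4, 6, 16, 0, 2, 4, 6, 8, 10, 12, 14] (.cons [10, 8, 4, 6, 14, 16, 6, 8, 10, 14, 6, 2, 4, 6, 14, 8, 10, 12, 6, 8, 10, 4, 6, 8, 0, 2, 4, 6, 14, 16, 6, 8, 4, 6, 14, 0, 2, 4, 6, 8, 10, 12] .nil .nil) (.cons [6, 16, 12, 8, 10, 6, 8, 4, 6, 16, 18, 2, 4, 6, 16, 0, 2, 4, 6, 8, 10, 12, 14] (.cons [2, 4, 6, 14, 16, 12, 10, 8, 6, 14, 10, 12, 8, 10, 4, 6, 8, 2, 4, 6, 14, 16, 14, 10, 4, 6, 8, 2, 4, 6, 14, 0, 2, 4, 6, 8, 10, 12] (.cons [14, 12, 6, 8, 10, 6, 12, 14, 4, 8, 6, 4, 2] .nil .nil)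 .nil) (.cons [4, 6, 16, 8, 10, 6, 8, 4, 6, 16, 18, 2, 4, 6, 16, 0, 2, 4, 6, 8, 10, 12, 14] (.cons [8, 6, 14, 16, 10, 14, 6, 4, 8, 6, 14, 10, 12, 8, 10, 4, 6, 8, 0, 2, 4, 6, 14, 16, 10, 8, 2, 4, 6, 14, 0, 2, 4, 6, 8, 10, 12] (.cons [12, 6, 0, 2, 4, 2, 12, 6, 8, 10, 4, 6, 12, 14, 8, 6, 4, 2] .nil .nil) .nil) (.cons [18, 16, 14, 12, 10, 6, 8, 4, 6, 16, 18, 2, 4, 6, 16, 0, 2, 4, 6, 8, 10, 12, 14] (.cons [16, 8, 6, 14, 12, 10, 4, 6, 8, 2, 4, 6, 14, 16, 10, 4, 6, 8, 2, 4, 6, 14, 0, 2, 4, 6, 8, 10, 12] .nil .nil) (.cons [18, 4, 6, 16, 12, 14, 10, 12, 8, 10, 6, 8, 4, 6, 16, 0, 2, 4, 6, 8, 10, 12, 14] (.cons [4, 6, 14, 8, 10, 6, 8, 2, 4, 6, 14, 16, 8, 2, 4, 6, 14, 0, 2, 4, 6, 8, 10, 12] (.cons [8, 6, 12, 4, 0, 2, 4,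 6, 12, 14] .nil .nil) .nil) (.cons [6, 16, 18, 16, 12, 14, 10, 12, 8, 10, 6, 8, 4, 6, 16, 0, 2, 4, 6, 8, 10, 12, 14] (.cons [16, 8, 10, 6, 14, 16, 6, 8, 2, 4, 6, 14, 10, 12, 8, 10, 6, 8, 0, 2, 4, 6, 14, 16, 8, 2, 4, 6, 14, 0, 2, 4, 6, 8, 10, 12] (.cons [14, 6, 4, 2, 8, 4, 6, 8, 10] .nil .nil) .nil) (.cons [4, 6, 16, 18, 12, 14, 10, 12, 8, 10, 6, 8, 4, 6, 16, 0, 2, 4, 6, 8, 10, 12, 14] (.cons [4, 2, 0, 8, 6, 14, 10, 12, 8, 10, 6, 8, 4, 6, 14, 16, 14, 6, 8, 4, 6, 14, 2, 4, 6, 8, 10, 12] (.cons [14, 2, 0, 2, 6, 4, 2, 12, 6, 4, 0, 2, 8, 10] .nil .nil) .nil) (.cons [6, 8, 4, 6, 16, 14, 10, 12, 8, 10, 6, 8, 4, 6, 16, 0, 2, 4, 6, 8, 10, 12, 14] (.cons [14, 16, 2, 4, 6, 14, 8, 10, 6, 8, 4, 6, 14, 16, 12, 8, 10, 6, 8,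 2, 4, 6, 14, 0, 2, 4, 6, 8, 10, 12] (.cons [8, 4, 6, 12, 14, 2, 4, 6, 0, 2, 4, 6, 8, 10] .nil .nil) .nil) (.cons [16, 18, 8, 6, 16, 14, 10, 12, 8, 10, 6, 8, 4, 6, 16, 0, 2, 4, 6, 8, 10, 12, 14] (.cons [16, 14, 8, 10, 6, 8, 0, 2, 4, 6, 14, 16, 12, 10, 6, 8, 2, 4, 6, 14, 0, 2, 4, 6, 8, 10, 12] .nil .nil) (.cons [4, 6, 16, 18, 16, 14, 10, 12, 8, 10, 6, 8, 4, 6, 16, 0, 2, 4, 6, 8, 10, 12, 14] (.cons [4, 6, 14, 8, 10, 6, 8, 0, 2, 4, 6, 14, 16, 6, 14, 12, 10, 4, 6, 8, 2, 4, 6, 14, 0, 2, 4, 6, 8, 10, 12] (.cons [0, 2, 4, 12, 6, 8, 10, 4, 6, 12, 14, 8, 6, 4, 2, 4] .nil .nil) .nil) (.cons [8, 6, 16, 18, 16, 14, 10, 12, 8, 10, 6, 8, 4, 6, 16, 0, 2, 4, 6, 8, 10, 12, 14] (.cons [10, 8, 4, 6, 14, 16, 14, 10, 12, 8, 10, 6,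 8, 4, 6, 14, 0, 2, 4, 6, 8, 10, 12] (.cons [14, 10, 0, 4, 2, 4, 6, 8, 12, 6, 4, 0, 2, 8, 10] .nil .nil) .nil) (.cons [8, 4, 6, 16, 18, 14, 10, 12, 8, 10, 6, 8, 4, 6, 16, 0, 2, 4, 6, 8, 10, 12, 14] (.cons [14, 4, 6, 8, 2, 4, 6, 14, 16, 14, 12, 10, 6, 8, 4, 6, 14, 0, 2, 4, 6, 8, 10, 12] (.cons [4, 6, 12, 8, 6, 10, 2, 4, 0, 2, 12, 14, 6, 4] .nil .nil) .nil) (.cons [10, 8, 6, 16, 18, 14, 10, 12, 8, 10, 6, 8, 4, 6, 16, 0, 2, 4, 6, 8, 10, 12, 14] (.cons [14, 16, 4, 6, 14, 8, 10, 6, 8, 4, 6, 14, 16, 6, 14, 10, 12, 8, 10, 6, 8, 2, 4, 6, 14, 0, 2, 4, 6, 8, 10, 12] (.cons [2, 10, 12, 6, 8, 4, 6, 10] (.cons [1, 2, 0, 5, 1] .nil .nil) .nil) .nil) (.cons [16, 6, 8, 4, 6, 16, 10, 12, 8, 10, 6, 8, 4, 6, 16, 0, 2, 4, 6, 8,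 10, 12, 14] (.cons [14, 16, 8, 6, 10, 4, 0, 2, 6, 14, 8, 4, 6, 14, 10, 12, 8, 10, 6, 8, 4, 6, 14, 16, 8, 2, 4, 6, 14, 0, 2, 4, 6, 8, 10, 12] (.cons [4, 6, 12, 10, 8, 6, 4, 0, 2, 10, 12, 14, 8] .nil .nil) .nil) (.cons [6, 16, 18, 8, 6, 16, 10, 12, 8, 10, 6, 8, 4, 6, 16, 0, 2, 4, 6, 8, 10, 12, 14] .nil (.cons [0, 2, 4, 6, 16, 18, 10, 12, 8, 10, 6, 8, 4, 6, 16, 0, 2, 4, 6, 8, 10, 12, 14] (.cons [6, 14, 16, 10, 8, 4, 6, 14, 8, 10, 12, 6, 8, 10, 4, 6, 8, 0, 2, 4, 6, 14, 16, 12, 10, 4, 6, 8, 2, 4, 6, 14, 0, 2, 4, 6, 8, 10, 12] (.cons [0, 2, 4, 6, 8, 10, 6, 8, 4, 12, 6, 8, 10] .nil .nil) .nil) (.cons [8, 2, 4, 6, 16, 18, 10, 12, 8, 10, 6, 8, 4, 6, 16, 0, 2, 4, 6, 8, 10, 12, 14] (.cons [12, 8, 10, 6, 8, 0, 2, 4, 6,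 14, 16, 10, 12, 8, 10, 6, 8, 2, 4, 6, 14, 0, 2, 4, 6, 8, 10, 12] .nil .nil) (.cons [12, 10, 8, 6, 16, 18, 10, 12, 8, 10, 6, 8, 4, 6, 16, 0, 2, 4, 6, 8, 10, 12, 14] (.cons [12, 10, 4, 6, 8, 2, 4, 6, 14, 16, 14, 10, 6, 8, 2, 4, 6, 14, 0, 2, 4, 6, 8, 10, 12] (.cons [6, 4, 12, 6, 8, 10, 8, 6, 12, 14, 4, 6, 2] .nil .nil) .nil) (.cons [2, 4, 6, 16, 18, 16, 14, 12, 8, 10, 6, 8, 4, 6, 16, 0, 2, 4, 6, 8, 10, 12, 14] (.cons [6, 8, 4, 6, 14, 16, 14, 12, 10, 4, 6, 8, 2, 4, 6, 14, 0, 2, 4, 6, 8, 10, 12] .nil .nil) (.cons [10, 8, 4, 6, 16, 18, 14, 12, 8, 10, 6, 8, 4, 6, 16, 0, 2, 4, 6, 8, 10, 12, 14] (.cons [16, 8, 0, 2, 4, 6, 14, 8, 10, 4, 6, 8, 2, 4, 6, 14, 16, 12, 10, 8, 2, 4, 6, 14, 0, 2, 4, 6, 8, 10, 12] (.cons [4, 6,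 8, 10, 12, 8, 6, 12, 14, 4, 6, 0, 2] .nil .nil) .nil) (.cons [10, 8, 6, 16, 18, 6, 16, 12, 8, 10, 6, 8, 4, 6, 16, 0, 2, 4, 6, 8, 10, 12, 14] (.cons [16, 8, 2, 10, 6, 14, 0, 6, 4, 2, 8, 4, 6, 14, 10, 12, 8, 10, 6, 8, 4, 6, 14, 16, 8, 2, 4, 6, 14, 0, 2, 4, 6, 8, 10, 12] (.cons [10, 8, 4, 6, 12, 14, 4, 6, 8, 10, 12, 6, 4, 6, 2, 4] .nil .nil) .nil) (.cons [8, 2, 4, 6, 16, 18, 16, 12, 8, 10, 6, 8, 4, 6, 16, 0, 2, 4, 6, 8, 10, 12, 14] (.cons [4, 6, 14, 16, 8, 0, 2, 4, 6, 14, 10, 12, 8, 10, 4, 6, 8, 2, 4, 6, 14, 16, 12, 10, 4, 6, 8, 2, 4, 6, 14, 0, 2, 4, 6, 8, 10, 12] (.cons [2, 4, 6, 12, 14, 4, 8, 6, 4, 0, 2, 8, 4, 6, 10] .nil .nil) .nil) (.cons [10, 8, 4, 6, 16, 18, 16, 12, 8, 10, 6, 8, 4, 6, 16, 0, 2, 4, 6, 8, 10,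 12, 14] (.cons [14, 16, 2, 6, 14, 16, 8, 6, 14, 10, 12, 8, 10, 6, 8, 4, 6, 14, 16, 8, 2, 4, 6, 14, 0, 2, 4, 6, 8, 10, 12] (.cons [12, 6, 8, 2, 4, 6, 12, 14, 8, 6, 8, 10, 4, 6, 0, 2] .nil .nil) .nil) (.cons [12, 10, 8, 6, 16, 18, 16, 12, 8, 10, 6, 8, 4, 6, 16, 0, 2, 4, 6, 8, 10, 12, 14] (.cons [4, 6, 14, 12, 6, 8, 10, 4, 6, 8, 0, 2, 4, 6, 14, 16, 8, 10, 4, 6, 8, 2, 4, 6, 14, 0, 2, 4, 6, 8, 10, 12] (.cons [2, 4, 6, 8, 2, 6, 12, 4, 10, 14, 8, 12] .nil .nil) .nil) (.cons [6, 8, 2, 4, 6, 16, 18, 12, 8, 10, 6, 8, 4, 6, 16, 0, 2, 4, 6, 8, 10, 12, 14] (.cons [14, 16, 2, 4, 6, 14, 8, 10, 6, 8, 4, 6, 14, 16, 12, 10, 4, 6, 8, 2, 4, 6, 14, 0, 2, 4, 6, 8, 10, 12] .nil .nil) (.cons [16, 6, 8, 4, 6, 16, 18, 12, 8, 10, 6, 8,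 4, 6, 16, 0, 2, 4, 6, 8, 10, 12, 14] (.cons [10, 6, 8, 4, 6, 14, 16, 14, 12, 10, 6, 8, 2, 4, 6, 14, 0, 2, 4, 6, 8, 10, 12] .nil .nil) (.cons [6, 8, 2, 4, 6, 16, 18, 16, 8, 10, 6, 8, 4, 6, 16, 0, 2, 4, 6, 8, 10, 12, 14] (.cons [10, 8, 6, 14, 12, 6, 8, 10, 4, 6, 8, 2, 4, 6, 14, 16, 14, 10, 6, 8, 2, 4, 6, 14, 0, 2, 4, 6, 8, 10, 12] (.cons [14, 6, 12, 2, 6, 8, 10, 14, 12] (.cons [4, 0, 4, 2] .nil .nil) .nil) .nil) (.cons [10, 8, 2, 4, 6, 16, 18, 16, 8, 10, 6, 8, 4, 6, 16, 0, 2, 4, 6, 8, 10, 12, 14] .nil (.cons [6, 8, 0, 2, 4, 6, 16, 18, 8, 10, 6, 8, 4, 6, 16, 0, 2, 4, 6, 8, 10, 12, 14] (.cons [16, 6, 10, 4, 2, 6, 14, 8, 4, 6, 14, 10, 12, 8, 10, 6, 8, 4, 6, 14, 16, 8, 2, 4, 6, 14, 0, 2, 4, 6, 8, 10, 12] (.cons [2,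 10, 8, 12] .nil .nil) .nil) (.cons [10, 8, 0, 2, 4, 6, 16, 18, 8, 10, 6, 8, 4, 6, 16, 0, 2, 4, 6, 8, 10, 12, 14] (.cons [16, 6, 14, 10, 12, 8, 10, 6, 8, 2, 4, 6, 14, 16, 4, 6, 8, 2, 4, 6, 14, 0, 2, 4, 6, 8, 10, 12] (.cons [6, 8, 4, 6, 12, 14, 8, 0, 2, 4, 6, 12, 8, 10, 6, 4, 2, 14, 12] .nil .nil) .nil) (.cons [4, 6, 8, 2, 4, 6, 16, 18, 8, 10, 6, 8, 4, 6, 16, 0, 2, 4, 6, 8, 10, 12, 14] (.cons [14, 8, 10, 12, 6, 8, 10, 4, 6, 8, 2, 4, 6, 14, 16, 14, 12, 10, 4, 6, 8, 2, 4, 6, 14, 0, 2, 4, 6, 8, 10, 12] .nil .nil) (.cons [12, 10, 8, 2, 4, 6, 16, 18, 8, 10, 6, 8, 4, 6, 16, 0, 2, 4, 6, 8, 10, 12, 14] (.cons [4, 6, 14, 10, 12, 6, 8, 10, 4, 6, 8, 2, 4, 6, 14, 16, 8, 10, 4, 6, 8, 2, 4, 6, 14, 0, 2, 4, 6, 8, 10, 12] (.cons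 [4, 2, 8, 6, 12, 10, 14, 12, 6, 8, 4, 6, 10] .nil .nil) .nil) (.cons [16, 10, 6, 8, 4, 6, 16, 18, 8, 10, 6, 8, 4, 6, 16, 0, 2, 4, 6, 8, 10, 12, 14] (.cons [10, 8, 4, 6, 14, 10, 12, 6, 8, 10, 4, 6, 8, 2, 4, 6, 14, 16, 8, 10, 6, 8, 2, 4, 6, 14, 0, 2, 4, 6, 8, 10, 12] .nil .nil) (.cons [14, 12, 10, 8, 4, 6, 16, 18, 8, 10, 6, 8, 4, 6, 16, 0, 2, 4, 6, 8, 10, 12, 14] (.cons [12, 6, 8, 10, 4, 6, 8, 0, 2, 4, 6, 14, 16, 12, 8, 10, 4, 6, 8, 2, 4, 6, 14, 0, 2, 4, 6, 8, 10, 12] (.cons [14, 2, 4, 6, 8, 10, 6, 4, 2, 8, 6] .nil .nil) .nil) (.cons [0, 2, 4, 6, 16, 18, 16, 14, 12, 10, 6, 8, 4, 6, 16, 0, 2, 4, 6, 8, 10, 12, 14] .nil (.cons [6, 8, 4, 6, 16, 18, 16, 14, 12, 10, 6, 8, 4, 6, 16, 0, 2, 4, 6, 8, 10, 12, 14] (.cons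 [14, 16, 4, 6, 14, 8, 10, 6, 8, 2, 4, 6, 14, 16, 14, 12, 8, 10, 4, 6, 8, 2, 4, 6, 14, 0, 2, 4, 6, 8, 10, 12] (.cons [8, 12, 14, 6, 8, 0, 2, 10, 8] .nil .nil) .nil) (.cons [8, 0, 2, 4, 6, 16, 18, 14, 12, 10, 6, 8, 4, 6, 16, 0, 2, 4, 6, 8, 10, 12, 14] (.cons [4, 6, 14, 6, 8, 10, 4, 6, 8, 0, 2, 4, 6, 14, 16, 12, 10, 4, 6, 8, 2, 4, 6, 14, 0, 2, 4, 6, 8, 10, 12] .nil .nil) (.cons [6, 8, 2, 4, 6, 16, 18, 14, 12, 10, 6, 8, 4, 6, 16, 0, 2, 4, 6, 8, 10, 12, 14] (.cons [6, 14, 4, 6, 8, 2, 4, 6, 14, 16, 12, 10, 8, 6, 14, 0, 2, 4, 6, 8, 10, 12] .nil .nil) (.cons [10, 8, 2, 4, 6, 16, 18, 14, 12, 10, 6, 8, 4, 6, 16, 0, 2, 4, 6, 8, 10, 12, 14] (.cons [10, 6, 8, 0, 2, 4, 6, 14, 16, 12, 10, 6, 8, 4, 6, 14, 0, 2, 4, 6, 8, 10,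 12] .nil .nil) (.cons [16, 6, 8, 4, 6, 16, 18, 14, 12, 10, 6, 8, 4, 6, 16, 0, 2, 4, 6, 8, 10, 12, 14] (.cons [14, 6, 4, 6, 14, 8, 10, 6, 8, 2, 4, 6, 14, 16, 14, 12, 10, 6, 8, 4, 6, 14, 0, 2, 4, 6, 8, 10, 12] (.cons [8, 2, 4, 6, 12, 14, 4, 2, 4, 0, 6, 8, 10, 12, 6, 4, 2] .nil .nil) .nil) (.cons [12, 10, 8, 4, 6, 16, 18, 14, 12, 10, 6, 8, 4, 6, 16, 0, 2, 4, 6, 8, 10, 12, 14] .nil (.cons [14, 12, 10, 8, 6, 16, 18, 14, 12, 10, 6, 8, 4, 6, 16, 0, 2, 4, 6, 8, 10, 12, 14] (.cons [16, 2, 6, 4, 8, 6, 14, 10, 12, 8, 10, 6, 8, 4, 6, 14, 16, 6, 14, 8, 10, 6, 8, 2, 4, 6, 14, 0, 2, 4, 6, 8, 10, 12] .nil .nil) (.cons [6, 8, 2, 4, 6, 16, 18, 16, 12, 10, 6, 8, 4, 6, 16, 0, 2, 4, 6, 8, 10, 12, 14] (.cons [14, 6, 8, 4, 6, 14,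 16, 6, 14, 12, 8, 10, 6, 8, 2, 4, 6, 14, 0, 2, 4, 6, 8, 10, 12] (.cons [4, 0, 2, 8, 10, 12, 14] .nil .nil) .nil) (.cons [16, 6, 8, 4, 6, 16, 18, 16, 12, 10, 6, 8, 4, 6, 16, 0, 2, 4, 6, 8, 10, 12, 14] (.cons [10, 8, 6, 14, 8, 10, 12, 6, 8, 10, 4, 6, 8, 0, 2, 4, 6, 14, 16, 12, 10, 4, 6, 8, 2, 4, 6, 14, 0, 2, 4, 6, 8, 10, 12] (.cons [6, 12, 14, 8, 4, 2, 12, 6, 8, 4, 6, 2, 8, 10] .nil .nil) .nil) (.cons [12, 10, 8, 4, 6, 16, 18, 16, 12, 10, 6, 8, 4, 6, 16, 0, 2, 4, 6, 8, 10, 12, 14] (.cons [0, 2, 4, 6, 14, 16, 8, 6, 14, 10, 12, 8, 10, 4, 6, 8, 0, 2, 4, 6, 14, 16, 10, 6, 8, 2, 4, 6, 14, 0, 2, 4, 6, 8, 10, 12] (.cons [10, 8, 0, 2, 4, 6, 12, 14, 12, 10, 4, 6, 8, 10, 0, 12, 6, 4, 2, 4] .nil .nil) .nil) (.cons [10, 8,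 0, 2, 4, 6, 16, 18, 12, 10, 6, 8, 4, 6, 16, 0, 2, 4, 6, 8, 10, 12, 14] .nil (.cons [4, 6, 8, 2, 4, 6, 16, 18, 12, 10, 6, 8, 4, 6, 16, 0, 2, 4, 6, 8, 10, 12, 14] (.cons [8, 6, 14, 10, 12, 8, 10, 6, 8, 4, 6, 14, 16, 12, 10, 6, 8, 2, 4, 6, 14, 0, 2, 4, 6, 8, 10, 12] (.cons [14, 2, 12, 6, 8, 10, 4, 8, 6, 4, 2] .nil .nil) .nil) (.cons [8, 10, 6, 8, 4, 6, 16, 18, 12, 10, 6, 8, 4, 6, 16, 0, 2, 4, 6, 8, 10, 12, 14] (.cons [14, 10, 16, 8, 6, 4, 2, 0, 14, 10, 12, 8, 10, 6, 8, 4, 6, 14, 16, 8, 10, 6, 8, 4, 6, 14, 2, 4, 6, 8, 10, 12] (.cons [14, 4, 0, 2, 0, 4, 12, 6, 4, 2, 8, 10] .nil .nil) .nil) (.cons [12, 10, 6, 8, 4, 6, 16, 18, 12, 10, 6, 8, 4, 6, 16, 0, 2, 4, 6, 8, 10, 12, 14] (.cons [10, 8, 4, 6, 14, 16, 10, 8, 4,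 6, 14, 8, 10, 12, 6, 8, 10, 4, 6, 8, 2, 4, 6, 14, 16, 10, 4, 6, 8, 2, 4, 6, 14, 0, 2, 4, 6, 8, 10, 12] (.cons [0, 6, 8, 4, 2, 6, 4, 12, 6, 8, 10, 14, 12, 6, 4, 2, 12, 14] .nil .nil) .nil) (.cons [18, 16, 6, 8, 4, 6, 16, 18, 12, 10, 6, 8, 4, 6, 16, 0, 2, 4, 6, 8, 10, 12, 14] (.cons [6, 8, 2, 4, 6, 14, 16, 10, 8, 6, 14, 10, 12, 6, 8, 10, 4, 6, 8, 2, 4, 6, 14, 16, 14, 8, 10, 4, 6, 8, 2, 4, 6, 14, 0, 2, 4, 6, 8, 10, 12] (.cons [10, 14, 12, 6, 4, 14, 12] .nil .nil) .nil) (.cons [14, 12, 10, 8, 4, 6, 16, 18, 12, 10, 6, 8, 4, 6, 16, 0, 2, 4, 6, 8, 10, 12, 14] (.cons [16, 14, 4, 6, 8, 2, 4, 6, 14, 16, 10, 4, 6, 8, 2, 4, 6, 14, 0, 2, 4, 6, 8, 10, 12] (.cons [4, 6, 8, 12, 6, 4, 2, 14, 6, 8, 4, 6, 8, 10] .nil .nil) .nil)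 (.cons [8, 10, 6, 8, 4, 6, 16, 18, 16, 10, 6, 8, 4, 6, 16, 0, 2, 4, 6, 8, 10, 12, 14] (.cons [14, 16, 4, 6, 14, 8, 10, 12, 6, 8, 10, 4, 6, 8, 0, 2, 4, 6, 14, 16, 10, 4, 6, 8, 2, 4, 6, 14, 0, 2, 4, 6, 8, 10, 12] (.cons [6, 12, 6, 4, 2, 4, 14, 12] .nil .nil) .nil) (.cons [12, 10, 6, 8, 4, 6, 16, 18, 16, 10, 6, 8, 4, 6, 16, 0, 2, 4, 6, 8, 10, 12, 14] (.cons [8, 10, 2, 4, 6, 8, 0, 2, 4, 6, 14, 16, 12, 8, 10, 4, 6, 8, 2, 4, 6, 14, 0, 2, 4, 6, 8, 10, 12] (.cons [14, 8, 4, 2, 6, 10, 8] .nil .nil) .nil) (.cons [16, 10, 6, 8, 4, 6, 16, 18, 16, 10, 6, 8, 4, 6, 16, 0, 2, 4, 6, 8, 10, 12, 14] (.cons [16, 0, 2, 4, 6, 14, 8, 10, 6, 8, 2, 4, 6, 14, 16, 14, 12, 10, 4, 6, 8, 2, 4, 6, 14, 0, 2, 4, 6, 8, 10, 12] (.cons [12, 6,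 8, 4, 6, 2, 8, 10, 12, 14] .nil .nil) .nil) (.cons [12, 10, 8, 0, 2, 4, 6, 16, 18, 10, 6, 8, 4, 6, 16, 0, 2, 4, 6, 8, 10, 12, 14] (.cons [10, 6, 4, 8, 6, 14, 10, 12, 8, 10, 4, 6, 8, 0, 2, 4, 6, 14, 16, 10, 8, 2, 4, 6, 14, 0, 2, 4, 6, 8, 10, 12] (.cons [8, 0, 2, 4, 6, 12, 14, 4, 6, 8, 12, 6, 8, 10, 4, 6, 0, 2] .nil .nil) .nil) (.cons [10, 4, 6, 8, 2, 4, 6, 16, 18, 10, 6, 8, 4, 6, 16, 0, 2, 4, 6, 8, 10, 12, 14] (.cons [8, 4, 6, 14, 16, 10, 6, 8, 4, 6, 14, 8, 10, 12, 6, 8, 10, 4, 6, 8, 2, 4, 6, 14, 16, 10, 4, 6, 8, 2, 4, 6, 14, 0, 2, 4, 6, 8, 10, 12] (.cons [8, 6, 12, 14, 6, 8, 10, 4, 6, 2] .nil .nil) .nil) (.cons [16, 4, 6, 8, 2, 4, 6, 16, 18, 10, 6, 8, 4, 6, 16, 0, 2, 4, 6, 8, 10, 12, 14] (.cons [6, 4, 2, 6,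 8, 4, 6, 14, 10, 12, 8, 10, 6, 8, 4, 6, 14, 16, 12, 10, 4, 6, 8, 2, 4, 6, 14, 0, 2, 4, 6, 8, 10, 12] (.cons [4, 12, 6, 8, 10, 14, 12, 8, 6, 12, 14, 4, 6, 0, 2] .nil .nil) .nil) (.cons [14, 12, 10, 6, 8, 4, 6, 16, 18, 10, 6, 8, 4, 6, 16, 0, 2, 4, 6, 8, 10, 12, 14] (.cons [10, 8, 4, 6, 14, 10, 12, 8, 10, 4, 6, 8, 0, 2, 4, 6, 14, 16, 10, 4, 6, 8, 2, 4, 6, 14, 0, 2, 4, 6, 8, 10, 12] (.cons [2, 4, 10, 2, 12, 14, 12, 6, 4] .nil .nil) .nil) (.cons [16, 12, 10, 6, 8, 4, 6, 16, 18, 10, 6, 8, 4, 6, 16, 0, 2, 4, 6, 8, 10, 12, 14] (.cons [4, 6, 8, 0, 2, 12, 10, 14, 8, 6, 14, 16, 4, 6, 14, 8, 10, 12, 6, 8, 10, 4, 6, 8, 2, 4, 6, 14, 16, 6, 8, 4, 6, 14, 0, 2, 4, 6, 8, 10, 12] (.cons [8, 4, 2, 6, 12, 14, 4, 0, 2, 8, 6] .nil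 .nil) .nil) (.cons [18, 16, 10, 6, 8, 4, 6, 16, 18, 10, 6, 8, 4, 6, 16, 0, 2, 4, 6, 8, 10, 12, 14] (.cons [8, 6, 0, 4, 2, 0, 6, 14, 8, 10, 6, 8, 4, 6, 14, 16, 12, 8, 10, 6, 8, 4, 6, 14, 2, 4, 6, 8, 10, 12] (.cons [6, 12, 14, 12, 6, 8, 4, 10, 0, 2, 4, 8, 6] .nil .nil) .nil) (.cons [4, 6, 8, 0, 2, 4, 6, 16, 18, 16, 6, 8, 4, 6, 16, 0, 2, 4, 6, 8, 10, 12, 14] (.cons [6, 14, 8, 10, 6, 8, 0, 2, 4, 6, 14, 16, 14, 6, 8, 4, 6, 14, 0, 2, 4, 6, 8, 10, 12] .nil .nil) (.cons [12, 10, 8, 0, 2, 4, 6, 16, 18, 16, 6, 8, 4, 6, 16, 0, 2, 4, 6, 8, 10, 12, 14] (.cons [16, 8, 6, 14, 10, 4, 6, 8, 2, 4, 6, 14, 16, 14, 10, 4, 6, 8, 2, 4, 6, 14, 0, 2, 4, 6, 8, 10, 12] (.cons [2, 4, 6, 2, 8, 10, 6, 4, 12, 14] .nil .nil) .nil) (.cons [10,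 4, 6, 8, 2, 4, 6, 16, 18, 16, 6, 8, 4, 6, 16, 0, 2, 4, 6, 8, 10, 12, 14] .nil (.cons [16, 4, 6, 8, 2, 4, 6, 16, 18, 16, 6, 8, 4, 6, 16, 0, 2, 4, 6, 8, 10, 12, 14] (.cons [10, 14, 6, 8, 2, 4, 6, 14, 12, 8, 10, 4, 6, 8, 0, 2, 4, 6, 14, 16, 12, 10, 8, 2, 4, 6, 14, 0, 2, 4, 6, 8, 10, 12] (.cons [14, 8, 2, 4, 12, 6, 4, 0, 2, 8, 6, 10, 4] .nil .nil) .nil) (.cons [16, 10, 6, 8, 2, 4, 6, 16, 18, 16, 6, 8, 4, 6, 16, 0, 2, 4, 6, 8, 10, 12, 14] (.cons [8, 4, 6, 14, 16, 6, 8, 2, 4, 6, 14, 10, 12, 8, 10, 4, 6, 8, 2, 4, 6, 14, 16, 14, 8, 10, 4, 6, 8, 2, 4, 6, 14, 0, 2, 4, 6, 8, 10, 12] (.cons [0, 2, 4, 6, 12, 10, 8, 6, 4, 2, 4, 12, 14, 6, 8, 4, 6, 10] .nil .nil) .nil) (.cons [14, 12, 10, 8, 2, 4, 6, 16, 18, 16, 6, 8, 4, 6,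 16, 0, 2, 4, 6, 8, 10, 12, 14] (.cons [16, 6, 14, 12, 10, 8, 6, 4, 2, 14, 12, 8, 10, 6, 8, 4, 6, 14, 16, 12, 10, 6, 8, 4, 6, 14, 0, 2, 4, 6, 8, 10, 12] (.cons [8, 6, 12, 14, 6, 8, 10, 4, 6, 2, 4, 0, 2] .nil .nil) .nil) (.cons [12, 8, 10, 6, 8, 4, 6, 16, 18, 16, 6, 8, 4, 6, 16, 0, 2, 4, 6, 8, 10, 12, 14] (.cons [6, 14, 16, 4, 6, 14, 12, 8, 10, 4, 6, 8, 2, 4, 6, 14, 16, 14, 8, 10, 4, 6, 8, 2, 4, 6, 14, 0, 2, 4, 6, 8, 10, 12] (.cons [0, 6, 4, 12, 6, 2, 8, 10, 4, 6, 0, 2] .nil .nil) .nil) (.cons [16, 8, 10, 6, 8, 4, 6, 16, 18, 16, 6, 8, 4, 6, 16, 0, 2, 4, 6, 8, 10, 12, 14] (.cons [14, 10, 8, 6, 4, 2, 0, 14, 16, 10, 12, 8, 10, 6, 8, 4, 6, 14, 16, 12, 10, 6, 8, 4, 6, 14, 2, 4, 6, 8, 10, 12] (.cons [2, 0, 2, 4, 6,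 10, 12, 6, 8, 4, 2, 6, 10, 8] .nil .nil) .nil) (.cons [16, 12, 10, 6, 8, 4, 6, 16, 18, 16, 6, 8, 4, 6, 16, 0, 2, 4, 6, 8, 10, 12, 14] .nil (.cons [2, 4, 6, 8, 0, 2, 4, 6, 16, 18, 6, 8, 4, 6, 16, 0, 2, 4, 6, 8, 10, 12, 14] (.cons [16, 14, 12, 8, 10, 2, 4, 6, 8, 0, 2, 4, 6, 14, 16, 8, 10, 4, 6, 8, 2, 4, 6, 14, 0, 2, 4, 6, 8, 10, 12] (.cons [12, 8, 4, 14, 0, 2, 12, 6, 8, 10] .nil .nil) .nil) (.cons [8, 10, 4, 6, 8, 2, 4, 6, 16, 18, 6, 8, 4, 6, 16, 0, 2, 4, 6, 8, 10, 12, 14] (.cons [16, 14, 6, 8, 4, 6, 14, 10, 8, 6, 4, 2, 14, 12, 8, 10, 6, 8, 4, 6, 14, 16, 12, 10, 6, 8, 4, 6, 14, 0, 2, 4, 6, 8, 10, 12] .nil .nil) (.cons [12, 10, 4, 6, 8, 2, 4, 6, 16, 18, 6, 8, 4, 6, 16, 0, 2, 4, 6, 8, 10, 12, 14] (.cons [12, 10,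 8, 6, 14, 10, 12, 6, 8, 10, 4, 6, 8, 2, 4, 6, 14, 16, 12, 10, 4, 6, 8, 2, 4, 6, 14, 0, 2, 4, 6, 8, 10, 12] (.cons [4, 6, 12, 14, 8, 10, 6, 2, 4, 6, 0, 2] .nil .nil) .nil) (.cons [14, 12, 10, 6, 8, 2, 4, 6, 16, 18, 6, 8, 4, 6, 16, 0, 2, 4, 6, 8, 10, 12, 14] (.cons [10, 8, 4, 6, 14, 16, 12, 10, 8, 6, 10, 4, 0, 2, 6, 14, 8, 4, 6, 14, 10, 12, 8, 10, 6, 8, 4, 6, 14, 16, 8, 2, 4, 6, 14, 0, 2, 4, 6, 8, 10, 12] (.cons [12, 14, 6, 2] .nil .nil) .nil) (.cons [10, 12, 8, 10, 6, 8, 4, 6, 16, 18, 6, 8, 4, 6, 16, 0, 2, 4, 6, 8, 10, 12, 14] (.cons [8, 2, 4, 6, 14, 16, 14, 6, 8, 4, 6, 14, 10, 12, 8, 10, 4, 6, 8, 2, 4, 6, 14, 16, 12, 10, 6, 8, 2, 4, 6, 14, 0, 2, 4, 6, 8, 10, 12] (.cons [6, 12, 4, 2, 6, 8, 10, 14, 12] .nil .nil)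 .nil) (.cons [14, 12, 8, 10, 6, 8, 4, 6, 16, 18, 6, 8, 4, 6, 16, 0, 2, 4, 6, 8, 10, 12, 14] .nil (.cons [6, 8, 0, 2, 4, 6, 16, 18, 14, 12, 10, 8, 4, 6, 16, 0, 2, 4, 6, 8, 10, 12, 14] (.cons [4, 6, 14, 16, 12, 10, 6, 8, 4, 6, 14, 2, 4, 6, 8, 10, 12] (.cons [6, 12, 4, 6, 2, 8, 10, 12, 14] (.cons [2, 4, 2, 0, 0] .nil .nil) .nil) .nil) (.cons [12, 10, 8, 2, 4, 6, 16, 18, 14, 12, 10, 8, 4, 6, 16, 0, 2, 4, 6, 8, 10, 12, 14] (.cons [2, 0, 14, 6, 14, 8, 10, 6, 8, 4, 6, 14, 16, 12, 8, 10, 6, 8, 4, 6, 14, 2, 4, 6, 8, 10, 12] (.cons [6, 12, 4, 6, 12, 2, 4, 0, 2, 4, 6, 8, 10, 12, 14, 6, 4] .nil .nil) .nil) (.cons [10, 6, 8, 0, 2, 4, 6, 16, 18, 12, 10, 8, 4, 6, 16, 0, 2, 4, 6, 8, 10, 12, 14] (.cons [14, 16, 12, 10, 8, 4,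 6, 14, 8, 10, 4, 6, 8, 2, 4, 6, 14, 16, 12, 8, 10, 6, 8, 2, 4, 6, 14, 0, 2, 4, 6, 8, 10, 12] (.cons [2, 4, 6, 12, 14, 8, 6, 4, 6, 0, 2, 8, 10] .nil .nil) .nil) (.cons [10, 4, 6, 8, 2, 4, 6, 16, 18, 12, 10, 8, 4, 6, 16, 0, 2, 4, 6, 8, 10, 12, 14] (.cons [16, 6, 14, 6, 8, 10, 4, 6, 8, 2, 4, 6, 14, 16, 14, 10, 6, 8, 4, 6, 14, 0, 2, 4, 6, 8, 10, 12] (.cons [8, 12, 14, 6, 4, 2, 12, 14, 8, 6, 4, 12] .nil .nil) .nil) (.cons [16, 10, 6, 8, 2, 4, 6, 16, 18, 12, 10, 8, 4, 6, 16, 0, 2, 4, 6, 8, 10, 12, 14] (.cons [16, 6, 8, 10, 6, 14, 6, 4, 2, 8, 4, 6, 14, 10, 12, 8, 10, 6, 8, 4, 6, 14, 16, 8, 2, 4, 6, 14, 0, 2, 4, 6, 8, 10, 12] (.cons [12, 6, 8, 4, 6, 12, 14, 0, 6, 10, 8, 4, 12, 6, 4, 2, 4, 8, 10] .nil .nil) .nil) (.cons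 [14, 12, 10, 8, 2, 4, 6, 16, 18, 12, 10, 8, 4, 6, 16, 0, 2, 4, 6, 8, 10, 12, 14] (.cons [6, 14, 16, 12, 10, 8, 6, 14, 10, 12, 8, 10, 4, 6, 8, 2, 4, 6, 14, 16, 12, 10, 4, 6, 8, 2, 4, 6, 14, 0, 2, 4, 6, 8, 10, 12] (.cons [8, 6, 10, 12, 14, 4, 2, 0, 6, 4, 2, 8, 6] .nil .nil) .nil) (.cons [16, 8, 10, 6, 8, 4, 6, 16, 18, 12, 10, 8, 4, 6, 16, 0, 2, 4, 6, 8, 10, 12, 14] (.cons [10, 12, 6, 8, 10, 4, 6, 8, 2, 4, 6, 14, 0, 2, 4, 6, 8, 10, 12] (.cons [0, 2, 4, 6, 10, 8, 10, 2, 6, 12, 14, 0, 4, 8, 6, 4, 2] .nil .nil) .nil) (.cons [14, 12, 10, 6, 8, 4, 6, 16, 18, 12, 10, 8, 4, 6, 16, 0, 2, 4, 6, 8, 10, 12, 14] (.cons [10, 2, 4, 6, 8, 0, 2, 4, 6, 14, 16, 14, 10, 6, 8, 4, 6, 14, 10, 12, 8, 10, 4, 6, 8, 2, 4, 6, 14, 16, 12,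 10, 4, 6, 8, 2, 4, 6, 14, 0, 2, 4, 6, 8, 10, 12] (.cons [8, 6, 12, 14, 4, 0, 2, 8, 4, 6, 10] .nil .nil) .nil) (.cons [16, 12, 10, 6, 8, 4, 6, 16, 18, 12, 10, 8, 4, 6, 16, 0, 2, 4, 6, 8, 10, 12, 14] (.cons [0, 2, 4, 6, 14, 10, 12, 8, 10, 6, 8, 0, 2, 4, 6, 14, 16, 8, 10, 6, 8, 2, 4, 6, 14, 0, 2, 4, 6, 8, 10, 12] (.cons [6, 12, 8, 14, 0, 6, 4, 2, 12, 8, 6, 4, 12] .nil .nil) .nil) (.cons [12, 10, 4, 6, 8, 2, 4, 6, 16, 18, 10, 8, 4, 6, 16, 0, 2, 4, 6, 8, 10, 12, 14] (.cons [16, 4, 10, 6, 0, 2, 4, 6, 14, 8, 10, 12, 6, 8, 10, 4, 6, 8, 2, 4, 6, 14, 16, 14, 6, 8, 4, 6, 14, 0, 2, 4, 6, 8, 10, 12] .nil .nil) (.cons [16, 10, 4, 6, 8, 2, 4, 6, 16, 18, 10, 8, 4, 6, 16, 0, 2, 4, 6, 8, 10, 12, 14] (.cons [6, 14, 16, 10, 2,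 4, 6, 8, 14, 6, 4, 2, 0, 2, 16, 10, 12, 8, 10, 6, 8, 4, 6, 14, 16, 12, 10, 6, 8, 4, 6, 14, 2, 4, 6, 8, 10, 12] (.cons [2, 4, 6, 12, 14, 4, 6, 8, 10, 12, 6, 2, 4, 6, 2] .nil .nil) .nil) (.cons [18, 16, 12, 10, 6, 8, 4, 6, 16, 18, 10, 8, 4, 6, 16, 0, 2, 4, 6, 8, 10, 12, 14] (.cons [6, 8, 4, 6, 14, 10, 12, 8, 10, 6, 8, 2, 4, 6, 14, 16, 6, 8, 2, 4, 6, 14, 0, 2, 4, 6, 8, 10, 12] (.cons [12, 14, 2, 12, 6, 8, 10, 8] .nil .nil) .nil) (.cons [4, 6, 8, 0, 2, 4, 6, 16, 18, 14, 12, 10, 8, 6, 16, 0, 2, 4, 6, 8, 10, 12, 14] (.cons [10, 12, 8, 10, 6, 8, 2, 4, 6, 14, 0, 2, 4, 6, 8, 10, 12] .nil .nil) (.cons [10, 6, 8, 0, 2, 4, 6, 16, 18, 14, 12, 10, 8, 6, 16, 0, 2, 4, 6, 8, 10, 12, 14] (.cons [10, 6, 8, 4, 6, 14, 16, 14, 12,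 10, 6, 8, 4, 6, 14, 0, 2, 4, 6, 8, 10, 12] (.cons [8, 14, 12, 6, 4, 2, 6, 12, 14, 8, 4, 6, 10] .nil .nil) .nil) (.cons [8, 10, 6, 8, 2, 4, 6, 16, 18, 14, 12, 10, 8, 6, 16, 0, 2, 4, 6, 8, 10, 12, 14] (.cons [10, 8, 6, 14, 8, 10, 4, 6, 8, 2, 4, 6, 14, 16, 12, 8, 10, 6, 8, 2, 4, 6, 14, 0, 2, 4, 6, 8, 10, 12] .nil .nil) (.cons [12, 10, 6, 8, 2, 4, 6, 16, 18, 14, 12, 10, 8, 6, 16, 0, 2, 4, 6, 8, 10, 12, 14] .nil (.cons [16, 10, 4, 6, 8, 2, 4, 6, 16, 18, 12, 10, 8, 6, 16, 0, 2, 4, 6, 8, 10, 12, 14] (.cons [14, 6, 8, 10, 4, 6, 8, 2, 4, 6, 14, 16, 14, 12, 8, 10, 6, 8, 2, 4, 6, 14, 0, 2, 4, 6, 8, 10, 12] (.cons [10, 6, 4, 2, 12, 14, 12, 6, 4] .nil .nil) .nil) (.cons [16, 8, 10, 6, 8, 2, 4, 6, 16, 18, 12, 10, 8, 6, 16,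 0, 2, 4, 6, 8, 10, 12, 14] (.cons [16, 6, 14, 6, 8, 10, 4, 6, 8, 2, 4, 6, 14, 16, 12, 10, 6, 8, 4, 6, 14, 0, 2, 4, 6, 8, 10, 12] (.cons [4, 6, 4, 8, 10, 12, 6, 4, 12, 14] .nil .nil) .nil) (.cons [8, 6, 16, 4, 6, 8, 2, 4, 6, 16, 18, 10, 8, 6, 16, 0, 2, 4, 6, 8, 10, 12, 14] (.cons [16, 14, 6, 8, 10, 4, 6, 8, 2, 4, 6, 14, 16, 14, 8, 10, 4, 6, 8, 2, 4, 6, 14, 0, 2, 4, 6, 8, 10, 12] (.cons [8, 10, 6, 4, 12, 6, 8, 10, 6, 12, 14, 4, 2, 8, 6] .nil .nil) .nil) (.cons [6, 16, 18, 6, 16, 12, 14, 10, 12, 8, 10, 6, 8, 4, 6, 16, 2, 4, 6, 8, 10, 12, 14] (.cons [16, 14, 12, 8, 10, 6, 8, 2, 4, 6, 14, 16, 4, 6, 8, 2, 4, 6, 14, 0, 2, 4, 6, 8, 10, 12] (.cons [8, 6, 12, 8, 4, 6, 10, 4, 2, 12, 14] .nil .nil) .nil) (.cons [8, 6, 16,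 18, 16, 12, 14, 10, 12, 8, 10, 6, 8, 4, 6, 16, 2, 4, 6, 8, 10, 12, 14] .nil (.cons [2, 4, 6, 16, 18, 12, 14, 10, 12, 8, 10, 6, 8, 4, 6, 16, 2, 4, 6, 8, 10, 12, 14] (.cons [14, 16, 4, 6, 8, 2, 4, 6, 14, 10, 12, 6, 8, 10, 4, 6, 8, 2, 4, 6, 14, 16, 10, 6, 8, 2, 4, 6, 14, 0, 2, 4, 6, 8, 10, 12] (.cons [2, 4, 6, 12, 14, 4, 6, 8, 0, 4, 12, 6, 4, 2, 8, 10] .nil .nil) .nil) (.cons [10, 8, 6, 16, 18, 12, 14, 10, 12, 8, 10, 6, 8, 4, 6, 16, 2, 4, 6, 8, 10, 12, 14] (.cons [8, 4, 6, 14, 10, 12, 8, 10, 6, 8, 4, 6, 14, 16, 4, 6, 8, 2, 4, 6, 14, 0, 2, 4, 6, 8, 10, 12] (.cons [14, 12, 6, 8, 4, 6, 12, 14, 6, 2, 8, 10, 4, 6, 0, 2] .nil .nil) .nil) (.cons [18, 6, 8, 4, 6, 16, 14, 10, 12, 8, 10, 6, 8, 4, 6, 16, 2, 4, 6, 8, 10, 12,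 14] (.cons [6, 14, 8, 10, 6, 8, 2, 4, 6, 14, 16, 6, 14, 12, 10, 4, 6, 8, 2, 4, 6, 14, 0, 2, 4, 6, 8, 10, 12] .nil .nil) (.cons [8, 6, 16, 18, 6, 16, 14, 10, 12, 8, 10, 6, 8, 4, 6, 16, 2, 4, 6, 8, 10, 12, 14] (.cons [16, 14, 10, 4, 6, 8, 0, 2, 4, 6, 14, 16, 14, 12, 10, 6, 8, 2, 4, 6, 14, 0, 2, 4, 6, 8, 10, 12] (.cons [4, 2, 14, 8, 10, 12, 6, 4] .nil .nil) .nil) (.cons [10, 8, 6, 16, 18, 16, 14, 10, 12, 8, 10, 6, 8, 4, 6, 16, 2, 4, 6, 8, 10, 12, 14] (.cons [14, 16, 6, 14, 8, 10, 4, 6, 8, 0, 2, 4, 6, 14, 16, 12, 8, 10, 4, 6, 8, 2, 4, 6, 14, 0, 2, 4, 6, 8, 10, 12] .nil .nil) (.cons [10, 8, 4, 6, 16, 18, 14, 10, 12, 8, 10, 6, 8, 4, 6, 16, 2, 4, 6, 8, 10, 12, 14] (.cons [6, 14, 2, 4, 6, 8, 0, 2, 4, 6, 14, 16, 12,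 6, 8, 10, 4, 6, 8, 2, 4, 6, 14, 0, 2, 4, 6, 8, 10, 12] (.cons [2, 4, 6, 12, 4, 14, 0, 2, 12, 6, 8, 10] .nil .nil) .nil) (.cons [10, 8, 6, 16, 18, 6, 16, 10, 12, 8, 10, 6, 8, 4, 6, 16, 2, 4, 6, 8, 10, 12, 14] (.cons [14, 16, 12, 10, 6, 8, 4, 6, 14, 10, 12, 8, 10, 4, 6, 8, 2, 4, 6, 14, 16, 10, 6, 8, 2, 4, 6, 14, 0, 2, 4, 6, 8, 10, 12] (.cons [4, 6, 12, 14, 10, 8, 2, 4, 6, 4, 0, 2, 8, 4, 6, 8, 10] .nil .nil) .nil) (.cons [16, 6, 8, 4, 6, 16, 18, 10, 12, 8, 10, 6, 8, 4, 6, 16, 2, 4, 6, 8, 10, 12, 14] (.cons [14, 16, 4, 6, 14, 8, 10, 6, 8, 4, 6, 14, 16, 12, 8, 10, 6, 8, 2, 4, 6, 14, 0, 2, 4, 6, 8, 10, 12] (.cons [2, 4, 0, 2, 4, 12, 6, 8, 4, 6, 10] (.cons [0, 5, 0, 2, 1] .nil .nil) .nil) .nil) (.cons [12, 10, 8, 4,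 6, 16, 18, 10, 12, 8, 10, 6, 8, 4, 6, 16, 2, 4, 6, 8, 10, 12, 14] (.cons [8, 0, 2, 4, 6, 14, 16, 6, 8, 10, 14, 6, 8, 2, 4, 6, 14, 12, 8, 10, 6, 8, 0, 2, 4, 6, 14, 16, 12, 10, 8, 2, 4, 6, 14, 0, 2, 4, 6, 8, 10, 12] (.cons [4, 12, 6, 8, 12, 2, 4, 6, 12, 2, 8, 4, 6, 10, 0, 2, 12, 14] .nil .nil) .nil) (.cons [6, 8, 4, 6, 16, 18, 16, 14, 12, 8, 10, 6, 8, 4, 6, 16, 2, 4, 6, 8, 10, 12, 14] (.cons [10, 8, 2, 4, 6, 14, 16, 12, 10, 8, 4, 6, 14, 2, 4, 6, 8, 10, 12] (.cons [0, 2, 4, 6, 12, 14, 6, 8, 10, 12, 6, 4, 6, 0, 2] .nil .nil) .nil) (.cons [10, 8, 4, 6, 16, 18, 16, 14, 12, 8, 10, 6, 8, 4, 6, 16, 2, 4, 6, 8, 10, 12, 14] (.cons [2, 4, 6, 8, 0, 2, 4, 6, 14, 16, 6, 14, 12, 10, 4, 6, 8, 2, 4, 6, 14, 0, 2, 4, 6, 8, 10,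 12] (.cons [2, 4, 6, 12, 14, 0, 12, 4, 2, 6, 8, 10, 12] .nil .nil) .nil) (.cons [10, 6, 8, 4, 6, 16, 18, 14, 12, 8, 10, 6, 8, 4, 6, 16, 2, 4, 6, 8, 10, 12, 14] (.cons [14, 16, 2, 4, 6, 14, 8, 10, 4, 6, 8, 0, 2, 4, 6, 14, 16, 12, 10, 8, 2, 4, 6, 14, 0, 2, 4, 6, 8, 10, 12] .nil .nil) (.cons [16, 6, 8, 4, 6, 16, 18, 14, 12, 8, 10, 6, 8, 4, 6, 16, 2, 4, 6, 8, 10, 12, 14] (.cons [8, 2, 4, 6, 14, 16, 12, 10, 8, 2, 4, 6, 14, 0, 2, 4, 6, 8, 10, 12] (.cons [0, 2, 4, 6, 14, 12, 6, 8, 10, 4, 6, 2, 4, 0, 2, 12, 14] .nil .nil) .nil) (.cons [14, 12, 10, 8, 6, 16, 18, 14, 12, 8, 10, 6, 8, 4, 6, 16, 2, 4, 6, 8, 10, 12, 14] (.cons [14, 16, 10, 8, 6, 14, 10, 12, 8, 10, 4, 6, 8, 2, 4, 6, 14, 16, 14, 12, 8, 10, 4, 6, 8, 2, 4, 6,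 14, 0, 2, 4, 6, 8, 10, 12] (.cons [14, 10, 0, 8, 6, 4, 2, 12, 6, 4, 14, 12] (.cons [5, 0, 3, 3, 0] .nil .nil) .nil) .nil) (.cons [12, 10, 8, 6, 16, 18, 6, 16, 12, 8, 10, 6, 8, 4, 6, 16, 2, 4, 6, 8, 10, 12, 14] (.cons [14, 10, 12, 8, 10, 6, 8, 2, 4, 6, 14, 16, 6, 14, 12, 10, 4, 6, 8, 2, 4, 6, 14, 0, 2, 4, 6, 8, 10, 12] (.cons [12, 8, 6, 2, 4, 8, 10, 0, 2, 4, 6, 12, 14] .nil .nil) .nil) (.cons [16, 6, 8, 2, 4, 6, 16, 18, 12, 8, 10, 6, 8, 4, 6, 16, 2, 4, 6, 8, 10, 12, 14] (.cons [2, 4, 6, 14, 16, 12, 10, 6, 8, 2, 4, 6, 14, 10, 12, 8, 10, 4, 6, 8, 2, 4, 6, 14, 16, 10, 4, 6, 8, 2, 4, 6, 14, 0, 2, 4, 6, 8, 10, 12] .nil .nil) (.cons [8, 10, 6, 8, 4, 6, 16, 18, 12, 8, 10, 6, 8, 4, 6, 16, 2, 4, 6, 8, 10, 12, 14] (.cons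 [14, 16, 6, 14, 12, 8, 10, 4, 6, 8, 2, 4, 6, 14, 16, 14, 10, 4, 6, 8, 2, 4, 6, 14, 0, 2, 4, 6, 8, 10, 12] (.cons [8, 6, 12, 14, 2, 8, 10, 4, 6, 0, 2] .nil .nil) .nil) (.cons [14, 12, 10, 8, 6, 16, 18, 6, 16, 8, 10, 6, 8, 4, 6, 16, 2, 4, 6, 8, 10, 12, 14] (.cons [4, 6, 14, 16, 12, 6, 8, 10, 14, 6, 8, 4, 6, 14, 10, 12, 8, 10, 6, 8, 0, 2, 4, 6, 14, 16, 12, 10, 8, 2, 4, 6, 14, 0, 2, 4, 6, 8, 10, 12] (.cons [10, 4, 6, 0, 12, 4, 2, 14, 6, 8, 4, 6, 12, 14, 10, 8, 6, 4, 2, 8, 10] (.cons [5, 1, 3, 3, 0] .nil .nil) .nil) .nil) (.cons [12, 10, 6, 8, 4, 6, 16, 18, 16, 8, 10, 6, 8, 4, 6, 16, 2, 4, 6, 8, 10, 12, 14] (.cons [2, 4, 6, 8, 0, 2, 4, 6, 14, 16, 14, 10, 6, 8, 2, 4, 6, 14, 10, 12, 8, 10, 4, 6, 8, 2, 4, 6, 14, 16,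 8, 10, 6, 8, 2, 4, 6, 14, 0, 2, 4, 6, 8, 10, 12] (.cons [0, 2, 4, 6, 12, 10, 8, 4, 6, 4, 0, 2, 8, 10, 12, 14] (.cons [5, 5, 2, 0, 4] .nil .nil) .nil) .nil) (.cons [16, 10, 6, 8, 2, 4, 6, 16, 18, 8, 10, 6, 8, 4, 6, 16, 2, 4, 6, 8, 10, 12, 14] (.cons [6, 14, 8, 10, 4, 6, 8, 2, 4, 6, 14, 16, 14, 12, 10, 6, 8, 2, 4, 6, 14, 0, 2, 4, 6, 8, 10, 12] (.cons [10, 6, 8, 4, 12, 6, 8, 10] .nil .nil) .nil) (.cons [12, 8, 10, 6, 8, 4, 6, 16, 18, 8, 10, 6, 8, 4, 6, 16, 2, 4, 6, 8, 10, 12, 14] (.cons [16, 2, 4, 6, 14, 10, 12, 8, 10, 6, 8, 0, 2, 4, 6, 14, 16, 14, 12, 10, 6, 8, 2, 4, 6, 14, 0, 2, 4, 6, 8, 10, 12] (.cons [2, 4, 6, 4, 0, 2, 8, 4, 6, 8, 10] (.cons [1, 3, 0, 0, 4, 0] .nil .nil) .nil) .nil) (.cons [16, 12, 10, 6, 8,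 4, 6, 16, 18, 8, 10, 6, 8, 4, 6, 16, 2, 4, 6, 8, 10, 12, 14] (.cons [0, 2, 4, 6, 14, 16, 14, 12, 10, 4, 6, 8, 2, 4, 6, 14, 0, 2, 4, 6, 8, 10, 12] .nil .nil) (.cons [10, 8, 2, 4, 6, 16, 18, 16, 14, 12, 10, 6, 8, 4, 6, 16, 2, 4, 6, 8, 10, 12, 14] .nil (.cons [10, 6, 8, 4, 6, 16, 18, 16, 14, 12, 10, 6, 8, 4, 6, 16, 2, 4, 6, 8, 10, 12, 14] .nil (.cons [12, 10, 8, 4, 6, 16, 18, 16, 14, 12, 10, 6, 8, 4, 6, 16, 2, 4, 6, 8, 10, 12, 14] (.cons [16, 14, 10, 6, 8, 4, 6, 14, 16, 12, 6, 8, 10, 4, 6, 8, 2, 4, 6, 14, 0, 2, 4, 6, 8, 10, 12] .nil .nil) (.cons [6, 8, 0, 2, 4, 6, 16, 18, 14, 12, 10, 6, 8, 4, 6, 16, 2, 4, 6, 8, 10, 12, 14] (.cons [16, 14, 8, 10, 2, 4, 6, 8, 0, 2, 4, 6, 14, 16, 12, 10, 4, 6, 8, 2, 4, 6, 14, 0, 2,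 4, 6, 8, 10, 12] (.cons [12, 14, 4, 12, 10, 8, 6, 4, 0, 2, 4, 8, 10] .nil .nil) .nil) (.cons [10, 8, 0, 2, 4, 6, 16, 18, 14, 12, 10, 6, 8, 4, 6, 16, 2, 4, 6, 8, 10, 12, 14] (.cons [6, 8, 10, 4, 6, 8, 0, 2, 4, 6, 14, 16, 12, 10, 6, 8, 4, 6, 14, 0, 2, 4, 6, 8, 10, 12] (.cons [14, 8, 2, 0, 12, 6, 8, 4, 6, 2, 8, 10] .nil .nil) .nil) (.cons [12, 10, 8, 2, 4, 6, 16, 18, 14, 12, 10, 6, 8, 4, 6, 16, 2, 4, 6, 8, 10, 12, 14] (.cons [16, 6, 14, 12, 8, 10, 6, 8, 0, 2, 4, 6, 14, 16, 8, 10, 6, 8, 2, 4, 6, 14, 0, 2, 4, 6, 8, 10, 12] (.cons [2, 4, 0, 2, 4, 8, 10, 12, 6, 4] .nil .nil) .nil) (.cons [8, 10, 6, 8, 4, 6, 16, 18, 14, 12, 10, 6, 8, 4, 6, 16, 2, 4, 6, 8, 10, 12, 14] (.cons [4, 6, 14, 16, 2, 4, 6, 14, 8, 10, 6, 8, 4,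 6, 14, 16, 12, 10, 8, 2, 4, 6, 14, 0, 2, 4, 6, 8, 10, 12] (.cons [6, 0, 2, 4, 8, 10, 14, 12, 6, 8, 10, 4, 6, 12, 14, 8, 6, 4, 2] .nil .nil) .nil) (.cons [14, 12, 10, 8, 4, 6, 16, 18, 14, 12, 10, 6, 8, 4, 6, 16, 2, 4, 6, 8, 10, 12, 14] (.cons [14, 16, 4, 6, 14, 8, 10, 6, 8, 2, 4, 6, 14, 16, 14, 12, 10, 4, 6, 8, 2, 4, 6, 14, 0, 2, 4, 6, 8, 10, 12] (.cons [6, 12, 10, 8, 6, 10, 2, 4, 0, 2, 12, 14, 6, 4] .nil .nil) .nil) (.cons [10, 6, 8, 2, 4, 6, 16, 18, 16, 12, 10, 6, 8, 4, 6, 16, 2, 4, 6, 8, 10, 12, 14] (.cons [8, 6, 14, 16, 10, 4, 6, 8, 2, 4, 6, 14, 10, 12, 6, 8, 10, 4, 6, 8, 2, 4, 6, 14, 16, 10, 6, 8, 2, 4, 6, 14, 0, 2, 4, 6, 8, 10, 12] (.cons [8, 6, 12, 14, 8, 4, 6, 4, 0, 2, 4, 6, 8, 10] .nil .nil) .nil) (.cons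 [12, 10, 8, 2, 4, 6, 16, 18, 16, 12, 10, 6, 8, 4, 6, 16, 2, 4, 6, 8, 10, 12, 14] .nil (.cons [8, 10, 6, 8, 4, 6, 16, 18, 16, 12, 10, 6, 8, 4, 6, 16, 2, 4, 6, 8, 10, 12, 14] .nil (.cons [8, 10, 6, 8, 2, 4, 6, 16, 18, 12, 10, 6, 8, 4, 6, 16, 2, 4, 6, 8, 10, 12, 14] (.cons [10, 8, 4, 6, 14, 16, 12, 8, 10, 6, 8, 4, 6, 14, 0, 2, 4, 6, 8, 10, 12] (.cons [10, 0, 14, 2, 0, 4, 12, 2, 6, 8, 10, 12, 6, 8] .nil .nil) .nil) (.cons [12, 10, 6, 8, 2, 4, 6, 16, 18, 12, 10, 6, 8, 4, 6, 16, 2, 4, 6, 8, 10, 12, 14] (.cons [6, 8, 2, 4, 6, 14, 16, 14, 8, 10, 6, 8, 2, 4, 6, 14, 0, 2, 4, 6, 8, 10, 12] (.cons [6, 8, 0, 2, 4, 6, 12, 14, 10, 0, 4, 2, 4, 0, 6, 8, 10, 12, 6, 4, 2] .nil .nil) .nil) (.cons [14, 12, 10, 8, 2, 4, 6, 16, 18,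 12, 10, 6, 8, 4, 6, 16, 2, 4, 6, 8, 10, 12, 14] (.cons [6, 8, 0, 2, 4, 6, 14, 10, 12, 8, 10, 6, 8, 2, 4, 6, 14, 16, 12, 10, 8, 2, 4, 6, 14, 0, 2, 4, 6, 8, 10, 12] .nil .nil) (.cons [12, 8, 10, 6, 8, 4, 6, 16, 18, 12, 10, 6, 8, 4, 6, 16, 2, 4, 6, 8, 10, 12, 14] (.cons [4, 6, 14, 10, 12, 8, 10, 6, 8, 2, 4, 6, 14, 16, 4, 6, 8, 2, 4, 6, 14, 0, 2, 4, 6, 8, 10, 12] (.cons [6, 14, 12, 6, 4, 2, 6, 8, 10, 12, 14, 6, 4] .nil .nil) .nil) (.cons [14, 12, 10, 6, 8, 4, 6, 16, 18, 12, 10, 6, 8, 4, 6, 16, 2, 4, 6, 8, 10, 12, 14] (.cons [0, 2, 8, 10, 12, 6, 14, 8, 10, 6, 8, 4, 6, 14, 16, 12, 8, 10, 6, 8, 4, 6, 14, 2, 4, 6, 8, 10, 12] .nil .nil) (.cons [8, 10, 6, 8, 2, 4, 6, 16, 18, 16, 10, 6, 8, 4, 6, 16, 2, 4, 6, 8, 10, 12,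 14] (.cons [0, 2, 4, 6, 14, 16, 6, 8, 4, 6, 14, 10, 12, 6, 8, 10, 4, 6, 8, 2, 4, 6, 14, 16, 10, 4, 6, 8, 2, 4, 6, 14, 0, 2, 4, 6, 8, 10, 12] .nil .nil) (.cons [12, 10, 6, 8, 2, 4, 6, 16, 18, 16, 10, 6, 8, 4, 6, 16, 2, 4, 6, 8, 10, 12, 14] (.cons [4, 6, 14, 16, 10, 8, 6, 8, 10, 4, 0, 2, 6, 14, 8, 4, 6, 14, 10, 12, 8, 10, 6, 8, 4, 6, 14, 16, 8, 2, 4, 6, 14, 0, 2, 4, 6, 8, 10, 12] .nil .nil) (.cons [14, 12, 10, 8, 2, 4, 6, 16, 18, 16, 10, 6, 8, 4, 6, 16, 2, 4, 6, 8, 10, 12, 14] .nil (.cons [12, 8, 10, 6, 8, 4, 6, 16, 18, 16, 10, 6, 8, 4, 6, 16, 2, 4, 6, 8, 10, 12, 14] (.cons [4, 6, 8, 2, 4, 6, 14, 16, 10, 6, 8, 4, 6, 14, 0, 2, 4, 6, 8, 10, 12] .nil .nil) (.cons [16, 8, 10, 6, 8, 4, 6, 16, 18, 16, 10, 6, 8, 4, 6,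 16, 2, 4, 6, 8, 10, 12, 14] (.cons [16, 14, 10, 12, 8, 10, 4, 6, 8, 2, 4, 6, 14, 16, 14, 10, 6, 8, 2, 4, 6, 14, 0, 2, 4, 6, 8, 10, 12] (.cons [8, 6, 12, 14, 10, 8, 6, 4, 2, 4, 8, 10] .nil .nil) .nil) (.cons [12, 10, 6, 8, 0, 2, 4, 6, 16, 18, 10, 6, 8, 4, 6, 16, 2, 4, 6, 8, 10, 12, 14] (.cons [6, 14, 16, 2, 4, 6, 14, 12, 8, 10, 6, 8, 0, 2, 4, 6, 14, 16, 8, 2, 4, 6, 14, 0, 2, 4, 6, 8, 10, 12] (.cons [8, 0, 2, 10, 12, 14, 8] .nil .nil) .nil) (.cons [14, 12, 10, 8, 0, 2, 4, 6, 16, 18, 10, 6, 8, 4, 6, 16, 2, 4, 6, 8, 10, 12, 14] (.cons [10, 8, 4, 6, 14, 16, 6, 8, 4, 6, 14, 12, 10, 8, 6, 4, 2, 14, 10, 12, 8, 10, 6, 8, 4, 6, 14, 16, 10, 6, 8, 4, 6, 14, 0, 2, 4, 6, 8, 10, 12] (.cons [10, 4, 6, 0, 2, 4, 12, 6, 8, 10,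 14, 4, 6, 12, 14, 8, 6, 4, 2] .nil .nil) .nil) (.cons [14, 12, 8, 10, 6, 8, 4, 6, 16, 18, 10, 6, 8, 4, 6, 16, 2, 4, 6, 8, 10, 12, 14] (.cons [8, 4, 6, 8, 2, 4, 6, 14, 8, 10, 12, 6, 8, 10, 4, 6, 8, 2, 4, 6, 14, 16, 6, 8, 2, 4, 6, 14, 0, 2, 4, 6, 8, 10, 12] (.cons [4, 6, 0, 2, 8, 10, 6, 8, 12] .nil .nil) .nil) (.cons [16, 12, 8, 10, 6, 8, 4, 6, 16, 18, 10, 6, 8, 4, 6, 16, 2, 4, 6, 8, 10, 12, 14] (.cons [4, 6, 14, 6, 8, 10, 4, 6, 8, 0, 2, 4, 6, 14, 16, 14, 12, 10, 4, 6, 8, 2, 4, 6, 14, 0, 2, 4, 6, 8, 10, 12] (.cons [0, 2, 4, 6, 12, 14, 8, 6, 8, 10, 4, 6, 0, 2] .nil .nil) .nil) (.cons [10, 4, 6, 8, 0, 2, 4, 6, 16, 18, 16, 6, 8, 4, 6, 16, 2, 4, 6, 8, 10, 12, 14] (.cons [14, 16, 8, 6, 10, 8, 4, 6, 14, 10, 12, 8, 10,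 4, 6, 8, 0, 2, 4, 6, 14, 16, 12, 10, 8, 2, 4, 6, 14, 0, 2, 4, 6, 8, 10, 12] (.cons [2, 8, 6, 4, 10, 8, 6, 12, 14, 2, 4, 6, 8, 10, 12, 6, 4, 2, 4] .nil .nil) .nil) (.cons [8, 10, 6, 8, 0, 2, 4, 6, 16, 18, 16, 6, 8, 4, 6, 16, 2, 4, 6, 8, 10, 12, 14] (.cons [2, 4, 6, 14, 10, 12, 8, 10, 6, 8, 2, 4, 6, 14, 16, 12, 10, 6, 8, 2, 4, 6, 14, 0, 2, 4, 6, 8, 10, 12] (.cons [8, 6, 12, 14, 10, 8, 4, 12, 6, 4, 0, 2, 8, 6, 10, 4] .nil .nil) .nil) (.cons [16, 10, 6, 8, 0, 2, 4, 6, 16, 18, 16, 6, 8, 4, 6, 16, 2, 4, 6, 8, 10, 12, 14] (.cons [6, 8, 0, 2, 4, 6, 14, 16, 14, 10, 6, 8, 4, 6, 14, 10, 12, 8, 10, 4, 6, 8, 2, 4, 6, 14, 16, 14, 12, 10, 6, 8, 2, 4, 6, 14, 0, 2, 4, 6, 8, 10, 12] (.cons [10, 8, 10, 0, 12, 6, 4, 2, 4] .nil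 .nil) .nil) (.cons [14, 12, 10, 8, 0, 2, 4, 6, 16, 18, 16, 6, 8, 4, 6, 16, 2, 4, 6, 8, 10, 12, 14] (.cons [0, 2, 4, 6, 14, 16, 8, 10, 6, 0, 2, 4, 6, 14, 8, 10, 12, 6, 8, 10, 4, 6, 8, 2, 4, 6, 14, 16, 14, 6, 8, 4, 6, 14, 0, 2, 4, 6, 8, 10, 12] (.cons [14, 2, 4, 0, 2, 6, 8, 10, 8, 12] .nil .nil) .nil) (.cons [8, 10, 4, 6, 8, 2, 4, 6, 16, 18, 16, 6, 8, 4, 6, 16, 2, 4, 6, 8, 10, 12, 14] (.cons [14, 10, 8, 6, 4, 2, 0, 14, 12, 8, 10, 6, 8, 4, 6, 14, 16, 12, 8, 10, 6, 8, 4, 6, 14, 2, 4, 6, 8, 10, 12] (.cons [6, 12, 8, 6, 4, 2, 6, 8, 10, 12] .nil .nil) .nil) (.cons [12, 10, 4, 6, 8, 2, 4, 6, 16, 18, 16, 6, 8, 4, 6, 16, 2, 4, 6, 8, 10, 12, 14] (.cons [2, 6, 14, 6, 16, 8, 4, 6, 14, 10, 12, 8, 10, 6, 8, 4, 6, 14, 16, 14,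 6, 8, 2, 4, 6, 14, 0, 2, 4, 6, 8, 10, 12] (.cons [4, 6, 0, 2, 10, 12, 14, 8, 6, 8, 10] .nil .nil) .nil) (.cons [16, 10, 4, 6, 8, 2, 4, 6, 16, 18, 16, 6, 8, 4, 6, 16, 2, 4, 6, 8, 10, 12, 14] (.cons [16, 14, 6, 4, 0, 2, 0, 6, 14, 10, 12, 8, 10, 6, 8, 4, 6, 14, 16, 8, 10, 6, 8, 4, 6, 14, 2, 4, 6, 8, 10, 12] (.cons [0, 2, 14, 12, 6, 4, 8, 6, 12, 14, 2, 4, 6, 8, 10, 12, 6, 4, 2, 4] .nil .nil) .nil) (.cons [16, 8, 10, 6, 8, 2, 4, 6, 16, 18, 16, 6, 8, 4, 6, 16, 2, 4, 6, 8, 10, 12, 14] (.cons [12, 10, 8, 2, 4, 6, 14, 16, 6, 8, 10, 14, 6, 2, 4, 6, 14, 8, 10, 12, 6, 8, 10, 4, 6, 8, 0, 2, 4, 6, 14, 16, 6, 8, 4, 6, 14, 0, 2, 4, 6, 8, 10, 12] (.cons [6, 4, 2, 12, 14, 6, 4] .nil .nil) .nil) (.cons [16, 12, 10, 6, 8, 2, 4,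 6, 16, 18, 16, 6, 8, 4, 6, 16, 2, 4, 6, 8, 10, 12, 14] (.cons [8, 4, 6, 14, 16, 6, 8, 4, 6, 14, 8, 10, 12, 6, 8, 10, 4, 6, 8, 2, 4, 6, 14, 16, 8, 10, 4, 6, 8, 2, 4, 6, 14, 0, 2, 4, 6, 8, 10, 12] (.cons [12, 14, 4, 12, 6, 8, 0, 2, 10, 4, 0, 2, 8, 6] .nil .nil) .nil) (.cons [16, 12, 8, 10, 6, 8, 4, 6, 16, 18, 16, 6, 8, 4, 6, 16, 2, 4, 6, 8, 10, 12, 14] .nil (.cons [6, 16, 8, 10, 6, 8, 4, 6, 16, 18, 16, 6, 8, 4, 6, 16, 2, 4, 6, 8, 10, 12, 14] (.cons [8, 2, 4, 6, 14, 16, 6, 8, 4, 6, 14, 10, 12, 8, 10, 4, 6, 8, 2, 4, 6, 14, 16, 14, 8, 10, 4, 6, 8, 2, 4, 6, 14, 0, 2, 4, 6, 8, 10, 12] .nil .nil) (.cons [8, 10, 4, 6, 8, 0, 2, 4, 6, 16, 18, 6, 8, 4, 6, 16, 2, 4, 6, 8, 10, 12, 14] (.cons [14, 0, 2, 12, 4, 6, 8, 10, 16,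 14, 8, 6, 14, 16, 4, 6, 14, 8, 10, 12, 6, 8, 10, 4, 6, 8, 2, 4, 6, 14, 16, 6, 8, 4, 6, 14, 0, 2, 4, 6, 8, 10, 12] (.cons [2, 6, 12, 14, 4, 12, 6, 4, 2, 8, 10] .nil .nil) .nil) (.cons [12, 8, 10, 4, 6, 8, 2, 4, 6, 16, 18, 6, 8, 4, 6, 16, 2, 4, 6, 8, 10, 12, 14] (.cons [0, 2, 4, 6, 14, 8, 10, 12, 6, 8, 10, 4, 6, 8, 0, 2, 4, 6, 14, 16, 6, 8, 4, 6, 14, 0, 2, 4, 6, 8, 10, 12] .nil .nil) (.cons [14, 12, 10, 4, 6, 8, 2, 4, 6, 16, 18, 6, 8, 4, 6, 16, 2, 4, 6, 8, 10, 12, 14] (.cons [6, 14, 16, 10, 8, 6, 12, 10, 4, 0, 2, 6, 14, 8, 4, 6, 14, 10, 12, 8, 10, 6, 8, 4, 6, 14, 16, 8, 2, 4, 6, 14, 0, 2, 4, 6, 8, 10, 12] (.cons [10, 8, 0, 2, 4, 6, 12, 14, 10, 4, 6, 8, 10, 12, 6, 4, 2, 4] .nil .nil) .nil) (.cons [14, 10, 12, 8,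 10, 6, 8, 4, 6, 16, 18, 6, 8, 4, 6, 16, 2, 4, 6, 8, 10, 12, 14] (.cons [8, 4, 6, 14, 16, 8, 10, 4, 6, 8, 2, 4, 6, 14, 0, 2, 4, 6, 8, 10, 12] (.cons [8, 4, 6, 12, 14, 8, 10, 12, 6, 4, 6, 0, 2] .nil .nil) .nil) (.cons [12, 10, 6, 8, 2, 4, 6, 16, 18, 14, 12, 10, 8, 4, 6, 16, 2, 4, 6, 8, 10, 12, 14] (.cons [8, 6, 14, 10, 12, 8, 10, 6, 8, 4, 6, 14, 16, 14, 8, 10, 4, 6, 8, 2, 4, 6, 14, 0, 2, 4, 6, 8, 10, 12] (.cons [8, 6, 2, 4, 2, 6, 12, 14, 4, 6, 8, 6, 10, 4] .nil .nil) .nil) (.cons [14, 12, 10, 8, 2, 4, 6, 16, 18, 14, 12, 10, 8, 4, 6, 16, 2, 4, 6, 8, 10, 12, 14] (.cons [10, 8, 4, 6, 14, 8, 10, 4, 6, 8, 2, 4, 6, 14, 16, 10, 4, 6, 8, 2, 4, 6, 14, 0, 2, 4, 6, 8, 10, 12] (.cons [4, 2, 6, 4, 12, 14, 12, 6, 4] .nil .nil)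 .nil) (.cons [16, 8, 10, 6, 8, 4, 6, 16, 18, 14, 12, 10, 8, 4, 6, 16, 2, 4, 6, 8, 10, 12, 14] (.cons [4, 6, 14, 2, 4, 6, 8, 0, 2, 4, 6, 14, 16, 12, 6, 8, 10, 4, 6, 8, 2, 4, 6, 14, 0, 2, 4, 6, 8, 10, 12] (.cons [8, 6, 4, 2, 10, 8, 4, 6, 12, 14, 8, 6, 4, 12] (.cons [2, 0, 3] .nil .nil) .nil) .nil) (.cons [14, 12, 10, 6, 8, 4, 6, 16, 18, 14, 12, 10, 8, 4, 6, 16, 2, 4, 6, 8, 10, 12, 14] (.cons [16, 6, 14, 10, 12, 8, 10, 6, 8, 2, 4, 6, 14, 16, 14, 10, 6, 8, 2, 4, 6, 14, 0, 2, 4, 6, 8, 10, 12] (.cons [12, 14, 2, 4, 2, 0, 6, 4, 2, 12, 14, 8, 6, 4, 12] .nil .nil) .nil) (.cons [16, 12, 10, 6, 8, 4, 6, 16, 18, 14, 12, 10, 8, 4, 6, 16, 2, 4, 6, 8, 10, 12, 14] .nil (.cons [8, 10, 6, 8, 0, 2, 4, 6, 16, 18, 12, 10, 8, 4,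 6, 16, 2, 4, 6, 8, 10, 12, 14] (.cons [12, 8, 10, 4, 6, 8, 2, 4, 6, 14, 16, 12, 10, 8, 2, 4, 6, 14, 0, 2, 4, 6, 8, 10, 12] (.cons [10, 8, 6, 0, 2, 12, 14, 6, 4, 2, 8, 6] .nil .nil) .nil) (.cons [14, 12, 10, 8, 0, 2, 4, 6, 16, 18, 12, 10, 8, 4, 6, 16, 2, 4, 6, 8, 10, 12, 14] (.cons [4, 6, 14, 16, 6, 8, 4, 6, 14, 10, 12, 6, 8, 10, 4, 6, 8, 2, 4, 6, 14, 16, 10, 6, 8, 2, 4, 6, 14, 0, 2, 4, 6, 8, 10, 12] (.cons [6, 12, 14, 2, 4, 6, 8, 10, 12, 6, 4, 2] .nil .nil) .nil) (.cons [14, 12, 8, 10, 6, 8, 4, 6, 16, 18, 12, 10, 8, 4, 6, 16, 2, 4, 6, 8, 10, 12, 14] .nil (.cons [12, 8, 10, 6, 8, 0, 2, 4, 6, 16, 18, 14, 12, 10, 8, 6, 16, 4, 6, 8, 10, 12, 14] (.cons [8, 4, 6, 14, 16, 6, 8, 4, 6, 14, 10, 12, 6, 8, 10, 4, 6, 8,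 2, 4, 6, 14, 16, 12, 10, 4, 6, 8, 2, 4, 6, 14, 0, 2, 4, 6, 8, 10, 12] (.cons [14, 8, 10, 8, 4, 6, 12, 6, 4, 2, 14, 12] .nil .nil) .nil) (.cons [16, 10, 12, 8, 10, 6, 8, 4, 6, 16, 18, 14, 12, 10, 8, 6, 16, 4, 6, 8, 10, 12, 14] .nil (.cons [18, 12, 14, 8, 10, 12, 6, 8, 10, 4, 6, 8, 2, 4, 6, 16, 0, 2, 4, 6, 8, 10, 12, 14] (.cons [6, 14, 16, 12, 10, 8, 6, 14, 6, 4, 2, 8, 4, 6, 14, 10, 12, 8, 10, 6, 8, 4, 6, 14, 16, 8, 2, 4, 6, 14, 0, 2, 4, 6, 8, 10, 12] (.cons [14, 10, 8, 6, 4, 0, 2, 8, 6, 10, 4] .nil .nil) .nil) (.cons [16, 18, 14, 8, 10, 12, 6, 8, 10, 4, 6, 8, 2, 4, 6, 16, 0, 2, 4, 6, 8, 10, 12, 14] (.cons [14, 6, 8, 2, 4, 6, 14, 16, 12, 10, 6, 8, 4, 6, 14, 0, 2, 4, 6, 8, 10, 12] .nil .nil) (.cons [6, 16, 18,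 8, 10, 12, 6, 8, 10, 4, 6, 8, 2, 4, 6, 16, 0, 2, 4, 6, 8, 10, 12, 14] (.cons [16, 10, 8, 10, 6, 4, 2, 14, 16, 8, 6, 14, 10, 12, 8, 10, 6, 8, 4, 6, 14, 16, 8, 2, 4, 6, 14, 0, 2, 4, 6, 8, 10, 12] (.cons [8, 10, 4, 6, 8, 0, 2, 4, 6, 12, 14, 6, 2, 4, 0, 6, 8, 10, 12, 6, 4, 2] .nil .nil) .nil) (.cons [4, 6, 16, 18, 10, 12, 6, 8, 10, 4, 6, 8, 2, 4, 6, 16, 0, 2, 4, 6, 8, 10, 12, 14] (.cons [10, 8, 6, 14, 12, 10, 4, 6, 8, 0, 2, 4, 6, 14, 16, 12, 8, 10, 6, 8, 2, 4, 6, 14, 0, 2, 4, 6, 8, 10, 12] (.cons [12, 6, 8, 2, 10, 12, 14, 0, 6, 4, 2, 8, 6] .nil .nil) .nil) (.cons [8, 6, 16, 18, 14, 12, 6, 8, 10, 4, 6, 8, 2, 4, 6, 16, 0, 2, 4, 6, 8, 10, 12, 14] (.cons [16, 6, 8, 2, 4, 6, 14, 8, 10, 4, 6, 8, 0, 2, 4, 6, 14, 16, 12,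 10, 8, 2, 4, 6, 14, 0, 2, 4, 6, 8, 10, 12] .nil .nil) (.cons [10, 8, 6, 16, 18, 12, 6, 8, 10, 4, 6, 8, 2, 4, 6, 16, 0, 2, 4, 6, 8, 10, 12, 14] (.cons [6, 14, 10, 12, 6, 8, 10, 4, 6, 8, 0, 2, 4, 6, 14, 16, 8, 10, 6, 8, 2, 4, 6, 14, 0, 2, 4, 6, 8, 10, 12] (.cons [8, 4, 10, 2, 4, 6, 12, 14] .nil .nil) .nil) (.cons [0, 2, 4, 6, 16, 18, 6, 8, 10, 4, 6, 8, 2, 4, 6, 16, 0, 2, 4, 6, 8, 10, 12, 14] (.cons [14, 16, 6, 14, 6, 8, 10, 4, 6, 8, 0, 2, 4, 6, 14, 16, 14, 12, 10, 4, 6, 8, 2, 4, 6, 14, 0, 2, 4, 6, 8, 10, 12] (.cons [0, 2, 6, 4, 12, 6, 8, 10, 14, 12, 6, 4, 0, 2, 12, 14] .nil .nil) .nil) (.cons [8, 2, 4, 6, 16, 18, 6, 8, 10, 4, 6, 8, 2, 4, 6, 16, 0, 2, 4, 6, 8, 10, 12, 14] (.cons [16, 14, 10, 12, 8, 10, 2, 4, 6,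 8, 0, 2, 4, 6, 14, 16, 12, 8, 10, 6, 8, 2, 4, 6, 14, 0, 2, 4, 6, 8, 10, 12] (.cons [8, 4, 10, 12, 6, 8, 14, 12, 6, 4, 2, 8, 10, 12, 14] .nil .nil) .nil) (.cons [10, 8, 4, 6, 16, 18, 6, 8, 10, 4, 6, 8, 2, 4, 6, 16, 0, 2, 4, 6, 8, 10, 12, 14] (.cons [8, 4, 6, 14, 16, 8, 4, 6, 10, 8, 2, 4, 6, 14, 10, 12, 8, 10, 4, 6, 8, 2, 4, 6, 14, 16, 12, 10, 8, 2, 4, 6, 14, 0, 2, 4, 6, 8, 10, 12] (.cons [12, 8, 10, 0, 8, 6, 4, 2, 4, 12, 14] .nil .nil) .nil) (.cons [16, 18, 16, 12, 14, 10, 12, 8, 10, 4, 6, 8, 2, 4, 6, 16, 0, 2, 4, 6, 8, 10, 12, 14] (.cons [10, 8, 0, 6, 4, 2, 14, 16, 6, 14, 10, 12, 8, 10, 6, 8, 4, 6, 14, 16, 8, 2, 4, 6, 14, 0, 2, 4, 6, 8, 10, 12] (.cons [6, 0, 4, 2, 6, 12, 4, 14, 8, 12] .nil .nil) .nil) (.cons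 [2, 4, 6, 16, 18, 10, 12, 8, 10, 4, 6, 8, 2, 4, 6, 16, 0, 2, 4, 6, 8, 10, 12, 14] (.cons [16, 8, 6, 4, 2, 0, 8, 10, 12, 6, 8, 10, 4, 6, 8, 2, 4, 6, 14, 16, 6, 8, 4, 6, 14, 2, 4, 6, 8, 10, 12] .nil .nil) (.cons [8, 6, 16, 18, 16, 14, 12, 8, 10, 4, 6, 8, 2, 4, 6, 16, 0, 2, 4, 6, 8, 10, 12, 14] (.cons [14, 8, 10, 6, 8, 0, 2, 4, 6, 14, 16, 12, 8, 10, 6, 8, 2, 4, 6, 14, 0, 2, 4, 6, 8, 10, 12] (.cons [8, 6, 12, 14, 4, 6, 8, 10, 2, 4, 6, 0, 2, 4] .nil .nil) .nil) (.cons [2, 4, 6, 16, 18, 14, 12, 8, 10, 4, 6, 8, 2, 4, 6, 16, 0, 2, 4, 6, 8, 10, 12, 14] (.cons [14, 10, 6, 8, 4, 6, 14, 16, 14, 12, 8, 10, 4, 6, 8, 2, 4, 6, 14, 0, 2, 4, 6, 8, 10, 12] (.cons [2, 4, 6, 8, 0, 2, 4, 10, 12, 6, 8, 14, 12, 6, 4, 2, 4, 8, 10, 12,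 14] .nil .nil) .nil) (.cons [10, 8, 6, 16, 18, 14, 12, 8, 10, 4, 6, 8, 2, 4, 6, 16, 0, 2, 4, 6, 8, 10, 12, 14] (.cons [8, 2, 4, 6, 14, 16, 12, 10, 6, 8, 4, 6, 14, 0, 2, 4, 6, 8, 10, 12] (.cons [12, 6, 0, 2, 4, 6, 8, 10, 12, 8, 6, 12, 14, 4, 6, 0, 2] .nil .nil) .nil) (.cons [8, 4, 6, 16, 18, 16, 12, 8, 10, 4, 6, 8, 2, 4, 6, 16, 0, 2, 4, 6, 8, 10, 12, 14] (.cons [8, 6, 14, 8, 10, 4, 6, 8, 0, 2, 4, 6, 14, 16, 14, 10, 4, 6, 8, 2, 4, 6, 14, 0, 2, 4, 6, 8, 10, 12] (.cons [4, 6, 12, 10, 8, 0, 2, 4, 6, 4, 2, 8, 10, 12, 14] .nil .nil) .nil) (.cons [10, 8, 6, 16, 18, 16, 12, 8, 10, 4, 6, 8, 2, 4, 6, 16, 0, 2, 4, 6, 8, 10, 12, 14] (.cons [4, 6, 8, 0, 2, 4, 6, 14, 16, 6, 8, 4, 6, 14, 10, 12, 6, 8, 10, 4, 6, 8, 0, 2, 4,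 6, 14, 16, 12, 10, 4, 6, 8, 2, 4, 6, 14, 0, 2, 4, 6, 8, 10, 12] (.cons [4, 8, 10, 6, 8, 10, 4, 6, 12, 14, 8, 6, 4, 2] .nil .nil) .nil) (.cons [6, 8, 4, 6, 16, 18, 12, 8, 10, 4, 6, 8, 2, 4, 6, 16, 0, 2, 4, 6, 8, 10, 12, 14] (.cons [12, 10, 4, 6, 8, 0, 2, 4, 6, 14, 16, 12, 8, 10, 6, 8, 2, 4, 6, 14, 0, 2, 4, 6, 8, 10, 12] (.cons [6, 12, 14, 10, 12, 6, 8, 6, 4, 0, 2, 4, 10, 8] .nil .nil) .nil) (.cons [12, 10, 8, 6, 16, 18, 12, 8, 10, 4, 6, 8, 2, 4, 6, 16, 0, 2, 4, 6, 8, 10, 12, 14] (.cons [14, 6, 4, 2, 0, 10, 12, 6, 14, 8, 10, 6, 8, 4, 6, 14, 16, 14, 12, 10, 6, 8, 4, 6, 14, 2, 4, 6, 8, 10, 12] (.cons [2, 4, 6, 12, 14, 10, 6, 8, 12, 6, 4, 2, 8, 10] .nil .nil) .nil) (.cons [16, 6, 8, 4, 6, 16, 18, 8, 10, 4, 6, 8,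 2, 4, 6, 16, 0, 2, 4, 6, 8, 10, 12, 14] (.cons [16, 14, 6, 8, 10, 4, 6, 8, 0, 2, 4, 6, 14, 16, 12, 10, 4, 6, 8, 2, 4, 6, 14, 0, 2, 4, 6, 8, 10, 12] (.cons [12, 10, 4, 6, 8, 2, 4, 6, 12, 14, 10, 2, 4, 0, 6, 8, 10, 12, 6, 4, 2] .nil .nil) .nil) (.cons [4, 6, 16, 18, 6, 16, 14, 12, 10, 4, 6, 8, 2, 4, 6, 16, 0, 2, 4, 6, 8, 10, 12, 14] (.cons [10, 4, 6, 8, 2, 4, 6, 14, 16, 10, 12, 8, 10, 4, 6, 8, 2, 4, 6, 14, 0, 2, 4, 6, 8, 10, 12] .nil .nil) (.cons [8, 6, 16, 18, 6, 16, 14, 12, 10, 4, 6, 8, 2, 4, 6, 16, 0, 2, 4, 6, 8, 10, 12, 14] (.cons [14, 16, 4, 6, 14, 8, 10, 6, 8, 4, 6, 14, 16, 14, 12, 8, 10, 6, 8, 2, 4, 6, 14, 0, 2, 4, 6, 8, 10, 12] (.cons [12, 8, 10, 6, 4, 0, 2, 12, 6, 4, 14, 12] .nil .nil) .nil) (.cons [8,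 4, 6, 16, 18, 16, 14, 12, 10, 4, 6, 8, 2, 4, 6, 16, 0, 2, 4, 6, 8, 10, 12, 14] (.cons [8, 0, 2, 4, 6, 14, 16, 12, 10, 8, 4, 6, 14, 0, 2, 4, 6, 8, 10, 12] (.cons [8, 4, 6, 12, 14, 10, 8, 6, 4, 2, 8, 6, 10, 4] .nil .nil) .nil) (.cons [8, 2, 4, 6, 16, 18, 14, 12, 10, 4, 6, 8, 2, 4, 6, 16, 0, 2, 4, 6, 8, 10, 12, 14] (.cons [16, 6, 14, 10, 4, 6, 8, 2, 4, 6, 14, 16, 6, 14, 12, 10, 4, 6, 8, 2, 4, 6, 14, 0, 2, 4, 6, 8, 10, 12] (.cons [12, 10, 8, 6, 2, 4, 6, 0, 2, 8, 10, 12, 14] .nil .nil) .nil) (.cons [6, 8, 4, 6, 16, 18, 14, 12, 10, 4, 6, 8, 2, 4, 6, 16, 0, 2, 4, 6, 8, 10, 12, 14] (.cons [14, 10, 6, 8, 4, 6, 14, 16, 14, 12, 10, 6, 8, 4, 6, 14, 2, 4, 6, 8, 10, 12] (.cons [8, 0, 2, 4, 6, 12, 14, 8, 6, 4, 0, 2, 8, 4,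 6, 10] .nil .nil) .nil) (.cons [12, 10, 8, 6, 16, 18, 14, 12, 10, 4, 6, 8, 2, 4, 6, 16, 0, 2, 4, 6, 8, 10, 12, 14] (.cons [16, 8, 6, 10, 8, 4, 6, 14, 12, 8, 10, 4, 6, 8, 0, 2, 4, 6, 14, 16, 12, 10, 8, 2, 4, 6, 14, 0, 2, 4, 6, 8, 10, 12] (.cons [2, 4, 6, 8, 2, 10, 12, 14, 6, 4, 2, 8, 6] .nil .nil) .nil) (.cons [2, 4, 6, 16, 18, 6, 16, 12, 10, 4, 6, 8, 2, 4, 6, 16, 0, 2, 4, 6, 8, 10, 12, 14] (.cons [12, 10, 8, 6, 4, 2, 0, 12, 6, 14, 8, 10, 6, 8, 4, 6, 14, 16, 12, 8, 10, 6, 8, 4, 6, 14, 2, 4, 6, 8, 10, 12] .nil .nil) (.cons [0, 2, 4, 6, 16, 18, 16, 12, 10, 4, 6, 8, 2, 4, 6, 16, 0, 2, 4, 6, 8, 10, 12, 14] .nil (.cons [6, 8, 2, 4, 6, 16, 18, 12, 10, 4, 6, 8, 2, 4, 6, 16, 0, 2, 4, 6, 8, 10, 12, 14] .nil (.cons [10,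 8, 2, 4, 6, 16, 18, 12, 10, 4, 6, 8, 2, 4, 6, 16, 0, 2, 4, 6, 8, 10, 12, 14] (.cons [6, 8, 0, 2, 4, 6, 14, 16, 12, 10, 6, 8, 4, 6, 14, 2, 4, 6, 8, 10, 12] (.cons [8, 2, 6, 4, 10, 8, 6, 12, 14, 12, 6, 4] .nil .nil) .nil) (.cons [16, 6, 8, 4, 6, 16, 18, 12, 10, 4, 6, 8, 2, 4, 6, 16, 0, 2, 4, 6, 8, 10, 12, 14] (.cons [6, 14, 16, 10, 8, 6, 14, 12, 10, 8, 6, 4, 2, 0, 4, 10, 14, 12, 8, 10, 6, 8, 4, 6, 14, 16, 12, 10, 6, 8, 4, 6, 14, 2, 4, 6, 8, 10, 12] (.cons [12, 14, 6, 8, 2, 10, 8, 6, 4, 0, 2] .nil .nil) .nil) (.cons [12, 10, 8, 4, 6, 16, 18, 12, 10, 4, 6, 8, 2, 4, 6, 16, 0, 2, 4, 6, 8, 10, 12, 14] (.cons [14, 12, 10, 4, 6, 8, 0, 2, 4, 6, 14, 16, 14, 12, 10, 4, 6, 8, 2, 4, 6, 14, 0, 2, 4, 6, 8, 10, 12] (.cons [12,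 14, 6, 10, 2, 4, 0, 2, 4] .nil .nil) .nil) (.cons [10, 8, 4, 6, 16, 18, 6, 16, 10, 4, 6, 8, 2, 4, 6, 16, 0, 2, 4, 6, 8, 10, 12, 14] (.cons [2, 4, 6, 14, 12, 8, 10, 6, 8, 2, 4, 6, 14, 16, 14, 8, 10, 4, 6, 8, 2, 4, 6, 14, 0, 2, 4, 6, 8, 10, 12] (.cons [2, 4, 6, 12, 14, 6, 8, 4, 12, 6, 4, 2, 8, 6, 10, 4] .nil .nil) .nil) (.cons [8, 0, 2, 4, 6, 16, 18, 16, 10, 4, 6, 8, 2, 4, 6, 16, 0, 2, 4, 6, 8, 10, 12, 14] (.cons [6, 14, 16, 14, 10, 6, 8, 2, 4, 6, 14, 10, 12, 8, 10, 4, 6, 8, 2, 4, 6, 14, 16, 8, 10, 6, 8, 2, 4, 6, 14, 0, 2, 4, 6, 8, 10, 12] (.cons [8, 2, 4, 6, 12, 14, 12, 10, 4, 6, 8, 10, 12, 6, 4, 2, 4] .nil .nil) .nil) (.cons [10, 8, 2, 4, 6, 16, 18, 16, 10, 4, 6, 8, 2, 4, 6, 16, 0, 2, 4, 6, 8, 10, 12, 14] .nil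 (.cons [16, 6, 8, 4, 6, 16, 18, 16, 10, 4, 6, 8, 2, 4, 6, 16, 0, 2, 4, 6, 8, 10, 12, 14] (.cons [2, 4, 6, 14, 16, 10, 8, 4, 6, 14, 10, 12, 8, 10, 4, 6, 8, 2, 4, 6, 14, 16, 12, 10, 4, 6, 8, 2, 4, 6, 14, 0, 2, 4, 6, 8, 10, 12] (.cons [2, 4, 6, 8, 2, 6, 4, 10, 12, 14, 8] .nil .nil) .nil) (.cons [12, 10, 8, 4, 6, 16, 18, 16, 10, 4, 6, 8, 2, 4, 6, 16, 0, 2, 4, 6, 8, 10, 12, 14] (.cons [14, 16, 10, 8, 6, 14, 10, 12, 8, 10, 4, 6, 8, 2, 4, 6, 14, 16, 14, 10, 6, 8, 2, 4, 6, 14, 0, 2, 4, 6, 8, 10, 12] (.cons [2, 4, 6, 8, 0, 2, 4, 6, 12, 14, 10, 6, 8, 12, 6, 4, 2, 8, 10] .nil .nil) .nil) (.cons [6, 8, 0, 2, 4, 6, 16, 18, 10, 4, 6, 8, 2, 4, 6, 16, 0, 2, 4, 6, 8, 10, 12, 14] .nil (.cons [4, 6, 8, 2, 4, 6, 16, 18, 10, 4,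 6, 8, 2, 4, 6, 16, 0, 2, 4, 6, 8, 10, 12, 14] (.cons [14, 16, 14, 6, 8, 2, 4, 6, 14, 10, 12, 8, 10, 6, 8, 2, 4, 6, 14, 16, 8, 10, 4, 6, 8, 2, 4, 6, 14, 0, 2, 4, 6, 8, 10, 12] .nil .nil) (.cons [16, 6, 8, 2, 4, 6, 16, 18, 10, 4, 6, 8, 2, 4, 6, 16, 0, 2, 4, 6, 8, 10, 12, 14] (.cons [10, 8, 6, 14, 4, 6, 8, 2, 4, 6, 14, 16, 10, 8, 2, 4, 6, 14, 0, 2, 4, 6, 8, 10, 12] (.cons [8, 10, 2, 0, 4, 8, 2, 6, 8] .nil .nil) .nil) (.cons [12, 10, 6, 8, 4, 6, 16, 18, 10, 4, 6, 8, 2, 4, 6, 16, 0, 2, 4, 6, 8, 10, 12, 14] (.cons [12, 10, 8, 6, 14, 16, 8, 6, 14, 10, 12, 8, 10, 6, 8, 4, 6, 14, 2, 4, 6, 8, 10, 12] .nil .nil) (.cons [18, 16, 6, 8, 4, 6, 16, 18, 10, 4, 6, 8, 2, 4, 6, 16, 0, 2, 4, 6, 8, 10, 12, 14] (.cons [14, 16, 10,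 8, 2, 4, 6, 14, 8, 10, 4, 6, 8, 2, 4, 6, 14, 16, 10, 6, 8, 2, 4, 6, 14, 0, 2, 4, 6, 8, 10, 12] .nil .nil) (.cons [14, 12, 10, 8, 4, 6, 16, 18, 10, 4, 6, 8, 2, 4, 6, 16, 0, 2, 4, 6, 8, 10, 12, 14] (.cons [4, 6, 14, 16, 6, 8, 4, 6, 14, 8, 10, 12, 6, 8, 10, 4, 6, 8, 2, 4, 6, 14, 16, 8, 10, 4, 6, 8, 2, 4, 6, 14, 0, 2, 4, 6, 8, 10, 12] (.cons [12, 14, 8, 6, 8, 4, 0, 2, 10, 8] .nil .nil) .nil) (.cons [10, 8, 4, 6, 16, 18, 8, 6, 16, 4, 6, 8, 2, 4, 6, 16, 0, 2, 4, 6, 8, 10, 12, 14] (.cons [0, 2, 0, 10, 8, 6, 14, 12, 8, 10, 6, 8, 4, 6, 14, 16, 12, 10, 8, 4, 6, 14, 2, 4, 6, 8, 10, 12] (.cons [12, 6, 8, 2, 4, 6, 12, 10, 8, 6, 4, 2, 8, 10, 12, 14] .nil .nil) .nil) (.cons [12, 10, 8, 6, 16, 18, 8, 6, 16, 4, 6, 8, 2, 4, 6,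 16, 0, 2, 4, 6, 8, 10, 12, 14] .nil (.cons [6, 8, 2, 4, 6, 16, 18, 6, 16, 4, 6, 8, 2, 4, 6, 16, 0, 2, 4, 6, 8, 10, 12, 14] (.cons [10, 8, 4, 6, 14, 16, 6, 8, 4, 6, 14, 8, 10, 12, 6, 8, 10, 4, 6, 8, 2, 4, 6, 14, 16, 8, 10, 4, 6, 8, 2, 4, 6, 14, 0, 2, 4, 6, 8, 10, 12] (.cons [10, 6, 8, 4, 6, 12, 14, 6, 8, 4, 12, 6, 4, 0, 2, 8, 6, 10, 4] .nil .nil) .nil) .nil)))))))))))))))))))))))))))))))))))))))))))))))))))))))))))))))))))))))))))))))))))))))))))))))))))))))))))))))))))))))))))))))))))))))))))))))))))))))))))))))))))))))))))))))))))))))))))))))))))))))))))))))))))))))))))))))))))))))))))))))))))))))))))))))))))))))))))))))))))))))))))))))))))))))))))))))))))))))))))))))))))))))))))))))))) (⟨cu_l0.b, cu_l0.S,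 [], cu_R4, 0⟩ :: cu_tl) (0 :: cu_lk) Pd.nil 0 = true := by decide +kernel
theorem cu_r5 : cu_S.run (.cons [10, 6, 8, 4, 6, 16, 18, 6, 16, 4, 6, 8, 2, 4, 6, 16, 0, 2, 4, 6, 8, 10, 12, 14] (.cons [10, 12, 8, 10, 6, 8, 4, 6, 14, 16, 8, 10, 6, 8, 2, 4, 6, 14, 0, 2, 4, 6, 8, 10, 12] (.cons [8, 6, 12, 10, 8, 6, 2, 4, 6, 0, 2, 8, 10, 12, 14] .nil .nil) .nil) (.cons [16, 6, 8, 4, 6, 16, 18, 6, 16, 4, 6, 8, 2, 4, 6, 16, 0, 2, 4, 6, 8, 10, 12, 14] (.cons [16, 14, 10, 6, 8, 0, 2, 4, 6, 14, 16, 6, 8, 10, 4, 6, 8, 2, 4, 6, 14, 0, 2, 4, 6, 8, 10, 12] (.cons [10, 8, 6, 12, 14, 4, 0, 2, 4, 6, 8, 12, 6, 4, 2, 8, 10] (.cons [1, 4, 2, 0] .nil .nil) .nil) .nil) (.cons [12, 10, 8, 4, 6, 16, 18, 6, 16, 4, 6, 8, 2, 4, 6, 16, 0, 2,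 4, 6, 8, 10, 12, 14] (.cons [6, 14, 10, 4, 6, 8, 2, 4, 6, 14, 16, 8, 10, 6, 8, 4, 6, 14, 0, 2, 4, 6, 8, 10, 12] .nil .nil) (.cons [10, 8, 0, 2, 4, 6, 16, 18, 16, 4, 6, 8, 2, 4, 6, 16, 0, 2, 4, 6, 8, 10, 12, 14] (.cons [14, 16, 10, 8, 6, 14, 10, 12, 6, 8, 10, 4, 6, 8, 2, 4, 6, 14, 16, 14, 12, 8, 10, 4, 6, 8, 2, 4, 6, 14, 0, 2, 4, 6, 8, 10, 12] (.cons [8, 4, 6, 12, 10, 8, 2, 4, 6, 4, 2, 8, 10, 12, 14] .nil .nil) .nil) (.cons [10, 6, 8, 2, 4, 6, 16, 18, 16, 4, 6, 8, 2, 4, 6, 16, 0, 2, 4, 6, 8, 10, 12, 14] .nil (.cons [12, 10, 6, 8, 4, 6, 16, 18, 16, 4, 6, 8, 2, 4, 6, 16, 0, 2, 4, 6, 8, 10, 12, 14] (.cons [14, 6, 8, 2, 4, 6, 14, 16, 14, 10, 6, 8, 2, 4, 6, 14, 0, 2, 4, 6, 8, 10, 12] (.cons [6, 8, 4, 6, 4, 2, 8, 10,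 12, 14] .nil .nil) .nil) (.cons [16, 10, 6, 8, 4, 6, 16, 18, 16, 4, 6, 8, 2, 4, 6, 16, 0, 2, 4, 6, 8, 10, 12, 14] (.cons [10, 8, 6, 14, 16, 4, 6, 14, 8, 10, 12, 6, 8, 10, 4, 6, 8, 2, 4, 6, 14, 16, 14, 8, 10, 4, 6, 8, 2, 4, 6, 14, 0, 2, 4, 6, 8, 10, 12] (.cons [8, 6, 12, 6, 2, 4, 0, 2, 6, 8, 10, 12, 14, 6, 4] .nil .nil) .nil) (.cons [14, 12, 10, 8, 4, 6, 16, 18, 16, 4, 6, 8, 2, 4, 6, 16, 0, 2, 4, 6, 8, 10, 12, 14] (.cons [14, 16, 8, 6, 14, 10, 12, 6, 8, 10, 4, 6, 8, 2, 4, 6, 14, 16, 14, 10, 6, 8, 2, 4, 6, 14, 0, 2, 4, 6, 8, 10, 12] (.cons [6, 10, 0, 2, 4, 6, 12, 14, 12, 6, 4] .nil .nil) .nil) (.cons [10, 6, 8, 0, 2, 4, 6, 16, 18, 4, 6, 8, 2, 4, 6, 16, 0, 2, 4, 6, 8, 10, 12, 14] (.cons [14, 10, 6, 8, 4, 6, 14,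 16, 14, 12, 10, 6, 8, 4, 6, 14, 0, 2, 4, 6, 8, 10, 12] (.cons [4, 2, 10, 6, 12, 14, 4, 2, 8, 6] .nil .nil) .nil) (.cons [16, 6, 8, 0, 2, 4, 6, 16, 18, 4, 6, 8, 2, 4, 6, 16, 0, 2, 4, 6, 8, 10, 12, 14] (.cons [12, 10, 8, 2, 4, 6, 14, 16, 14, 6, 8, 4, 6, 14, 10, 12, 8, 10, 4, 6, 8, 2, 4, 6, 14, 16, 14, 8, 10, 4, 6, 8, 2, 4, 6, 14, 0, 2, 4, 6, 8, 10, 12] .nil .nil) (.cons [12, 10, 8, 0, 2, 4, 6, 16, 18, 4, 6, 8, 2, 4, 6, 16, 0, 2, 4, 6, 8, 10, 12, 14] (.cons [16, 14, 6, 8, 10, 4, 6, 8, 2, 14, 6, 4, 8, 6, 14, 10, 12, 8, 10, 6, 8, 4, 6, 14, 16, 2, 4, 6, 14, 0, 2, 4, 6, 8, 10, 12] .nil .nil) (.cons [12, 10, 6, 8, 2, 4, 6, 16, 18, 4, 6, 8, 2, 4, 6, 16, 0, 2, 4, 6, 8, 10, 12, 14] (.cons [4, 6, 16, 14, 10, 12, 8, 10,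 6, 8, 4, 6, 14, 16, 10, 12, 8, 10, 6, 8, 2, 4, 6, 14, 0, 2, 4, 6, 8, 10, 12] (.cons [12, 14, 6, 4, 0, 2, 4, 6, 8, 12, 6, 4, 2, 8, 10] .nil .nil) .nil) (.cons [18, 16, 6, 8, 2, 4, 6, 16, 18, 4, 6, 8, 2, 4, 6, 16, 0, 2, 4, 6, 8, 10, 12, 14] (.cons [4, 6, 14, 12, 8, 10, 6, 8, 4, 6, 14, 16, 14, 6, 8, 4, 6, 14, 2, 4, 6, 8, 10, 12] (.cons [2, 14, 4, 6, 8, 6, 10, 4] .nil .nil) .nil) (.cons [14, 12, 10, 8, 2, 4, 6, 16, 18, 4, 6, 8, 2, 4, 6, 16, 0, 2, 4, 6, 8, 10, 12, 14] (.cons [8, 6, 14, 16, 10, 8, 6, 14, 12, 8, 10, 4, 6, 8, 2, 4, 6, 14, 16, 14, 12, 8, 10, 4, 6, 8, 2, 4, 6, 14, 0, 2, 4, 6, 8, 10, 12] (.cons [6, 12, 14, 12, 6, 8, 4, 10, 0, 2, 4, 8, 6] .nil .nil) .nil) (.cons [12, 8, 10, 6, 8, 4, 6, 16, 18, 4, 6, 8,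 2, 4, 6, 16, 0, 2, 4, 6, 8, 10, 12, 14] (.cons [4, 6, 8, 2, 4, 6, 14, 16, 6, 8, 10, 14, 6, 4, 2, 4, 6, 14, 12, 8, 10, 6, 8, 4, 6, 14, 16, 14, 12, 10, 6, 8, 2, 4, 6, 14, 0, 2, 4, 6, 8, 10, 12] (.cons [14, 0, 12, 6, 4, 2, 10, 6, 8, 4, 6, 10] .nil .nil) .nil) (.cons [16, 8, 10, 6, 8, 4, 6, 16, 18, 4, 6, 8, 2, 4, 6, 16, 0, 2, 4, 6, 8, 10, 12, 14] (.cons [8, 6, 14, 16, 14, 6, 8, 4, 6, 14, 0, 2, 4, 6, 8, 10, 12] .nil .nil) (.cons [14, 12, 10, 6, 8, 4, 6, 16, 18, 4, 6, 8, 2, 4, 6, 16, 0, 2, 4, 6, 8, 10, 12, 14] (.cons [4, 6, 8, 10, 14, 6, 8, 4, 6, 14, 10, 12, 8, 10, 6, 8, 0, 2, 4, 6, 14, 16, 12, 10, 8, 2, 4, 6, 14, 0, 2, 4, 6, 8, 10, 12] (.cons [12, 6, 8, 10, 0, 12, 6, 4, 2, 8, 6] .nil .nil) .nil) (.cons [16, 18, 6,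 16, 12, 14, 10, 12, 8, 10, 6, 8, 2, 4, 6, 16, 0, 2, 4, 6, 8, 10, 12, 14] (.cons [14, 8, 10, 6, 8, 4, 6, 14, 16, 14, 12, 10, 6, 8, 4, 6, 14, 2, 4, 6, 8, 10, 12] (.cons [6, 12, 14, 8, 10, 6, 8, 4, 6, 12, 6, 4, 2, 14, 12] .nil .nil) .nil) (.cons [8, 6, 16, 18, 12, 14, 10, 12, 8, 10, 6, 8, 2, 4, 6, 16, 0, 2, 4, 6, 8, 10, 12, 14] .nil (.cons [8, 6, 16, 18, 16, 14, 10, 12, 8, 10, 6, 8, 2, 4, 6, 16, 0, 2, 4, 6, 8, 10, 12, 14] .nil (.cons [8, 4, 6, 16, 18, 14, 10, 12, 8, 10, 6, 8, 2, 4, 6, 16, 0, 2, 4, 6, 8, 10, 12, 14] (.cons [6, 14, 10, 4, 6, 8, 2, 4, 6, 14, 16, 12, 8, 10, 6, 8, 4, 6, 14, 0, 2, 4, 6, 8, 10, 12] (.cons [10, 8, 10, 6, 4, 2, 12, 6, 8, 10, 4, 6, 12, 14, 8, 6, 4, 2] .nil .nil) .nil) (.cons [8, 4, 6, 16,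 18, 16, 14, 12, 8, 10, 6, 8, 2, 4, 6, 16, 0, 2, 4, 6, 8, 10, 12, 14] (.cons [6, 8, 0, 2, 4, 6, 14, 16, 6, 14, 12, 10, 4, 6, 8, 2, 4, 6, 14, 0, 2, 4, 6, 8, 10, 12] (.cons [0, 2, 4, 6, 12, 14, 8, 12, 6, 2, 8, 10, 4, 6, 0, 2] .nil .nil) .nil) (.cons [0, 2, 4, 6, 16, 18, 14, 12, 8, 10, 6, 8, 2, 4, 6, 16, 0, 2, 4, 6, 8, 10, 12, 14] (.cons [14, 8, 10, 6, 8, 0, 2, 4, 6, 14, 16, 12, 10, 6, 8, 2, 4, 6, 14, 0, 2, 4, 6, 8, 10, 12] (.cons [8, 12, 6, 8, 4, 0, 2, 10, 8] .nil .nil) .nil) (.cons [8, 2, 4, 6, 16, 18, 14, 12, 8, 10, 6, 8, 2, 4, 6, 16, 0, 2, 4, 6, 8, 10, 12, 14] (.cons [16, 10, 8, 4, 6, 14, 8, 10, 4, 6, 8, 2, 4, 6, 14, 16, 12, 10, 4, 6, 8, 2, 4, 6, 14, 0, 2, 4, 6, 8, 10, 12] (.cons [6, 12, 8, 2, 4, 6, 4, 2, 8,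 10, 12, 14] .nil .nil) .nil) (.cons [8, 4, 6, 16, 18, 6, 16, 12, 8, 10, 6, 8, 2, 4, 6, 16, 0, 2, 4, 6, 8, 10, 12, 14] .nil (.cons [10, 8, 6, 16, 18, 6, 16, 12, 8, 10, 6, 8, 2, 4, 6, 16, 0, 2, 4, 6, 8, 10, 12, 14] (.cons [16, 14, 8, 10, 6, 8, 0, 2, 4, 6, 14, 16, 8, 10, 4, 6, 8, 2, 4, 6, 14, 0, 2, 4, 6, 8, 10, 12] (.cons [8, 2, 4, 6, 12, 14, 6, 8, 4, 12, 6, 4, 2, 4, 8, 10] .nil .nil) .nil) (.cons [10, 8, 4, 6, 16, 18, 16, 12, 8, 10, 6, 8, 2, 4, 6, 16, 0, 2, 4, 6, 8, 10, 12, 14] .nil (.cons [8, 0, 2, 4, 6, 16, 18, 12, 8, 10, 6, 8, 2, 4, 6, 16, 0, 2, 4, 6, 8, 10, 12, 14] (.cons [8, 6, 12, 14, 6, 8, 10, 4, 6, 8, 2, 4, 6, 14, 16, 6, 14, 12, 10, 4, 6, 8, 2, 4, 6, 14, 0, 2, 4, 6, 8, 10, 12] (.cons [14, 4, 6, 4, 2, 8,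 6, 10, 4] .nil .nil) .nil) (.cons [6, 8, 2, 4, 6, 16, 18, 12, 8, 10, 6, 8, 2, 4, 6, 16, 0, 2, 4, 6, 8, 10, 12, 14] .nil (.cons [12, 10, 8, 4, 6, 16, 18, 12, 8, 10, 6, 8, 2, 4, 6, 16, 0, 2, 4, 6, 8, 10, 12, 14] (.cons [16, 2, 4, 6, 14, 10, 12, 8, 10, 6, 8, 2, 4, 6, 14, 16, 10, 6, 8, 2, 4, 6, 14, 0, 2, 4, 6, 8, 10, 12] .nil .nil) (.cons [14, 12, 10, 8, 6, 16, 18, 12, 8, 10, 6, 8, 2, 4, 6, 16, 0, 2, 4, 6, 8, 10, 12, 14] .nil (.cons [12, 10, 8, 6, 16, 18, 6, 16, 8, 10, 6, 8, 2, 4, 6, 16, 0, 2, 4, 6, 8, 10, 12, 14] (.cons [14, 16, 6, 14, 12, 8, 10, 4, 6, 8, 0, 2, 4, 6, 14, 16, 12, 10, 6, 8, 2, 4, 6, 14, 0, 2, 4, 6, 8, 10, 12] (.cons [12, 6, 8, 4, 2, 12, 14, 6, 8, 4, 6, 10] .nil .nil) .nil) (.cons [6, 8, 2, 4, 6,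 16, 18, 16, 8, 10, 6, 8, 2, 4, 6, 16, 0, 2, 4, 6, 8, 10, 12, 14] (.cons [2, 4, 6, 14, 16, 12, 8, 10, 6, 0, 2, 4, 6, 14, 8, 10, 12, 6, 8, 10, 4, 6, 8, 2, 4, 6, 14, 16, 14, 6, 8, 4, 6, 14, 0, 2, 4, 6, 8, 10, 12] (.cons [12, 14, 8, 10, 12, 6, 4, 6, 0, 2] .nil .nil) .nil) (.cons [12, 10, 8, 2, 4, 6, 16, 18, 8, 10, 6, 8, 2, 4, 6, 16, 0, 2, 4, 6, 8, 10, 12, 14] (.cons [4, 6, 14, 16, 12, 8, 10, 6, 0, 2, 4, 6, 14, 8, 10, 12, 6, 8, 10, 4, 6, 8, 2, 4, 6, 14, 16, 14, 6, 8, 4, 6, 14, 0, 2, 4, 6, 8, 10, 12] (.cons [8, 0, 2, 4, 6, 12, 14, 8, 10, 12, 6, 4, 6, 0, 2] (.cons [5, 3, 4, 4, 1] .nil .nil) .nil) .nil) (.cons [8, 10, 6, 8, 4, 6, 16, 18, 8, 10, 6, 8, 2, 4, 6, 16, 0, 2, 4, 6, 8, 10, 12, 14] (.cons [14, 4, 6, 8, 0, 2,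 4, 6, 14, 16, 10, 4, 6, 8, 2, 4, 6, 14, 10, 12, 6, 8, 10, 4, 6, 8, 2, 4, 6, 14, 16, 10, 6, 8, 2, 4, 6, 14, 0, 2, 4, 6, 8, 10, 12] (.cons [4, 6, 8, 10, 12, 6, 12, 2, 4, 6, 0, 2, 12, 14] .nil .nil) .nil) (.cons [12, 10, 6, 8, 4, 6, 16, 18, 8, 10, 6, 8, 2, 4, 6, 16, 0, 2, 4, 6, 8, 10, 12, 14] .nil (.cons [14, 12, 10, 8, 4, 6, 16, 18, 8, 10, 6, 8, 2, 4, 6, 16, 0, 2, 4, 6, 8, 10, 12, 14] (.cons [16, 14, 10, 6, 8, 4, 6, 14, 10, 12, 8, 10, 4, 6, 8, 2, 4, 6, 14, 16, 10, 6, 8, 2, 4, 6, 14, 0, 2, 4, 6, 8, 10, 12] (.cons [6, 14, 0, 8, 6, 2, 0, 4, 2, 6, 12, 14, 8, 6, 4, 12] .nil .nil) .nil) (.cons [0, 2, 4, 6, 16, 18, 16, 14, 12, 10, 6, 8, 2, 4, 6, 16, 0, 2, 4, 6, 8, 10, 12, 14] .nil (.cons [10, 8, 4, 6, 16, 18, 16, 14,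 12, 10, 6, 8, 2, 4, 6, 16, 0, 2, 4, 6, 8, 10, 12, 14] (.cons [8, 6, 14, 16, 14, 12, 10, 6, 8, 2, 4, 6, 14, 0, 2, 4, 6, 8, 10, 12] .nil .nil) (.cons [6, 8, 2, 4, 6, 16, 18, 16, 12, 10, 6, 8, 2, 4, 6, 16, 0, 2, 4, 6, 8, 10, 12, 14] .nil (.cons [10, 8, 2, 4, 6, 16, 18, 16, 12, 10, 6, 8, 2, 4, 6, 16, 0, 2, 4, 6, 8, 10, 12, 14] (.cons [10, 12, 8, 10, 4, 6, 8, 2, 4, 6, 14, 0, 2, 4, 6, 8, 10, 12] (.cons [2, 4, 14, 12, 6, 4, 8, 10, 6, 4, 12, 14] .nil .nil) .nil) (.cons [14, 12, 10, 8, 6, 16, 18, 16, 12, 10, 6, 8, 2, 4, 6, 16, 0, 2, 4, 6, 8, 10, 12, 14] .nil (.cons [10, 8, 0, 2, 4, 6, 16, 18, 12, 10, 6, 8, 2, 4, 6, 16, 0, 2, 4, 6, 8, 10, 12, 14] (.cons [14, 16, 6, 8, 2, 4, 6, 14, 10, 12, 6, 8, 10, 4, 6, 8, 2, 4, 6, 14,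 16, 12, 10, 4, 6, 8, 2, 4, 6, 14, 0, 2, 4, 6, 8, 10, 12] .nil .nil) (.cons [12, 10, 8, 2, 4, 6, 16, 18, 12, 10, 6, 8, 2, 4, 6, 16, 0, 2, 4, 6, 8, 10, 12, 14] .nil (.cons [18, 16, 6, 8, 4, 6, 16, 18, 12, 10, 6, 8, 2, 4, 6, 16, 0, 2, 4, 6, 8, 10, 12, 14] (.cons [12, 10, 8, 2, 4, 6, 14, 16, 8, 4, 6, 14, 10, 12, 8, 10, 4, 6, 8, 2, 4, 6, 14, 16, 12, 10, 6, 8, 2, 4, 6, 14, 0, 2, 4, 6, 8, 10, 12] (.cons [4, 6, 12, 14, 8, 6, 4, 0, 2, 8] .nil .nil) .nil) (.cons [14, 12, 10, 8, 4, 6, 16, 18, 12, 10, 6, 8, 2, 4, 6, 16, 0, 2, 4, 6, 8, 10, 12, 14] (.cons [14, 10, 8, 6, 4, 2, 0, 10, 12, 6, 14, 8, 10, 6, 8, 4, 6, 14, 16, 14, 12, 10, 6, 8, 4, 6, 14, 2, 4, 6, 8, 10, 12] (.cons [8, 4, 6, 12, 14, 12, 6, 4, 10, 8, 6, 4, 0, 2, 4,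 6, 8, 10] .nil .nil) .nil) (.cons [6, 8, 0, 2, 4, 6, 16, 18, 16, 10, 6, 8, 2, 4, 6, 16, 0, 2, 4, 6, 8, 10, 12, 14] (.cons [16, 2, 4, 6, 14, 10, 12, 8, 10, 4, 6, 8, 0, 2, 4, 6, 14, 16, 12, 10, 8, 2, 4, 6, 14, 0, 2, 4, 6, 8, 10, 12] (.cons [10, 8, 4, 6, 12, 14, 12, 10, 4, 6, 8, 10, 0, 12, 6, 4, 2, 4] .nil .nil) .nil) (.cons [10, 8, 0, 2, 4, 6, 16, 18, 16, 10, 6, 8, 2, 4, 6, 16, 0, 2, 4, 6, 8, 10, 12, 14] .nil (.cons [4, 6, 8, 2, 4, 6, 16, 18, 16, 10, 6, 8, 2, 4, 6, 16, 0, 2, 4, 6, 8, 10, 12, 14] .nil (.cons [16, 6, 8, 2, 4, 6, 16, 18, 16, 10, 6, 8, 2, 4, 6, 16, 0, 2, 4, 6, 8, 10, 12, 14] (.cons [16, 4, 6, 14, 12, 8, 10, 4, 6, 8, 2, 4, 6, 14, 16, 14, 8, 10, 6, 8, 2, 4, 6, 14, 0, 2, 4, 6, 8, 10, 12] (.cons [6, 12,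 14, 10, 6, 4, 0, 2, 4, 6] .nil .nil) .nil) (.cons [8, 10, 6, 8, 4, 6, 16, 18, 16, 10, 6, 8, 2, 4, 6, 16, 0, 2, 4, 6, 8, 10, 12, 14] (.cons [12, 10, 8, 0, 2, 4, 6, 14, 12, 8, 10, 6, 8, 0, 2, 4, 6, 14, 16, 12, 10, 8, 2, 4, 6, 14, 0, 2, 4, 6, 8, 10, 12] (.cons [10, 2, 4, 0, 2, 6, 4, 12, 14] .nil .nil) .nil) (.cons [14, 12, 10, 8, 4, 6, 16, 18, 16, 10, 6, 8, 2, 4, 6, 16, 0, 2, 4, 6, 8, 10, 12, 14] (.cons [16, 6, 8, 4, 10, 0, 2, 4, 6, 14, 12, 8, 10, 6, 8, 4, 6, 14, 16, 14, 12, 10, 6, 8, 2, 4, 6, 14, 0, 2, 4, 6, 8, 10, 12] (.cons [12, 6, 12, 14, 4, 6, 8, 10] .nil .nil) .nil) (.cons [12, 10, 8, 0, 2, 4, 6, 16, 18, 10, 6, 8, 2, 4, 6, 16, 0, 2, 4, 6, 8, 10, 12, 14] (.cons [16, 14, 6, 8, 4, 6, 14, 16, 14, 10, 12, 8, 10,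 4, 6, 8, 2, 4, 6, 14, 0, 2, 4, 6, 8, 10, 12] .nil .nil) (.cons [10, 4, 6, 8, 2, 4, 6, 16, 18, 10, 6, 8, 2, 4, 6, 16, 0, 2, 4, 6, 8, 10, 12, 14] (.cons [14, 16, 10, 8, 10, 6, 2, 4, 6, 14, 8, 10, 12, 6, 8, 10, 4, 6, 8, 0, 2, 4, 6, 14, 16, 6, 8, 4, 6, 14, 0, 2, 4, 6, 8, 10, 12] .nil .nil) (.cons [8, 10, 6, 8, 2, 4, 6, 16, 18, 10, 6, 8, 2, 4, 6, 16, 0, 2, 4, 6, 8, 10, 12, 14] (.cons [14, 12, 10, 4, 6, 8, 0, 2, 4, 6, 14, 16, 10, 8, 2, 4, 6, 14, 0, 2, 4, 6, 8, 10, 12] .nil .nil) (.cons [12, 10, 6, 8, 2, 4, 6, 16, 18, 10, 6, 8, 2, 4, 6, 16, 0, 2, 4, 6, 8, 10, 12, 14] (.cons [4, 6, 14, 16, 6, 8, 4, 6, 14, 10, 12, 8, 10, 4, 6, 8, 0, 2, 4, 6, 14, 16, 10, 4, 6, 8, 2, 4, 6, 14, 0, 2, 4, 6, 8, 10, 12] (.cons [6, 12, 6, 8,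 4, 2, 10, 14, 8, 12] .nil .nil) .nil) (.cons [16, 10, 6, 8, 2, 4, 6, 16, 18, 10, 6, 8, 2, 4, 6, 16, 0, 2, 4, 6, 8, 10, 12, 14] (.cons [8, 6, 14, 16, 4, 6, 14, 8, 10, 6, 8, 4, 6, 14, 16, 12, 10, 8, 2, 4, 6, 14, 0, 2, 4, 6, 8, 10, 12] (.cons [8, 6, 0, 2, 12, 14, 4, 8, 6, 10, 4] .nil .nil) .nil) (.cons [14, 12, 10, 8, 2, 4, 6, 16, 18, 10, 6, 8, 2, 4, 6, 16, 0, 2, 4, 6, 8, 10, 12, 14] (.cons [8, 6, 16, 4, 2, 10, 12, 8, 10, 6, 8, 4, 6, 14, 16, 12, 10, 6, 8, 4, 6, 14, 0, 2, 4, 6, 8, 10, 12] .nil .nil) (.cons [12, 8, 10, 6, 8, 4, 6, 16, 18, 10, 6, 8, 2, 4, 6, 16, 0, 2, 4, 6, 8, 10, 12, 14] (.cons [4, 6, 14, 12, 8, 10, 4, 6, 8, 2, 4, 6, 14, 16, 8, 10, 6, 8, 2, 4, 6, 14, 0, 2, 4, 6, 8, 10, 12] (.cons [0, 2, 4, 12, 6,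 8, 10, 4, 6, 12, 14, 8, 6, 4, 2, 4] .nil .nil) .nil) (.cons [14, 12, 10, 6, 8, 4, 6, 16, 18, 10, 6, 8, 2, 4, 6, 16, 0, 2, 4, 6, 8, 10, 12, 14] .nil (.cons [18, 16, 10, 6, 8, 4, 6, 16, 18, 10, 6, 8, 2, 4, 6, 16, 0, 2, 4, 6, 8, 10, 12, 14] (.cons [4, 6, 14, 8, 10, 6, 8, 0, 2, 4, 6, 14, 16, 14, 12, 10, 6, 8, 2, 4, 6, 14, 0, 2, 4, 6, 8, 10, 12] (.cons [4, 6, 2, 12, 14, 6, 4, 8, 12] (.cons [5, 1, 1, 1, 3] .nil .nil) .nil) .nil) (.cons [10, 6, 8, 0, 2, 4, 6, 16, 18, 16, 6, 8, 2, 4, 6, 16, 0, 2, 4, 6, 8, 10, 12, 14] (.cons [14, 8, 16, 6, 4, 2, 0, 4, 10, 14, 12, 8, 10, 6, 8, 4, 6, 14, 16, 12, 10, 6, 8, 4, 6, 14, 2, 4, 6, 8, 10, 12] (.cons [14, 12, 6, 4, 2, 4, 6, 14, 12, 6, 4, 14, 12] .nil .nil) .nil) (.cons [12, 10,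 6, 8, 2, 4, 6, 16, 18, 16, 6, 8, 2, 4, 6, 16, 0, 2, 4, 6, 8, 10, 12, 14] (.cons [14, 16, 6, 8, 2, 4, 6, 14, 10, 12, 6, 8, 10, 4, 6, 8, 2, 4, 6, 14, 16, 6, 8, 2, 4, 6, 14, 0, 2, 4, 6, 8, 10, 12] (.cons [14, 10, 12, 6, 4, 2, 12, 6, 4] .nil .nil) .nil) (.cons [12, 8, 10, 6, 8, 4, 6, 16, 18, 16, 6, 8, 2, 4, 6, 16, 0, 2, 4, 6, 8, 10, 12, 14] (.cons [14, 16, 8, 4, 6, 14, 10, 12, 8, 10, 4, 6, 8, 2, 4, 6, 14, 16, 14, 8, 10, 6, 8, 2, 4, 6, 14, 0, 2, 4, 6, 8, 10, 12] .nil .nil) (.cons [16, 8, 10, 6, 8, 4, 6, 16, 18, 16, 6, 8, 2, 4, 6, 16, 0, 2, 4, 6, 8, 10, 12, 14] (.cons [10, 12, 8, 10, 6, 8, 2, 4, 6, 14, 16, 6, 14, 12, 10, 4, 6, 8, 2, 4, 6, 14, 0, 2, 4, 6, 8, 10, 12] .nil .nil) (.cons [14, 12, 10, 6, 8, 4, 6, 16, 18,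 16, 6, 8, 2, 4, 6, 16, 0, 2, 4, 6, 8, 10, 12, 14] (.cons [2, 4, 6, 14, 16, 10, 8, 4, 6, 14, 10, 12, 8, 10, 4, 6, 8, 2, 4, 6, 14, 16, 10, 6, 8, 2, 4, 6, 14, 0, 2, 4, 6, 8, 10, 12] .nil .nil) (.cons [16, 10, 6, 8, 0, 2, 4, 6, 16, 18, 6, 8, 2, 4, 6, 16, 0, 2, 4, 6, 8, 10, 12, 14] (.cons [16, 12, 8, 10, 6, 8, 4, 6, 14, 10, 12, 8, 10, 6, 8, 0, 2, 4, 6, 14, 16, 12, 10, 8, 2, 4, 6, 14, 0, 2, 4, 6, 8, 10, 12] (.cons [12, 4, 6, 0, 2, 4, 6, 14, 12, 6, 8, 10, 8, 6, 12, 14, 4, 6, 0, 2] .nil .nil) .nil) (.cons [12, 10, 4, 6, 8, 2, 4, 6, 16, 18, 6, 8, 2, 4, 6, 16, 0, 2, 4, 6, 8, 10, 12, 14] (.cons [16, 8, 6, 14, 4, 6, 8, 2, 4, 6, 14, 16, 6, 14, 10, 4, 6, 8, 2, 4, 6, 14, 0, 2, 4, 6, 8, 10, 12] (.cons [10, 4, 0, 2] .nil .nil)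 .nil) (.cons [16, 10, 4, 6, 8, 2, 4, 6, 16, 18, 6, 8, 2, 4, 6, 16, 0, 2, 4, 6, 8, 10, 12, 14] .nil (.cons [18, 16, 10, 6, 8, 2, 4, 6, 16, 18, 6, 8, 2, 4, 6, 16, 0, 2, 4, 6, 8, 10, 12, 14] .nil (.cons [10, 12, 8, 10, 6, 8, 4, 6, 16, 18, 6, 8, 2, 4, 6, 16, 0, 2, 4, 6, 8, 10, 12, 14] (.cons [14, 16, 10, 8, 6, 14, 10, 12, 8, 10, 4, 6, 8, 2, 4, 6, 14, 16, 14, 12, 8, 10, 4, 6, 8, 2, 4, 6, 14, 0, 2, 4, 6, 8, 10, 12] (.cons [6, 8, 4, 6, 12, 14, 10, 8, 12, 6, 8, 4, 2, 4, 10, 8] .nil .nil) .nil) (.cons [16, 12, 8, 10, 6, 8, 4, 6, 16, 18, 6, 8, 2, 4, 6, 16, 0, 2, 4, 6, 8, 10, 12, 14] (.cons [16, 8, 6, 14, 12, 10, 4, 6, 8, 2, 4, 6, 14, 16, 12, 8, 10, 4, 6, 8, 2, 4, 6, 14, 0, 2, 4, 6, 8, 10, 12] (.cons [6, 8, 2, 4, 6, 12,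 10, 8, 6, 4, 8, 10, 0, 2, 12, 14, 6, 4] .nil .nil) .nil) (.cons [16, 14, 12, 10, 6, 8, 4, 6, 16, 18, 6, 8, 2, 4, 6, 16, 0, 2, 4, 6, 8, 10, 12, 14] (.cons [6, 14, 16, 8, 10, 6, 4, 0, 2, 4, 6, 14, 12, 8, 10, 6, 8, 4, 6, 14, 16, 14, 12, 10, 6, 8, 2, 4, 6, 14, 0, 2, 4, 6, 8, 10, 12] (.cons [10, 12, 4, 8, 6, 4, 2] .nil .nil) .nil) (.cons [18, 16, 12, 10, 6, 8, 4, 6, 16, 18, 6, 8, 2, 4, 6, 16, 0, 2, 4, 6, 8, 10, 12, 14] (.cons [16, 10, 8, 6, 14, 8, 10, 4, 6, 8, 2, 4, 6, 14, 16, 14, 10, 4, 6, 8, 2, 4, 6, 14, 0, 2, 4, 6, 8, 10, 12] (.cons [8, 6, 4, 2, 4, 12, 14, 8] .nil .nil) .nil) (.cons [10, 8, 0, 2, 4, 6, 16, 18, 14, 12, 10, 8, 2, 4, 6, 16, 0, 2, 4, 6, 8, 10, 12, 14] (.cons [6, 8, 2, 4, 6, 14, 16, 12, 8, 10, 6, 8,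 2, 4, 6, 14, 0, 2, 4, 6, 8, 10, 12] (.cons [10, 8, 6, 12, 14, 0, 12, 4, 2, 6, 8, 10, 8, 12] .nil .nil) .nil) (.cons [10, 6, 8, 2, 4, 6, 16, 18, 14, 12, 10, 8, 2, 4, 6, 16, 0, 2, 4, 6, 8, 10, 12, 14] (.cons [14, 6, 8, 10, 4, 6, 8, 2, 4, 6, 14, 16, 14, 12, 8, 10, 6, 8, 2, 4, 6, 14, 0, 2, 4, 6, 8, 10, 12] (.cons [12, 6, 2, 4, 6, 8, 10, 14, 12, 8, 6, 12, 14, 4, 6, 2] .nil .nil) .nil) (.cons [12, 10, 8, 2, 4, 6, 16, 18, 14, 12, 10, 8, 2, 4, 6, 16, 0, 2, 4, 6, 8, 10, 12, 14] (.cons [8, 6, 14, 12, 8, 10, 4, 6, 8, 2, 4, 6, 14, 16, 10, 6, 8, 4, 6, 14, 0, 2, 4, 6, 8, 10, 12] (.cons [12, 14, 0, 2, 6, 4, 8, 12, 6, 4, 0, 2, 4, 8, 10] .nil .nil) .nil) (.cons [8, 10, 6, 8, 4, 6, 16, 18, 14, 12, 10, 8, 2, 4, 6, 16, 0, 2, 4,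 6, 8, 10, 12, 14] (.cons [16, 14, 6, 8, 10, 4, 6, 8, 0, 2, 4, 6, 14, 16, 14, 12, 10, 6, 8, 4, 6, 14, 0, 2, 4, 6, 8, 10, 12] (.cons [6, 8, 10, 0, 12, 6, 4, 2, 8, 6] .nil .nil) .nil) (.cons [12, 10, 6, 8, 4, 6, 16, 18, 14, 12, 10, 8, 2, 4, 6, 16, 0, 2, 4, 6, 8, 10, 12, 14] (.cons [8, 6, 14, 8, 10, 4, 6, 8, 2, 4, 6, 14, 16, 6, 14, 10, 4, 6, 8, 2, 4, 6, 14, 0, 2, 4, 6, 8, 10, 12] (.cons [4, 14, 12, 6, 8, 12, 2, 4, 6, 12, 2, 8, 4, 6, 10, 0, 2, 12, 14] .nil .nil) .nil) (.cons [14, 12, 10, 8, 4, 6, 16, 18, 14, 12, 10, 8, 2, 4, 6, 16, 0, 2, 4, 6, 8, 10, 12, 14] (.cons [16, 8, 4, 6, 14, 12, 8, 10, 4, 6, 8, 0, 2, 4, 6, 14, 16, 12, 10, 4, 6, 8, 2, 4, 6, 14, 0, 2, 4, 6, 8, 10, 12] (.cons [14, 10, 2, 12, 6, 8, 10, 6, 12,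 14, 4, 8, 6, 4, 2] .nil .nil) .nil) (.cons [12, 10, 8, 0, 2, 4, 6, 16, 18, 12, 10, 8, 2, 4, 6, 16, 0, 2, 4, 6, 8, 10, 12, 14] (.cons [6, 16, 14, 8, 12, 10, 6, 8, 4, 6, 14, 16, 6, 14, 10, 12, 8, 10, 6, 8, 2, 4, 6, 14, 0, 2, 4, 6, 8, 10, 12] (.cons [0, 2, 4, 12, 6, 10, 8, 4, 6, 12, 4, 6, 2, 8, 4, 6, 10, 0, 2, 12, 14] .nil .nil) .nil) (.cons [12, 10, 6, 8, 2, 4, 6, 16, 18, 12, 10, 8, 2, 4, 6, 16, 0, 2, 4, 6, 8, 10, 12, 14] (.cons [12, 10, 6, 8, 4, 6, 14, 10, 12, 8, 10, 6, 8, 0, 2, 4, 6, 14, 16, 12, 10, 8, 2, 4, 6, 14, 0, 2, 4, 6, 8, 10, 12] .nil .nil) (.cons [14, 12, 10, 8, 2, 4, 6, 16, 18, 12, 10, 8, 2, 4, 6, 16, 0, 2, 4, 6, 8, 10, 12, 14] (.cons [6, 8, 2, 4, 6, 14, 10, 12, 8, 10, 6, 8, 0, 2, 4, 6, 14, 16, 8,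 10, 6, 8, 2, 4, 6, 14, 0, 2, 4, 6, 8, 10, 12] (.cons [14, 12, 14, 8, 10, 4, 6, 2, 4, 0, 2, 12] .nil .nil) .nil) (.cons [16, 8, 10, 6, 8, 4, 6, 16, 18, 12, 10, 8, 2, 4, 6, 16, 0, 2, 4, 6, 8, 10, 12, 14] (.cons [12, 10, 8, 4, 6, 14, 12, 8, 10, 4, 6, 8, 2, 4, 6, 14, 16, 14, 12, 10, 4, 6, 8, 2, 4, 6, 14, 0, 2, 4, 6, 8, 10, 12] (.cons [6, 4, 0, 2, 6, 8, 10, 14, 12] .nil .nil) .nil) (.cons [14, 12, 10, 6, 8, 4, 6, 16, 18, 12, 10, 8, 2, 4, 6, 16, 0, 2, 4, 6, 8, 10, 12, 14] (.cons [4, 2, 16, 0, 8, 6, 14, 10, 12, 8, 10, 6, 8, 4, 6, 14, 16, 8, 10, 6, 8, 4, 6, 14, 2, 4, 6, 8, 10, 12] (.cons [2, 6, 8, 4, 2, 12, 6, 4, 0, 2, 8, 10] .nil .nil) .nil) (.cons [16, 12, 10, 6, 8, 4, 6, 16, 18, 12, 10, 8, 2, 4, 6, 16, 0, 2, 4, 6,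 8, 10, 12, 14] (.cons [8, 0, 2, 4, 6, 14, 16, 14, 6, 8, 4, 6, 14, 10, 12, 8, 10, 4, 6, 8, 2, 4, 6, 14, 16, 14, 12, 10, 6, 8, 2, 4, 6, 14, 0, 2, 4, 6, 8, 10, 12] (.cons [2, 4, 6, 12, 14, 8, 2, 10, 0, 12, 6, 4, 2, 4] .nil .nil) .nil) (.cons [18, 16, 10, 6, 8, 4, 6, 16, 18, 12, 10, 8, 2, 4, 6, 16, 0, 2, 4, 6, 8, 10, 12, 14] (.cons [16, 10, 8, 4, 6, 14, 12, 8, 10, 4, 6, 8, 2, 4, 6, 14, 16, 14, 10, 6, 8, 2, 4, 6, 14, 0, 2, 4, 6, 8, 10, 12] (.cons [8, 10, 8, 6, 4, 2] .nil .nil) .nil) (.cons [8, 10, 6, 8, 0, 2, 4, 6, 16, 18, 10, 8, 2, 4, 6, 16, 0, 2, 4, 6, 8, 10, 12, 14] (.cons [16, 10, 14, 6, 8, 4, 6, 14, 10, 12, 8, 10, 4, 6, 8, 2, 4, 6, 14, 16, 12, 10, 8, 2, 4, 6, 14, 0, 2, 4, 6, 8, 10, 12] (.cons [12, 14, 2, 4,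 6, 4, 0, 2, 10, 8, 4, 6, 8, 10] .nil .nil) .nil) (.cons [16, 10, 6, 8, 0, 2, 4, 6, 16, 18, 10, 8, 2, 4, 6, 16, 0, 2, 4, 6, 8, 10, 12, 14] (.cons [16, 8, 10, 0, 2, 4, 6, 14, 16, 8, 6, 14, 10, 12, 8, 10, 6, 8, 4, 6, 14, 16, 8, 2, 4, 6, 14, 0, 2, 4, 6, 8, 10, 12] (.cons [6, 12, 14, 2, 4, 0, 12, 2, 10, 8, 4, 6, 4, 2, 8, 10] .nil .nil) .nil) (.cons [8, 10, 4, 6, 8, 2, 4, 6, 16, 18, 10, 8, 2, 4, 6, 16, 0, 2, 4, 6, 8, 10, 12, 14] (.cons [8, 10, 12, 6, 8, 10, 4, 6, 8, 0, 2, 4, 6, 14, 16, 10, 4, 6, 8, 2, 4, 6, 14, 0, 2, 4, 6, 8, 10, 12] (.cons [10, 0, 6, 4, 8, 2, 12, 6, 8] .nil .nil) .nil) (.cons [12, 10, 4, 6, 8, 2, 4, 6, 16, 18, 10, 8, 2, 4, 6, 16, 0, 2, 4, 6, 8, 10, 12, 14] (.cons [14, 4, 6, 8, 0, 2, 10, 14, 8, 6,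 14, 16, 4, 6, 14, 8, 10, 12, 6, 8, 10, 4, 6, 8, 2, 4, 6, 14, 16, 6, 8, 4, 6, 14, 0, 2, 4, 6, 8, 10, 12] (.cons [0, 2, 4, 12, 6, 14, 12, 6, 8, 10, 8, 6, 12, 14, 4, 6, 2] .nil .nil) .nil) (.cons [16, 10, 4, 6, 8, 2, 4, 6, 16, 18, 10, 8, 2, 4, 6, 16, 0, 2, 4, 6, 8, 10, 12, 14] (.cons [14, 10, 16, 4, 6, 8, 0, 2, 14, 6, 4, 8, 6, 14, 10, 12, 8, 10, 6, 8, 4, 6, 14, 16, 2, 4, 6, 14, 0, 2, 4, 6, 8, 10, 12] (.cons [2, 4, 6, 12, 14, 12, 6, 4, 8, 12, 6, 4, 0, 2, 4, 6, 8, 10] .nil .nil) .nil) (.cons [6, 16, 4, 6, 8, 2, 4, 6, 16, 18, 10, 8, 2, 4, 6, 16, 0, 2, 4, 6, 8, 10, 12, 14] (.cons [16, 0, 2, 4, 6, 14, 8, 10, 6, 8, 4, 6, 14, 16, 14, 8, 10, 6, 8, 2, 4, 6, 14, 0, 2, 4, 6, 8, 10, 12] (.cons [8, 6, 12, 14, 4, 10, 0, 2, 4,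 8, 6] .nil .nil) .nil) (.cons [12, 8, 10, 6, 8, 2, 4, 6, 16, 18, 10, 8, 2, 4, 6, 16, 0, 2, 4, 6, 8, 10, 12, 14] (.cons [16, 12, 10, 8, 2, 4, 6, 14, 8, 10, 4, 6, 8, 2, 4, 6, 14, 16, 10, 4, 6, 8, 2, 4, 6, 14, 0, 2, 4, 6, 8, 10, 12] (.cons [14, 6, 2, 4, 6, 0, 2, 8, 10] .nil .nil) .nil) (.cons [16, 8, 10, 6, 8, 2, 4, 6, 16, 18, 10, 8, 2, 4, 6, 16, 0, 2, 4, 6, 8, 10, 12, 14] (.cons [16, 2, 4, 10, 0, 2, 4, 6, 14, 12, 8, 10, 6, 8, 4, 6, 14, 16, 14, 12, 10, 6, 8, 2, 4, 6, 14, 0, 2, 4, 6, 8, 10, 12] .nil .nil) (.cons [14, 12, 8, 10, 6, 8, 4, 6, 16, 18, 10, 8, 2, 4, 6, 16, 0, 2, 4, 6, 8, 10, 12, 14] (.cons [14, 12, 6, 8, 10, 4, 6, 8, 2, 4, 6, 14, 16, 8, 10, 6, 8, 4, 6, 14, 0, 2, 4, 6, 8, 10, 12] (.cons [0, 12, 6, 4, 2,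 10, 6, 8, 4, 6, 10] (.cons [0, 0, 4, 3, 1, 5] .nil .nil) .nil) .nil) (.cons [16, 12, 8, 10, 6, 8, 4, 6, 16, 18, 10, 8, 2, 4, 6, 16, 0, 2, 4, 6, 8, 10, 12, 14] (.cons [14, 12, 10, 6, 8, 2, 4, 6, 14, 16, 14, 12, 8, 10, 6, 8, 2, 4, 6, 14, 0, 2, 4, 6, 8, 10, 12] (.cons [2, 4, 6, 0, 2, 8, 10, 6, 12, 4, 14, 12] .nil .nil) .nil) (.cons [6, 16, 8, 10, 6, 8, 4, 6, 16, 18, 10, 8, 2, 4, 6, 16, 0, 2, 4, 6, 8, 10, 12, 14] (.cons [0, 2, 4, 6, 14, 16, 8, 0, 2, 4, 6, 14, 10, 12, 8, 10, 4, 6, 8, 0, 2, 4, 6, 14, 16, 10, 6, 8, 2, 4, 6, 14, 0, 2, 4, 6, 8, 10, 12] (.cons [2, 10, 4, 6, 8, 10, 12, 6, 4, 2, 4] (.cons [0, 4, 2, 5] .nil .nil) .nil) .nil) (.cons [18, 16, 12, 10, 6, 8, 4, 6, 16, 18, 10, 8, 2, 4, 6, 16, 0, 2, 4, 6, 8, 10,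 12, 14] (.cons [0, 2, 4, 6, 14, 16, 10, 8, 6, 14, 10, 12, 8, 10, 4, 6, 8, 0, 2, 4, 6, 14, 16, 12, 10, 4, 6, 8, 2, 4, 6, 14, 0, 2, 4, 6, 8, 10, 12] (.cons [14, 12, 8, 10, 6, 4, 2, 12, 6, 4, 14, 12] .nil .nil) .nil) (.cons [16, 8, 10, 6, 8, 0, 2, 4, 6, 16, 18, 8, 2, 4, 6, 16, 0, 2, 4, 6, 8, 10, 12, 14] (.cons [14, 16, 14, 6, 8, 4, 6, 14, 10, 12, 8, 10, 4, 6, 8, 0, 2, 4, 6, 14, 16, 10, 4, 6, 8, 2, 4, 6, 14, 0, 2, 4, 6, 8, 10, 12] (.cons [14, 12, 6, 4, 2, 14, 4, 8, 10, 12, 6, 4] .nil .nil) .nil) (.cons [14, 12, 10, 6, 8, 0, 2, 4, 6, 16, 18, 8, 2, 4, 6, 16, 0, 2, 4, 6, 8, 10, 12, 14] (.cons [16, 8, 6, 4, 0, 2, 6, 8, 4, 6, 14, 10, 12, 8, 10, 6, 8, 4, 6, 14, 16, 12, 10, 4, 6, 8, 2, 4, 6, 14, 0, 2, 4, 6, 8, 10, 12]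 .nil .nil) (.cons [10, 12, 8, 10, 6, 8, 2, 4, 6, 16, 18, 8, 2, 4, 6, 16, 0, 2, 4, 6, 8, 10, 12, 14] (.cons [14, 6, 8, 2, 4, 6, 14, 16, 14, 8, 10, 6, 8, 2, 4, 6, 14, 0, 2, 4, 6, 8, 10, 12] (.cons [10, 8, 6, 12, 14, 8, 4, 6, 4, 0, 2, 8, 6, 10, 4] .nil .nil) .nil) (.cons [6, 16, 8, 10, 6, 8, 2, 4, 6, 16, 18, 8, 2, 4, 6, 16, 0, 2, 4, 6, 8, 10, 12, 14] (.cons [2, 4, 6, 14, 8, 10, 4, 6, 8, 2, 4, 6, 14, 16, 8, 10, 6, 8, 2, 4, 6, 14, 0, 2, 4, 6, 8, 10, 12] (.cons [8, 0, 2, 4, 10, 12, 8, 6, 4, 12, 14] .nil .nil) .nil) (.cons [18, 16, 8, 10, 6, 8, 2, 4, 6, 16, 18, 8, 2, 4, 6, 16, 0, 2, 4, 6, 8, 10, 12, 14] (.cons [6, 14, 16, 8, 6, 14, 12, 10, 4, 6, 8, 2, 4, 6, 14, 16, 14, 8, 10, 4, 6, 8, 2, 4, 6, 14, 0, 2, 4, 6, 8, 10,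 12] .nil .nil) (.cons [6, 16, 12, 8, 10, 6, 8, 4, 6, 16, 18, 8, 2, 4, 6, 16, 0, 2, 4, 6, 8, 10, 12, 14] (.cons [14, 12, 6, 8, 10, 2, 4, 6, 8, 0, 2, 4, 6, 14, 16, 10, 4, 6, 8, 2, 4, 6, 14, 0, 2, 4, 6, 8, 10, 12] (.cons [14, 6, 2, 8, 12, 6, 8, 10, 4, 6, 2] .nil .nil) .nil) (.cons [4, 6, 16, 8, 10, 6, 8, 4, 6, 16, 18, 8, 2, 4, 6, 16, 0, 2, 4, 6, 8, 10, 12, 14] (.cons [0, 2, 4, 6, 14, 16, 6, 8, 4, 6, 14, 10, 12, 8, 10, 4, 6, 8, 0, 2, 4, 6, 14, 16, 10, 4, 6, 8, 2, 4, 6, 14, 0, 2, 4, 6, 8, 10, 12] .nil .nil) (.cons [12, 14, 10, 12, 8, 10, 6, 8, 4, 6, 16, 18, 2, 4, 6, 16, 0, 2, 4, 6, 8, 10, 12, 14] (.cons [14, 6, 8, 4, 6, 14, 10, 12, 8, 10, 6, 8, 2, 4, 6, 14, 16, 8, 10, 6, 8, 2, 4, 6, 14, 0, 2, 4, 6, 8, 10, 12] (.cons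 [8, 4, 0, 2, 10, 8, 6, 4, 12, 14] .nil .nil) .nil) (.cons [16, 18, 8, 6, 16, 12, 14, 10, 12, 8, 10, 6, 8, 4, 6, 16, 0, 2, 4, 6, 8, 10, 12, 14] (.cons [2, 4, 6, 14, 16, 14, 10, 6, 8, 4, 6, 14, 10, 12, 6, 8, 10, 4, 6, 8, 2, 4, 6, 14, 16, 10, 6, 8, 2, 4, 6, 14, 0, 2, 4, 6, 8, 10, 12] (.cons [8, 10, 2, 0, 6, 4, 8, 2, 12, 6, 8] .nil .nil) .nil) (.cons [4, 6, 16, 18, 16, 12, 14, 10, 12, 8, 10, 6, 8, 4, 6, 16, 0, 2, 4, 6, 8, 10, 12, 14] (.cons [14, 16, 2, 4, 6, 14, 8, 10, 6, 8, 4, 6, 14, 16, 6, 8, 2, 4, 6, 14, 0, 2, 4, 6, 8, 10, 12] (.cons [6, 12, 8, 14, 2, 0, 6, 4, 2, 12, 8, 6, 4, 12] .nil .nil) .nil) (.cons [8, 4, 6, 16, 18, 12, 14, 10, 12, 8, 10, 6, 8, 4, 6, 16, 0, 2, 4, 6, 8, 10, 12, 14] (.cons [2, 16, 6, 14, 12,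 8, 10, 6, 8, 4, 6, 14, 16, 12, 10, 8, 4, 6, 14, 0, 2, 4, 6, 8, 10, 12] (.cons [0, 2, 12, 6, 4, 12, 14] .nil .nil) .nil) (.cons [16, 6, 8, 4, 6, 16, 14, 10, 12, 8, 10, 6, 8, 4, 6, 16, 0, 2, 4, 6, 8, 10, 12, 14] (.cons [4, 6, 14, 16, 8, 6, 14, 4, 6, 8, 2, 4, 6, 14, 16, 12, 6, 8, 10, 4, 6, 8, 2, 4, 6, 14, 0, 2, 4, 6, 8, 10, 12] .nil .nil) (.cons [8, 4, 6, 16, 18, 16, 14, 10, 12, 8, 10, 6, 8, 4, 6, 16, 0, 2, 4, 6, 8, 10, 12, 14] (.cons [8, 10, 6, 8, 2, 4, 6, 14, 16, 14, 10, 12, 8, 10, 6, 8, 4, 6, 14, 0, 2, 4, 6, 8, 10, 12] (.cons [14, 10, 8, 6, 10, 4, 2, 4] .nil .nil) .nil) (.cons [0, 2, 4, 6, 16, 18, 14, 10, 12, 8, 10, 6, 8, 4, 6, 16, 0, 2, 4, 6, 8, 10, 12, 14] (.cons [8, 10, 4, 6, 8, 0, 2, 4, 6, 14, 16, 14, 12,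 10, 4, 6, 8, 2, 4, 6, 14, 0, 2, 4, 6, 8, 10, 12] .nil .nil) (.cons [6, 8, 4, 6, 16, 18, 14, 10, 12, 8, 10, 6, 8, 4, 6, 16, 0, 2, 4, 6, 8, 10, 12, 14] (.cons [6, 14, 8, 10, 6, 8, 4, 6, 14, 16, 12, 10, 8, 6, 14, 4, 6, 8, 10, 12] (.cons [2, 10, 6, 4, 12, 2, 6, 8, 10, 12, 6, 8] .nil .nil) .nil) (.cons [12, 10, 8, 6, 16, 18, 14, 10, 12, 8, 10, 6, 8, 4, 6, 16, 0, 2, 4, 6, 8, 10, 12, 14] (.cons [10, 8, 6, 14, 12, 8, 10, 4, 6, 8, 2, 4, 6, 14, 16, 8, 10, 6, 8, 4, 6, 14, 0, 2, 4, 6, 8, 10, 12] .nil .nil) (.cons [8, 6, 16, 18, 8, 6, 16, 10, 12, 8, 10, 6, 8, 4, 6, 16, 0, 2, 4, 6, 8, 10, 12, 14] (.cons [16, 14, 10, 12, 6, 8, 10, 2, 4, 6, 8, 0, 2, 4, 6, 14, 16, 10, 6, 8, 2, 4, 6, 14, 0, 2, 4, 6, 8, 10, 12] .nil .nil) (.cons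 [10, 8, 6, 16, 18, 6, 16, 10, 12, 8, 10, 6, 8, 4, 6, 16, 0, 2, 4, 6, 8, 10, 12, 14] .nil (.cons [8, 0, 2, 4, 6, 16, 18, 10, 12, 8, 10, 6, 8, 4, 6, 16, 0, 2, 4, 6, 8, 10, 12, 14] (.cons [16, 12, 10, 6, 14, 6, 4, 2, 8, 4, 6, 14, 10, 12, 8, 10, 6, 8, 4, 6, 14, 16, 8, 2, 4, 6, 14, 0, 2, 4, 6, 8, 10, 12] (.cons [6, 2, 8, 10, 6, 12, 4, 14, 12] .nil .nil) .nil) (.cons [16, 6, 8, 4, 6, 16, 18, 10, 12, 8, 10, 6, 8, 4, 6, 16, 0, 2, 4, 6, 8, 10, 12, 14] (.cons [12, 10, 4, 6, 8, 2, 4, 6, 14, 16, 8, 10, 6, 8, 4, 6, 14, 0, 2, 4, 6, 8, 10, 12] (.cons [2, 4, 6, 12, 14, 6, 8, 4, 12, 6, 2, 8, 10, 4, 6, 0, 2] .nil .nil) .nil) (.cons [6, 8, 4, 6, 16, 18, 16, 14, 12, 8, 10, 6, 8, 4, 6, 16, 0, 2, 4, 6, 8, 10, 12, 14] (.cons [14,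 16, 6, 14, 10, 4, 6, 8, 2, 4, 6, 14, 16, 12, 6, 8, 10, 4, 6, 8, 2, 4, 6, 14, 0, 2, 4, 6, 8, 10, 12] (.cons [14, 8, 6, 4, 0, 2, 10, 8, 4, 6, 8, 10] (.cons [1, 5, 1, 4, 0, 3] .nil .nil) .nil) .nil) (.cons [10, 8, 2, 4, 6, 16, 18, 14, 12, 8, 10, 6, 8, 4, 6, 16, 0, 2, 4, 6, 8, 10, 12, 14] (.cons [14, 8, 0, 6, 14, 8, 10, 4, 6, 8, 2, 4, 6, 14, 16, 12, 8, 10, 6, 8, 4, 6, 14, 0, 2, 4, 6, 8, 10, 12] .nil .nil) (.cons [14, 12, 10, 8, 6, 16, 18, 14, 12, 8, 10, 6, 8, 4, 6, 16, 0, 2, 4, 6, 8, 10, 12, 14] (.cons [8, 0, 2, 4, 6, 14, 16, 10, 8, 6, 14, 10, 12, 8, 10, 4, 6, 8, 2, 4, 6, 14, 16, 14, 10, 4, 6, 8, 2, 4, 6, 14, 0, 2, 4, 6, 8, 10, 12] .nil .nil) (.cons [14, 12, 10, 8, 6, 16, 18, 16, 12, 8, 10, 6, 8, 4, 6, 16, 0, 2,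 4, 6, 8, 10, 12, 14] (.cons [4, 6, 14, 16, 10, 8, 6, 14, 12, 8, 10, 4, 6, 8, 0, 2, 4, 6, 14, 16, 12, 10, 4, 6, 8, 2, 4, 6, 14, 0, 2, 4, 6, 8, 10, 12] (.cons [8, 2, 14, 4, 2, 0, 6, 12, 4, 6, 2, 8, 10, 6, 8, 12] .nil .nil) .nil) (.cons [10, 8, 0, 2, 4, 6, 16, 18, 12, 8, 10, 6, 8, 4, 6, 16, 0, 2, 4, 6, 8, 10, 12, 14] (.cons [10, 4, 6, 8, 2, 4, 6, 14, 16, 10, 8, 4, 6, 14, 8, 10, 12, 6, 8, 10, 4, 6, 8, 0, 2, 4, 6, 14, 16, 12, 10, 4, 6, 8, 2, 4, 6, 14, 0, 2, 4, 6, 8, 10, 12] (.cons [8, 6, 12, 14, 2, 4, 10, 8, 6, 4, 0, 2, 4, 6, 8, 10] .nil .nil) .nil) (.cons [4, 6, 8, 2, 4, 6, 16, 18, 12, 8, 10, 6, 8, 4, 6, 16, 0, 2, 4, 6, 8, 10, 12, 14] (.cons [16, 4, 6, 14, 12, 8, 10, 6, 8, 2, 4, 6, 14, 16, 12, 8, 10, 4, 6, 8, 2,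 4, 6, 14, 0, 2, 4, 6, 8, 10, 12] (.cons [8, 0, 2, 4, 6, 12, 14, 6, 2, 4, 6, 8, 10, 12, 6, 4, 2] .nil .nil) .nil) (.cons [8, 10, 6, 8, 4, 6, 16, 18, 12, 8, 10, 6, 8, 4, 6, 16, 0, 2, 4, 6, 8, 10, 12, 14] (.cons [2, 4, 6, 14, 16, 14, 6, 8, 4, 6, 14, 10, 12, 8, 10, 4, 6, 8, 2, 4, 6, 14, 16, 10, 6, 8, 2, 4, 6, 14, 0, 2, 4, 6, 8, 10, 12] (.cons [0, 2, 12, 6, 4, 12, 6, 8, 10, 6, 12, 14, 4, 8, 6, 4, 2] .nil .nil) .nil) (.cons [14, 12, 10, 8, 4, 6, 16, 18, 12, 8, 10, 6, 8, 4, 6, 16, 0, 2, 4, 6, 8, 10, 12, 14] (.cons [10, 6, 8, 4, 6, 14, 16, 10, 6, 8, 4, 6, 14, 10, 12, 8, 10, 4, 6, 8, 2, 4, 6, 14, 16, 14, 12, 10, 6, 8, 2, 4, 6, 14, 0, 2, 4, 6, 8, 10, 12] (.cons [14, 12, 10, 4, 6, 8, 10, 0, 12, 6, 4, 2, 4] .nil .nil) .nil)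 (.cons [4, 6, 8, 2, 4, 6, 16, 18, 16, 8, 10, 6, 8, 4, 6, 16, 0, 2, 4, 6, 8, 10, 12, 14] .nil (.cons [12, 10, 8, 2, 4, 6, 16, 18, 16, 8, 10, 6, 8, 4, 6, 16, 0, 2, 4, 6, 8, 10, 12, 14] (.cons [14, 16, 8, 10, 2, 8, 4, 6, 14, 12, 8, 10, 4, 6, 8, 2, 4, 6, 14, 16, 14, 12, 10, 4, 6, 8, 2, 4, 6, 14, 0, 2, 4, 6, 8, 10, 12] .nil .nil) (.cons [12, 10, 6, 8, 4, 6, 16, 18, 16, 8, 10, 6, 8, 4, 6, 16, 0, 2, 4, 6, 8, 10, 12, 14] (.cons [8, 6, 14, 16, 6, 4, 8, 10, 6, 0, 2, 4, 6, 14, 8, 10, 12, 6, 8, 10, 4, 6, 8, 2, 4, 6, 14, 16, 14, 6, 8, 4, 6, 14, 0, 2, 4, 6, 8, 10, 12] (.cons [10, 8, 10, 0, 4, 12, 6, 4, 2, 8, 6] .nil .nil) .nil) (.cons [14, 12, 10, 8, 4, 6, 16, 18, 16, 8, 10, 6, 8, 4, 6, 16, 0, 2, 4, 6, 8, 10, 12, 14] (.cons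 [14, 16, 10, 6, 8, 2, 4, 6, 14, 10, 12, 8, 10, 4, 6, 8, 2, 4, 6, 14, 16, 12, 10, 4, 6, 8, 2, 4, 6, 14, 0, 2, 4, 6, 8, 10, 12] (.cons [6, 4, 0, 2, 4, 8] .nil .nil) .nil) (.cons [4, 6, 8, 0, 2, 4, 6, 16, 18, 8, 10, 6, 8, 4, 6, 16, 0, 2, 4, 6, 8, 10, 12, 14] (.cons [2, 4, 6, 8, 14, 6, 4, 2, 0, 2, 16, 10, 12, 8, 10, 6, 8, 4, 6, 14, 16, 12, 10, 6, 8, 4, 6, 14, 2, 4, 6, 8, 10, 12] (.cons [6, 4, 2, 4, 6, 12, 14, 12, 6, 4] .nil .nil) .nil) (.cons [10, 6, 8, 0, 2, 4, 6, 16, 18, 8, 10, 6, 8, 4, 6, 16, 0, 2, 4, 6, 8, 10, 12, 14] (.cons [16, 6, 14, 12, 10, 8, 6, 4, 2, 0, 14, 12, 8, 10, 6, 8, 4, 6, 14, 16, 12, 8, 10, 6, 8, 4, 6, 14, 2, 4, 6, 8, 10, 12] (.cons [0, 2, 8, 4, 6, 12, 14, 4, 8, 6, 4, 0, 2, 4, 8, 10] .nil .nil)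 .nil) (.cons [12, 8, 10, 6, 8, 4, 6, 16, 18, 8, 10, 6, 8, 4, 6, 16, 0, 2, 4, 6, 8, 10, 12, 14] (.cons [6, 2, 0, 4, 2, 14, 16, 8, 6, 14, 10, 12, 8, 10, 6, 8, 4, 6, 14, 16, 8, 2, 4, 6, 14, 0, 2, 4, 6, 8, 10, 12] (.cons [8, 0, 2, 4, 6, 12, 14, 6, 2, 8, 12, 6, 8, 10, 4, 6, 2] .nil .nil) .nil) (.cons [16, 12, 10, 6, 8, 4, 6, 16, 18, 8, 10, 6, 8, 4, 6, 16, 0, 2, 4, 6, 8, 10, 12, 14] (.cons [14, 8, 6, 4, 14, 12, 8, 10, 6, 8, 2, 4, 6, 14, 16, 14, 12, 10, 6, 8, 4, 6, 14, 0, 2, 4, 6, 8, 10, 12] (.cons [12, 6, 12, 4, 2, 6, 8, 10, 8, 12] .nil .nil) .nil) (.cons [18, 16, 10, 6, 8, 4, 6, 16, 18, 8, 10, 6, 8, 4, 6, 16, 0, 2, 4, 6, 8, 10, 12, 14] (.cons [16, 8, 10, 8, 4, 6, 14, 12, 8, 10, 4, 6, 8, 2, 4, 6, 14, 16, 14, 12, 10,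 4, 6, 8, 2, 4, 6, 14, 0, 2, 4, 6, 8, 10, 12] (.cons [6, 12, 14, 6, 12, 4, 6, 8, 10, 12, 6, 4, 2, 4] .nil .nil) .nil) (.cons [10, 8, 2, 4, 6, 16, 18, 16, 14, 12, 10, 6, 8, 4, 6, 16, 0, 2, 4, 6, 8, 10, 12, 14] .nil (.cons [12, 10, 8, 4, 6, 16, 18, 16, 14, 12, 10, 6, 8, 4, 6, 16, 0, 2, 4, 6, 8, 10, 12, 14] (.cons [6, 14, 16, 8, 10, 14, 6, 8, 0, 2, 4, 6, 14, 12, 8, 10, 4, 6, 8, 0, 2, 4, 6, 14, 16, 12, 10, 8, 2, 4, 6, 14, 0, 2, 4, 6, 8, 10, 12] (.cons [6, 8, 4, 6, 12, 10, 8, 6, 4, 2, 10, 12, 14, 8] .nil .nil) .nil) (.cons [14, 12, 10, 8, 6, 16, 18, 16, 14, 12, 10, 6, 8, 4, 6, 16, 0, 2, 4, 6, 8, 10, 12, 14] (.cons [4, 2, 0, 6, 14, 8, 10, 6, 8, 4, 6, 14, 16, 12, 8, 10, 6, 8, 4, 6, 14, 2, 4, 6, 8, 10, 12] (.cons [8,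 14, 12, 6, 8, 10, 4, 2, 6, 4, 12, 14, 8] .nil .nil) .nil) (.cons [10, 6, 8, 2, 4, 6, 16, 18, 14, 12, 10, 6, 8, 4, 6, 16, 0, 2, 4, 6, 8, 10, 12, 14] (.cons [14, 8, 10, 6, 8, 2, 4, 6, 14, 16, 14, 12, 10, 6, 8, 2, 4, 6, 14, 0, 2, 4, 6, 8, 10, 12] (.cons [10, 0, 12, 4, 2, 14, 6, 8, 4, 6, 12, 14, 10, 8, 6, 4, 2, 8, 10] .nil .nil) .nil) (.cons [12, 10, 8, 2, 4, 6, 16, 18, 14, 12, 10, 6, 8, 4, 6, 16, 0, 2, 4, 6, 8, 10, 12, 14] (.cons [4, 6, 14, 16, 6, 8, 4, 6, 14, 2, 4, 6, 8, 10, 12] .nil .nil) (.cons [18, 16, 6, 8, 4, 6, 16, 18, 14, 12, 10, 6, 8, 4, 6, 16, 0, 2, 4, 6, 8, 10, 12, 14] (.cons [16, 6, 14, 10, 2, 4, 6, 8, 0, 2, 4, 6, 14, 16, 6, 14, 12, 10, 4, 6, 8, 2, 4, 6, 14, 0, 2, 4, 6, 8, 10, 12] (.cons [4, 6, 12,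 14, 4, 6, 8, 10, 12, 6, 4, 2] .nil .nil) .nil) (.cons [6, 8, 0, 2, 4, 6, 16, 18, 16, 12, 10, 6, 8, 4, 6, 16, 0, 2, 4, 6, 8, 10, 12, 14] (.cons [2, 4, 6, 14, 16, 12, 10, 8, 10, 14, 6, 4, 2, 6, 14, 8, 4, 6, 14, 10, 12, 8, 10, 6, 8, 4, 6, 14, 16, 8, 2, 4, 6, 14, 0, 2, 4, 6, 8, 10, 12] (.cons [12, 6, 4, 2, 6, 8, 10, 6, 12, 4, 6, 12, 14] .nil .nil) .nil) (.cons [8, 10, 6, 8, 4, 6, 16, 18, 16, 12, 10, 6, 8, 4, 6, 16, 0, 2, 4, 6, 8, 10, 12, 14] (.cons [16, 10, 4, 6, 8, 2, 4, 6, 14, 0, 2, 4, 6, 8, 10, 12] .nil .nil) (.cons [12, 10, 6, 8, 4, 6, 16, 18, 16, 12, 10, 6, 8, 4, 6, 16, 0, 2, 4, 6, 8, 10, 12, 14] (.cons [16, 10, 8, 6, 14, 12, 10, 4, 6, 8, 2, 4, 6, 14, 16, 6, 8, 10, 4, 6, 8, 2, 4, 6, 14, 0, 2, 4, 6, 8, 10, 12]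 .nil .nil) (.cons [12, 10, 8, 0, 2, 4, 6, 16, 18, 12, 10, 6, 8, 4, 6, 16, 0, 2, 4, 6, 8, 10, 12, 14] (.cons [8, 6, 14, 16, 4, 6, 14, 12, 8, 10, 4, 6, 8, 0, 2, 4, 6, 14, 16, 10, 8, 2, 4, 6, 14, 0, 2, 4, 6, 8, 10, 12] .nil .nil) (.cons [10, 4, 6, 8, 2, 4, 6, 16, 18, 12, 10, 6, 8, 4, 6, 16, 0, 2, 4, 6, 8, 10, 12, 14] (.cons [14, 16, 8, 6, 4, 2, 14, 6, 4, 10, 16, 6, 14, 12, 8, 10, 6, 8, 4, 6, 14, 16, 2, 4, 6, 14, 0, 2, 4, 6, 8, 10, 12] (.cons [8, 6, 12, 14, 4, 6, 2, 4, 6, 0, 2, 8, 10] (.cons [0, 2, 5] .nil .nil) .nil) .nil) (.cons [8, 10, 6, 8, 2, 4, 6, 16, 18, 12, 10, 6, 8, 4, 6, 16, 0, 2, 4, 6, 8, 10, 12, 14] (.cons [6, 14, 16, 8, 6, 14, 10, 2, 4, 6, 8, 0, 2, 4, 6, 14, 16, 8, 10, 4, 6, 8, 2, 4, 6, 14, 0, 2, 4,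 6, 8, 10, 12] (.cons [4, 6, 12, 10, 8, 2, 4, 6, 4, 2, 8, 10, 12, 14] .nil .nil) .nil) (.cons [12, 10, 6, 8, 2, 4, 6, 16, 18, 12, 10, 6, 8, 4, 6, 16, 0, 2, 4, 6, 8, 10, 12, 14] (.cons [14, 16, 0, 2, 4, 6, 14, 10, 12, 8, 10, 6, 8, 4, 6, 14, 16, 14, 12, 10, 4, 6, 8, 2, 4, 6, 14, 0, 2, 4, 6, 8, 10, 12] (.cons [0, 2, 4, 6, 12, 14, 4, 2, 4, 0, 6, 8, 10, 12, 6, 4, 2] .nil .nil) .nil) (.cons [12, 8, 10, 6, 8, 4, 6, 16, 18, 12, 10, 6, 8, 4, 6, 16, 0, 2, 4, 6, 8, 10, 12, 14] (.cons [14, 0, 6, 4, 2, 0, 4, 10, 14, 12, 8, 10, 6, 8, 4, 6, 14, 16, 12, 10, 6, 8, 4, 6, 14, 2, 4, 6, 8, 10, 12] (.cons [10, 8, 12, 14, 6, 0, 4, 8, 2, 6, 8] .nil .nil) .nil) (.cons [4, 6, 8, 0, 2, 4, 6, 16, 18, 16, 10, 6, 8, 4, 6, 16, 0, 2, 4, 6,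 8, 10, 12, 14] .nil (.cons [12, 10, 8, 0, 2, 4, 6, 16, 18, 16, 10, 6, 8, 4, 6, 16, 0, 2, 4, 6, 8, 10, 12, 14] (.cons [14, 16, 6, 8, 4, 6, 14, 10, 12, 8, 10, 4, 6, 8, 2, 4, 6, 14, 16, 10, 8, 2, 4, 6, 14, 0, 2, 4, 6, 8, 10, 12] .nil .nil) (.cons [16, 4, 6, 8, 2, 4, 6, 16, 18, 16, 10, 6, 8, 4, 6, 16, 0, 2, 4, 6, 8, 10, 12, 14] (.cons [6, 8, 10, 14, 6, 4, 2, 8, 4, 6, 14, 10, 12, 8, 10, 6, 8, 4, 6, 14, 16, 8, 2, 4, 6, 14, 0, 2, 4, 6, 8, 10, 12] (.cons [6, 8, 4, 6, 12, 14, 6, 8, 12, 6, 4, 2, 4, 6, 8, 6, 10, 4] (.cons [0, 4, 3, 3, 1] .nil .nil) .nil) .nil) (.cons [8, 10, 6, 8, 2, 4, 6, 16, 18, 16, 10, 6, 8, 4, 6, 16, 0, 2, 4, 6, 8, 10, 12, 14] (.cons [14, 10, 4, 6, 8, 2, 4, 6, 14, 16, 14, 6, 8, 4, 6, 14, 2, 4, 6, 8,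 10, 12] (.cons [14, 8, 10, 4, 6, 0, 2] .nil .nil) .nil) (.cons [16, 10, 6, 8, 2, 4, 6, 16, 18, 16, 10, 6, 8, 4, 6, 16, 0, 2, 4, 6, 8, 10, 12, 14] (.cons [8, 0, 2, 4, 6, 14, 16, 8, 2, 4, 6, 14, 0, 2, 4, 6, 8, 10, 12] (.cons [2, 4, 6, 12, 14, 12, 4, 2, 6, 8, 10, 12] .nil .nil) .nil) (.cons [14, 12, 10, 8, 2, 4, 6, 16, 18, 16, 10, 6, 8, 4, 6, 16, 0, 2, 4, 6, 8, 10, 12, 14] (.cons [10, 8, 2, 12, 10, 8, 6, 14, 16, 4, 6, 14, 8, 10, 12, 6, 8, 10, 4, 6, 8, 2, 4, 6, 14, 16, 6, 8, 4, 6, 14, 0, 2, 4, 6, 8, 10, 12] (.cons [10, 6, 8, 4, 2, 0, 12, 6, 8, 4, 6, 2, 8, 10] .nil .nil) .nil) (.cons [10, 4, 6, 8, 0, 2, 4, 6, 16, 18, 10, 6, 8, 4, 6, 16, 0, 2, 4, 6, 8, 10, 12, 14] (.cons [4, 6, 14, 12, 8, 10, 6, 8, 4, 6, 14, 16, 14,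 8, 10, 4, 6, 8, 2, 4, 6, 14, 0, 2, 4, 6, 8, 10, 12] (.cons [2, 4, 6, 12, 14, 2, 10, 8, 6, 4, 0, 2, 4, 8, 10] .nil .nil) .nil) (.cons [12, 10, 6, 8, 0, 2, 4, 6, 16, 18, 10, 6, 8, 4, 6, 16, 0, 2, 4, 6, 8, 10, 12, 14] (.cons [8, 4, 6, 14, 16, 10, 8, 0, 2, 4, 6, 14, 10, 12, 8, 10, 4, 6, 8, 2, 4, 6, 14, 16, 8, 10, 6, 8, 2, 4, 6, 14, 0, 2, 4, 6, 8, 10, 12] (.cons [8, 4, 10, 2, 8, 6, 12, 14, 4, 6, 0, 2] .nil .nil) .nil) (.cons [6, 16, 4, 6, 8, 2, 4, 6, 16, 18, 10, 6, 8, 4, 6, 16, 0, 2, 4, 6, 8, 10, 12, 14] (.cons [6, 8, 4, 6, 14, 16, 10, 14, 6, 2, 4, 6, 14, 8, 10, 12, 6, 8, 10, 4, 6, 8, 2, 4, 6, 14, 16, 14, 6, 8, 4, 6, 14, 0, 2, 4, 6, 8, 10, 12] (.cons [0, 10, 2, 4, 8, 12, 14, 6, 4, 2, 12, 14, 8, 6, 4, 12] .nil .nil)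 .nil) (.cons [14, 12, 10, 6, 8, 2, 4, 6, 16, 18, 10, 6, 8, 4, 6, 16, 0, 2, 4, 6, 8, 10, 12, 14] .nil (.cons [18, 16, 12, 10, 6, 8, 4, 6, 16, 18, 10, 6, 8, 4, 6, 16, 0, 2, 4, 6, 8, 10, 12, 14] (.cons [6, 4, 2, 0, 6, 8, 12, 4, 6, 14, 8, 10, 6, 8, 4, 6, 14, 16, 12, 10, 8, 4, 6, 14, 2, 4, 6, 8, 10, 12] (.cons [4, 6, 8, 10, 14, 12, 6, 2, 4, 0, 2, 12, 14] .nil .nil) .nil) (.cons [10, 4, 6, 8, 0, 2, 4, 6, 16, 18, 16, 6, 8, 4, 6, 16, 0, 2, 4, 6, 8, 10, 12, 14] (.cons [16, 4, 6, 14, 8, 10, 6, 8, 0, 2, 4, 6, 14, 16, 8, 10, 6, 8, 2, 4, 6, 14, 0, 2, 4, 6, 8, 10, 12] (.cons [8, 4, 6, 12, 2, 4, 6, 0, 2, 4, 8, 10, 12, 14] .nil .nil) .nil) (.cons [16, 10, 6, 8, 0, 2, 4, 6, 16, 18, 16, 6, 8, 4, 6, 16, 0, 2, 4, 6, 8, 10, 12,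 14] (.cons [6, 8, 10, 2, 4, 6, 8, 0, 2, 4, 6, 14, 16, 6, 8, 4, 6, 14, 2, 4, 6, 8, 10, 12] (.cons [4, 6, 8, 10, 12, 6, 4, 8, 2, 12, 6, 8] .nil .nil) .nil) (.cons [14, 12, 10, 8, 0, 2, 4, 6, 16, 18, 16, 6, 8, 4, 6, 16, 0, 2, 4, 6, 8, 10, 12, 14] (.cons [4, 6, 14, 16, 8, 6, 14, 8, 10, 12, 6, 8, 10, 4, 6, 8, 2, 4, 6, 14, 16, 14, 8, 10, 4, 6, 8, 2, 4, 6, 14, 0, 2, 4, 6, 8, 10, 12] .nil .nil) (.cons [12, 8, 10, 6, 8, 2, 4, 6, 16, 18, 16, 6, 8, 4, 6, 16, 0, 2, 4, 6, 8, 10, 12, 14] (.cons [2, 4, 6, 14, 8, 10, 12, 6, 8, 10, 4, 6, 8, 2, 4, 6, 14, 16, 10, 6, 8, 4, 6, 14, 0, 2, 4, 6, 8, 10, 12] (.cons [2, 4, 6, 12, 14, 0, 12, 2, 10, 8, 4, 6, 4, 2, 8, 10] .nil .nil) .nil) (.cons [10, 12, 8, 10, 6, 8, 4, 6, 16, 18, 16, 6,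 8, 4, 6, 16, 0, 2, 4, 6, 8, 10, 12, 14] .nil (.cons [16, 12, 8, 10, 6, 8, 4, 6, 16, 18, 16, 6, 8, 4, 6, 16, 0, 2, 4, 6, 8, 10, 12, 14] (.cons [6, 8, 0, 2, 4, 6, 14, 16, 10, 6, 8, 4, 6, 14, 10, 12, 8, 10, 4, 6, 8, 0, 2, 4, 6, 14, 16, 10, 4, 6, 8, 2, 4, 6, 14, 0, 2, 4, 6, 8, 10, 12] (.cons [12, 14, 10, 4, 6, 8, 10, 0, 12, 6, 4, 2, 4] .nil .nil) .nil) (.cons [8, 10, 4, 6, 8, 0, 2, 4, 6, 16, 18, 6, 8, 4, 6, 16, 0, 2, 4, 6, 8, 10, 12, 14] (.cons [14, 12, 10, 2, 4, 6, 8, 0, 2, 4, 6, 14, 16, 14, 10, 4, 6, 8, 2, 4, 6, 14, 0, 2, 4, 6, 8, 10, 12] (.cons [4, 6, 14, 12, 6, 8, 10, 8, 6, 12, 14, 4, 6, 0, 2] .nil .nil) .nil) (.cons [6, 8, 10, 4, 6, 8, 2, 4, 6, 16, 18, 6, 8, 4, 6, 16, 0, 2, 4, 6, 8, 10, 12, 14] (.cons [16,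 8, 4, 6, 14, 10, 12, 8, 10, 6, 8, 2, 4, 6, 14, 16, 4, 6, 8, 2, 4, 6, 14, 0, 2, 4, 6, 8, 10, 12] .nil .nil) (.cons [14, 12, 10, 4, 6, 8, 2, 4, 6, 16, 18, 6, 8, 4, 6, 16, 0, 2, 4, 6, 8, 10, 12, 14] (.cons [14, 12, 10, 6, 8, 4, 6, 14, 16, 12, 8, 10, 6, 8, 4, 6, 14, 0, 2, 4, 6, 8, 10, 12] (.cons [14, 4, 12, 6, 2, 4, 6, 0, 2, 4, 12] .nil .nil) .nil) (.cons [16, 4, 6, 8, 2, 4, 6, 16, 18, 14, 12, 10, 8, 4, 6, 16, 0, 2, 4, 6, 8, 10, 12, 14] (.cons [16, 6, 8, 4, 6, 14, 10, 12, 8, 10, 6, 8, 4, 6, 14, 2, 4, 6, 8, 10, 12] (.cons [12, 14, 4, 12, 6, 4, 2, 4, 8, 6, 10, 4] .nil .nil) .nil) (.cons [12, 10, 6, 8, 2, 4, 6, 16, 18, 14, 12, 10, 8, 4, 6, 16, 0, 2, 4, 6, 8, 10, 12, 14] (.cons [8, 4, 6, 14, 16, 2, 4, 6, 14, 12, 8,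 10, 6, 8, 4, 6, 14, 16, 12, 10, 8, 2, 4, 6, 14, 0, 2, 4, 6, 8, 10, 12] (.cons [12, 6, 8, 4, 6, 12, 14, 10, 6, 2, 4, 6, 0, 2] .nil .nil) .nil) (.cons [12, 8, 10, 6, 8, 4, 6, 16, 18, 14, 12, 10, 8, 4, 6, 16, 0, 2, 4, 6, 8, 10, 12, 14] (.cons [10, 8, 6, 14, 8, 10, 4, 6, 8, 2, 4, 6, 14, 16, 10, 6, 8, 4, 6, 14, 0, 2, 4, 6, 8, 10, 12] (.cons [10, 14, 12, 6, 4, 0, 2, 4, 6, 12, 14] .nil .nil) .nil) (.cons [12, 8, 10, 6, 8, 2, 4, 6, 16, 18, 12, 10, 8, 4, 6, 16, 0, 2, 4, 6, 8, 10, 12, 14] .nil (.cons [14, 12, 8, 10, 6, 8, 4, 6, 16, 18, 12, 10, 8, 4, 6, 16, 0, 2, 4, 6, 8, 10, 12, 14] (.cons [6, 8, 2, 4, 6, 14, 16, 14, 10, 6, 8, 4, 6, 14, 10, 12, 8, 10, 4, 6, 8, 2, 4, 6, 14, 16, 10, 4, 6, 8, 2, 4, 6, 14, 0, 2, 4, 6, 8,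 10, 12] .nil .nil) (.cons [16, 12, 8, 10, 6, 8, 4, 6, 16, 18, 12, 10, 8, 4, 6, 16, 0, 2, 4, 6, 8, 10, 12, 14] (.cons [16, 10, 8, 6, 14, 12, 10, 4, 6, 8, 2, 4, 6, 14, 16, 8, 10, 6, 8, 2, 4, 6, 14, 0, 2, 4, 6, 8, 10, 12] (.cons [4, 6, 10, 8, 12, 14, 6, 0, 4, 8, 2, 6, 8] (.cons [3, 0, 4, 1] .nil .nil) .nil) .nil) (.cons [6, 16, 8, 10, 6, 8, 4, 6, 16, 18, 12, 10, 8, 4, 6, 16, 0, 2, 4, 6, 8, 10, 12, 14] .nil (.cons [18, 16, 8, 10, 6, 8, 4, 6, 16, 18, 12, 10, 8, 4, 6, 16, 0, 2, 4, 6, 8, 10, 12, 14] (.cons [14, 6, 8, 2, 4, 6, 14, 16, 10, 8, 6, 14, 8, 10, 12, 6, 8, 10, 4, 6, 8, 2, 4, 6, 14, 16, 12, 10, 4, 6, 8, 2, 4, 6, 14, 0, 2, 4, 6, 8, 10, 12] .nil .nil) (.cons [14, 12, 10, 6, 8, 0, 2, 4, 6, 16, 18, 10, 8, 4, 6,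 16, 0, 2, 4, 6, 8, 10, 12, 14] (.cons [8, 6, 14, 10, 12, 8, 10, 6, 8, 2, 4, 6, 14, 16, 12, 10, 8, 2, 4, 6, 14, 0, 2, 4, 6, 8, 10, 12] .nil .nil) (.cons [6, 16, 10, 4, 6, 8, 2, 4, 6, 16, 18, 10, 8, 4, 6, 16, 0, 2, 4, 6, 8, 10, 12, 14] (.cons [16, 6, 8, 4, 6, 14, 10, 12, 6, 8, 10, 4, 6, 8, 0, 2, 4, 6, 14, 16, 8, 10, 6, 8, 2, 4, 6, 14, 0, 2, 4, 6, 8, 10, 12] .nil .nil) (.cons [8, 6, 16, 4, 6, 8, 2, 4, 6, 16, 18, 10, 8, 4, 6, 16, 0, 2, 4, 6, 8, 10, 12, 14] .nil (.cons [16, 10, 4, 6, 8, 2, 4, 6, 16, 18, 14, 12, 10, 8, 6, 16, 0, 2, 4, 6, 8, 10, 12, 14] .nil (.cons [8, 10, 4, 6, 8, 0, 2, 4, 6, 16, 18, 12, 10, 8, 6, 16, 0, 2, 4, 6, 8, 10, 12, 14] (.cons [14, 10, 4, 6, 8, 2, 4, 6, 14, 16, 4, 6, 8, 2, 4, 6, 14, 0, 2,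 4, 6, 8, 10, 12] (.cons [8, 12, 6, 4, 2, 14, 4, 6, 8, 6, 10, 4] .nil .nil) .nil) (.cons [16, 8, 10, 4, 6, 8, 2, 4, 6, 16, 18, 12, 10, 8, 6, 16, 0, 2, 4, 6, 8, 10, 12, 14] (.cons [16, 6, 14, 10, 12, 6, 8, 10, 4, 6, 8, 0, 2, 4, 6, 14, 16, 12, 10, 6, 8, 2, 4, 6, 14, 0, 2, 4, 6, 8, 10, 12] (.cons [8, 10, 14, 2, 0, 4, 12, 6, 4, 2, 8, 6] (.cons [0, 0, 0, 2] .nil .nil) .nil) .nil) (.cons [6, 16, 10, 4, 6, 8, 2, 4, 6, 16, 18, 12, 10, 8, 6, 16, 0, 2, 4, 6, 8, 10, 12, 14] (.cons [14, 16, 12, 8, 10, 6, 8, 2, 4, 6, 14, 10, 12, 8, 10, 6, 8, 0, 2, 4, 6, 14, 16, 12, 10, 8, 2, 4, 6, 14, 0, 2, 4, 6, 8, 10, 12] (.cons [2, 4, 10, 6, 12, 14, 0, 4, 8, 6, 4, 2] .nil .nil) .nil) (.cons [18, 6, 16, 8, 10, 6, 8, 4, 6, 16, 18, 12, 10,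 8, 6, 16, 0, 2, 4, 6, 8, 10, 12, 14] .nil (.cons [16, 6, 8, 4, 6, 16, 12, 14, 10, 12, 8, 10, 6, 8, 4, 6, 16, 2, 4, 6, 8, 10, 12, 14] .nil (.cons [4, 6, 8, 2, 4, 6, 16, 14, 10, 12, 8, 10, 6, 8, 4, 6, 16, 2, 4, 6, 8, 10, 12, 14] (.cons [14, 16, 6, 14, 8, 10, 6, 8, 0, 2, 4, 6, 14, 16, 12, 10, 8, 2, 4, 6, 14, 0, 2, 4, 6, 8, 10, 12] (.cons [12, 14, 4, 2, 4, 6, 10] .nil .nil) .nil) (.cons [10, 8, 4, 6, 16, 18, 16, 14, 10, 12, 8, 10, 6, 8, 4, 6, 16, 2, 4, 6, 8, 10, 12, 14] (.cons [16, 14, 6, 8, 10, 4, 6, 8, 0, 2, 4, 6, 14, 16, 12, 10, 4, 6, 8, 2, 4, 6, 14, 0, 2, 4, 6, 8, 10, 12] (.cons [6, 12, 14, 4, 2, 0, 6, 4, 2, 8, 6] .nil .nil) .nil) (.cons [12, 10, 8, 4, 6, 16, 18, 16, 10, 12, 8, 10, 6, 8, 4, 6, 16, 2, 4, 6, 8,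 10, 12, 14] (.cons [6, 8, 0, 2, 4, 6, 14, 16, 10, 6, 8, 4, 6, 14, 10, 12, 8, 10, 4, 6, 8, 2, 4, 6, 14, 16, 12, 8, 10, 6, 8, 2, 4, 6, 14, 0, 2, 4, 6, 8, 10, 12] (.cons [0, 2, 4, 8, 6, 10, 4] .nil .nil) .nil) (.cons [16, 10, 6, 8, 4, 6, 16, 18, 10, 12, 8, 10, 6, 8, 4, 6, 16, 2, 4, 6, 8, 10, 12, 14] (.cons [8, 4, 6, 14, 10, 12, 8, 10, 6, 8, 0, 2, 4, 6, 14, 16, 4, 6, 8, 2, 4, 6, 14, 0, 2, 4, 6, 8, 10, 12] (.cons [10, 8, 6, 4, 0, 2, 4] .nil .nil) .nil) (.cons [16, 6, 8, 2, 4, 6, 16, 18, 14, 12, 8, 10, 6, 8, 4, 6, 16, 2, 4, 6, 8, 10, 12, 14] (.cons [8, 6, 14, 10, 4, 6, 8, 2, 4, 6, 14, 16, 12, 10, 8, 2, 4, 6, 14, 0, 2, 4, 6, 8, 10, 12] (.cons [12, 8, 0, 2, 10, 14, 8, 12] .nil .nil) .nil) (.cons [16, 10, 6, 8, 4, 6,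 16, 18, 14, 12, 8, 10, 6, 8, 4, 6, 16, 2, 4, 6, 8, 10, 12, 14] (.cons [6, 8, 10, 4, 6, 8, 2, 4, 6, 14, 16, 12, 10, 6, 8, 4, 6, 14, 0, 2, 4, 6, 8, 10, 12] (.cons [6, 12, 14, 10, 8, 6, 4, 0, 2, 8, 4, 6, 8, 10] .nil .nil) .nil) (.cons [14, 12, 10, 8, 4, 6, 16, 18, 14, 12, 8, 10, 6, 8, 4, 6, 16, 2, 4, 6, 8, 10, 12, 14] (.cons [14, 16, 0, 2, 4, 6, 14, 12, 8, 10, 6, 8, 4, 6, 14, 16, 14, 8, 10, 6, 8, 2, 4, 6, 14, 0, 2, 4, 6, 8, 10, 12] .nil .nil) (.cons [14, 12, 10, 8, 6, 16, 18, 6, 16, 12, 8, 10, 6, 8, 4, 6, 16, 2, 4, 6, 8, 10, 12, 14] (.cons [2, 10, 12, 8, 10, 6, 8, 4, 6, 14, 16, 12, 10, 6, 8, 4, 6, 14, 2, 4, 6, 8, 10, 12] (.cons [0, 2, 10, 8, 6, 4, 12, 6, 8, 4, 10, 14, 12, 6, 4, 0, 2, 12, 14] .nil .nil) .nil) (.cons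 [12, 10, 6, 8, 4, 6, 16, 18, 16, 12, 8, 10, 6, 8, 4, 6, 16, 2, 4, 6, 8, 10, 12, 14] .nil (.cons [10, 4, 6, 8, 2, 4, 6, 16, 18, 12, 8, 10, 6, 8, 4, 6, 16, 2, 4, 6, 8, 10, 12, 14] (.cons [16, 14, 6, 8, 4, 6, 14, 16, 10, 8, 6, 14, 10, 12, 8, 10, 4, 6, 8, 2, 4, 6, 14, 16, 14, 12, 8, 10, 4, 6, 8, 2, 4, 6, 14, 0, 2, 4, 6, 8, 10, 12] (.cons [6, 12, 14, 8, 6, 4, 6, 0, 2, 8, 10] .nil .nil) .nil) (.cons [12, 10, 6, 8, 2, 4, 6, 16, 18, 12, 8, 10, 6, 8, 4, 6, 16, 2, 4, 6, 8, 10, 12, 14] (.cons [16, 14, 2, 12, 4, 6, 8, 10, 16, 14, 8, 6, 14, 16, 4, 6, 14, 8, 10, 12, 6, 8, 10, 4, 6, 8, 2, 4, 6, 14, 16, 6, 8, 4, 6, 14, 0, 2, 4, 6, 8, 10, 12] (.cons [8, 6, 4, 2, 8, 6] .nil .nil) .nil) (.cons [16, 10, 6, 8, 2, 4, 6, 16, 18, 12,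 8, 10, 6, 8, 4, 6, 16, 2, 4, 6, 8, 10, 12, 14] (.cons [14, 6, 8, 0, 2, 4, 6, 14, 16, 10, 8, 4, 6, 14, 10, 12, 8, 10, 4, 6, 8, 0, 2, 4, 6, 14, 16, 12, 10, 4, 6, 8, 2, 4, 6, 14, 0, 2, 4, 6, 8, 10, 12] (.cons [4, 6, 12, 14, 8, 6, 4, 2, 8, 4, 6, 8, 10] .nil .nil) .nil) (.cons [12, 10, 4, 6, 8, 2, 4, 6, 16, 18, 8, 10, 6, 8, 4, 6, 16, 2, 4, 6, 8, 10, 12, 14] (.cons [16, 10, 2, 6, 14, 8, 6, 4, 10, 16, 6, 14, 12, 8, 10, 6, 8, 4, 6, 14, 16, 2, 4, 6, 14, 0, 2, 4, 6, 8, 10, 12] (.cons [12, 10, 8, 4, 6, 10, 4, 2, 12, 14] .nil .nil) .nil) (.cons [14, 12, 10, 6, 8, 2, 4, 6, 16, 18, 8, 10, 6, 8, 4, 6, 16, 2, 4, 6, 8, 10, 12, 14] (.cons [16, 4, 6, 14, 10, 12, 8, 10, 6, 8, 2, 4, 6, 14, 16, 6, 8, 2, 4, 6, 14, 0, 2, 4, 6, 8, 10,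 12] (.cons [12, 6, 4, 2, 6, 8, 10, 8, 6, 12, 14, 4, 6, 0, 2] .nil .nil) .nil) (.cons [14, 12, 8, 10, 6, 8, 4, 6, 16, 18, 8, 10, 6, 8, 4, 6, 16, 2, 4, 6, 8, 10, 12, 14] .nil (.cons [16, 12, 8, 10, 6, 8, 4, 6, 16, 18, 8, 10, 6, 8, 4, 6, 16, 2, 4, 6, 8, 10, 12, 14] (.cons [8, 0, 2, 4, 6, 14, 16, 10, 8, 4, 6, 14, 10, 12, 8, 10, 4, 6, 8, 0, 2, 4, 6, 14, 16, 12, 10, 4, 6, 8, 2, 4, 6, 14, 0, 2, 4, 6, 8, 10, 12] (.cons [8, 10, 8, 6, 4, 0, 2, 4, 6, 12, 14, 12] .nil .nil) .nil) (.cons [6, 16, 8, 10, 6, 8, 4, 6, 16, 18, 8, 10, 6, 8, 4, 6, 16, 2, 4, 6, 8, 10, 12, 14] (.cons [16, 6, 12, 10, 4, 0, 2, 6, 14, 8, 4, 6, 14, 10, 12, 8, 10, 6, 8, 4, 6, 14, 16, 8, 2, 4, 6, 14, 0, 2, 4, 6, 8, 10, 12] .nil .nil) (.cons [16, 14, 12,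 10, 6, 8, 4, 6, 16, 18, 8, 10, 6, 8, 4, 6, 16, 2, 4, 6, 8, 10, 12, 14] (.cons [14, 16, 6, 8, 4, 6, 14, 10, 12, 8, 10, 6, 8, 2, 4, 6, 14, 16, 14, 12, 10, 6, 8, 2, 4, 6, 14, 0, 2, 4, 6, 8, 10, 12] (.cons [10, 4, 6, 0, 2, 4, 12, 6, 8, 10, 14, 4, 6, 12, 14, 8, 6, 4, 0, 2] .nil .nil) .nil) (.cons [8, 10, 6, 8, 4, 6, 16, 18, 16, 14, 12, 10, 6, 8, 4, 6, 16, 2, 4, 6, 8, 10, 12, 14] (.cons [10, 4, 6, 8, 2, 4, 6, 14, 16, 12, 10, 8, 4, 6, 14, 0, 2, 4, 6, 8, 10, 12] .nil .nil) (.cons [16, 10, 6, 8, 4, 6, 16, 18, 16, 14, 12, 10, 6, 8, 4, 6, 16, 2, 4, 6, 8, 10, 12, 14] (.cons [14, 8, 10, 4, 6, 8, 2, 4, 6, 14, 16, 12, 10, 8, 6, 14, 0, 2, 4, 6, 8, 10, 12] .nil .nil) (.cons [10, 6, 8, 0, 2, 4, 6, 16, 18, 14, 12, 10, 6, 8, 4,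 6, 16, 2, 4, 6, 8, 10, 12, 14] (.cons [16, 8, 6, 14, 4, 6, 8, 2, 4, 6, 14, 16, 14, 12, 10, 4, 6, 8, 2, 4, 6, 14, 0, 2, 4, 6, 8, 10, 12] .nil .nil) (.cons [8, 10, 6, 8, 2, 4, 6, 16, 18, 14, 12, 10, 6, 8, 4, 6, 16, 2, 4, 6, 8, 10, 12, 14] .nil (.cons [12, 10, 8, 0, 2, 4, 6, 16, 18, 16, 12, 10, 6, 8, 4, 6, 16, 2, 4, 6, 8, 10, 12, 14] (.cons [16, 8, 6, 14, 12, 10, 4, 6, 8, 2, 4, 6, 14, 16, 14, 12, 8, 10, 4, 6, 8, 2, 4, 6, 14, 0, 2, 4, 6, 8, 10, 12] .nil .nil) (.cons [14, 12, 10, 8, 2, 4, 6, 16, 18, 16, 12, 10, 6, 8, 4, 6, 16, 2, 4, 6, 8, 10, 12, 14] .nil (.cons [14, 12, 10, 6, 8, 4, 6, 16, 18, 16, 12, 10, 6, 8, 4, 6, 16, 2, 4, 6, 8, 10, 12, 14] (.cons [16, 14, 6, 4, 2, 0, 10, 8, 6, 14, 12, 8, 10, 6, 8, 4, 6, 14,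 16, 12, 10, 8, 4, 6, 14, 2, 4, 6, 8, 10, 12] .nil .nil) (.cons [14, 12, 10, 8, 0, 2, 4, 6, 16, 18, 16, 10, 6, 8, 4, 6, 16, 2, 4, 6, 8, 10, 12, 14] (.cons [16, 4, 6, 14, 10, 12, 8, 10, 6, 8, 2, 4, 6, 14, 16, 14, 12, 10, 4, 6, 8, 2, 4, 6, 14, 0, 2, 4, 6, 8, 10, 12] (.cons [0, 2, 6, 8, 4, 6, 12, 14, 8, 6, 4, 12] .nil .nil) .nil) (.cons [16, 12, 8, 10, 6, 8, 4, 6, 16, 18, 16, 10, 6, 8, 4, 6, 16, 2, 4, 6, 8, 10, 12, 14] .nil (.cons [10, 12, 8, 10, 6, 8, 2, 4, 6, 16, 18, 10, 6, 8, 4, 6, 16, 2, 4, 6, 8, 10, 12, 14] (.cons [10, 8, 4, 6, 14, 16, 14, 12, 10, 4, 6, 8, 2, 4, 6, 14, 0, 2, 4, 6, 8, 10, 12] (.cons [6, 12, 6, 2, 4, 2, 6, 8, 10, 12, 14, 6, 4] .nil .nil) .nil) (.cons [14, 12, 8, 10, 6, 8, 2, 4, 6, 16, 18, 10,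 6, 8, 4, 6, 16, 2, 4, 6, 8, 10, 12, 14] (.cons [6, 14, 16, 12, 10, 8, 6, 14, 12, 8, 10, 4, 6, 8, 2, 4, 6, 14, 16, 14, 12, 10, 4, 6, 8, 2, 4, 6, 14, 0, 2, 4, 6, 8, 10, 12] (.cons [12, 6, 8, 6, 2, 4, 0, 2, 10, 12, 14, 8] .nil .nil) .nil) (.cons [10, 2, 4, 6, 8, 0, 2, 4, 6, 16, 18, 16, 6, 8, 4, 6, 16, 2, 4, 6, 8, 10, 12, 14] .nil (.cons [8, 10, 4, 6, 8, 0, 2, 4, 6, 16, 18, 16, 6, 8, 4, 6, 16, 2, 4, 6, 8, 10, 12, 14] (.cons [14, 6, 8, 2, 4, 6, 14, 16, 14, 10, 6, 8, 4, 6, 14, 10, 12, 8, 10, 4, 6, 8, 2, 4, 6, 14, 16, 12, 10, 4, 6, 8, 2, 4, 6, 14, 0, 2, 4, 6, 8, 10, 12] .nil .nil) (.cons [16, 8, 10, 6, 8, 0, 2, 4, 6, 16, 18, 16, 6, 8, 4, 6, 16, 2, 4, 6, 8, 10, 12, 14] (.cons [14, 6, 8, 4, 6, 14, 16, 6, 8, 10, 14, 6,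 8, 4, 6, 14, 10, 12, 8, 10, 6, 8, 0, 2, 4, 6, 14, 16, 12, 10, 8, 2, 4, 6, 14, 0, 2, 4, 6, 8, 10, 12] (.cons [4, 6, 12, 14, 4, 10, 0, 2, 4, 6, 8, 10, 12, 6, 4, 2] .nil .nil) .nil) (.cons [16, 12, 10, 6, 8, 0, 2, 4, 6, 16, 18, 16, 6, 8, 4, 6, 16, 2, 4, 6, 8, 10, 12, 14] (.cons [16, 4, 6, 14, 8, 10, 6, 8, 2, 4, 6, 14, 16, 6, 8, 10, 4, 6, 8, 2, 4, 6, 14, 0, 2, 4, 6, 8, 10, 12] (.cons [4, 6, 8, 0, 2, 4, 6, 12, 14, 2, 4, 12, 6, 8, 10, 4, 6, 2, 4, 0, 2] .nil .nil) .nil) (.cons [16, 8, 10, 4, 6, 8, 2, 4, 6, 16, 18, 16, 6, 8, 4, 6, 16, 2, 4, 6, 8, 10, 12, 14] (.cons [6, 14, 16, 8, 2, 4, 6, 14, 10, 12, 8, 10, 4, 6, 8, 0, 2, 4, 6, 14, 16, 10, 4, 6, 8, 2, 4, 6, 14, 0, 2, 4, 6, 8, 10, 12] (.cons [14, 12, 6, 8, 2, 4, 6, 12,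 14, 10, 8, 6, 4, 2, 8, 6, 10, 4] .nil .nil) .nil) (.cons [16, 12, 10, 4, 6, 8, 2, 4, 6, 16, 18, 16, 6, 8, 4, 6, 16, 2, 4, 6, 8, 10, 12, 14] (.cons [14, 10, 12, 8, 10, 4, 6, 8, 2, 4, 6, 14, 16, 14, 12, 8, 10, 4, 6, 8, 2, 4, 6, 14, 0, 2, 4, 6, 8, 10, 12] (.cons [4, 6, 8, 2, 4, 6, 12, 14, 10, 4, 6, 8, 10, 12, 6, 4, 2, 4] .nil .nil) .nil) (.cons [8, 10, 2, 4, 6, 8, 0, 2, 4, 6, 16, 18, 6, 8, 4, 6, 16, 2, 4, 6, 8, 10, 12, 14] (.cons [16, 10, 8, 6, 14, 10, 4, 6, 8, 2, 4, 6, 14, 16, 8, 10, 6, 8, 2, 4, 6, 14, 0, 2, 4, 6, 8, 10, 12] (.cons [8, 6, 12, 2, 4, 6, 4, 2, 4, 8, 10, 12, 14] .nil .nil) .nil) (.cons [6, 8, 10, 4, 6, 8, 0, 2, 4, 6, 16, 18, 6, 8, 4, 6, 16, 2, 4, 6, 8, 10, 12, 14] (.cons [4, 6, 14, 12, 8, 10, 6, 8,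 4, 6, 14, 16, 14, 6, 8, 4, 6, 14, 0, 2, 4, 6, 8, 10, 12] .nil .nil) (.cons [12, 6, 8, 10, 4, 6, 8, 2, 4, 6, 16, 18, 6, 8, 4, 6, 16, 2, 4, 6, 8, 10, 12, 14] (.cons [16, 14, 2, 12, 4, 6, 8, 10, 16, 14, 8, 6, 14, 16, 4, 6, 14, 8, 10, 12, 6, 8, 10, 4, 6, 8, 2, 4, 6, 14, 16, 6, 8, 4, 6, 14, 0, 2, 4, 6, 8, 10, 12] (.cons [8, 2, 4, 6, 12, 4, 6, 8, 10, 2, 8, 4, 6, 4, 0, 2, 12, 14] .nil .nil) .nil) (.cons [10, 12, 8, 10, 4, 6, 8, 2, 4, 6, 16, 18, 6, 8, 4, 6, 16, 2, 4, 6, 8, 10, 12, 14] (.cons [12, 8, 4, 6, 14, 16, 0, 2, 4, 6, 14, 8, 10, 6, 8, 4, 6, 14, 16, 12, 10, 8, 2, 4, 6, 14, 0, 2, 4, 6, 8, 10, 12] (.cons [0, 2, 4, 6, 12, 10, 8, 6, 12, 14, 4, 0, 2, 8, 4, 6, 10] .nil .nil) .nil) (.cons [12, 8, 10, 6, 8, 0, 2, 4, 6,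 16, 18, 12, 10, 8, 4, 6, 16, 2, 4, 6, 8, 10, 12, 14] (.cons [0, 2, 4, 6, 14, 16, 8, 10, 6, 14, 6, 8, 2, 4, 6, 14, 10, 12, 8, 10, 6, 8, 0, 2, 4, 6, 14, 16, 8, 2, 4, 6, 14, 0, 2, 4, 6, 8, 10, 12] (.cons [14, 6, 2, 4, 0, 2, 4, 8, 6, 10, 4] .nil .nil) .nil) (.cons [14, 12, 10, 6, 8, 0, 2, 4, 6, 16, 18, 12, 10, 8, 4, 6, 16, 2, 4, 6, 8, 10, 12, 14] (.cons [8, 4, 6, 12, 10, 8, 2, 4, 6, 14, 10, 12, 8, 10, 4, 6, 8, 2, 4, 6, 14, 16, 12, 10, 8, 2, 4, 6, 14, 0, 2, 4, 6, 8, 10, 12] .nil .nil) (.cons [10, 12, 8, 10, 6, 8, 0, 2, 4, 6, 16, 18, 14, 12, 10, 8, 6, 16, 4, 6, 8, 10, 12, 14] (.cons [16, 0, 2, 4, 6, 14, 12, 8, 10, 6, 8, 2, 4, 6, 14, 16, 14, 12, 8, 10, 4, 6, 8, 2, 4, 6, 14, 0, 2, 4, 6, 8, 10, 12] .nil .nil) (.cons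 [18, 10, 12, 14, 8, 10, 12, 6, 8, 10, 4, 6, 8, 2, 4, 6, 16, 0, 2, 4, 6, 8, 10, 12, 14] (.cons [14, 16, 10, 8, 6, 10, 4, 0, 2, 6, 14, 8, 4, 6, 14, 10, 12, 8, 10, 6, 8, 4, 6, 14, 16, 8, 2, 4, 6, 14, 0, 2, 4, 6, 8, 10, 12] (.cons [12, 14, 2, 0, 4, 12, 6, 4, 2, 8, 6] .nil .nil) .nil) (.cons [6, 16, 18, 14, 8, 10, 12, 6, 8, 10, 4, 6, 8, 2, 4, 6, 16, 0, 2, 4, 6, 8, 10, 12, 14] .nil (.cons [6, 16, 18, 12, 14, 10, 12, 6, 8, 10, 4, 6, 8, 2, 4, 6, 16, 0, 2, 4, 6, 8, 10, 12, 14] (.cons [16, 14, 6, 8, 4, 6, 14, 16, 10, 8, 6, 14, 12, 8, 10, 4, 6, 8, 2, 4, 6, 14, 16, 14, 8, 10, 4, 6, 8, 2, 4, 6, 14, 0, 2, 4, 6, 8, 10, 12] (.cons [14, 10, 8, 6, 0, 4, 2, 6, 8] .nil .nil) .nil) (.cons [2, 4, 6, 16, 18, 10, 12, 6, 8, 10, 4, 6,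 8, 2, 4, 6, 16, 0, 2, 4, 6, 8, 10, 12, 14] (.cons [12, 10, 6, 8, 2, 4, 6, 14, 16, 14, 10, 12, 8, 10, 6, 8, 4, 6, 14, 0, 2, 4, 6, 8, 10, 12] (.cons [14, 0, 4, 2, 4, 6, 8, 12, 6, 4, 0, 2, 8, 10] .nil .nil) .nil) (.cons [10, 8, 6, 16, 18, 14, 12, 6, 8, 10, 4, 6, 8, 2, 4, 6, 16, 0, 2, 4, 6, 8, 10, 12, 14] (.cons [4, 6, 8, 2, 4, 6, 14, 16, 12, 8, 10, 6, 8, 2, 4, 6, 14, 0, 2, 4, 6, 8, 10, 12] (.cons [10, 8, 4, 6, 8, 4, 2, 10, 12, 14, 8] .nil .nil) .nil) (.cons [8, 2, 4, 6, 16, 18, 12, 6, 8, 10, 4, 6, 8, 2, 4, 6, 16, 0, 2, 4, 6, 8, 10, 12, 14] (.cons [6, 14, 16, 8, 6, 14, 8, 10, 12, 6, 8, 10, 4, 6, 8, 0, 2, 4, 6, 14, 16, 8, 10, 4, 6, 8, 2, 4, 6, 14, 0, 2, 4, 6, 8, 10, 12] (.cons [12, 6, 2, 4, 0, 2, 10, 12, 14, 8] .nil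 .nil) .nil) (.cons [6, 8, 4, 6, 16, 18, 12, 6, 8, 10, 4, 6, 8, 2, 4, 6, 16, 0, 2, 4, 6, 8, 10, 12, 14] .nil (.cons [10, 8, 4, 6, 16, 18, 12, 6, 8, 10, 4, 6, 8, 2, 4, 6, 16, 0, 2, 4, 6, 8, 10, 12, 14] (.cons [2, 4, 6, 14, 16, 10, 4, 6, 8, 2, 4, 6, 14, 0, 2, 4, 6, 8, 10, 12] (.cons [8, 6, 12, 4, 2, 4, 6, 12, 14] .nil .nil) .nil) (.cons [12, 10, 8, 6, 16, 18, 12, 6, 8, 10, 4, 6, 8, 2, 4, 6, 16, 0, 2, 4, 6, 8, 10, 12, 14] (.cons [0, 2, 4, 6, 14, 16, 6, 8, 2, 4, 6, 14, 10, 12, 8, 10, 4, 6, 8, 2, 4, 6, 14, 16, 8, 10, 6, 8, 2, 4, 6, 14, 0, 2, 4, 6, 8, 10, 12] (.cons [6, 8, 4, 2, 4, 6, 12, 14, 8, 6, 10] .nil .nil) .nil) (.cons [8, 0, 2, 4, 6, 16, 18, 6, 8, 10, 4, 6, 8, 2, 4, 6, 16, 0, 2, 4, 6, 8, 10, 12, 14] (.cons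 [16, 10, 4, 6, 8, 14, 6, 4, 2, 0, 2, 16, 10, 12, 8, 10, 6, 8, 4, 6, 14, 16, 12, 10, 6, 8, 4, 6, 14, 2, 4, 6, 8, 10, 12] .nil .nil) (.cons [10, 8, 2, 4, 6, 16, 18, 6, 8, 10, 4, 6, 8, 2, 4, 6, 16, 0, 2, 4, 6, 8, 10, 12, 14] (.cons [14, 10, 6, 8, 0, 2, 4, 6, 14, 16, 12, 8, 10, 6, 8, 2, 4, 6, 14, 0, 2, 4, 6, 8, 10, 12] (.cons [12, 4, 8, 10, 0, 2, 4, 6, 12, 14] .nil .nil) .nil) (.cons [10, 6, 8, 4, 6, 16, 18, 6, 8, 10, 4, 6, 8, 2, 4, 6, 16, 0, 2, 4, 6, 8, 10, 12, 14] (.cons [4, 6, 8, 0, 2, 4, 6, 14, 16, 6, 14, 12, 10, 4, 6, 8, 2, 4, 6, 14, 0, 2, 4, 6, 8, 10, 12] .nil .nil) (.cons [16, 6, 8, 4, 6, 16, 18, 6, 8, 10, 4, 6, 8, 2, 4, 6, 16, 0, 2, 4, 6, 8, 10, 12, 14] (.cons [16, 8, 4, 6, 14, 8, 10, 4, 6, 8, 0, 2, 4, 6,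 14, 16, 8, 10, 6, 8, 2, 4, 6, 14, 0, 2, 4, 6, 8, 10, 12] (.cons [14, 10, 8, 4, 6, 4, 0, 2, 8, 4, 6, 8, 10] .nil .nil) .nil) (.cons [12, 10, 8, 4, 6, 16, 18, 6, 8, 10, 4, 6, 8, 2, 4, 6, 16, 0, 2, 4, 6, 8, 10, 12, 14] (.cons [16, 4, 6, 14, 12, 8, 10, 4, 6, 8, 2, 4, 6, 14, 16, 14, 10, 4, 6, 8, 2, 4, 6, 14, 0, 2, 4, 6, 8, 10, 12] (.cons [4, 12, 6, 8, 10, 8, 6, 12, 14, 4, 6, 0, 2] .nil .nil) .nil) (.cons [14, 12, 10, 8, 6, 16, 18, 6, 8, 10, 4, 6, 8, 2, 4, 6, 16, 0, 2, 4, 6, 8, 10, 12, 14] .nil (.cons [2, 4, 6, 16, 18, 14, 10, 12, 8, 10, 4, 6, 8, 2, 4, 6, 16, 0, 2, 4, 6, 8, 10, 12, 14] (.cons [16, 2, 4, 6, 14, 8, 10, 4, 6, 8, 0, 2, 4, 6, 14, 16, 12, 10, 6, 8, 2, 4, 6, 14, 0, 2, 4, 6, 8, 10, 12] .nil .nil) (.cons [10,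 8, 6, 16, 18, 14, 10, 12, 8, 10, 4, 6, 8, 2, 4, 6, 16, 0, 2, 4, 6, 8, 10, 12, 14] (.cons [16, 14, 6, 8, 10, 4, 6, 8, 0, 2, 4, 6, 14, 16, 14, 12, 10, 6, 8, 4, 6, 14, 0, 2, 4, 6, 8, 10, 12] .nil .nil) (.cons [2, 4, 6, 16, 18, 16, 10, 12, 8, 10, 4, 6, 8, 2, 4, 6, 16, 0, 2, 4, 6, 8, 10, 12, 14] (.cons [16, 2, 4, 6, 14, 12, 8, 10, 4, 6, 8, 0, 2, 4, 6, 14, 16, 8, 10, 6, 8, 2, 4, 6, 14, 0, 2, 4, 6, 8, 10, 12] .nil .nil) (.cons [2, 4, 6, 16, 18, 16, 14, 12, 8, 10, 4, 6, 8, 2, 4, 6, 16, 0, 2, 4, 6, 8, 10, 12, 14] (.cons [16, 2, 4, 6, 14, 8, 10, 2, 4, 6, 8, 0, 2, 4, 6, 14, 16, 12, 10, 4, 6, 8, 2, 4, 6, 14, 0, 2, 4, 6, 8, 10, 12] (.cons [12, 14, 4, 0, 2, 0, 4, 12, 6, 4, 2, 8, 10] .nil .nil) .nil) (.cons [10, 8, 6, 16,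 18, 16, 14, 12, 8, 10, 4, 6, 8, 2, 4, 6, 16, 0, 2, 4, 6, 8, 10, 12, 14] .nil (.cons [12, 10, 8, 6, 16, 18, 16, 12, 8, 10, 4, 6, 8, 2, 4, 6, 16, 0, 2, 4, 6, 8, 10, 12, 14] (.cons [14, 16, 6, 14, 12, 8, 10, 6, 8, 0, 2, 4, 6, 14, 16, 8, 10, 4, 6, 8, 2, 4, 6, 14, 0, 2, 4, 6, 8, 10, 12] (.cons [8, 10, 6, 4, 6, 0, 2] .nil .nil) .nil) (.cons [10, 8, 2, 4, 6, 16, 18, 12, 8, 10, 4, 6, 8, 2, 4, 6, 16, 0, 2, 4, 6, 8, 10, 12, 14] .nil (.cons [14, 12, 10, 8, 6, 16, 18, 12, 8, 10, 4, 6, 8, 2, 4, 6, 16, 0, 2, 4, 6, 8, 10, 12, 14] (.cons [14, 6, 8, 0, 2, 4, 6, 14, 16, 10, 8, 4, 6, 14, 10, 12, 8, 10, 4, 6, 8, 2, 4, 6, 14, 16, 10, 4, 6, 8, 2, 4, 6, 14, 0, 2, 4, 6, 8, 10, 12] (.cons [6, 8, 4, 6, 12, 14, 4, 12, 6, 8, 10, 4, 6,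 2, 4, 0, 2] .nil .nil) .nil) (.cons [10, 8, 2, 4, 6, 16, 18, 16, 8, 10, 4, 6, 8, 2, 4, 6, 16, 0, 2, 4, 6, 8, 10, 12, 14] (.cons [2, 0, 4, 2, 16, 8, 6, 14, 10, 12, 8, 10, 6, 8, 4, 6, 14, 16, 8, 2, 4, 6, 14, 0, 2, 4, 6, 8, 10, 12] (.cons [10, 8, 2, 4, 6, 8, 4, 14, 12, 6, 4, 2, 4, 8, 10, 12, 14] .nil .nil) .nil) (.cons [12, 10, 8, 4, 6, 16, 18, 16, 8, 10, 4, 6, 8, 2, 4, 6, 16, 0, 2, 4, 6, 8, 10, 12, 14] .nil (.cons [6, 8, 0, 2, 4, 6, 16, 18, 8, 10, 4, 6, 8, 2, 4, 6, 16, 0, 2, 4, 6, 8, 10, 12, 14] (.cons [14, 4, 6, 8, 2, 4, 6, 14, 16, 14, 10, 6, 8, 4, 6, 14, 10, 12, 8, 10, 4, 6, 8, 2, 4, 6, 14, 16, 12, 10, 4, 6, 8, 2, 4, 6, 14, 0, 2, 4, 6, 8, 10, 12] (.cons [4, 6, 12, 8, 10, 6, 4, 2, 12, 6, 4] .nil .nil) .nil) (.cons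 [10, 6, 8, 2, 4, 6, 16, 18, 8, 10, 4, 6, 8, 2, 4, 6, 16, 0, 2, 4, 6, 8, 10, 12, 14] (.cons [14, 16, 2, 4, 6, 14, 8, 10, 6, 8, 2, 4, 6, 14, 16, 14, 8, 10, 6, 8, 2, 4, 6, 14, 0, 2, 4, 6, 8, 10, 12] .nil .nil) (.cons [12, 10, 6, 8, 4, 6, 16, 18, 8, 10, 4, 6, 8, 2, 4, 6, 16, 0, 2, 4, 6, 8, 10, 12, 14] (.cons [14, 16, 2, 4, 2, 8, 6, 14, 16, 4, 6, 14, 10, 12, 8, 10, 6, 8, 4, 6, 14, 16, 6, 8, 2, 4, 6, 14, 0, 2, 4, 6, 8, 10, 12] (.cons [0, 2, 4, 6, 12, 14, 8, 10, 12, 6, 4, 0, 2] .nil .nil) .nil) (.cons [14, 12, 10, 8, 4, 6, 16, 18, 8, 10, 4, 6, 8, 2, 4, 6, 16, 0, 2, 4, 6, 8, 10, 12, 14] (.cons [10, 6, 8, 4, 6, 14, 16, 10, 6, 8, 4, 6, 14, 10, 12, 8, 10, 4, 6, 8, 2, 4, 6, 14, 16, 12, 10, 4, 6, 8, 2, 4, 6, 14, 0, 2, 4,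 6, 8, 10, 12] (.cons [10, 6, 4, 14, 12, 6, 8, 4, 6, 12, 14, 12, 6, 8, 10, 4, 6, 2] .nil .nil) .nil) (.cons [6, 8, 4, 6, 16, 18, 16, 14, 12, 10, 4, 6, 8, 2, 4, 6, 16, 0, 2, 4, 6, 8, 10, 12, 14] .nil (.cons [10, 8, 4, 6, 16, 18, 16, 14, 12, 10, 4, 6, 8, 2, 4, 6, 16, 0, 2, 4, 6, 8, 10, 12, 14] (.cons [6, 14, 4, 6, 8, 2, 4, 6, 14, 16, 6, 14, 12, 10, 4, 6, 8, 2, 4, 6, 14, 0, 2, 4, 6, 8, 10, 12] (.cons [12, 14, 6, 4, 0, 2, 8, 6, 10, 4] .nil .nil) .nil) (.cons [10, 8, 2, 4, 6, 16, 18, 14, 12, 10, 4, 6, 8, 2, 4, 6, 16, 0, 2, 4, 6, 8, 10, 12, 14] .nil (.cons [16, 6, 8, 4, 6, 16, 18, 16, 12, 10, 4, 6, 8, 2, 4, 6, 16, 0, 2, 4, 6, 8, 10, 12, 14] (.cons [16, 0, 12, 10, 8, 2, 4, 6, 14, 8, 10, 4, 6, 8, 2, 4, 6, 14, 16, 12,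 10, 8, 2, 4, 6, 14, 0, 2, 4, 6, 8, 10, 12] (.cons [10, 12, 6, 4, 2, 6, 12, 14, 12, 6, 4] .nil .nil) .nil) (.cons [12, 10, 8, 4, 6, 16, 18, 16, 12, 10, 4, 6, 8, 2, 4, 6, 16, 0, 2, 4, 6, 8, 10, 12, 14] (.cons [12, 10, 6, 8, 4, 6, 14, 16, 6, 14, 12, 8, 10, 6, 8, 2, 4, 6, 14, 0, 2, 4, 6, 8, 10, 12] (.cons [6, 2, 12, 14, 4, 8, 6, 10, 4] .nil .nil) .nil) (.cons [14, 12, 10, 8, 6, 16, 18, 16, 12, 10, 4, 6, 8, 2, 4, 6, 16, 0, 2, 4, 6, 8, 10, 12, 14] (.cons [4, 6, 14, 16, 8, 2, 4, 6, 14, 6, 8, 10, 4, 6, 8, 2, 4, 6, 14, 16, 10, 6, 8, 2, 4, 6, 14, 0, 2, 4, 6, 8, 10, 12] (.cons [12, 4, 2, 6, 8, 4, 6, 12, 14, 10, 8, 6, 4, 2, 8, 10] .nil .nil) .nil) (.cons [14, 12, 10, 8, 4, 6, 16, 18, 12, 10, 4, 6, 8, 2, 4, 6, 16, 0, 2,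 4, 6, 8, 10, 12, 14] (.cons [8, 4, 6, 14, 16, 8, 4, 6, 14, 10, 12, 6, 8, 10, 4, 6, 8, 2, 4, 6, 14, 16, 12, 10, 4, 6, 8, 2, 4, 6, 14, 0, 2, 4, 6, 8, 10, 12] (.cons [14, 10, 8, 2, 0, 12, 6, 8, 4, 6, 2, 8, 10] .nil .nil) .nil) (.cons [10, 8, 2, 4, 6, 16, 18, 6, 16, 10, 4, 6, 8, 2, 4, 6, 16, 0, 2, 4, 6, 8, 10, 12, 14] (.cons [16, 6, 14, 12, 6, 8, 10, 4, 6, 8, 2, 4, 6, 14, 16, 4, 6, 8, 2, 4, 6, 14, 0, 2, 4, 6, 8, 10, 12] .nil .nil) (.cons [12, 10, 8, 4, 6, 16, 18, 6, 16, 10, 4, 6, 8, 2, 4, 6, 16, 0, 2, 4, 6, 8, 10, 12, 14] (.cons [8, 10, 14, 0, 6, 4, 2, 8, 4, 6, 14, 10, 12, 8, 10, 6, 8, 4, 6, 14, 16, 8, 2, 4, 6, 14, 0, 2, 4, 6, 8, 10, 12] (.cons [12, 14, 6, 12, 14, 8, 10, 6, 2, 4, 0, 2, 12] (.cons [1, 1] .nil .nil)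 .nil) .nil) (.cons [14, 12, 10, 8, 6, 16, 18, 6, 16, 10, 4, 6, 8, 2, 4, 6, 16, 0, 2, 4, 6, 8, 10, 12, 14] (.cons [14, 16, 12, 10, 8, 6, 14, 10, 12, 8, 10, 4, 6, 8, 2, 4, 6, 14, 16, 10, 8, 2, 4, 6, 14, 0, 2, 4, 6, 8, 10, 12] (.cons [6, 12, 14, 6, 0, 2, 4, 6, 8, 10, 12, 6, 4, 2] .nil .nil) .nil) (.cons [10, 8, 0, 2, 4, 6, 16, 18, 16, 10, 4, 6, 8, 2, 4, 6, 16, 0, 2, 4, 6, 8, 10, 12, 14] (.cons [14, 16, 6, 14, 10, 12, 8, 10, 2, 4, 6, 8, 0, 2, 4, 6, 14, 16, 8, 10, 4, 6, 8, 2, 4, 6, 14, 0, 2, 4, 6, 8, 10, 12] (.cons [12, 14, 4, 10, 8, 6, 4, 2, 12, 6, 8, 10] .nil .nil) .nil) (.cons [12, 10, 8, 2, 4, 6, 16, 18, 16, 10, 4, 6, 8, 2, 4, 6, 16, 0, 2, 4, 6, 8, 10, 12, 14] (.cons [6, 14, 16, 10, 6, 8, 4, 6, 14, 10, 12, 6,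 8, 10, 4, 6, 8, 2, 4, 6, 14, 16, 8, 10, 6, 8, 2, 4, 6, 14, 0, 2, 4, 6, 8, 10, 12] .nil .nil) (.cons [8, 10, 6, 8, 4, 6, 16, 18, 16, 10, 4, 6, 8, 2, 4, 6, 16, 0, 2, 4, 6, 8, 10, 12, 14] (.cons [14, 10, 6, 8, 4, 6, 14, 10, 12, 8, 10, 4, 6, 8, 2, 4, 6, 14, 16, 14, 8, 10, 4, 6, 8, 2, 4, 6, 14, 0, 2, 4, 6, 8, 10, 12] (.cons [10, 2, 6, 4, 14, 12, 6, 8, 10, 6, 12, 14, 4, 8, 6, 4, 2] .nil .nil) .nil) (.cons [12, 10, 6, 8, 4, 6, 16, 18, 16, 10, 4, 6, 8, 2, 4, 6, 16, 0, 2, 4, 6, 8, 10, 12, 14] (.cons [8, 2, 4, 6, 14, 16, 6, 8, 10, 14, 6, 4, 6, 14, 8, 10, 12, 6, 8, 10, 4, 6, 8, 2, 4, 6, 14, 16, 14, 6, 8, 4, 6, 14, 0, 2, 4, 6, 8, 10, 12] (.cons [8, 0, 2, 4, 6, 14, 12, 6, 8, 4, 6, 10, 4, 2, 12, 14] .nil .nil) .nil) (.cons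 [18, 16, 6, 8, 4, 6, 16, 18, 16, 10, 4, 6, 8, 2, 4, 6, 16, 0, 2, 4, 6, 8, 10, 12, 14] (.cons [14, 16, 8, 6, 14, 10, 12, 8, 10, 6, 8, 4, 6, 14, 16, 14, 8, 10, 4, 6, 8, 2, 4, 6, 14, 0, 2, 4, 6, 8, 10, 12] (.cons [2, 4, 6, 8, 0, 2, 4, 6, 12, 14, 10, 12, 6, 8, 10, 0, 12, 6, 4, 2, 4] .nil .nil) .nil) (.cons [14, 12, 10, 8, 4, 6, 16, 18, 16, 10, 4, 6, 8, 2, 4, 6, 16, 0, 2, 4, 6, 8, 10, 12, 14] (.cons [16, 4, 6, 14, 8, 10, 12, 6, 8, 10, 4, 6, 8, 0, 2, 4, 6, 14, 16, 6, 8, 2, 4, 6, 14, 0, 2, 4, 6, 8, 10, 12] (.cons [2, 4, 6, 12, 14, 6, 8, 10, 12, 6, 4, 6, 0, 2] .nil .nil) .nil) (.cons [10, 6, 8, 0, 2, 4, 6, 16, 18, 10, 4, 6, 8, 2, 4, 6, 16, 0, 2, 4, 6, 8, 10, 12, 14] (.cons [12, 10, 8, 6, 14, 16, 4, 10, 2, 4, 6, 14,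 16, 8, 6, 14, 10, 12, 8, 10, 6, 8, 4, 6, 14, 16, 8, 2, 4, 6, 14, 0, 2, 4, 6, 8, 10, 12] (.cons [6, 4, 0, 2, 6, 8, 10, 12] .nil .nil) .nil) (.cons [16, 6, 8, 0, 2, 4, 6, 16, 18, 10, 4, 6, 8, 2, 4, 6, 16, 0, 2, 4, 6, 8, 10, 12, 14] (.cons [16, 6, 14, 10, 12, 8, 10, 6, 8, 2, 4, 6, 14, 16, 14, 8, 10, 6, 8, 2, 4, 6, 14, 0, 2, 4, 6, 8, 10, 12] (.cons [4, 6, 2, 4, 6, 8, 10, 8, 6, 12, 14, 4, 6, 0, 2] .nil .nil) .nil) (.cons [8, 10, 6, 8, 2, 4, 6, 16, 18, 10, 4, 6, 8, 2, 4, 6, 16, 0, 2, 4, 6, 8, 10, 12, 14] (.cons [14, 16, 6, 14, 8, 10, 6, 8, 4, 6, 14, 16, 8, 2, 4, 6, 14, 0, 2, 4, 6, 8, 10, 12] (.cons [12, 10, 4, 6, 12, 14] .nil .nil) .nil) (.cons [16, 10, 6, 8, 2, 4, 6, 16, 18, 10, 4, 6, 8, 2, 4, 6, 16, 0, 2, 4, 6,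 8, 10, 12, 14] (.cons [16, 6, 2, 8, 4, 6, 14, 10, 12, 8, 10, 6, 8, 4, 6, 14, 16, 12, 8, 10, 6, 8, 2, 4, 6, 14, 0, 2, 4, 6, 8, 10, 12] (.cons [4, 6, 12, 14, 4, 6, 8, 2, 10, 8, 6, 4, 0, 2] .nil .nil) .nil) (.cons [18, 16, 10, 6, 8, 4, 6, 16, 18, 10, 4, 6, 8, 2, 4, 6, 16, 0, 2, 4, 6, 8, 10, 12, 14] (.cons [16, 8, 0, 4, 2, 6, 4, 8, 6, 14, 10, 12, 8, 10, 6, 8, 4, 6, 14, 16, 2, 4, 6, 14, 0, 2, 4, 6, 8, 10, 12] (.cons [6, 8, 4, 6, 12, 14, 12, 6, 10, 8, 4, 12, 6, 4, 2, 4, 8, 10] (.cons [4, 1, 1, 1, 3] .nil .nil) .nil) .nil) (.cons [14, 12, 10, 8, 6, 16, 18, 8, 6, 16, 4, 6, 8, 2, 4, 6, 16, 0, 2, 4, 6, 8, 10, 12, 14] (.cons [8, 2, 4, 6, 14, 10, 12, 8, 10, 6, 8, 0, 2, 4, 6, 14, 16, 6, 8, 2, 4, 6, 14, 0, 2, 4, 6, 8, 10,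 12] .nil .nil) (.cons [10, 8, 0, 2, 4, 6, 16, 18, 6, 16, 4, 6, 8, 2, 4, 6, 16, 0, 2, 4, 6, 8, 10, 12, 14] (.cons [2, 4, 6, 14, 16, 6, 8, 10, 6, 4, 2, 4, 6, 14, 12, 8, 10, 6, 8, 4, 6, 14, 16, 14, 12, 10, 6, 8, 2, 4, 6, 14, 0, 2, 4, 6, 8, 10, 12] (.cons [0, 2, 4, 6, 4, 8, 10, 6, 4, 12, 14] .nil .nil) .nil) (.cons [10, 4, 6, 8, 2, 4, 6, 16, 18, 16, 4, 6, 8, 2, 4, 6, 16, 0, 2, 4, 6, 8, 10, 12, 14] (.cons [10, 8, 4, 6, 14, 16, 14, 8, 10, 4, 6, 8, 2, 4, 6, 14, 0, 2, 4, 6, 8, 10, 12] (.cons [6, 8, 2, 4, 6, 0, 2, 8, 4, 6, 8, 10] (.cons [5, 1, 4, 3] .nil .nil) .nil) .nil) (.cons [16, 8, 10, 6, 8, 4, 6, 16, 18, 16, 4, 6, 8, 2, 4, 6, 16, 0, 2, 4, 6, 8, 10, 12, 14] (.cons [8, 0, 2, 4, 6, 14, 8, 10, 4, 6, 8, 2, 4, 6, 14,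 16, 10, 8, 2, 4, 6, 14, 0, 2, 4, 6, 8, 10, 12] (.cons [10, 8, 6, 12, 14, 4, 10, 0, 2, 4, 8, 6] .nil .nil) .nil) (.cons [16, 12, 10, 6, 8, 4, 6, 16, 18, 16, 4, 6, 8, 2, 4, 6, 16, 0, 2, 4, 6, 8, 10, 12, 14] (.cons [8, 6, 14, 12, 10, 4, 6, 8, 0, 2, 4, 6, 14, 16, 8, 10, 6, 8, 2, 4, 6, 14, 0, 2, 4, 6, 8, 10, 12] (.cons [14, 6, 4, 6, 0, 2, 8, 10] .nil .nil) .nil) (.cons [18, 16, 10, 6, 8, 4, 6, 16, 18, 16, 4, 6, 8, 2, 4, 6, 16, 0, 2, 4, 6, 8, 10, 12, 14] (.cons [14, 6, 8, 2, 4, 6, 14, 16, 12, 10, 6, 8, 2, 4, 6, 14, 0, 2, 4, 6, 8, 10, 12] (.cons [0, 6, 8, 12, 14, 6, 4, 2, 12, 14, 8, 6, 4, 12] .nil .nil) .nil) (.cons [10, 4, 6, 8, 0, 2, 4, 6, 16, 18, 4, 6, 8, 2, 4, 6, 16, 0, 2, 4, 6, 8, 10, 12, 14] (.cons [6, 14, 8,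 10, 6, 8, 4, 6, 14, 16, 10, 4, 6, 8, 2, 4, 6, 14, 0, 2, 4, 6, 8, 10, 12] (.cons [14, 6, 8, 2, 10, 6, 4, 2, 8, 6] .nil .nil) .nil) (.cons [8, 10, 6, 8, 0, 2, 4, 6, 16, 18, 4, 6, 8, 2, 4, 6, 16, 0, 2, 4, 6, 8, 10, 12, 14] (.cons [16, 10, 8, 6, 14, 12, 8, 10, 4, 6, 8, 2, 4, 6, 14, 16, 14, 12, 10, 6, 8, 2, 4, 6, 14, 0, 2, 4, 6, 8, 10, 12] (.cons [6, 12, 10, 8, 6, 12, 14, 2, 4, 6, 0, 2, 4, 8, 10] .nil .nil) .nil) (.cons [12, 10, 6, 8, 0, 2, 4, 6, 16, 18, 4, 6, 8, 2, 4, 6, 16, 0, 2, 4, 6, 8, 10, 12, 14] .nil (.cons [16, 10, 6, 8, 0, 2, 4, 6, 16, 18, 4, 6, 8, 2, 4, 6, 16, 0, 2, 4, 6, 8, 10, 12, 14] (.cons [8, 2, 10, 14, 8, 6, 14, 16, 4, 6, 14, 8, 10, 12, 6, 8, 10, 4, 6, 8, 2, 4, 6, 14, 16, 6, 8, 4, 6, 14, 0, 2, 4,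 6, 8, 10, 12] (.cons [2, 4, 0, 2, 12, 8, 6, 4, 12, 14] .nil .nil) .nil) (.cons [16, 10, 4, 6, 8, 2, 4, 6, 16, 18, 4, 6, 8, 2, 4, 6, 16, 0, 2, 4, 6, 8, 10, 12, 14] (.cons [14, 16, 8, 14, 6, 8, 10, 4, 0, 2, 6, 14, 8, 4, 6, 14, 10, 12, 8, 10, 6, 8, 4, 6, 14, 16, 8, 2, 4, 6, 14, 0, 2, 4, 6, 8, 10, 12] (.cons [12, 6, 0, 14, 2, 4, 6, 12, 6, 8, 4, 2, 6, 10, 8] .nil .nil) .nil) (.cons [18, 16, 10, 6, 8, 2, 4, 6, 16, 18, 4, 6, 8, 2, 4, 6, 16, 0, 2, 4, 6, 8, 10, 12, 14] (.cons [14, 16, 10, 4, 6, 8, 2, 4, 6, 14, 10, 12, 6, 8, 10, 4, 6, 8, 2, 4, 6, 14, 16, 10, 6, 8, 2, 4, 6, 14, 0, 2, 4, 6, 8, 10, 12] (.cons [4, 6, 12, 6, 8, 10, 6, 4, 2, 12, 14, 6, 4] .nil .nil) .nil) (.cons [14, 12, 8, 10, 6, 8, 4, 6, 16, 18, 4, 6, 8,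 2, 4, 6, 16, 0, 2, 4, 6, 8, 10, 12, 14] (.cons [4, 6, 14, 16, 8, 10, 6, 8, 4, 6, 14, 10, 12, 8, 10, 6, 8, 0, 2, 4, 6, 14, 16, 12, 10, 8, 2, 4, 6, 14, 0, 2, 4, 6, 8, 10, 12] (.cons [2, 4, 6, 12, 14, 8, 4, 12, 6, 4, 0, 2, 8, 6, 10, 4] .nil .nil) .nil) (.cons [6, 16, 8, 10, 6, 8, 4, 6, 16, 18, 4, 6, 8, 2, 4, 6, 16, 0, 2, 4, 6, 8, 10, 12, 14] (.cons [12, 10, 8, 10, 6, 14, 6, 4, 2, 8, 4, 6, 14, 10, 12, 8, 10, 6, 8, 4, 6, 14, 16, 8, 2, 4, 6, 14, 0, 2, 4, 6, 8, 10, 12] (.cons [14, 6, 0, 2, 4, 0, 6, 8, 10, 12, 6, 4, 2] .nil .nil) .nil) (.cons [6, 16, 18, 6, 16, 12, 14, 10, 12, 8, 10, 6, 8, 2, 4, 6, 16, 0, 2, 4, 6, 8, 10, 12, 14] (.cons [6, 14, 16, 4, 6, 14, 10, 8, 6, 4, 2, 14, 10, 12, 8, 10, 6, 8, 4, 6, 14, 16, 10,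 6, 8, 4, 6, 14, 0, 2, 4, 6, 8, 10, 12] (.cons [14, 12, 8, 10, 6, 4, 2, 6, 4, 12] .nil .nil) .nil) (.cons [8, 4, 6, 16, 18, 12, 14, 10, 12, 8, 10, 6, 8, 2, 4, 6, 16, 0, 2, 4, 6, 8, 10, 12, 14] (.cons [14, 6, 8, 2, 4, 6, 14, 16, 14, 12, 10, 6, 8, 4, 6, 14, 10, 12, 8, 10, 4, 6, 8, 2, 4, 6, 14, 16, 10, 4, 6, 8, 2, 4, 6, 14, 0, 2, 4, 6, 8, 10, 12] .nil .nil) (.cons [6, 16, 18, 8, 6, 16, 14, 10, 12, 8, 10, 6, 8, 2, 4, 6, 16, 0, 2, 4, 6, 8, 10, 12, 14] (.cons [14, 16, 6, 14, 4, 6, 8, 2, 4, 6, 14, 16, 6, 14, 12, 10, 4, 6, 8, 2, 4, 6, 14, 0, 2, 4, 6, 8, 10, 12] (.cons [12, 6, 2, 4, 0, 2, 6, 8, 10, 8, 12] .nil .nil) .nil) (.cons [2, 4, 6, 16, 18, 16, 14, 10, 12, 8, 10, 6, 8, 2, 4, 6, 16, 0, 2, 4, 6, 8, 10, 12, 14] (.cons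 [8, 4, 6, 14, 8, 10, 4, 6, 8, 2, 4, 6, 14, 16, 14, 12, 10, 4, 6, 8, 2, 4, 6, 14, 0, 2, 4, 6, 8, 10, 12] .nil .nil) (.cons [10, 8, 6, 16, 18, 16, 14, 10, 12, 8, 10, 6, 8, 2, 4, 6, 16, 0, 2, 4, 6, 8, 10, 12, 14] .nil (.cons [0, 2, 4, 6, 16, 18, 14, 10, 12, 8, 10, 6, 8, 2, 4, 6, 16, 0, 2, 4, 6, 8, 10, 12, 14] (.cons [4, 6, 14, 8, 10, 6, 8, 4, 6, 14, 16, 6, 14, 12, 10, 4, 6, 8, 2, 4, 6, 14, 0, 2, 4, 6, 8, 10, 12] (.cons [2, 4, 6, 12, 10, 8, 2, 4, 6, 4, 2, 8, 10, 12, 14] .nil .nil) .nil) (.cons [4, 6, 16, 18, 8, 6, 16, 10, 12, 8, 10, 6, 8, 2, 4, 6, 16, 0, 2, 4, 6, 8, 10, 12, 14] (.cons [6, 14, 10, 12, 8, 10, 4, 6, 8, 0, 2, 4, 6, 14, 16, 8, 10, 4, 6, 8, 2, 4, 6, 14, 0, 2, 4, 6, 8, 10, 12] (.cons [6, 12, 14, 2, 0,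 12, 4, 2, 6, 8, 10, 8, 12] .nil .nil) .nil) (.cons [8, 6, 16, 18, 8, 6, 16, 10, 12, 8, 10, 6, 8, 2, 4, 6, 16, 0, 2, 4, 6, 8, 10, 12, 14] (.cons [14, 16, 8, 6, 14, 12, 10, 4, 6, 8, 0, 2, 4, 6, 14, 16, 12, 10, 4, 6, 8, 2, 4, 6, 14, 0, 2, 4, 6, 8, 10, 12] (.cons [12, 8, 4, 6, 4, 0, 2, 8, 10, 12, 14] .nil .nil) .nil) (.cons [10, 8, 4, 6, 16, 18, 16, 10, 12, 8, 10, 6, 8, 2, 4, 6, 16, 0, 2, 4, 6, 8, 10, 12, 14] .nil (.cons [8, 0, 2, 4, 6, 16, 18, 10, 12, 8, 10, 6, 8, 2, 4, 6, 16, 0, 2, 4, 6, 8, 10, 12, 14] .nil (.cons [6, 8, 2, 4, 6, 16, 18, 10, 12, 8, 10, 6, 8, 2, 4, 6, 16, 0, 2, 4, 6, 8, 10, 12, 14] (.cons [8, 2, 4, 6, 14, 16, 8, 2, 4, 6, 14, 10, 12, 8, 10, 4, 6, 8, 2, 4, 6, 14, 16, 8, 10, 6, 8, 2, 4, 6, 14, 0,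 2, 4, 6, 8, 10, 12] .nil .nil) (.cons [16, 6, 8, 4, 6, 16, 18, 10, 12, 8, 10, 6, 8, 2, 4, 6, 16, 0, 2, 4, 6, 8, 10, 12, 14] (.cons [6, 14, 16, 12, 10, 8, 2, 4, 6, 14, 10, 12, 8, 10, 4, 6, 8, 2, 4, 6, 14, 16, 10, 6, 8, 2, 4, 6, 14, 0, 2, 4, 6, 8, 10, 12] (.cons [8, 10, 8, 6, 12, 4, 2, 6, 8, 10, 14, 12] .nil .nil) .nil) (.cons [8, 4, 6, 16, 18, 6, 16, 14, 12, 8, 10, 6, 8, 2, 4, 6, 16, 0, 2, 4, 6, 8, 10, 12, 14] (.cons [8, 10, 6, 8, 2, 4, 6, 14, 16, 12, 10, 6, 8, 4, 6, 14, 2, 4, 6, 8, 10, 12] (.cons [8, 10, 2, 6, 4, 2, 12, 6, 4, 0, 2, 8, 10] .nil .nil) .nil) (.cons [12, 10, 8, 4, 6, 16, 18, 14, 12, 8, 10, 6, 8, 2, 4, 6, 16, 0, 2, 4, 6, 8, 10, 12, 14] (.cons [16, 8, 10, 2, 6, 14, 8, 4, 6, 14, 10, 12, 8, 10, 6, 8,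 4, 6, 14, 16, 8, 2, 4, 6, 14, 0, 2, 4, 6, 8, 10, 12] (.cons [14, 6, 12, 14, 0, 8, 6, 4, 2, 12, 6, 8, 10, 8] .nil .nil) .nil) (.cons [14, 12, 10, 8, 6, 16, 18, 14, 12, 8, 10, 6, 8, 2, 4, 6, 16, 0, 2, 4, 6, 8, 10, 12, 14] .nil (.cons [6, 8, 4, 6, 16, 18, 6, 16, 12, 8, 10, 6, 8, 2, 4, 6, 16, 0, 2, 4, 6, 8, 10, 12, 14] (.cons [10, 8, 6, 12, 10, 8, 2, 4, 6, 14, 10, 12, 8, 10, 4, 6, 8, 2, 4, 6, 14, 16, 12, 10, 8, 2, 4, 6, 14, 0, 2, 4, 6, 8, 10, 12] (.cons [4, 6, 12, 14, 10, 8, 10, 0, 12, 6, 4, 2, 4] .nil .nil) .nil) (.cons [10, 8, 4, 6, 16, 18, 6, 16, 12, 8, 10, 6, 8, 2, 4, 6, 16, 0, 2, 4, 6, 8, 10, 12, 14] (.cons [14, 16, 4, 6, 14, 8, 10, 6, 8, 2, 4, 6, 14, 16, 8, 10, 4, 6, 8, 2, 4, 6, 14, 0, 2, 4, 6, 8, 10, 12]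 (.cons [12, 10, 6, 4, 2, 4, 14, 12] .nil .nil) .nil) (.cons [6, 8, 2, 4, 6, 16, 18, 16, 12, 8, 10, 6, 8, 2, 4, 6, 16, 0, 2, 4, 6, 8, 10, 12, 14] (.cons [16, 6, 14, 8, 10, 12, 6, 8, 10, 4, 6, 8, 2, 4, 6, 14, 16, 14, 6, 8, 4, 6, 14, 0, 2, 4, 6, 8, 10, 12] (.cons [4, 8, 2, 12, 6, 8] .nil .nil) .nil) (.cons [16, 6, 8, 4, 6, 16, 18, 16, 12, 8, 10, 6, 8, 2, 4, 6, 16, 0, 2, 4, 6, 8, 10, 12, 14] (.cons [10, 12, 8, 10, 6, 8, 4, 6, 14, 16, 12, 10, 8, 2, 4, 6, 14, 0, 2, 4, 6, 8, 10, 12] (.cons [14, 10, 8, 12, 6, 4, 2, 8, 10] .nil .nil) .nil) (.cons [16, 10, 6, 8, 4, 6, 16, 18, 12, 8, 10, 6, 8, 2, 4, 6, 16, 0, 2, 4, 6, 8, 10, 12, 14] (.cons [14, 16, 8, 4, 6, 14, 10, 12, 6, 8, 10, 4, 6, 8, 0, 2, 4, 6, 14, 16, 8, 10, 6, 8,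 2, 4, 6, 14, 0, 2, 4, 6, 8, 10, 12] .nil .nil) (.cons [18, 16, 6, 8, 4, 6, 16, 18, 12, 8, 10, 6, 8, 2, 4, 6, 16, 0, 2, 4, 6, 8, 10, 12, 14] (.cons [2, 4, 6, 14, 16, 8, 6, 10, 8, 4, 6, 14, 12, 8, 10, 4, 6, 8, 0, 2, 4, 6, 14, 16, 12, 10, 8, 2, 4, 6, 14, 0, 2, 4, 6, 8, 10, 12] (.cons [8, 4, 6, 12, 10, 8, 10, 6, 4, 2, 12, 14, 6, 4] .nil .nil) .nil) (.cons [14, 12, 10, 8, 4, 6, 16, 18, 12, 8, 10, 6, 8, 2, 4, 6, 16, 0, 2, 4, 6, 8, 10, 12, 14] (.cons [6, 14, 16, 4, 6, 14, 8, 10, 6, 8, 4, 6, 14, 16, 14, 8, 10, 4, 6, 8, 2, 4, 6, 14, 0, 2, 4, 6, 8, 10, 12] (.cons [8, 4, 0, 2, 12, 6, 8, 10] .nil .nil) .nil) (.cons [10, 6, 8, 4, 6, 16, 18, 6, 16, 8, 10, 6, 8, 2, 4, 6, 16, 0, 2, 4, 6, 8, 10, 12, 14] (.cons [2, 4, 6, 8, 0,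 2, 4, 6, 14, 16, 12, 10, 4, 6, 8, 2, 4, 6, 14, 0, 2, 4, 6, 8, 10, 12] (.cons [8, 0, 12, 6, 4, 2, 8, 6] .nil .nil) .nil) (.cons [16, 6, 8, 4, 6, 16, 18, 6, 16, 8, 10, 6, 8, 2, 4, 6, 16, 0, 2, 4, 6, 8, 10, 12, 14] (.cons [8, 16, 6, 4, 2, 0, 10, 14, 12, 8, 10, 6, 8, 4, 6, 14, 16, 12, 10, 6, 8, 4, 6, 14, 2, 4, 6, 8, 10, 12] .nil .nil) (.cons [12, 10, 8, 4, 6, 16, 18, 6, 16, 8, 10, 6, 8, 2, 4, 6, 16, 0, 2, 4, 6, 8, 10, 12, 14] (.cons [2, 4, 6, 14, 6, 8, 10, 4, 6, 8, 2, 4, 6, 14, 16, 14, 12, 8, 10, 4, 6, 8, 2, 4, 6, 14, 0, 2, 4, 6, 8, 10, 12] (.cons [14, 6, 12, 6, 4, 2, 6, 8, 10, 14, 8, 12] .nil .nil) .nil) (.cons [14, 12, 10, 8, 6, 16, 18, 6, 16, 8, 10, 6, 8, 2, 4, 6, 16, 0, 2, 4, 6, 8, 10, 12, 14] (.cons [6, 8,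 10, 4, 6, 8, 0, 2, 4, 6, 14, 16, 14, 10, 6, 8, 4, 6, 14, 0, 2, 4, 6, 8, 10, 12] (.cons [10, 8, 2, 4, 6, 12, 14, 6, 8, 4, 12, 6, 2, 8, 10, 4, 6, 0, 2] .nil .nil) .nil) (.cons [4, 6, 8, 2, 4, 6, 16, 18, 16, 8, 10, 6, 8, 2, 4, 6, 16, 0, 2, 4, 6, 8, 10, 12, 14] (.cons [8, 6, 14, 16, 6, 8, 4, 6, 14, 10, 12, 8, 10, 4, 6, 8, 2, 4, 6, 14, 16, 10, 4, 6, 8, 2, 4, 6, 14, 0, 2, 4, 6, 8, 10, 12] (.cons [14, 10, 4, 2, 4, 0, 6, 8, 10, 12, 6, 4, 2] .nil .nil) .nil) (.cons [12, 10, 8, 2, 4, 6, 16, 18, 16, 8, 10, 6, 8, 2, 4, 6, 16, 0, 2, 4, 6, 8, 10, 12, 14] (.cons [2, 4, 6, 14, 12, 8, 10, 6, 8, 2, 4, 6, 14, 16, 14, 6, 8, 2, 4, 6, 14, 0, 2, 4, 6, 8, 10, 12] (.cons [2, 12, 14, 4, 8, 6, 10, 4] .nil .nil) .nil) (.cons [8, 10, 6,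 8, 4, 6, 16, 18, 16, 8, 10, 6, 8, 2, 4, 6, 16, 0, 2, 4, 6, 8, 10, 12, 14] (.cons [16, 8, 6, 14, 12, 8, 10, 4, 6, 8, 2, 4, 6, 14, 16, 10, 8, 2, 4, 6, 14, 0, 2, 4, 6, 8, 10, 12] (.cons [12, 6, 2, 4, 12, 6, 14, 12, 6, 8, 10, 8, 6, 12, 14, 4, 6, 0, 2] (.cons [3, 0, 2, 5] .nil .nil) .nil) .nil) (.cons [16, 6, 8, 0, 2, 4, 6, 16, 18, 8, 10, 6, 8, 2, 4, 6, 16, 0, 2, 4, 6, 8, 10, 12, 14] (.cons [6, 8, 4, 6, 14, 16, 12, 10, 8, 6, 10, 4, 2, 6, 14, 8, 4, 6, 14, 10, 12, 8, 10, 6, 8, 4, 6, 14, 16, 8, 2, 4, 6, 14, 0, 2, 4, 6, 8, 10, 12] (.cons [12, 14, 6, 12, 4, 6, 2, 8, 10, 6, 8, 12] .nil .nil) .nil) (.cons [12, 10, 8, 0, 2, 4, 6, 16, 18, 8, 10, 6, 8, 2, 4, 6, 16, 0, 2, 4, 6, 8, 10, 12, 14] (.cons [10, 12, 8, 10, 6, 8, 4,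 6, 14, 16, 12, 8, 10, 6, 8, 2, 4, 6, 14, 0, 2, 4, 6, 8, 10, 12] (.cons [12, 14, 4, 6, 8, 10, 4, 6, 2, 4, 0, 2] .nil .nil) .nil) (.cons [10, 4, 6, 8, 2, 4, 6, 16, 18, 8, 10, 6, 8, 2, 4, 6, 16, 0, 2, 4, 6, 8, 10, 12, 14] (.cons [6, 14, 16, 4, 6, 14, 10, 12, 8, 10, 4, 6, 8, 2, 4, 6, 14, 16, 14, 8, 10, 4, 6, 8, 2, 4, 6, 14, 0, 2, 4, 6, 8, 10, 12] (.cons [4, 8, 6, 12, 14, 4, 6, 8, 10] .nil .nil) .nil) (.cons [8, 10, 6, 8, 2, 4, 6, 16, 18, 8, 10, 6, 8, 2, 4, 6, 16, 0, 2, 4, 6, 8, 10, 12, 14] (.cons [14, 16, 8, 0, 2, 4, 6, 14, 10, 12, 8, 10, 4, 6, 8, 2, 4, 6, 14, 16, 10, 4, 6, 8, 2, 4, 6, 14, 0, 2, 4, 6, 8, 10, 12] (.cons [2, 4, 6, 10, 8, 14, 12, 6, 4, 2, 8, 10, 12, 14] .nil .nil) .nil) (.cons [12, 10, 6, 8, 2, 4,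 6, 16, 18, 8, 10, 6, 8, 2, 4, 6, 16, 0, 2, 4, 6, 8, 10, 12, 14] (.cons [10, 6, 14, 8, 6, 4, 10, 16, 6, 14, 12, 8, 10, 6, 8, 4, 6, 14, 16, 2, 4, 6, 14, 0, 2, 4, 6, 8, 10, 12] (.cons [6, 12, 6, 8, 2, 10, 14, 0, 12, 6, 4, 2, 8, 6] (.cons [4, 2, 5, 2] .nil .nil) .nil) .nil) (.cons [18, 16, 10, 6, 8, 4, 6, 16, 18, 8, 10, 6, 8, 2, 4, 6, 16, 0, 2, 4, 6, 8, 10, 12, 14] (.cons [4, 6, 14, 12, 8, 10, 6, 8, 4, 6, 14, 16, 14, 6, 8, 4, 6, 14, 0, 2, 4, 6, 8, 10, 12] (.cons [0, 2, 4, 6, 12, 6, 8, 10, 0, 8, 6, 4, 2, 4, 12, 14] .nil .nil) .nil) (.cons [10, 8, 2, 4, 6, 16, 18, 16, 14, 12, 10, 6, 8, 2, 4, 6, 16, 0, 2, 4, 6, 8, 10, 12, 14] (.cons [16, 14, 4, 6, 8, 2, 4, 6, 14, 16, 14, 12, 10, 6, 8, 2, 4, 6, 14, 0, 2, 4, 6, 8, 10,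 12] (.cons [4, 6, 12, 6, 14, 12, 4, 2, 6, 8, 10, 12] .nil .nil) .nil) (.cons [10, 6, 8, 4, 6, 16, 18, 16, 14, 12, 10, 6, 8, 2, 4, 6, 16, 0, 2, 4, 6, 8, 10, 12, 14] (.cons [16, 14, 8, 10, 6, 8, 4, 6, 14, 16, 14, 12, 10, 6, 8, 4, 6, 14, 0, 2, 4, 6, 8, 10, 12] .nil .nil) (.cons [10, 8, 0, 2, 4, 6, 16, 18, 14, 12, 10, 6, 8, 2, 4, 6, 16, 0, 2, 4, 6, 8, 10, 12, 14] (.cons [16, 14, 10, 2, 4, 6, 8, 0, 2, 4, 6, 14, 16, 14, 12, 10, 4, 6, 8, 2, 4, 6, 14, 0, 2, 4, 6, 8, 10, 12] (.cons [4, 6, 8, 2, 4, 6, 12, 14, 10, 4, 2, 4, 6, 8, 12, 6, 4, 0, 2, 8, 10] .nil .nil) .nil) (.cons [10, 6, 8, 2, 4, 6, 16, 18, 14, 12, 10, 6, 8, 2, 4, 6, 16, 0, 2, 4, 6, 8, 10, 12, 14] (.cons [10, 2, 4, 6, 8, 0, 2, 4, 6, 14, 16, 14, 12, 10, 4, 6,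 8, 2, 4, 6, 14, 0, 2, 4, 6, 8, 10, 12] (.cons [4, 6, 8, 2, 4, 6, 10, 8, 14, 12, 6, 4, 2, 12, 14, 4, 8, 6, 10, 4] .nil .nil) .nil) (.cons [16, 6, 8, 2, 4, 6, 16, 18, 14, 12, 10, 6, 8, 2, 4, 6, 16, 0, 2, 4, 6, 8, 10, 12, 14] (.cons [4, 6, 14, 16, 14, 12, 8, 10, 6, 8, 4, 6, 14, 0, 2, 4, 6, 8, 10, 12] .nil .nil) (.cons [8, 10, 6, 8, 4, 6, 16, 18, 16, 12, 10, 6, 8, 2, 4, 6, 16, 0, 2, 4, 6, 8, 10, 12, 14] (.cons [8, 0, 2, 4, 6, 14, 16, 4, 6, 8, 10, 14, 6, 4, 8, 6, 14, 10, 12, 8, 10, 4, 6, 8, 0, 2, 4, 6, 14, 16, 10, 8, 2, 4, 6, 14, 0, 2, 4, 6, 8, 10, 12] .nil .nil) (.cons [18, 16, 6, 8, 4, 6, 16, 18, 16, 12, 10, 6, 8, 2, 4, 6, 16, 0, 2, 4, 6, 8, 10, 12, 14] (.cons [4, 6, 14, 12, 10, 8, 6, 4, 2, 0, 10, 14, 12, 8, 10,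 6, 8, 4, 6, 14, 16, 12, 10, 6, 8, 4, 6, 14, 2, 4, 6, 8, 10, 12] (.cons [6, 8, 4, 14, 12, 6, 4, 0, 2, 8, 10, 12, 14] .nil .nil) .nil) (.cons [14, 12, 10, 8, 4, 6, 16, 18, 16, 12, 10, 6, 8, 2, 4, 6, 16, 0, 2, 4, 6, 8, 10, 12, 14] (.cons [10, 8, 6, 14, 16, 8, 4, 6, 14, 8, 10, 12, 6, 8, 10, 4, 6, 8, 2, 4, 6, 14, 16, 14, 12, 10, 4, 6, 8, 2, 4, 6, 14, 0, 2, 4, 6, 8, 10, 12] (.cons [6, 12, 10, 2, 8, 6, 4, 2, 6, 8, 10, 12, 14, 6, 4] .nil .nil) .nil) (.cons [16, 6, 8, 0, 2, 4, 6, 16, 18, 12, 10, 6, 8, 2, 4, 6, 16, 0, 2, 4, 6, 8, 10, 12, 14] .nil (.cons [12, 10, 8, 0, 2, 4, 6, 16, 18, 12, 10, 6, 8, 2, 4, 6, 16, 0, 2, 4, 6, 8, 10, 12, 14] (.cons [8, 2, 4, 6, 14, 16, 14, 10, 6, 8, 4, 6, 14, 10, 12, 8, 10, 4, 6, 8, 0, 2,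 4, 6, 14, 16, 10, 4, 6, 8, 2, 4, 6, 14, 0, 2, 4, 6, 8, 10, 12] (.cons [8, 10, 14, 6, 4, 8, 6, 12, 6, 4, 14, 12] .nil .nil) .nil) (.cons [12, 10, 6, 8, 2, 4, 6, 16, 18, 12, 10, 6, 8, 2, 4, 6, 16, 0, 2, 4, 6, 8, 10, 12, 14] (.cons [16, 8, 2, 4, 6, 14, 10, 12, 8, 10, 2, 4, 6, 8, 0, 2, 4, 6, 14, 16, 12, 10, 4, 6, 8, 2, 4, 6, 14, 0, 2, 4, 6, 8, 10, 12] .nil .nil) (.cons [16, 10, 6, 8, 2, 4, 6, 16, 18, 12, 10, 6, 8, 2, 4, 6, 16, 0, 2, 4, 6, 8, 10, 12, 14] (.cons [8, 4, 6, 14, 10, 12, 6, 8, 10, 4, 6, 8, 2, 4, 6, 14, 16, 14, 12, 10, 6, 8, 2, 4, 6, 14, 0, 2, 4, 6, 8, 10, 12] .nil .nil) (.cons [18, 16, 10, 6, 8, 4, 6, 16, 18, 12, 10, 6, 8, 2, 4, 6, 16, 0, 2, 4, 6, 8, 10, 12, 14] (.cons [6, 14, 10, 4, 6, 8, 0, 2, 4, 6,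 14, 16, 8, 10, 6, 8, 2, 4, 6, 14, 0, 2, 4, 6, 8, 10, 12] (.cons [10, 6, 8, 12, 6, 4, 2, 12, 14, 4, 6, 8, 6, 10, 4] .nil .nil) .nil) (.cons [12, 10, 8, 0, 2, 4, 6, 16, 18, 16, 10, 6, 8, 2, 4, 6, 16, 0, 2, 4, 6, 8, 10, 12, 14] (.cons [8, 10, 4, 6, 2, 0, 4, 2, 14, 16, 8, 6, 14, 10, 12, 8, 10, 6, 8, 4, 6, 14, 16, 8, 2, 4, 6, 14, 0, 2, 4, 6, 8, 10, 12] (.cons [8, 6, 12, 14, 10, 8, 4, 12, 6, 8, 4, 2, 4, 10, 8] .nil .nil) .nil) (.cons [16, 10, 6, 8, 2, 4, 6, 16, 18, 16, 10, 6, 8, 2, 4, 6, 16, 0, 2, 4, 6, 8, 10, 12, 14] (.cons [16, 0, 2, 4, 6, 14, 8, 10, 6, 8, 4, 6, 14, 16, 8, 10, 4, 6, 8, 2, 4, 6, 14, 0, 2, 4, 6, 8, 10, 12] (.cons [6, 12, 10, 8, 4, 6, 4, 2, 8, 10, 12, 14] (.cons [4, 2, 1, 5, 3] .nil .nil) .nil) .nil)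 .nil))))))))))))))))))))))))))))))))))))))))))))))))))))))))))))))))))))))))))))))))))))))))))))))))))))))))))))))))))))))))))))))))))))))))))))))))))))))))))))))))))))))))))))))))))))))))))))))))))))))))))))))))))))))))))))))))))))))))))))))))))))))))))))))))))))))))))))))))))))))))))))))))))))))))))))))))))))))))))))))))))))))))))))))))))))))) (⟨cu_l0.b, cu_l0.S, [], cu_R5, 0⟩ :: cu_tl) (0 :: cu_lk) Pd.nil 0 = true := by decide +kernel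
theorem cu_r6 : cu_S.run (.cons [14, 12, 10, 8, 2, 4, 6, 16, 18, 16, 10, 6, 8, 2, 4, 6, 16, 0, 2, 4, 6, 8, 10, 12, 14] (.cons [0, 2, 4, 6, 14, 12, 8, 10, 6, 8, 4, 6, 14, 16, 12, 10, 4, 6, 8, 2, 4, 6, 14, 0, 2, 4, 6, 8, 10, 12] (.cons [12, 6, 8, 4, 2, 14, 12, 6, 8, 4, 0, 2, 6, 12, 14, 8, 6, 10] (.cons [1, 5, 1, 1, 5] .nil .nil) .nil) .nil) (.cons [16, 12, 10, 6, 8, 4, 6, 16, 18, 16, 10, 6, 8, 2, 4, 6, 16, 0, 2, 4, 6, 8, 10, 12, 14] (.cons [14, 10, 12, 8, 10, 6, 8, 2, 4, 6, 14, 16, 10, 12, 8, 10, 4, 6, 8, 2, 4, 6, 14, 0, 2, 4, 6, 8, 10, 12] (.cons [14, 6, 8, 10, 12, 8, 6, 4, 0, 2] .nil .nil) .nil) (.cons [18, 16, 6, 8, 0, 2, 4, 6, 16, 18, 10, 6, 8, 2, 4, 6, 16, 0, 2, 4, 6, 8, 10, 12, 14] (.cons [16, 4, 8, 6, 14,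 16, 4, 6, 14, 10, 12, 8, 10, 6, 8, 4, 6, 14, 16, 6, 8, 2, 4, 6, 14, 0, 2, 4, 6, 8, 10, 12] (.cons [2, 12, 6, 4, 12, 14] .nil .nil) .nil) (.cons [12, 8, 10, 6, 8, 2, 4, 6, 16, 18, 10, 6, 8, 2, 4, 6, 16, 0, 2, 4, 6, 8, 10, 12, 14] (.cons [16, 8, 4, 6, 14, 10, 12, 6, 8, 10, 4, 6, 8, 0, 2, 4, 6, 14, 16, 8, 10, 4, 6, 8, 2, 4, 6, 14, 0, 2, 4, 6, 8, 10, 12] (.cons [4, 6, 8, 2, 4, 6, 12, 10, 6, 8, 4, 6, 10, 4, 2, 12, 14] .nil .nil) .nil) (.cons [14, 12, 8, 10, 6, 8, 4, 6, 16, 18, 10, 6, 8, 2, 4, 6, 16, 0, 2, 4, 6, 8, 10, 12, 14] (.cons [12, 10, 8, 0, 2, 4, 6, 14, 16, 8, 4, 6, 14, 10, 12, 8, 10, 4, 6, 8, 2, 4, 6, 14, 16, 12, 10, 6, 8, 2, 4, 6, 14, 0, 2, 4, 6, 8, 10, 12] (.cons [12, 14, 10, 8, 12, 6, 4, 2, 8, 6, 10, 4]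 .nil .nil) .nil) (.cons [18, 16, 8, 10, 6, 8, 4, 6, 16, 18, 10, 6, 8, 2, 4, 6, 16, 0, 2, 4, 6, 8, 10, 12, 14] (.cons [16, 14, 12, 10, 6, 8, 0, 2, 4, 6, 14, 16, 10, 8, 2, 4, 6, 14, 0, 2, 4, 6, 8, 10, 12] .nil .nil) (.cons [14, 12, 10, 8, 0, 2, 4, 6, 16, 18, 16, 6, 8, 2, 4, 6, 16, 0, 2, 4, 6, 8, 10, 12, 14] (.cons [14, 16, 8, 6, 4, 14, 0, 2, 8, 4, 6, 14, 10, 12, 8, 10, 6, 8, 4, 6, 14, 16, 8, 2, 4, 6, 14, 0, 2, 4, 6, 8, 10, 12] (.cons [12, 6, 8, 0, 10, 4, 2, 6, 12, 14, 4, 6] .nil .nil) .nil) (.cons [8, 10, 4, 6, 8, 2, 4, 6, 16, 18, 16, 6, 8, 2, 4, 6, 16, 0, 2, 4, 6, 8, 10, 12, 14] (.cons [4, 6, 14, 16, 14, 10, 6, 8, 4, 6, 14, 10, 12, 8, 10, 4, 6, 8, 2, 4, 6, 14, 16, 10, 6, 8, 2, 4, 6, 14, 0, 2, 4, 6, 8, 10, 12]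 .nil .nil) (.cons [16, 8, 10, 6, 8, 2, 4, 6, 16, 18, 16, 6, 8, 2, 4, 6, 16, 0, 2, 4, 6, 8, 10, 12, 14] (.cons [6, 14, 16, 2, 4, 6, 14, 8, 10, 4, 6, 8, 2, 4, 6, 14, 16, 12, 10, 4, 6, 8, 2, 4, 6, 14, 0, 2, 4, 6, 8, 10, 12] (.cons [6, 12, 14, 6, 8, 10, 12, 6, 4, 6, 2] .nil .nil) .nil) (.cons [10, 12, 8, 10, 6, 8, 4, 6, 16, 18, 16, 6, 8, 2, 4, 6, 16, 0, 2, 4, 6, 8, 10, 12, 14] .nil (.cons [14, 12, 8, 10, 6, 8, 4, 6, 16, 18, 16, 6, 8, 2, 4, 6, 16, 0, 2, 4, 6, 8, 10, 12, 14] (.cons [12, 10, 6, 8, 4, 6, 14, 16, 8, 2, 4, 6, 14, 0, 2, 4, 6, 8, 10, 12] (.cons [6, 12, 2, 4, 6, 8, 10, 2, 4, 0, 2, 12, 14, 6, 4] .nil .nil) .nil) (.cons [16, 12, 8, 10, 6, 8, 4, 6, 16, 18, 16, 6, 8, 2, 4, 6, 16, 0, 2, 4, 6, 8, 10, 12, 14] (.cons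 [2, 4, 6, 14, 16, 10, 8, 6, 14, 10, 12, 6, 8, 10, 4, 6, 8, 0, 2, 4, 6, 14, 16, 12, 10, 4, 6, 8, 2, 4, 6, 14, 0, 2, 4, 6, 8, 10, 12] (.cons [8, 2, 4, 10, 8, 6, 12, 14, 4, 6, 0, 2] .nil .nil) .nil) (.cons [16, 14, 12, 10, 6, 8, 4, 6, 16, 18, 16, 6, 8, 2, 4, 6, 16, 0, 2, 4, 6, 8, 10, 12, 14] (.cons [8, 6, 14, 16, 14, 6, 8, 4, 6, 14, 10, 12, 6, 8, 10, 4, 6, 8, 2, 4, 6, 14, 16, 12, 10, 4, 6, 8, 2, 4, 6, 14, 0, 2, 4, 6, 8, 10, 12] (.cons [8, 6, 4, 2, 6, 12, 14, 12, 6, 8, 10] .nil .nil) .nil) (.cons [18, 16, 12, 10, 6, 8, 4, 6, 16, 18, 16, 6, 8, 2, 4, 6, 16, 0, 2, 4, 6, 8, 10, 12, 14] (.cons [14, 12, 10, 6, 8, 4, 6, 14, 16, 14, 10, 6, 8, 2, 4, 6, 14, 0, 2, 4, 6, 8, 10, 12] .nil .nil) (.cons [16, 12, 10, 6, 8, 0, 2,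 4, 6, 16, 18, 6, 8, 2, 4, 6, 16, 0, 2, 4, 6, 8, 10, 12, 14] (.cons [16, 12, 10, 8, 6, 14, 12, 6, 8, 10, 4, 6, 8, 2, 4, 6, 14, 16, 12, 10, 4, 6, 8, 2, 4, 6, 14, 0, 2, 4, 6, 8, 10, 12] (.cons [10, 14, 12, 8, 6, 12, 14, 4, 6, 2] .nil .nil) .nil) (.cons [6, 8, 10, 4, 6, 8, 2, 4, 6, 16, 18, 6, 8, 2, 4, 6, 16, 0, 2, 4, 6, 8, 10, 12, 14] (.cons [16, 4, 6, 14, 8, 10, 4, 6, 8, 2, 4, 6, 14, 16, 14, 8, 10, 6, 8, 2, 4, 6, 14, 0, 2, 4, 6, 8, 10, 12] .nil .nil) (.cons [12, 8, 10, 4, 6, 8, 2, 4, 6, 16, 18, 6, 8, 2, 4, 6, 16, 0, 2, 4, 6, 8, 10, 12, 14] .nil (.cons [16, 8, 10, 4, 6, 8, 2, 4, 6, 16, 18, 6, 8, 2, 4, 6, 16, 0, 2, 4, 6, 8, 10, 12, 14] (.cons [6, 14, 16, 4, 6, 14, 8, 10, 2, 4, 6, 8, 0, 2, 4, 6, 14, 16, 14, 10, 4,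 6, 8, 2, 4, 6, 14, 0, 2, 4, 6, 8, 10, 12] (.cons [0, 2, 4, 6, 12, 14, 12, 6, 8, 10] .nil .nil) .nil) (.cons [14, 12, 10, 4, 6, 8, 2, 4, 6, 16, 18, 6, 8, 2, 4, 6, 16, 0, 2, 4, 6, 8, 10, 12, 14] .nil (.cons [16, 12, 10, 4, 6, 8, 2, 4, 6, 16, 18, 6, 8, 2, 4, 6, 16, 0, 2, 4, 6, 8, 10, 12, 14] (.cons [16, 2, 4, 6, 14, 10, 12, 8, 10, 4, 6, 8, 2, 4, 6, 14, 16, 14, 10, 4, 6, 8, 2, 4, 6, 14, 0, 2, 4, 6, 8, 10, 12] (.cons [8, 4, 10, 2, 12, 14, 6, 4] .nil .nil) .nil) (.cons [10, 12, 8, 10, 6, 8, 2, 4, 6, 16, 18, 6, 8, 2, 4, 6, 16, 0, 2, 4, 6, 8, 10, 12, 14] (.cons [16, 10, 6, 8, 2, 4, 6, 14, 10, 12, 8, 10, 4, 6, 8, 2, 4, 6, 14, 16, 12, 10, 4, 6, 8, 2, 4, 6, 14, 0, 2, 4, 6, 8, 10, 12] (.cons [6, 8, 4, 6, 12, 10, 8, 6, 8,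 4, 2, 10, 12, 14, 8] .nil .nil) .nil) (.cons [6, 16, 8, 10, 6, 8, 2, 4, 6, 16, 18, 6, 8, 2, 4, 6, 16, 0, 2, 4, 6, 8, 10, 12, 14] (.cons [6, 14, 16, 2, 4, 6, 14, 8, 6, 4, 12, 14, 16, 6, 14, 8, 10, 6, 8, 4, 6, 14, 16, 2, 4, 6, 14, 0, 2, 4, 6, 8, 10, 12] (.cons [12, 14, 4, 6, 8, 2, 10, 6, 4, 2, 8, 6] (.cons [0, 2, 1, 5] .nil .nil) .nil) .nil) (.cons [18, 16, 12, 10, 6, 8, 2, 4, 6, 16, 18, 6, 8, 2, 4, 6, 16, 0, 2, 4, 6, 8, 10, 12, 14] (.cons [14, 8, 10, 6, 8, 4, 6, 14, 16, 10, 8, 2, 4, 6, 14, 0, 2, 4, 6, 8, 10, 12] .nil .nil) (.cons [6, 16, 12, 8, 10, 6, 8, 4, 6, 16, 18, 6, 8, 2, 4, 6, 16, 0, 2, 4, 6, 8, 10, 12, 14] (.cons [12, 10, 6, 8, 0, 2, 4, 6, 14, 16, 6, 8, 4, 6, 14, 8, 10, 12, 6, 8, 10, 4, 6, 8, 2, 4, 6,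 14, 16, 14, 8, 10, 4, 6, 8, 2, 4, 6, 14, 0, 2, 4, 6, 8, 10, 12] (.cons [14, 4, 2, 0, 12, 6, 4, 2, 10, 8, 6, 8, 10] (.cons [1, 2, 1] .nil .nil) .nil) .nil) (.cons [18, 16, 12, 8, 10, 6, 8, 4, 6, 16, 18, 6, 8, 2, 4, 6, 16, 0, 2, 4, 6, 8, 10, 12, 14] .nil (.cons [16, 6, 8, 0, 2, 4, 6, 16, 18, 14, 12, 10, 8, 2, 4, 6, 16, 0, 2, 4, 6, 8, 10, 12, 14] (.cons [8, 6, 14, 16, 6, 14, 12, 8, 10, 6, 8, 4, 6, 14, 0, 2, 4, 6, 8, 10, 12] .nil .nil) (.cons [16, 12, 10, 6, 8, 4, 6, 16, 18, 14, 12, 10, 8, 2, 4, 6, 16, 0, 2, 4, 6, 8, 10, 12, 14] (.cons [6, 14, 16, 2, 4, 6, 14, 10, 12, 8, 10, 4, 6, 8, 0, 2, 4, 6, 14, 16, 12, 10, 4, 6, 8, 2, 4, 6, 14, 0, 2, 4, 6, 8, 10, 12] (.cons [6, 12, 14, 10, 8, 6, 4, 0, 2, 8] .nil .nil) .nil)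 (.cons [18, 16, 10, 6, 8, 4, 6, 16, 18, 14, 12, 10, 8, 2, 4, 6, 16, 0, 2, 4, 6, 8, 10, 12, 14] (.cons [14, 16, 4, 6, 14, 8, 10, 4, 6, 8, 2, 4, 6, 14, 16, 12, 10, 6, 8, 2, 4, 6, 14, 0, 2, 4, 6, 8, 10, 12] (.cons [14, 6, 12, 14, 8, 10, 6, 4, 2, 6, 4, 12] .nil .nil) .nil) (.cons [10, 4, 6, 8, 0, 2, 4, 6, 16, 18, 12, 10, 8, 2, 4, 6, 16, 0, 2, 4, 6, 8, 10, 12, 14] (.cons [16, 0, 2, 4, 6, 14, 10, 12, 8, 10, 6, 8, 4, 6, 14, 16, 14, 12, 10, 4, 6, 8, 2, 4, 6, 14, 0, 2, 4, 6, 8, 10, 12] (.cons [14, 12, 14, 4, 2, 0, 8, 6, 4, 2, 12, 6, 4, 14, 12] .nil .nil) .nil) (.cons [16, 4, 6, 8, 0, 2, 4, 6, 16, 18, 12, 10, 8, 2, 4, 6, 16, 0, 2, 4, 6, 8, 10, 12, 14] (.cons [10, 6, 8, 0, 2, 4, 6, 14, 16, 8, 2, 4, 6, 14, 8, 10, 12, 6,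 8, 10, 4, 6, 8, 2, 4, 6, 14, 16, 10, 4, 6, 8, 2, 4, 6, 14, 0, 2, 4, 6, 8, 10, 12] .nil .nil) (.cons [8, 10, 6, 8, 0, 2, 4, 6, 16, 18, 12, 10, 8, 2, 4, 6, 16, 0, 2, 4, 6, 8, 10, 12, 14] (.cons [16, 10, 8, 0, 2, 4, 6, 14, 12, 8, 10, 4, 6, 8, 2, 4, 6, 14, 16, 10, 6, 8, 2, 4, 6, 14, 0, 2, 4, 6, 8, 10, 12] (.cons [14, 8, 10, 6, 4, 0, 2, 4, 12] (.cons [4, 4, 1, 1] .nil .nil) .nil) .nil) (.cons [12, 10, 6, 8, 0, 2, 4, 6, 16, 18, 12, 10, 8, 2, 4, 6, 16, 0, 2, 4, 6, 8, 10, 12, 14] (.cons [16, 10, 6, 14, 16, 6, 8, 2, 4, 6, 14, 10, 12, 8, 10, 6, 8, 0, 2, 4, 6, 14, 16, 8, 2, 4, 6, 14, 0, 2, 4, 6, 8, 10, 12] .nil .nil) (.cons [14, 12, 10, 8, 0, 2, 4, 6, 16, 18, 12, 10, 8, 2, 4, 6, 16, 0, 2, 4, 6, 8, 10, 12, 14] (.cons [16,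 14, 6, 8, 2, 4, 6, 14, 16, 6, 8, 2, 4, 6, 14, 0, 2, 4, 6, 8, 10, 12] .nil .nil) (.cons [18, 16, 4, 6, 8, 2, 4, 6, 16, 18, 12, 10, 8, 2, 4, 6, 16, 0, 2, 4, 6, 8, 10, 12, 14] (.cons [2, 4, 6, 14, 16, 12, 10, 6, 8, 4, 6, 14, 10, 12, 6, 8, 10, 4, 6, 8, 2, 4, 6, 14, 16, 10, 6, 8, 2, 4, 6, 14, 0, 2, 4, 6, 8, 10, 12] (.cons [12, 14, 4, 6, 0, 2, 4, 6, 8, 10] .nil .nil) .nil) (.cons [14, 12, 10, 6, 8, 2, 4, 6, 16, 18, 12, 10, 8, 2, 4, 6, 16, 0, 2, 4, 6, 8, 10, 12, 14] (.cons [2, 4, 6, 14, 16, 8, 6, 14, 10, 8, 6, 16, 4, 2, 10, 12, 8, 10, 6, 8, 4, 6, 14, 16, 12, 10, 6, 8, 4, 6, 14, 0, 2, 4, 6, 8, 10, 12] (.cons [8, 4, 6, 12, 14, 8, 10, 12, 8, 6, 4, 2] .nil .nil) .nil) (.cons [6, 16, 8, 10, 6, 8, 4, 6, 16, 18, 12, 10, 8,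 2, 4, 6, 16, 0, 2, 4, 6, 8, 10, 12, 14] (.cons [8, 6, 14, 10, 12, 6, 8, 10, 4, 6, 8, 2, 4, 6, 14, 16, 14, 10, 6, 8, 2, 4, 6, 14, 0, 2, 4, 6, 8, 10, 12] (.cons [10, 8, 4, 6, 12, 8, 4, 6, 4, 2, 4, 8, 10, 12, 14] .nil .nil) .nil) (.cons [18, 16, 8, 10, 6, 8, 4, 6, 16, 18, 12, 10, 8, 2, 4, 6, 16, 0, 2, 4, 6, 8, 10, 12, 14] (.cons [16, 6, 14, 0, 6, 4, 2, 8, 4, 6, 14, 10, 12, 8, 10, 6, 8, 4, 6, 14, 16, 8, 2, 4, 6, 14, 0, 2, 4, 6, 8, 10, 12] (.cons [2, 4, 6, 8, 10, 6, 4, 12, 14] .nil .nil) .nil) (.cons [16, 10, 4, 6, 8, 0, 2, 4, 6, 16, 18, 10, 8, 2, 4, 6, 16, 0, 2, 4, 6, 8, 10, 12, 14] (.cons [10, 8, 4, 6, 14, 16, 14, 10, 12, 8, 10, 6, 8, 4, 6, 14, 0, 2, 4, 6, 8, 10, 12] (.cons [12, 6, 8, 4, 10, 8, 6, 4, 12, 14] .nil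 .nil) .nil) (.cons [16, 8, 10, 6, 8, 0, 2, 4, 6, 16, 18, 10, 8, 2, 4, 6, 16, 0, 2, 4, 6, 8, 10, 12, 14] (.cons [8, 6, 14, 16, 10, 8, 4, 6, 14, 12, 6, 8, 10, 4, 6, 8, 2, 4, 6, 14, 16, 10, 4, 6, 8, 2, 4, 6, 14, 0, 2, 4, 6, 8, 10, 12] (.cons [0, 2, 6, 12, 10, 8, 6, 4, 12, 6, 8, 10, 14, 12, 6, 4, 2, 12, 14] .nil .nil) .nil) (.cons [14, 12, 10, 6, 8, 0, 2, 4, 6, 16, 18, 10, 8, 2, 4, 6, 16, 0, 2, 4, 6, 8, 10, 12, 14] (.cons [2, 4, 6, 14, 16, 12, 8, 10, 14, 6, 8, 4, 6, 14, 10, 12, 8, 10, 6, 8, 0, 2, 4, 6, 14, 16, 12, 10, 8, 2, 4, 6, 14, 0, 2, 4, 6, 8, 10, 12] (.cons [8, 2, 4, 0, 2, 10, 12, 14, 8] .nil .nil) .nil) (.cons [18, 16, 10, 6, 8, 0, 2, 4, 6, 16, 18, 10, 8, 2, 4, 6, 16, 0, 2, 4, 6, 8, 10, 12, 14] (.cons [6,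 8, 4, 6, 14, 16, 10, 8, 6, 14, 8, 10, 12, 6, 8, 10, 4, 6, 8, 2, 4, 6, 14, 16, 8, 10, 4, 6, 8, 2, 4, 6, 14, 0, 2, 4, 6, 8, 10, 12] (.cons [12, 14, 6, 2, 4, 6, 8, 0, 2, 10, 8] .nil .nil) .nil) (.cons [16, 12, 10, 4, 6, 8, 2, 4, 6, 16, 18, 10, 8, 2, 4, 6, 16, 0, 2, 4, 6, 8, 10, 12, 14] .nil (.cons [16, 12, 8, 10, 6, 8, 2, 4, 6, 16, 18, 10, 8, 2, 4, 6, 16, 0, 2, 4, 6, 8, 10, 12, 14] (.cons [2, 4, 6, 14, 10, 12, 6, 8, 10, 4, 6, 8, 2, 4, 6, 14, 16, 6, 8, 2, 4, 6, 14, 0, 2, 4, 6, 8, 10, 12] (.cons [8, 2, 4, 6, 12, 14, 6, 10, 8, 4, 12, 6, 4, 2, 4, 8, 10] (.cons [2, 0, 5, 2] .nil .nil) .nil) .nil) (.cons [18, 16, 8, 10, 6, 8, 2, 4, 6, 16, 18, 10, 8, 2, 4, 6, 16, 0, 2, 4, 6, 8, 10, 12, 14] (.cons [4, 6, 14, 16, 14, 6,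 8, 4, 6, 14, 10, 12, 8, 10, 4, 6, 8, 2, 4, 6, 14, 16, 14, 8, 10, 4, 6, 8, 2, 4, 6, 14, 0, 2, 4, 6, 8, 10, 12] (.cons [12, 0, 2, 8, 6, 4, 2, 12, 6, 8, 10, 4, 6, 12, 14, 8, 6, 4, 2] .nil .nil) .nil) (.cons [16, 14, 12, 10, 6, 8, 2, 4, 6, 16, 18, 10, 8, 2, 4, 6, 16, 0, 2, 4, 6, 8, 10, 12, 14] (.cons [0, 2, 4, 6, 14, 16, 8, 6, 14, 10, 12, 8, 10, 2, 4, 6, 8, 0, 2, 4, 6, 14, 16, 8, 10, 4, 6, 8, 2, 4, 6, 14, 0, 2, 4, 6, 8, 10, 12] .nil .nil) (.cons [16, 10, 12, 8, 10, 6, 8, 4, 6, 16, 18, 10, 8, 2, 4, 6, 16, 0, 2, 4, 6, 8, 10, 12, 14] .nil (.cons [18, 6, 16, 8, 10, 6, 8, 4, 6, 16, 18, 10, 8, 2, 4, 6, 16, 0, 2, 4, 6, 8, 10, 12, 14] (.cons [14, 16, 10, 8, 4, 6, 14, 6, 8, 10, 4, 6, 8, 2, 4, 6, 14, 16, 10, 4, 6, 8, 2, 4,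 6, 14, 0, 2, 4, 6, 8, 10, 12] (.cons [14, 0, 2, 4, 6, 0, 2, 4] .nil .nil) .nil) (.cons [18, 16, 14, 12, 10, 6, 8, 4, 6, 16, 18, 10, 8, 2, 4, 6, 16, 0, 2, 4, 6, 8, 10, 12, 14] (.cons [14, 16, 4, 6, 14, 12, 8, 10, 4, 6, 8, 0, 2, 4, 6, 14, 16, 10, 8, 2, 4, 6, 14, 0, 2, 4, 6, 8, 10, 12] (.cons [10, 8, 6, 12, 10, 14, 12, 6, 4, 2, 8, 6] .nil .nil) .nil) (.cons [10, 12, 8, 10, 6, 8, 0, 2, 4, 6, 16, 18, 8, 2, 4, 6, 16, 0, 2, 4, 6, 8, 10, 12, 14] (.cons [12, 10, 8, 0, 2, 4, 6, 14, 16, 10, 8, 4, 6, 14, 8, 10, 12, 6, 8, 10, 4, 6, 8, 2, 4, 6, 14, 16, 12, 10, 4, 6, 8, 2, 4, 6, 14, 0, 2, 4, 6, 8, 10, 12] (.cons [2, 0, 4, 2, 12, 6, 8] .nil .nil) .nil) (.cons [18, 16, 12, 10, 6, 8, 0, 2, 4, 6, 16, 18, 8, 2, 4, 6, 16, 0, 2,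 4, 6, 8, 10, 12, 14] (.cons [6, 14, 16, 2, 4, 6, 14, 12, 6, 8, 10, 4, 6, 8, 2, 4, 6, 14, 16, 8, 10, 6, 8, 2, 4, 6, 14, 0, 2, 4, 6, 8, 10, 12] (.cons [6, 8, 4, 6, 12, 14, 10, 8, 6, 4, 2, 8, 10] .nil .nil) .nil) (.cons [14, 10, 12, 8, 10, 6, 8, 2, 4, 6, 16, 18, 8, 2, 4, 6, 16, 0, 2, 4, 6, 8, 10, 12, 14] .nil (.cons [16, 14, 12, 8, 10, 6, 8, 2, 4, 6, 16, 18, 8, 2, 4, 6, 16, 0, 2, 4, 6, 8, 10, 12, 14] (.cons [10, 12, 8, 10, 6, 8, 4, 6, 14, 16, 14, 8, 10, 4, 6, 8, 2, 4, 6, 14, 0, 2, 4, 6, 8, 10, 12] (.cons [6, 10, 12, 14] .nil .nil) .nil) (.cons [6, 16, 12, 8, 10, 6, 8, 2, 4, 6, 16, 18, 8, 2, 4, 6, 16, 0, 2, 4, 6, 8, 10, 12, 14] (.cons [16, 4, 6, 14, 8, 10, 4, 6, 8, 2, 4, 6, 14, 16, 14, 10, 6, 8, 2, 4, 6, 14, 0,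 2, 4, 6, 8, 10, 12] (.cons [0, 2, 4, 12, 2, 6, 8, 10, 12, 6, 8] .nil .nil) .nil) (.cons [18, 16, 12, 8, 10, 6, 8, 2, 4, 6, 16, 18, 8, 2, 4, 6, 16, 0, 2, 4, 6, 8, 10, 12, 14] .nil (.cons [18, 6, 16, 8, 10, 6, 8, 2, 4, 6, 16, 18, 8, 2, 4, 6, 16, 0, 2, 4, 6, 8, 10, 12, 14] (.cons [16, 14, 10, 4, 6, 8, 0, 2, 4, 6, 14, 16, 10, 6, 8, 2, 4, 6, 14, 0, 2, 4, 6, 8, 10, 12] (.cons [0, 2, 10, 8, 10, 6, 12, 14, 8, 4, 6, 10] .nil .nil) .nil) (.cons [18, 16, 14, 12, 10, 6, 8, 2, 4, 6, 16, 18, 8, 2, 4, 6, 16, 0, 2, 4, 6, 8, 10, 12, 14] (.cons [8, 0, 2, 4, 6, 14, 16, 14, 10, 6, 8, 4, 6, 14, 10, 12, 6, 8, 10, 4, 6, 8, 2, 4, 6, 14, 16, 10, 6, 8, 2, 4, 6, 14, 0, 2, 4, 6, 8, 10, 12] (.cons [8, 4, 6, 8, 10, 4, 2, 6, 4, 12, 14, 8]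 (.cons [4, 2, 4, 1] .nil .nil) .nil) .nil) (.cons [18, 4, 6, 16, 8, 10, 6, 8, 4, 6, 16, 18, 8, 2, 4, 6, 16, 0, 2, 4, 6, 8, 10, 12, 14] (.cons [8, 2, 4, 6, 14, 16, 6, 8, 2, 4, 6, 14, 10, 12, 6, 8, 10, 4, 6, 8, 2, 4, 6, 14, 16, 12, 10, 4, 6, 8, 2, 4, 6, 14, 0, 2, 4, 6, 8, 10, 12] (.cons [12, 10, 6, 4, 2, 14, 12] .nil .nil) .nil) (.cons [16, 18, 6, 16, 8, 10, 6, 8, 4, 6, 16, 18, 8, 2, 4, 6, 16, 0, 2, 4, 6, 8, 10, 12, 14] (.cons [10, 6, 8, 14, 16, 4, 6, 14, 12, 8, 10, 4, 6, 8, 2, 4, 6, 14, 16, 12, 10, 8, 2, 4, 6, 14, 0, 2, 4, 6, 8, 10, 12] (.cons [8, 2, 4, 6, 12, 14, 10, 8, 6, 10, 4, 6, 0, 2, 4] .nil .nil) .nil) (.cons [18, 2, 4, 6, 16, 8, 10, 6, 8, 4, 6, 16, 18, 2, 4, 6, 16, 0, 2, 4, 6, 8, 10, 12, 14] (.cons [4,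 6, 14, 16, 12, 10, 8, 6, 14, 10, 12, 8, 10, 4, 6, 8, 2, 4, 6, 14, 16, 14, 10, 4, 6, 8, 2, 4, 6, 14, 0, 2, 4, 6, 8, 10, 12] (.cons [6, 12, 14, 4, 10, 2, 8, 4, 6, 8, 4, 2, 10, 8] .nil .nil) .nil) (.cons [8, 4, 6, 16, 18, 16, 12, 14, 10, 12, 8, 10, 6, 8, 4, 6, 16, 0, 2, 4, 6, 8, 10, 12, 14] (.cons [6, 8, 2, 4, 6, 14, 16, 8, 2, 4, 6, 14, 8, 10, 12, 6, 8, 10, 4, 6, 8, 2, 4, 6, 14, 16, 8, 10, 4, 6, 8, 2, 4, 6, 14, 0, 2, 4, 6, 8, 10, 12] .nil .nil) (.cons [0, 2, 4, 6, 16, 18, 12, 14, 10, 12, 8, 10, 6, 8, 4, 6, 16, 0, 2, 4, 6, 8, 10, 12, 14] (.cons [14, 6, 8, 4, 6, 14, 16, 12, 8, 10, 6, 8, 4, 6, 14, 2, 4, 6, 8, 10, 12] (.cons [4, 10, 2, 12, 14, 12, 6, 4] .nil .nil) .nil) (.cons [8, 2, 4, 6, 16, 18, 12, 14, 10, 12, 8,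 10, 6, 8, 4, 6, 16, 0, 2, 4, 6, 8, 10, 12, 14] (.cons [16, 8, 4, 6, 2, 0, 4, 2, 14, 16, 8, 6, 14, 10, 12, 8, 10, 6, 8, 4, 6, 14, 16, 8, 2, 4, 6, 14, 0, 2, 4, 6, 8, 10, 12] (.cons [6, 8, 0, 2, 4, 6, 12, 14, 8, 2, 4, 6, 8, 10, 2, 4, 6, 0, 2, 4] (.cons [3, 4, 2, 5, 1] .nil .nil) .nil) .nil) (.cons [12, 10, 8, 6, 16, 18, 12, 14, 10, 12, 8, 10, 6, 8, 4, 6, 16, 0, 2, 4, 6, 8, 10, 12, 14] (.cons [8, 6, 14, 16, 4, 6, 14, 12, 8, 10, 4, 6, 8, 0, 2, 4, 6, 14, 16, 12, 10, 4, 6, 8, 2, 4, 6, 14, 0, 2, 4, 6, 8, 10, 12] (.cons [8, 0, 2, 10, 6, 12, 14, 4, 6] .nil .nil) .nil) (.cons [10, 8, 6, 16, 18, 6, 16, 14, 10, 12, 8, 10, 6, 8, 4, 6, 16, 0, 2, 4, 6, 8, 10, 12, 14] (.cons [8, 10, 4, 6, 8, 2, 4, 6, 14, 16, 12, 8, 10, 6, 8,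 4, 6, 14, 0, 2, 4, 6, 8, 10, 12] (.cons [14, 8, 10, 8, 6, 4, 0, 2, 4] .nil .nil) .nil) (.cons [10, 8, 4, 6, 16, 18, 16, 14, 10, 12, 8, 10, 6, 8, 4, 6, 16, 0, 2, 4, 6, 8, 10, 12, 14] (.cons [6, 14, 16, 8, 2, 4, 6, 14, 8, 10, 4, 6, 8, 2, 4, 6, 14, 16, 12, 10, 6, 8, 2, 4, 6, 14, 0, 2, 4, 6, 8, 10, 12] (.cons [6, 12, 14, 6, 4, 10, 8, 6, 4, 2, 12, 6, 4] .nil .nil) .nil) (.cons [14, 12, 10, 8, 6, 16, 18, 14, 10, 12, 8, 10, 6, 8, 4, 6, 16, 0, 2, 4, 6, 8, 10, 12, 14] (.cons [6, 14, 16, 10, 2, 4, 6, 14, 8, 10, 12, 6, 8, 10, 4, 6, 8, 2, 4, 6, 14, 16, 14, 6, 8, 4, 6, 14, 0, 2, 4, 6, 8, 10, 12] (.cons [12, 14, 10, 8, 6, 12, 14, 8, 10, 6, 4, 2, 12, 6, 4] .nil .nil) .nil) (.cons [10, 8, 6, 16, 18, 8, 6, 16, 10, 12, 8, 10,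 6, 8, 4, 6, 16, 0, 2, 4, 6, 8, 10, 12, 14] (.cons [14, 6, 8, 4, 6, 14, 10, 12, 8, 10, 4, 6, 8, 2, 4, 6, 14, 16, 10, 4, 6, 8, 2, 4, 6, 14, 0, 2, 4, 6, 8, 10, 12] (.cons [8, 2, 4, 6, 12, 14, 6, 4, 10, 8, 6, 4, 0, 2, 4, 8, 10] .nil .nil) .nil) (.cons [14, 12, 10, 8, 4, 6, 16, 18, 10, 12, 8, 10, 6, 8, 4, 6, 16, 0, 2, 4, 6, 8, 10, 12, 14] (.cons [16, 12, 10, 8, 6, 14, 4, 6, 8, 2, 4, 6, 14, 16, 6, 14, 12, 10, 4, 6, 8, 2, 4, 6, 14, 0, 2, 4, 6, 8, 10, 12] .nil .nil) (.cons [12, 10, 8, 4, 6, 16, 18, 16, 14, 12, 8, 10, 6, 8, 4, 6, 16, 0, 2, 4, 6, 8, 10, 12, 14] .nil (.cons [14, 12, 10, 8, 6, 16, 18, 16, 14, 12, 8, 10, 6, 8, 4, 6, 16, 0, 2, 4, 6, 8, 10, 12, 14] (.cons [14, 16, 6, 14, 12, 6, 8, 10, 4, 6, 8, 2, 4, 6, 14,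 16, 8, 10, 6, 8, 2, 4, 6, 14, 0, 2, 4, 6, 8, 10, 12] (.cons [6, 12, 14, 0, 4, 2, 4, 6, 8, 12, 6, 4, 0, 2, 8, 10] .nil .nil) .nil) (.cons [10, 8, 0, 2, 4, 6, 16, 18, 14, 12, 8, 10, 6, 8, 4, 6, 16, 0, 2, 4, 6, 8, 10, 12, 14] .nil (.cons [12, 10, 8, 2, 4, 6, 16, 18, 14, 12, 8, 10, 6, 8, 4, 6, 16, 0, 2, 4, 6, 8, 10, 12, 14] (.cons [4, 6, 8, 2, 4, 6, 14, 16, 10, 8, 6, 14, 12, 10, 8, 6, 4, 2, 0, 10, 14, 12, 8, 10, 6, 8, 4, 6, 14, 16, 12, 10, 6, 8, 4, 6, 14, 2, 4, 6, 8, 10, 12] .nil .nil) (.cons [18, 16, 6, 8, 4, 6, 16, 18, 14, 12, 8, 10, 6, 8, 4, 6, 16, 0, 2, 4, 6, 8, 10, 12, 14] (.cons [6, 14, 4, 6, 8, 2, 4, 6, 14, 16, 6, 14, 12, 10, 4, 6, 8, 2, 4, 6, 14, 0, 2, 4, 6, 8, 10, 12] (.cons [0, 2, 4, 8, 6, 12, 14, 4, 6,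 8, 12, 6, 4, 2, 8, 10] .nil .nil) .nil) (.cons [10, 6, 8, 2, 4, 6, 16, 18, 16, 12, 8, 10, 6, 8, 4, 6, 16, 0, 2, 4, 6, 8, 10, 12, 14] .nil (.cons [8, 10, 6, 8, 2, 4, 6, 16, 18, 12, 8, 10, 6, 8, 4, 6, 16, 0, 2, 4, 6, 8, 10, 12, 14] .nil (.cons [12, 10, 6, 8, 2, 4, 6, 16, 18, 12, 8, 10, 6, 8, 4, 6, 16, 0, 2, 4, 6, 8, 10, 12, 14] (.cons [10, 8, 2, 4, 6, 14, 16, 6, 14, 4, 6, 8, 2, 4, 6, 14, 0, 2, 4, 6, 8, 10, 12] (.cons [6, 8, 2, 4, 10, 8, 6, 12, 14, 4, 6, 0, 2] .nil .nil) .nil) (.cons [14, 12, 10, 8, 2, 4, 6, 16, 18, 12, 8, 10, 6, 8, 4, 6, 16, 0, 2, 4, 6, 8, 10, 12, 14] (.cons [16, 8, 6, 14, 10, 12, 8, 10, 2, 4, 6, 8, 0, 2, 4, 6, 14, 16, 12, 8, 10, 6, 8, 2, 4, 6, 14, 0, 2, 4, 6, 8, 10, 12] .nil .nil) (.cons [18,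 16, 10, 6, 8, 4, 6, 16, 18, 12, 8, 10, 6, 8, 4, 6, 16, 0, 2, 4, 6, 8, 10, 12, 14] .nil (.cons [10, 4, 6, 8, 2, 4, 6, 16, 18, 16, 8, 10, 6, 8, 4, 6, 16, 0, 2, 4, 6, 8, 10, 12, 14] (.cons [16, 8, 2, 4, 6, 14, 10, 12, 8, 10, 4, 6, 8, 0, 2, 4, 6, 14, 16, 12, 10, 4, 6, 8, 2, 4, 6, 14, 0, 2, 4, 6, 8, 10, 12] .nil .nil) (.cons [8, 10, 6, 8, 2, 4, 6, 16, 18, 16, 8, 10, 6, 8, 4, 6, 16, 0, 2, 4, 6, 8, 10, 12, 14] (.cons [16, 4, 6, 14, 12, 8, 10, 4, 6, 8, 2, 4, 6, 14, 16, 10, 6, 8, 2, 4, 6, 14, 0, 2, 4, 6, 8, 10, 12] (.cons [12, 14, 10, 8, 6, 10, 4, 6, 0, 2, 4] .nil .nil) .nil) (.cons [12, 10, 6, 8, 2, 4, 6, 16, 18, 16, 8, 10, 6, 8, 4, 6, 16, 0, 2, 4, 6, 8, 10, 12, 14] (.cons [14, 8, 10, 4, 6, 8, 0, 2, 4, 6, 14, 16, 12,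 8, 10, 6, 8, 4, 6, 14, 0, 2, 4, 6, 8, 10, 12] (.cons [6, 4, 2, 4, 12, 6, 8, 4, 6, 10] .nil .nil) .nil) (.cons [16, 4, 6, 8, 0, 2, 4, 6, 16, 18, 8, 10, 6, 8, 4, 6, 16, 0, 2, 4, 6, 8, 10, 12, 14] (.cons [14, 8, 10, 6, 8, 4, 6, 14, 16, 10, 4, 6, 8, 2, 4, 6, 14, 0, 2, 4, 6, 8, 10, 12] (.cons [2, 4, 0, 2, 8, 6, 4, 12, 6, 8, 10, 14, 4, 6, 12, 14, 8, 6, 4, 2] .nil .nil) .nil) (.cons [8, 10, 6, 8, 0, 2, 4, 6, 16, 18, 8, 10, 6, 8, 4, 6, 16, 0, 2, 4, 6, 8, 10, 12, 14] (.cons [14, 16, 4, 6, 14, 8, 10, 12, 6, 8, 10, 4, 6, 8, 0, 2, 4, 6, 14, 16, 4, 6, 8, 2, 4, 6, 14, 0, 2, 4, 6, 8, 10, 12] (.cons [0, 2, 12, 14, 8, 6, 4, 12] .nil .nil) .nil) (.cons [16, 10, 6, 8, 0, 2, 4, 6, 16, 18, 8, 10, 6, 8, 4, 6, 16, 0, 2, 4, 6, 8, 10,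 12, 14] (.cons [16, 14, 10, 12, 8, 10, 4, 6, 8, 0, 2, 4, 6, 14, 16, 12, 10, 4, 6, 8, 2, 4, 6, 14, 0, 2, 4, 6, 8, 10, 12] (.cons [12, 8, 10, 6, 4, 2, 14, 12] .nil .nil) .nil) (.cons [14, 12, 10, 6, 8, 2, 4, 6, 16, 18, 8, 10, 6, 8, 4, 6, 16, 0, 2, 4, 6, 8, 10, 12, 14] (.cons [8, 6, 14, 16, 4, 6, 14, 10, 12, 8, 10, 6, 8, 0, 2, 4, 6, 14, 16, 12, 10, 4, 6, 8, 2, 4, 6, 14, 0, 2, 4, 6, 8, 10, 12] (.cons [14, 8, 6, 12, 14, 4, 8, 6, 4, 2, 12, 6, 8, 10, 8] .nil .nil) .nil) (.cons [16, 12, 10, 6, 8, 2, 4, 6, 16, 18, 8, 10, 6, 8, 4, 6, 16, 0, 2, 4, 6, 8, 10, 12, 14] (.cons [4, 6, 14, 12, 8, 10, 4, 6, 8, 2, 4, 6, 14, 16, 10, 4, 6, 8, 2, 4, 6, 14, 0, 2, 4, 6, 8, 10, 12] (.cons [10, 6, 4, 2, 8, 12, 6, 8, 10, 8] .nil .nil)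 .nil) (.cons [18, 16, 10, 6, 8, 2, 4, 6, 16, 18, 8, 10, 6, 8, 4, 6, 16, 0, 2, 4, 6, 8, 10, 12, 14] (.cons [16, 10, 8, 6, 14, 12, 8, 10, 4, 6, 8, 2, 4, 6, 14, 16, 12, 8, 10, 4, 6, 8, 2, 4, 6, 14, 0, 2, 4, 6, 8, 10, 12] (.cons [14, 6, 8, 4, 12, 6, 2, 8, 10, 4, 6, 0, 2] .nil .nil) .nil) (.cons [18, 16, 8, 10, 6, 8, 4, 6, 16, 18, 8, 10, 6, 8, 4, 6, 16, 0, 2, 4, 6, 8, 10, 12, 14] (.cons [6, 14, 16, 8, 2, 4, 6, 14, 10, 12, 6, 8, 10, 4, 6, 8, 2, 4, 6, 14, 16, 10, 4, 6, 8, 2, 4, 6, 14, 0, 2, 4, 6, 8, 10, 12] (.cons [14, 8, 6, 12, 14, 0, 6, 4, 2, 12, 6, 8, 10] .nil .nil) .nil) (.cons [18, 16, 12, 10, 6, 8, 4, 6, 16, 18, 8, 10, 6, 8, 4, 6, 16, 0, 2, 4, 6, 8, 10, 12, 14] (.cons [10, 8, 6, 14, 16, 8, 2, 4, 6, 14, 8, 10,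 12, 6, 8, 10, 4, 6, 8, 2, 4, 6, 14, 16, 12, 10, 4, 6, 8, 2, 4, 6, 14, 0, 2, 4, 6, 8, 10, 12] (.cons [14, 10, 4, 2, 8, 6] .nil .nil) .nil) (.cons [6, 8, 0, 2, 4, 6, 16, 18, 16, 14, 12, 10, 6, 8, 4, 6, 16, 0, 2, 4, 6, 8, 10, 12, 14] (.cons [4, 6, 14, 16, 10, 8, 6, 14, 10, 4, 6, 8, 2, 4, 6, 14, 16, 12, 10, 4, 6, 8, 2, 4, 6, 14, 0, 2, 4, 6, 8, 10, 12] (.cons [12, 6, 4, 2, 4, 12, 14, 8] .nil .nil) .nil) (.cons [16, 10, 6, 8, 4, 6, 16, 18, 16, 14, 12, 10, 6, 8, 4, 6, 16, 0, 2, 4, 6, 8, 10, 12, 14] (.cons [16, 6, 14, 8, 10, 6, 8, 0, 2, 4, 6, 14, 16, 14, 12, 10, 6, 8, 2, 4, 6, 14, 0, 2, 4, 6, 8, 10, 12] .nil .nil) (.cons [10, 6, 8, 0, 2, 4, 6, 16, 18, 14, 12, 10, 6, 8, 4, 6, 16, 0, 2, 4, 6, 8, 10, 12, 14] (.cons [16,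 12, 10, 8, 2, 4, 6, 14, 0, 2, 4, 6, 8, 10, 12] (.cons [14, 8, 6, 12, 8, 10, 6, 4, 2, 14, 12] .nil .nil) .nil) (.cons [12, 10, 8, 0, 2, 4, 6, 16, 18, 14, 12, 10, 6, 8, 4, 6, 16, 0, 2, 4, 6, 8, 10, 12, 14] (.cons [4, 6, 8, 2, 4, 6, 14, 16, 10, 8, 6, 14, 8, 10, 12, 6, 8, 10, 4, 6, 8, 2, 4, 6, 14, 16, 10, 4, 6, 8, 2, 4, 6, 14, 0, 2, 4, 6, 8, 10, 12] (.cons [14, 8, 2, 4, 6, 12, 6, 4, 2, 8, 10, 14, 12] .nil .nil) .nil) (.cons [12, 10, 6, 8, 2, 4, 6, 16, 18, 14, 12, 10, 6, 8, 4, 6, 16, 0, 2, 4, 6, 8, 10, 12, 14] (.cons [14, 16, 8, 4, 6, 14, 10, 12, 8, 10, 6, 8, 4, 6, 14, 16, 14, 8, 10, 4, 6, 8, 2, 4, 6, 14, 0, 2, 4, 6, 8, 10, 12] (.cons [8, 6, 12, 14, 10, 6, 8, 6, 4, 0, 2, 4, 10, 8] .nil .nil) .nil) (.cons [18, 16,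 10, 6, 8, 4, 6, 16, 18, 14, 12, 10, 6, 8, 4, 6, 16, 0, 2, 4, 6, 8, 10, 12, 14] (.cons [14, 6, 8, 10, 4, 6, 8, 0, 2, 4, 6, 14, 16, 12, 10, 6, 8, 2, 4, 6, 14, 0, 2, 4, 6, 8, 10, 12] (.cons [6, 8, 0, 2, 4, 10, 12, 14, 8] .nil .nil) .nil) (.cons [12, 10, 6, 8, 2, 4, 6, 16, 18, 16, 12, 10, 6, 8, 4, 6, 16, 0, 2, 4, 6, 8, 10, 12, 14] (.cons [16, 6, 14, 4, 6, 8, 2, 4, 6, 14, 16, 12, 6, 8, 10, 4, 6, 8, 2, 4, 6, 14, 0, 2, 4, 6, 8, 10, 12] (.cons [8, 2, 4, 6, 12, 14, 8, 6, 4, 2, 4, 6, 10] .nil .nil) .nil) (.cons [16, 10, 6, 8, 2, 4, 6, 16, 18, 16, 12, 10, 6, 8, 4, 6, 16, 0, 2, 4, 6, 8, 10, 12, 14] (.cons [4, 6, 14, 10, 12, 8, 10, 6, 8, 2, 4, 6, 14, 16, 12, 10, 4, 6, 8, 2, 4, 6, 14, 0, 2, 4, 6, 8, 10, 12] (.cons [2, 4,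 6, 8, 2, 10, 4, 6, 12, 14, 8, 6, 4, 2] .nil .nil) .nil) (.cons [16, 10, 4, 6, 8, 2, 4, 6, 16, 18, 12, 10, 6, 8, 4, 6, 16, 0, 2, 4, 6, 8, 10, 12, 14] (.cons [10, 8, 4, 6, 14, 16, 8, 10, 6, 8, 2, 4, 6, 14, 0, 2, 4, 6, 8, 10, 12] (.cons [12, 4, 6, 8, 0, 2, 4, 10, 12, 6, 8, 14, 12, 6, 4, 2, 8, 10, 12, 14] (.cons [4, 1, 2, 2] .nil .nil) .nil) .nil) (.cons [12, 8, 10, 6, 8, 2, 4, 6, 16, 18, 12, 10, 6, 8, 4, 6, 16, 0, 2, 4, 6, 8, 10, 12, 14] .nil (.cons [16, 8, 10, 6, 8, 2, 4, 6, 16, 18, 16, 10, 6, 8, 4, 6, 16, 0, 2, 4, 6, 8, 10, 12, 14] (.cons [2, 4, 6, 14, 16, 10, 8, 6, 14, 10, 12, 8, 10, 4, 6, 8, 2, 4, 6, 14, 16, 12, 8, 10, 4, 6, 8, 2, 4, 6, 14, 0, 2, 4, 6, 8, 10, 12] (.cons [14, 2, 8, 12, 6, 8, 4, 10, 8, 6, 12,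 14, 12, 6, 4] .nil .nil) .nil) (.cons [16, 12, 10, 6, 8, 2, 4, 6, 16, 18, 16, 10, 6, 8, 4, 6, 16, 0, 2, 4, 6, 8, 10, 12, 14] (.cons [16, 12, 10, 8, 4, 6, 14, 0, 2, 4, 6, 8, 10, 12] (.cons [6, 12, 14, 4, 6, 2, 0, 4, 2, 10, 8, 6, 8, 10] .nil .nil) .nil) (.cons [18, 16, 8, 10, 6, 8, 4, 6, 16, 18, 16, 10, 6, 8, 4, 6, 16, 0, 2, 4, 6, 8, 10, 12, 14] (.cons [14, 12, 10, 6, 8, 2, 4, 6, 14, 16, 10, 4, 6, 8, 2, 4, 6, 14, 0, 2, 4, 6, 8, 10, 12] .nil .nil) (.cons [18, 16, 12, 10, 6, 8, 4, 6, 16, 18, 16, 10, 6, 8, 4, 6, 16, 0, 2, 4, 6, 8, 10, 12, 14] (.cons [8, 6, 14, 16, 2, 4, 6, 14, 10, 12, 8, 10, 4, 6, 8, 2, 4, 6, 14, 16, 14, 8, 10, 4, 6, 8, 2, 4, 6, 14, 0, 2, 4, 6, 8, 10, 12] .nil .nil) (.cons [12, 10, 4, 6, 8, 0, 2,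 4, 6, 16, 18, 10, 6, 8, 4, 6, 16, 0, 2, 4, 6, 8, 10, 12, 14] (.cons [14, 16, 6, 14, 10, 8, 16, 6, 4, 2, 0, 14, 12, 8, 10, 6, 8, 4, 6, 14, 16, 12, 8, 10, 6, 8, 4, 6, 14, 2, 4, 6, 8, 10, 12] (.cons [6, 4, 2, 8, 6, 4, 12, 6, 8, 10, 14, 4, 6, 12, 14, 8, 6, 4, 2] .nil .nil) .nil) (.cons [14, 12, 10, 4, 6, 8, 2, 4, 6, 16, 18, 10, 6, 8, 4, 6, 16, 0, 2, 4, 6, 8, 10, 12, 14] (.cons [10, 8, 0, 6, 4, 2, 0, 14, 12, 8, 10, 6, 8, 4, 6, 14, 16, 12, 8, 10, 6, 8, 4, 6, 14, 2, 4, 6, 8, 10, 12] (.cons [2, 4, 12, 14, 6, 8, 4, 6, 10] .nil .nil) .nil) (.cons [6, 16, 10, 4, 6, 8, 2, 4, 6, 16, 18, 10, 6, 8, 4, 6, 16, 0, 2, 4, 6, 8, 10, 12, 14] (.cons [6, 14, 16, 6, 8, 4, 6, 14, 10, 12, 6, 8, 10, 4, 6, 8, 0, 2, 4, 6, 14, 16, 12, 10,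 4, 6, 8, 2, 4, 6, 14, 0, 2, 4, 6, 8, 10, 12] (.cons [6, 8, 2, 4, 6, 12, 10, 8, 6, 4, 8, 10, 0, 2, 12, 14, 6, 4] .nil .nil) .nil) (.cons [18, 16, 14, 12, 10, 6, 8, 4, 6, 16, 18, 10, 6, 8, 4, 6, 16, 0, 2, 4, 6, 8, 10, 12, 14] (.cons [6, 14, 12, 8, 10, 6, 8, 2, 4, 6, 14, 16, 14, 6, 8, 4, 6, 14, 0, 2, 4, 6, 8, 10, 12] (.cons [6, 4, 2, 4, 10, 8, 6, 12, 4, 14, 12] .nil .nil) .nil) (.cons [12, 10, 4, 6, 8, 0, 2, 4, 6, 16, 18, 16, 6, 8, 4, 6, 16, 0, 2, 4, 6, 8, 10, 12, 14] (.cons [8, 4, 6, 14, 16, 10, 6, 8, 4, 6, 14, 10, 12, 8, 10, 4, 6, 8, 2, 4, 6, 14, 16, 12, 10, 4, 6, 8, 2, 4, 6, 14, 0, 2, 4, 6, 8, 10, 12] (.cons [12, 14, 0, 6, 8, 4, 12, 6, 8, 4, 2, 4, 10, 8] .nil .nil) .nil) (.cons [16, 8, 10, 6, 8, 0, 2, 4, 6,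 16, 18, 16, 6, 8, 4, 6, 16, 0, 2, 4, 6, 8, 10, 12, 14] (.cons [16, 10, 2, 12, 10, 8, 4, 6, 14, 6, 8, 10, 4, 6, 8, 2, 4, 6, 14, 16, 12, 10, 6, 8, 2, 4, 6, 14, 0, 2, 4, 6, 8, 10, 12] (.cons [14, 4, 2, 4, 12, 10, 8, 6, 4, 0, 2, 4, 8, 10] .nil .nil) .nil) (.cons [10, 12, 8, 10, 6, 8, 2, 4, 6, 16, 18, 16, 6, 8, 4, 6, 16, 0, 2, 4, 6, 8, 10, 12, 14] (.cons [8, 10, 12, 6, 8, 10, 4, 6, 8, 2, 4, 6, 14, 16, 6, 8, 4, 6, 14, 0, 2, 4, 6, 8, 10, 12] (.cons [4, 6, 14, 12, 10, 8, 6, 4, 2, 6, 8, 10, 12, 14, 6, 4] .nil .nil) .nil) (.cons [16, 12, 8, 10, 6, 8, 2, 4, 6, 16, 18, 16, 6, 8, 4, 6, 16, 0, 2, 4, 6, 8, 10, 12, 14] (.cons [14, 12, 8, 10, 6, 8, 2, 4, 6, 14, 16, 14, 12, 10, 6, 8, 4, 6, 14, 0, 2, 4, 6, 8, 10, 12] (.cons [2,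 4, 12, 6, 8, 10, 14, 4, 6, 12, 14, 8, 6, 4, 2] .nil .nil) .nil) (.cons [14, 10, 12, 8, 10, 6, 8, 4, 6, 16, 18, 16, 6, 8, 4, 6, 16, 0, 2, 4, 6, 8, 10, 12, 14] (.cons [0, 2, 4, 6, 14, 16, 8, 6, 4, 2, 14, 16, 4, 6, 14, 10, 12, 8, 10, 6, 8, 4, 6, 14, 16, 6, 8, 2, 4, 6, 14, 0, 2, 4, 6, 8, 10, 12] (.cons [4, 12, 6, 4, 10, 0, 2, 4, 6, 8, 10] .nil .nil) .nil) (.cons [4, 6, 16, 8, 10, 6, 8, 4, 6, 16, 18, 16, 6, 8, 4, 6, 16, 0, 2, 4, 6, 8, 10, 12, 14] (.cons [8, 4, 6, 14, 16, 10, 8, 4, 6, 14, 10, 12, 8, 10, 6, 8, 0, 2, 4, 6, 14, 16, 12, 10, 8, 2, 4, 6, 14, 0, 2, 4, 6, 8, 10, 12] .nil .nil) (.cons [12, 10, 2, 4, 6, 8, 0, 2, 4, 6, 16, 18, 6, 8, 4, 6, 16, 0, 2, 4, 6, 8, 10, 12, 14] (.cons [2, 4, 6, 8, 0, 2, 4, 6, 14, 16,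 14, 10, 6, 8, 2, 4, 6, 14, 0, 2, 4, 6, 8, 10, 12] .nil .nil) (.cons [6, 8, 10, 4, 6, 8, 0, 2, 4, 6, 16, 18, 6, 8, 4, 6, 16, 0, 2, 4, 6, 8, 10, 12, 14] (.cons [12, 4, 6, 8, 10, 2, 4, 6, 8, 0, 2, 4, 6, 14, 16, 6, 8, 4, 6, 14, 2, 4, 6, 8, 10, 12] .nil .nil) (.cons [12, 8, 10, 4, 6, 8, 0, 2, 4, 6, 16, 18, 6, 8, 4, 6, 16, 0, 2, 4, 6, 8, 10, 12, 14] (.cons [6, 14, 16, 14, 6, 8, 4, 6, 14, 10, 12, 8, 10, 4, 6, 8, 2, 4, 6, 14, 16, 12, 10, 4, 6, 8, 2, 4, 6, 14, 0, 2, 4, 6, 8, 10, 12] (.cons [8, 6, 12, 14, 10, 0, 2, 4, 8, 6] .nil .nil) .nil) (.cons [10, 12, 8, 10, 6, 8, 0, 2, 4, 6, 16, 18, 6, 8, 4, 6, 16, 0, 2, 4, 6, 8, 10, 12, 14] (.cons [10, 8, 4, 6, 14, 16, 12, 10, 8, 6, 14, 2, 4, 6, 8, 10, 12] (.cons [8, 10, 4, 2,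 6, 4, 12, 14, 8] .nil .nil) .nil) (.cons [14, 12, 8, 10, 6, 8, 0, 2, 4, 6, 16, 18, 6, 8, 4, 6, 16, 0, 2, 4, 6, 8, 10, 12, 14] (.cons [6, 8, 4, 6, 14, 16, 6, 8, 4, 6, 14, 10, 12, 6, 8, 10, 4, 6, 8, 2, 4, 6, 14, 16, 12, 10, 6, 8, 2, 4, 6, 14, 0, 2, 4, 6, 8, 10, 12] (.cons [8, 0, 2, 4, 6, 12, 14, 10, 8, 6, 4, 2, 8, 6, 10, 4] .nil .nil) .nil) (.cons [14, 10, 12, 8, 10, 6, 8, 2, 4, 6, 16, 18, 6, 8, 4, 6, 16, 0, 2, 4, 6, 8, 10, 12, 14] (.cons [14, 16, 10, 6, 8, 14, 6, 4, 2, 0, 10, 12, 8, 10, 6, 8, 4, 6, 14, 16, 12, 8, 10, 6, 8, 4, 6, 14, 2, 4, 6, 8, 10, 12] .nil .nil) (.cons [14, 12, 10, 6, 8, 2, 4, 6, 16, 18, 14, 12, 10, 8, 4, 6, 16, 0, 2, 4, 6, 8, 10, 12, 14] (.cons [16, 8, 2, 4, 6, 14, 12, 8, 10, 4, 6, 8, 2, 4,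 6, 14, 16, 14, 10, 6, 8, 2, 4, 6, 14, 0, 2, 4, 6, 8, 10, 12] (.cons [6, 12, 4, 6, 8, 2, 10, 12, 14, 6, 4, 2, 8, 6] (.cons [0, 2, 0, 4, 4] .nil .nil) .nil) .nil) (.cons [18, 16, 8, 10, 6, 8, 4, 6, 16, 18, 14, 12, 10, 8, 4, 6, 16, 0, 2, 4, 6, 8, 10, 12, 14] (.cons [14, 4, 6, 16, 14, 6, 8, 10, 4, 6, 8, 0, 2, 4, 6, 14, 16, 12, 10, 8, 2, 4, 6, 14, 0, 2, 4, 6, 8, 10, 12] (.cons [8, 2, 4, 6, 12, 14, 4, 6, 8, 10, 12, 6, 4, 2, 4] .nil .nil) .nil) (.cons [14, 12, 10, 6, 8, 0, 2, 4, 6, 16, 18, 12, 10, 8, 4, 6, 16, 0, 2, 4, 6, 8, 10, 12, 14] .nil (.cons [14, 12, 8, 10, 6, 8, 2, 4, 6, 16, 18, 12, 10, 8, 4, 6, 16, 0, 2, 4, 6, 8, 10, 12, 14] (.cons [6, 14, 10, 12, 6, 8, 10, 4, 6, 8, 2, 4, 6, 14, 16, 14, 8, 10, 4, 6, 8, 2,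 4, 6, 14, 0, 2, 4, 6, 8, 10, 12] .nil .nil) (.cons [6, 16, 8, 10, 6, 8, 2, 4, 6, 16, 18, 12, 10, 8, 4, 6, 16, 0, 2, 4, 6, 8, 10, 12, 14] (.cons [4, 6, 14, 8, 10, 4, 6, 8, 2, 4, 6, 14, 16, 12, 8, 10, 6, 8, 2, 4, 6, 14, 0, 2, 4, 6, 8, 10, 12] (.cons [10, 8, 2, 10, 12, 14, 6, 4, 2, 8, 6] .nil .nil) .nil) (.cons [18, 16, 12, 8, 10, 6, 8, 4, 6, 16, 18, 12, 10, 8, 4, 6, 16, 0, 2, 4, 6, 8, 10, 12, 14] .nil (.cons [14, 12, 10, 4, 6, 8, 0, 2, 4, 6, 16, 18, 10, 8, 4, 6, 16, 0, 2, 4, 6, 8, 10, 12, 14] (.cons [12, 10, 8, 6, 14, 12, 6, 8, 10, 4, 6, 8, 2, 4, 6, 14, 16, 10, 6, 8, 2, 4, 6, 14, 0, 2, 4, 6, 8, 10, 12] (.cons [14, 12, 6, 4, 2, 12, 6, 4, 12, 14] .nil .nil) .nil) (.cons [8, 6, 16, 10, 4, 6, 8, 2, 4, 6, 16, 18, 10,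 8, 4, 6, 16, 0, 2, 4, 6, 8, 10, 12, 14] (.cons [4, 6, 14, 10, 12, 8, 10, 4, 6, 8, 2, 4, 6, 14, 16, 12, 8, 10, 4, 6, 8, 2, 4, 6, 14, 0, 2, 4, 6, 8, 10, 12] (.cons [12, 14, 10, 8, 6, 4, 2, 10, 8] .nil .nil) .nil) (.cons [8, 10, 4, 6, 8, 0, 2, 4, 6, 16, 18, 14, 12, 10, 8, 6, 16, 0, 2, 4, 6, 8, 10, 12, 14] (.cons [14, 16, 2, 4, 6, 14, 8, 10, 4, 6, 8, 2, 4, 6, 14, 16, 12, 8, 10, 6, 8, 2, 4, 6, 14, 0, 2, 4, 6, 8, 10, 12] .nil .nil) (.cons [16, 8, 10, 4, 6, 8, 2, 4, 6, 16, 18, 14, 12, 10, 8, 6, 16, 0, 2, 4, 6, 8, 10, 12, 14] (.cons [6, 14, 8, 10, 4, 6, 8, 2, 4, 6, 14, 16, 12, 10, 4, 6, 8, 2, 4, 6, 14, 0, 2, 4, 6, 8, 10, 12] (.cons [10, 8, 12, 6, 4, 2, 4, 8, 10] .nil .nil) .nil) (.cons [10, 12, 8, 10, 6, 8, 2, 4, 6,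 16, 18, 14, 12, 10, 8, 6, 16, 0, 2, 4, 6, 8, 10, 12, 14] (.cons [12, 14, 6, 8, 10, 4, 6, 8, 2, 4, 6, 14, 16, 6, 14, 12, 10, 4, 6, 8, 2, 4, 6, 14, 0, 2, 4, 6, 8, 10, 12] (.cons [8, 2, 4, 6, 12, 14, 4, 10, 8, 12, 6, 4, 2, 8, 6, 10, 4] (.cons [1, 1, 2, 5, 5] .nil .nil) .nil) .nil) (.cons [10, 8, 6, 16, 4, 6, 8, 2, 4, 6, 16, 18, 12, 10, 8, 6, 16, 0, 2, 4, 6, 8, 10, 12, 14] (.cons [8, 10, 6, 8, 4, 6, 14, 16, 14, 10, 4, 6, 8, 2, 4, 6, 14, 0, 2, 4, 6, 8, 10, 12] (.cons [14, 2, 4, 6, 8, 10, 2, 4, 6, 0, 2, 4] .nil .nil) .nil) (.cons [16, 6, 8, 2, 4, 6, 16, 12, 14, 10, 12, 8, 10, 6, 8, 4, 6, 16, 2, 4, 6, 8, 10, 12, 14] (.cons [16, 6, 8, 10, 4, 0, 2, 6, 14, 8, 4, 6, 14, 10, 12, 8, 10, 6, 8, 4, 6, 14, 16, 8, 2, 4, 6, 14,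 0, 2, 4, 6, 8, 10, 12] .nil .nil) (.cons [8, 10, 6, 8, 4, 6, 16, 12, 14, 10, 12, 8, 10, 6, 8, 4, 6, 16, 2, 4, 6, 8, 10, 12, 14] (.cons [12, 6, 8, 10, 14, 4, 6, 14, 16, 8, 2, 4, 6, 14, 10, 12, 8, 10, 4, 6, 8, 2, 4, 6, 14, 16, 10, 8, 2, 4, 6, 14, 0, 2, 4, 6, 8, 10, 12] (.cons [2, 6, 12, 14, 4, 12, 6, 4, 2, 8, 10] .nil .nil) .nil) (.cons [6, 8, 4, 6, 16, 18, 16, 12, 14, 10, 12, 8, 10, 6, 8, 4, 6, 16, 2, 4, 6, 8, 10, 12, 14] (.cons [14, 16, 6, 14, 8, 10, 6, 8, 2, 4, 6, 14, 16, 10, 12, 8, 10, 6, 8, 2, 4, 6, 14, 0, 2, 4, 6, 8, 10, 12] (.cons [10, 4, 6, 8, 10, 14, 4, 6, 12, 14, 8, 6, 4, 0, 2] .nil .nil) .nil) (.cons [6, 16, 4, 6, 8, 2, 4, 6, 16, 10, 12, 8, 10, 6, 8, 4, 6, 16, 2, 4, 6, 8, 10, 12, 14] (.cons [14, 16,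 6, 14, 12, 6, 8, 10, 4, 6, 8, 2, 4, 6, 14, 16, 14, 12, 8, 10, 6, 8, 2, 4, 6, 14, 0, 2, 4, 6, 8, 10, 12] .nil .nil) (.cons [16, 4, 6, 8, 2, 4, 6, 16, 18, 10, 12, 8, 10, 6, 8, 4, 6, 16, 2, 4, 6, 8, 10, 12, 14] (.cons [4, 6, 14, 2, 4, 6, 8, 0, 2, 4, 6, 14, 16, 8, 10, 4, 6, 8, 2, 4, 6, 14, 0, 2, 4, 6, 8, 10, 12] (.cons [4, 6, 12, 10, 8, 6, 4, 0, 2, 6, 8, 10, 12, 14, 6, 4] .nil .nil) .nil) (.cons [16, 10, 6, 8, 2, 4, 6, 16, 18, 10, 12, 8, 10, 6, 8, 4, 6, 16, 2, 4, 6, 8, 10, 12, 14] (.cons [16, 14, 10, 12, 8, 10, 6, 8, 2, 4, 6, 14, 16, 6, 8, 10, 4, 6, 8, 2, 4, 6, 14, 0, 2, 4, 6, 8, 10, 12] .nil .nil) (.cons [12, 10, 6, 8, 4, 6, 16, 18, 16, 14, 12, 8, 10, 6, 8, 4, 6, 16, 2, 4, 6, 8, 10, 12, 14] (.cons [6, 8, 4, 6,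 14, 16, 6, 8, 2, 4, 6, 14, 10, 12, 6, 8, 10, 4, 6, 8, 2, 4, 6, 14, 16, 12, 10, 4, 6, 8, 2, 4, 6, 14, 0, 2, 4, 6, 8, 10, 12] (.cons [6, 8, 10, 6, 4, 2, 8, 6] .nil .nil) .nil) (.cons [12, 8, 10, 6, 8, 4, 6, 16, 18, 16, 12, 8, 10, 6, 8, 4, 6, 16, 2, 4, 6, 8, 10, 12, 14] (.cons [6, 14, 12, 8, 10, 6, 8, 0, 2, 4, 6, 14, 16, 10, 8, 2, 4, 6, 14, 0, 2, 4, 6, 8, 10, 12] (.cons [6, 12, 4, 6, 8, 10, 0, 2, 6, 4, 12, 14, 8] .nil .nil) .nil) (.cons [12, 8, 10, 4, 6, 8, 2, 4, 6, 16, 18, 8, 10, 6, 8, 4, 6, 16, 2, 4, 6, 8, 10, 12, 14] (.cons [0, 2, 4, 6, 14, 16, 10, 8, 6, 4, 8, 0, 2, 4, 6, 14, 10, 12, 8, 10, 6, 8, 4, 6, 14, 16, 8, 10, 6, 8, 2, 4, 6, 14, 0, 2, 4, 6, 8, 10, 12] (.cons [14, 12, 6, 4, 8, 12, 6, 4, 0, 2, 4, 6, 8,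 10] (.cons [4, 1, 1, 3, 4] .nil .nil) .nil) .nil) (.cons [16, 12, 8, 10, 6, 8, 2, 4, 6, 16, 18, 8, 10, 6, 8, 4, 6, 16, 2, 4, 6, 8, 10, 12, 14] (.cons [14, 12, 8, 10, 6, 8, 2, 4, 6, 14, 16, 14, 8, 10, 4, 6, 8, 2, 4, 6, 14, 0, 2, 4, 6, 8, 10, 12] (.cons [6, 12, 14, 10, 4, 2, 4, 6, 8, 12, 6, 4, 0, 2, 8, 10] .nil .nil) .nil) (.cons [10, 6, 8, 0, 2, 4, 6, 16, 18, 16, 14, 12, 10, 6, 8, 4, 6, 16, 2, 4, 6, 8, 10, 12, 14] .nil (.cons [14, 12, 10, 8, 2, 4, 6, 16, 18, 16, 14, 12, 10, 6, 8, 4, 6, 16, 2, 4, 6, 8, 10, 12, 14] (.cons [14, 12, 8, 10, 4, 6, 8, 2, 4, 6, 14, 16, 14, 12, 10, 6, 8, 2, 4, 6, 14, 0, 2, 4, 6, 8, 10, 12] .nil .nil) (.cons [12, 10, 6, 8, 0, 2, 4, 6, 16, 18, 14, 12, 10, 6, 8, 4, 6, 16, 2, 4, 6, 8, 10,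 12, 14] .nil (.cons [8, 10, 6, 8, 0, 2, 4, 6, 16, 18, 16, 12, 10, 6, 8, 4, 6, 16, 2, 4, 6, 8, 10, 12, 14] (.cons [16, 4, 8, 10, 6, 8, 14, 6, 4, 2, 0, 2, 16, 10, 12, 8, 10, 6, 8, 4, 6, 14, 16, 12, 10, 6, 8, 4, 6, 14, 2, 4, 6, 8, 10, 12] (.cons [8, 6, 4, 12, 6, 2, 8, 10, 4, 6, 0, 2] .nil .nil) .nil) (.cons [14, 12, 10, 6, 8, 0, 2, 4, 6, 16, 18, 12, 10, 6, 8, 4, 6, 16, 2, 4, 6, 8, 10, 12, 14] (.cons [16, 8, 10, 2, 8, 4, 6, 14, 12, 8, 10, 4, 6, 8, 2, 4, 6, 14, 16, 14, 12, 10, 4, 6, 8, 2, 4, 6, 14, 0, 2, 4, 6, 8, 10, 12] .nil .nil) (.cons [12, 8, 10, 6, 8, 0, 2, 4, 6, 16, 18, 16, 10, 6, 8, 4, 6, 16, 2, 4, 6, 8, 10, 12, 14] (.cons [6, 8, 14, 16, 6, 14, 10, 12, 8, 10, 4, 6, 8, 2, 4, 6, 14, 16, 12, 10, 8, 2, 4, 6, 14,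 0, 2, 4, 6, 8, 10, 12] (.cons [4, 6, 12, 14, 8, 4, 6, 8, 10, 2, 4, 6, 0, 2, 4] .nil .nil) .nil) (.cons [14, 12, 10, 4, 6, 8, 0, 2, 4, 6, 16, 18, 16, 6, 8, 4, 6, 16, 2, 4, 6, 8, 10, 12, 14] (.cons [6, 8, 4, 6, 14, 16, 10, 8, 6, 14, 12, 10, 4, 6, 8, 2, 4, 6, 14, 16, 14, 8, 10, 4, 6, 8, 2, 4, 6, 14, 0, 2, 4, 6, 8, 10, 12] (.cons [0, 2, 4, 12, 6, 14, 12, 6, 8, 10, 8, 6, 12, 14, 4, 6, 0, 2] .nil .nil) .nil) (.cons [10, 12, 8, 10, 6, 8, 0, 2, 4, 6, 16, 18, 16, 6, 8, 4, 6, 16, 2, 4, 6, 8, 10, 12, 14] (.cons [8, 2, 4, 6, 14, 16, 12, 10, 8, 4, 6, 14, 0, 2, 4, 6, 8, 10, 12] (.cons [2, 4, 12, 14, 8, 6, 8, 10] .nil .nil) .nil) (.cons [16, 14, 12, 10, 6, 8, 0, 2, 4, 6, 16, 18, 16, 6, 8, 4, 6, 16, 2, 4, 6, 8, 10, 12, 14]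 (.cons [14, 12, 6, 8, 10, 4, 6, 8, 0, 2, 4, 6, 14, 16, 6, 8, 4, 6, 14, 0, 2, 4, 6, 8, 10, 12] (.cons [0, 2, 4, 6, 12, 10, 8, 6, 10, 4, 2, 12, 6, 4, 12, 14] .nil .nil) .nil) (.cons [14, 12, 10, 2, 4, 6, 8, 0, 2, 4, 6, 16, 18, 6, 8, 4, 6, 16, 2, 4, 6, 8, 10, 12, 14] (.cons [16, 8, 4, 6, 14, 10, 8, 6, 4, 2, 14, 12, 8, 10, 6, 8, 4, 6, 14, 16, 12, 10, 6, 8, 4, 6, 14, 0, 2, 4, 6, 8, 10, 12] (.cons [2, 4, 10, 8, 12, 6, 4, 2, 8, 6, 10, 4] .nil .nil) .nil) (.cons [12, 6, 8, 10, 4, 6, 8, 0, 2, 4, 6, 16, 18, 6, 8, 4, 6, 16, 2, 4, 6, 8, 10, 12, 14] (.cons [10, 8, 4, 6, 14, 16, 12, 10, 8, 6, 14, 0, 2, 4, 6, 8, 10, 12] (.cons [12, 14, 6, 4, 10, 12, 6, 8, 4, 2, 6, 10, 8] .nil .nil) .nil) (.cons [12, 8, 10, 6, 8, 0, 2, 4, 6,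 16, 18, 14, 12, 10, 8, 4, 6, 16, 2, 4, 6, 8, 10, 12, 14] (.cons [8, 2, 4, 6, 14, 16, 10, 8, 12, 10, 14, 6, 4, 2, 6, 14, 8, 4, 6, 14, 10, 12, 8, 10, 6, 8, 4, 6, 14, 16, 8, 2, 4, 6, 14, 0, 2, 4, 6, 8, 10, 12] .nil .nil) (.cons [14, 12, 10, 6, 8, 0, 2, 4, 6, 16, 18, 14, 12, 10, 8, 4, 6, 16, 2, 4, 6, 8, 10, 12, 14] (.cons [16, 14, 6, 8, 10, 4, 6, 8, 0, 2, 4, 6, 14, 16, 10, 6, 8, 4, 6, 14, 0, 2, 4, 6, 8, 10, 12] (.cons [0, 2, 4, 12, 6, 8, 10, 4, 6, 2, 4, 0, 2] .nil .nil) .nil) (.cons [10, 12, 8, 10, 6, 8, 0, 2, 4, 6, 16, 18, 14, 12, 10, 8, 6, 16, 2, 4, 6, 8, 10, 12, 14] (.cons [16, 0, 2, 4, 6, 14, 10, 12, 8, 10, 6, 8, 2, 4, 6, 14, 16, 8, 10, 4, 6, 8, 2, 4, 6, 14, 0, 2, 4, 6, 8, 10, 12] (.cons [4, 6, 12, 14, 2, 4,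 6, 8, 10, 12, 6, 4, 2, 4] .nil .nil) .nil) (.cons [8, 4, 6, 16, 18, 8, 10, 12, 6, 8, 10, 4, 6, 8, 2, 4, 6, 16, 0, 2, 4, 6, 8, 10, 12, 14] (.cons [14, 6, 8, 0, 2, 4, 6, 14, 16, 10, 8, 2, 4, 6, 14, 10, 12, 6, 8, 10, 4, 6, 8, 2, 4, 6, 14, 16, 10, 6, 8, 2, 4, 6, 14, 0, 2, 4, 6, 8, 10, 12] (.cons [6, 10, 4, 6, 0, 2, 4] .nil .nil) .nil) (.cons [2, 4, 6, 16, 18, 14, 10, 12, 6, 8, 10, 4, 6, 8, 2, 4, 6, 16, 0, 2, 4, 6, 8, 10, 12, 14] (.cons [0, 2, 4, 6, 14, 16, 12, 10, 8, 4, 6, 14, 0, 2, 4, 6, 8, 10, 12] (.cons [0, 2, 4, 6, 12, 14, 8, 10, 2, 4, 8, 6, 4, 2] .nil .nil) .nil) (.cons [6, 8, 4, 6, 16, 18, 10, 12, 6, 8, 10, 4, 6, 8, 2, 4, 6, 16, 0, 2, 4, 6, 8, 10, 12, 14] (.cons [16, 10, 8, 6, 4, 0, 2, 6, 14, 8, 4, 6, 14,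 10, 12, 8, 10, 6, 8, 4, 6, 14, 16, 8, 2, 4, 6, 14, 0, 2, 4, 6, 8, 10, 12] (.cons [14, 12, 6, 2, 4, 6, 12, 6, 8, 10, 8, 6, 12, 14, 4, 6, 0, 2] .nil .nil) .nil) (.cons [10, 8, 2, 4, 6, 16, 18, 12, 6, 8, 10, 4, 6, 8, 2, 4, 6, 16, 0, 2, 4, 6, 8, 10, 12, 14] (.cons [14, 16, 4, 6, 14, 8, 10, 6, 8, 2, 4, 6, 14, 16, 6, 8, 10, 4, 6, 8, 2, 4, 6, 14, 0, 2, 4, 6, 8, 10, 12] (.cons [14, 8, 6, 10, 2, 4, 6, 0, 2, 4] .nil .nil) .nil) (.cons [14, 12, 10, 8, 6, 16, 18, 12, 6, 8, 10, 4, 6, 8, 2, 4, 6, 16, 0, 2, 4, 6, 8, 10, 12, 14] .nil (.cons [10, 8, 6, 16, 18, 12, 14, 10, 12, 8, 10, 4, 6, 8, 2, 4, 6, 16, 0, 2, 4, 6, 8, 10, 12, 14] .nil (.cons [12, 10, 8, 6, 16, 18, 16, 10, 12, 8, 10, 4, 6, 8, 2, 4, 6, 16, 0, 2, 4, 6, 8, 10,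 12, 14] (.cons [8, 4, 6, 14, 16, 10, 8, 0, 2, 4, 6, 14, 10, 12, 8, 10, 4, 6, 8, 2, 4, 6, 14, 16, 8, 10, 6, 8, 2, 4, 6, 14, 0, 2, 4, 6, 8, 10, 12] (.cons [14, 10, 2, 4, 0, 2, 4] .nil .nil) .nil) (.cons [16, 6, 8, 4, 6, 16, 18, 10, 12, 8, 10, 4, 6, 8, 2, 4, 6, 16, 0, 2, 4, 6, 8, 10, 12, 14] .nil (.cons [12, 10, 8, 4, 6, 16, 18, 10, 12, 8, 10, 4, 6, 8, 2, 4, 6, 16, 0, 2, 4, 6, 8, 10, 12, 14] (.cons [4, 6, 8, 2, 12, 10, 16, 14, 8, 6, 14, 16, 4, 6, 14, 8, 10, 12, 6, 8, 10, 4, 6, 8, 2, 4, 6, 14, 16, 6, 8, 4, 6, 14, 0, 2, 4, 6, 8, 10, 12] (.cons [14, 4, 8, 6, 4, 10, 0, 2, 4, 6, 8, 10] .nil .nil) .nil) (.cons [14, 12, 10, 8, 6, 16, 18, 10, 12, 8, 10, 4, 6, 8, 2, 4, 6, 16, 0, 2, 4, 6, 8, 10, 12, 14] (.cons [2, 4, 0,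 2, 6, 14, 4, 6, 8, 10, 16, 14, 8, 6, 14, 16, 4, 6, 14, 8, 10, 12, 6, 8, 10, 4, 6, 8, 2, 4, 6, 14, 16, 6, 8, 4, 6, 14, 0, 2, 4, 6, 8, 10, 12] (.cons [10, 8, 4, 6, 12, 8, 10, 14, 12, 6, 4, 2, 8, 6] .nil .nil) .nil) (.cons [12, 10, 8, 6, 16, 18, 16, 14, 12, 8, 10, 4, 6, 8, 2, 4, 6, 16, 0, 2, 4, 6, 8, 10, 12, 14] (.cons [10, 6, 8, 4, 6, 14, 16, 6, 8, 4, 6, 14, 8, 10, 12, 6, 8, 10, 4, 6, 8, 2, 4, 6, 14, 16, 8, 10, 4, 6, 8, 2, 4, 6, 14, 0, 2, 4, 6, 8, 10, 12] (.cons [2, 4, 6, 12, 8, 6, 10, 4, 2, 4, 12, 14] .nil .nil) .nil) (.cons [10, 8, 2, 4, 6, 16, 18, 14, 12, 8, 10, 4, 6, 8, 2, 4, 6, 16, 0, 2, 4, 6, 8, 10, 12, 14] (.cons [10, 6, 8, 4, 6, 14, 16, 14, 12, 10, 6, 8, 2, 4, 6, 14, 0, 2, 4, 6, 8, 10, 12] (.cons [6, 12,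 14, 8, 2, 4, 6, 4, 0, 2, 4, 6, 8, 10] .nil .nil) .nil) (.cons [14, 12, 10, 8, 6, 16, 18, 14, 12, 8, 10, 4, 6, 8, 2, 4, 6, 16, 0, 2, 4, 6, 8, 10, 12, 14] (.cons [14, 16, 12, 10, 8, 6, 14, 8, 10, 4, 6, 8, 2, 4, 6, 14, 16, 10, 8, 2, 4, 6, 14, 0, 2, 4, 6, 8, 10, 12] (.cons [6, 8, 0, 2, 4, 6, 12, 14, 6, 8, 4, 6, 2, 4, 0, 2, 4, 6, 8, 10] .nil .nil) .nil) (.cons [10, 8, 2, 4, 6, 16, 18, 16, 12, 8, 10, 4, 6, 8, 2, 4, 6, 16, 0, 2, 4, 6, 8, 10, 12, 14] (.cons [8, 10, 12, 6, 8, 10, 4, 6, 8, 0, 2, 4, 6, 14, 16, 8, 10, 4, 6, 8, 2, 4, 6, 14, 0, 2, 4, 6, 8, 10, 12] .nil .nil) (.cons [12, 10, 8, 4, 6, 16, 18, 16, 12, 8, 10, 4, 6, 8, 2, 4, 6, 16, 0, 2, 4, 6, 8, 10, 12, 14] (.cons [14, 16, 6, 14, 6, 8, 10, 4, 6, 8, 0, 2, 4, 6,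 14, 16, 8, 10, 6, 8, 2, 4, 6, 14, 0, 2, 4, 6, 8, 10, 12] .nil .nil) (.cons [6, 8, 0, 2, 4, 6, 16, 18, 12, 8, 10, 4, 6, 8, 2, 4, 6, 16, 0, 2, 4, 6, 8, 10, 12, 14] (.cons [6, 14, 16, 10, 8, 6, 14, 8, 10, 4, 6, 8, 2, 4, 6, 14, 16, 10, 4, 6, 8, 2, 4, 6, 14, 0, 2, 4, 6, 8, 10, 12] (.cons [14, 6, 2, 0, 4, 2, 6, 8] .nil .nil) .nil) (.cons [4, 6, 8, 2, 4, 6, 16, 18, 12, 8, 10, 4, 6, 8, 2, 4, 6, 16, 0, 2, 4, 6, 8, 10, 12, 14] (.cons [2, 4, 6, 14, 16, 14, 10, 6, 8, 2, 4, 6, 14, 10, 12, 8, 10, 4, 6, 8, 2, 4, 6, 14, 16, 8, 10, 6, 8, 2, 4, 6, 14, 0, 2, 4, 6, 8, 10, 12] .nil .nil) (.cons [12, 10, 8, 2, 4, 6, 16, 18, 12, 8, 10, 4, 6, 8, 2, 4, 6, 16, 0, 2, 4, 6, 8, 10, 12, 14] (.cons [6, 14, 16, 8, 6, 14, 10, 2, 4, 6, 8, 0,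 2, 4, 6, 14, 16, 8, 10, 4, 6, 8, 2, 4, 6, 14, 0, 2, 4, 6, 8, 10, 12] (.cons [14, 8, 0, 12, 6, 4, 2, 6, 8, 4, 6, 10] .nil .nil) .nil) (.cons [16, 10, 6, 8, 4, 6, 16, 18, 12, 8, 10, 4, 6, 8, 2, 4, 6, 16, 0, 2, 4, 6, 8, 10, 12, 14] (.cons [0, 2, 4, 6, 14, 12, 8, 10, 4, 6, 8, 0, 2, 4, 6, 14, 16, 10, 8, 2, 4, 6, 14, 0, 2, 4, 6, 8, 10, 12] (.cons [2, 4, 0, 2, 6, 12, 6, 4, 14, 12] .nil .nil) .nil) (.cons [4, 6, 8, 2, 4, 6, 16, 18, 16, 8, 10, 4, 6, 8, 2, 4, 6, 16, 0, 2, 4, 6, 8, 10, 12, 14] (.cons [10, 8, 4, 14, 16, 6, 14, 10, 12, 8, 10, 4, 6, 8, 0, 2, 4, 6, 14, 16, 12, 10, 8, 2, 4, 6, 14, 0, 2, 4, 6, 8, 10, 12] (.cons [8, 2, 12, 6, 4, 0, 2, 8, 6, 10, 4] .nil .nil) .nil) (.cons [16, 6, 8, 2, 4, 6, 16, 18, 16, 8, 10,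 4, 6, 8, 2, 4, 6, 16, 0, 2, 4, 6, 8, 10, 12, 14] (.cons [8, 6, 14, 16, 10, 6, 8, 4, 6, 14, 8, 10, 12, 6, 8, 10, 4, 6, 8, 2, 4, 6, 14, 16, 10, 4, 6, 8, 2, 4, 6, 14, 0, 2, 4, 6, 8, 10, 12] (.cons [10, 6, 8, 0, 2, 4, 6, 12, 14, 6, 8, 12, 6, 4, 2, 4, 6, 8, 6, 10, 4] .nil .nil) .nil) (.cons [12, 10, 8, 2, 4, 6, 16, 18, 16, 8, 10, 4, 6, 8, 2, 4, 6, 16, 0, 2, 4, 6, 8, 10, 12, 14] (.cons [14, 8, 10, 6, 8, 4, 6, 14, 16, 12, 10, 6, 8, 4, 6, 14, 2, 4, 6, 8, 10, 12] (.cons [2, 4, 0, 2, 8, 6, 12, 6, 4, 14, 12] .nil .nil) .nil) (.cons [8, 10, 6, 8, 4, 6, 16, 18, 16, 8, 10, 4, 6, 8, 2, 4, 6, 16, 0, 2, 4, 6, 8, 10, 12, 14] (.cons [4, 6, 14, 16, 10, 8, 10, 12, 10, 8, 4, 6, 14, 6, 8, 10, 4, 6, 8, 2, 4, 6, 14, 16, 12, 10, 6, 8,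 2, 4, 6, 14, 0, 2, 4, 6, 8, 10, 12] (.cons [8, 2, 4, 6, 12, 14, 10, 8, 4, 6, 4, 2, 8, 6, 10, 4] .nil .nil) .nil) (.cons [4, 6, 8, 0, 2, 4, 6, 16, 18, 8, 10, 4, 6, 8, 2, 4, 6, 16, 0, 2, 4, 6, 8, 10, 12, 14] (.cons [14, 16, 6, 14, 10, 12, 6, 8, 10, 4, 6, 8, 2, 4, 6, 14, 16, 14, 12, 10, 6, 8, 2, 4, 6, 14, 0, 2, 4, 6, 8, 10, 12] (.cons [6, 12, 10, 8, 6, 4, 2, 8, 10, 12, 6, 4, 12, 14] .nil .nil) .nil) (.cons [16, 6, 8, 0, 2, 4, 6, 16, 18, 8, 10, 4, 6, 8, 2, 4, 6, 16, 0, 2, 4, 6, 8, 10, 12, 14] (.cons [6, 14, 16, 14, 6, 8, 4, 10, 2, 4, 6, 14, 12, 8, 10, 6, 8, 4, 6, 14, 16, 14, 12, 10, 6, 8, 2, 4, 6, 14, 0, 2, 4, 6, 8, 10, 12] (.cons [0, 2, 4, 6, 12, 14, 8, 4, 6, 4, 2, 8, 6, 10, 4] (.cons [5, 3, 4, 4, 1] (.cons [2,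 0, 3] (.cons [] (.leaf 2) .nil) .nil) .nil) .nil) .nil) (.cons [16, 4, 6, 8, 2, 4, 6, 16, 18, 8, 10, 4, 6, 8, 2, 4, 6, 16, 0, 2, 4, 6, 8, 10, 12, 14] (.cons [10, 8, 6, 14, 10, 4, 6, 8, 2, 4, 6, 14, 16, 10, 8, 2, 4, 6, 14, 0, 2, 4, 6, 8, 10, 12] (.cons [8, 0, 2, 4, 6, 12, 14, 8, 6, 0, 2, 8, 10, 4, 6, 0, 2] .nil .nil) .nil) (.cons [8, 10, 6, 8, 2, 4, 6, 16, 18, 8, 10, 4, 6, 8, 2, 4, 6, 16, 0, 2, 4, 6, 8, 10, 12, 14] (.cons [4, 6, 14, 16, 12, 10, 8, 6, 4, 2, 6, 14, 8, 4, 6, 14, 10, 12, 8, 10, 6, 8, 4, 6, 14, 16, 8, 2, 4, 6, 14, 0, 2, 4, 6, 8, 10, 12] (.cons [8, 4, 6, 12, 14, 10, 6, 8, 12, 6, 4, 0, 2, 8, 10] .nil .nil) .nil) (.cons [18, 16, 6, 8, 2, 4, 6, 16, 18, 8, 10, 4, 6, 8, 2, 4, 6, 16, 0, 2, 4, 6, 8, 10, 12,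 14] (.cons [6, 8, 2, 4, 6, 14, 16, 10, 8, 2, 4, 6, 14, 10, 12, 8, 10, 4, 6, 8, 2, 4, 6, 14, 16, 10, 6, 8, 2, 4, 6, 14, 0, 2, 4, 6, 8, 10, 12] (.cons [4, 2, 14, 8, 6, 12, 6, 4, 14, 12] .nil .nil) .nil) (.cons [14, 12, 10, 8, 2, 4, 6, 16, 18, 8, 10, 4, 6, 8, 2, 4, 6, 16, 0, 2, 4, 6, 8, 10, 12, 14] (.cons [16, 14, 12, 8, 10, 6, 8, 4, 6, 14, 16, 8, 2, 4, 6, 14, 0, 2, 4, 6, 8, 10, 12] .nil .nil) (.cons [0, 2, 4, 6, 16, 18, 6, 16, 14, 12, 10, 4, 6, 8, 2, 4, 6, 16, 0, 2, 4, 6, 8, 10, 12, 14] (.cons [14, 10, 6, 8, 0, 2, 4, 6, 14, 16, 12, 8, 10, 6, 8, 4, 6, 14, 0, 2, 4, 6, 8, 10, 12] (.cons [4, 14, 12, 6, 4, 0, 2, 8, 10, 12, 14] .nil .nil) .nil) (.cons [6, 8, 4, 6, 16, 18, 6, 16, 14, 12, 10, 4, 6, 8, 2, 4, 6, 16, 0,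 2, 4, 6, 8, 10, 12, 14] (.cons [14, 16, 10, 8, 6, 14, 6, 8, 10, 4, 6, 8, 2, 4, 6, 14, 16, 14, 12, 10, 4, 6, 8, 2, 4, 6, 14, 0, 2, 4, 6, 8, 10, 12] (.cons [2, 4, 6, 12, 14, 12, 10, 8, 6, 4, 0, 2, 4, 8, 10] .nil .nil) .nil) (.cons [10, 8, 4, 6, 16, 18, 6, 16, 14, 12, 10, 4, 6, 8, 2, 4, 6, 16, 0, 2, 4, 6, 8, 10, 12, 14] (.cons [2, 4, 6, 14, 16, 12, 10, 6, 8, 2, 4, 6, 14, 0, 2, 4, 6, 8, 10, 12] .nil .nil) (.cons [6, 8, 2, 4, 6, 16, 18, 16, 14, 12, 10, 4, 6, 8, 2, 4, 6, 16, 0, 2, 4, 6, 8, 10, 12, 14] (.cons [16, 6, 14, 8, 10, 6, 8, 2, 4, 6, 14, 16, 12, 6, 8, 10, 4, 6, 8, 2, 4, 6, 14, 0, 2, 4, 6, 8, 10, 12] .nil .nil) (.cons [10, 8, 2, 4, 6, 16, 18, 16, 14, 12, 10, 4, 6, 8, 2, 4, 6, 16, 0, 2, 4, 6, 8, 10, 12, 14]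 (.cons [4, 6, 14, 6, 8, 10, 4, 6, 8, 0, 2, 4, 6, 14, 16, 12, 10, 4, 6, 8, 2, 4, 6, 14, 0, 2, 4, 6, 8, 10, 12] .nil .nil) (.cons [16, 6, 8, 4, 6, 16, 18, 16, 14, 12, 10, 4, 6, 8, 2, 4, 6, 16, 0, 2, 4, 6, 8, 10, 12, 14] (.cons [16, 0, 2, 4, 6, 14, 8, 10, 6, 8, 4, 6, 14, 16, 6, 14, 12, 8, 10, 6, 8, 2, 4, 6, 14, 0, 2, 4, 6, 8, 10, 12] .nil .nil) (.cons [10, 8, 0, 2, 4, 6, 16, 18, 14, 12, 10, 4, 6, 8, 2, 4, 6, 16, 0, 2, 4, 6, 8, 10, 12, 14] (.cons [14, 10, 6, 8, 0, 2, 4, 6, 14, 16, 12, 6, 8, 10, 4, 6, 8, 2, 4, 6, 14, 0, 2, 4, 6, 8, 10, 12] .nil .nil) (.cons [12, 10, 8, 2, 4, 6, 16, 18, 14, 12, 10, 4, 6, 8, 2, 4, 6, 16, 0, 2, 4, 6, 8, 10, 12, 14] (.cons [14, 8, 10, 12, 6, 8, 10, 4, 6, 8, 0, 2, 4, 6, 14, 16, 14, 6,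 8, 4, 6, 14, 0, 2, 4, 6, 8, 10, 12] (.cons [0, 2, 4, 6, 12, 14, 12, 10, 4, 6, 8, 10, 12, 6, 4, 2, 4] .nil .nil) .nil) (.cons [12, 10, 6, 8, 4, 6, 16, 18, 14, 12, 10, 4, 6, 8, 2, 4, 6, 16, 0, 2, 4, 6, 8, 10, 12, 14] (.cons [12, 10, 6, 8, 0, 2, 4, 6, 14, 16, 6, 8, 4, 6, 14, 8, 10, 12, 6, 8, 10, 4, 6, 8, 2, 4, 6, 14, 16, 14, 8, 10, 4, 6, 8, 2, 4, 6, 14, 0, 2, 4, 6, 8, 10, 12] (.cons [10, 2, 4, 6, 12, 6, 4, 14, 12] .nil .nil) .nil) (.cons [8, 0, 2, 4, 6, 16, 18, 6, 16, 12, 10, 4, 6, 8, 2, 4, 6, 16, 0, 2, 4, 6, 8, 10, 12, 14] (.cons [4, 6, 14, 16, 8, 6, 14, 12, 10, 4, 6, 8, 2, 4, 6, 14, 16, 12, 10, 4, 6, 8, 2, 4, 6, 14, 0, 2, 4, 6, 8, 10, 12] (.cons [6, 4, 10, 8, 6, 12, 14, 4, 2, 4, 6, 12, 8, 6, 4, 2, 8, 10, 12]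 (.cons [4, 1, 2, 1, 1] .nil .nil) .nil) .nil) (.cons [4, 6, 8, 2, 4, 6, 16, 18, 16, 12, 10, 4, 6, 8, 2, 4, 6, 16, 0, 2, 4, 6, 8, 10, 12, 14] (.cons [14, 10, 6, 8, 4, 6, 14, 16, 14, 10, 4, 6, 8, 2, 4, 6, 14, 0, 2, 4, 6, 8, 10, 12] (.cons [8, 6, 14, 12, 6, 2, 8, 4, 6, 10, 0, 2, 12, 14] .nil .nil) .nil) (.cons [16, 6, 8, 0, 2, 4, 6, 16, 18, 12, 10, 4, 6, 8, 2, 4, 6, 16, 0, 2, 4, 6, 8, 10, 12, 14] .nil (.cons [12, 10, 6, 8, 2, 4, 6, 16, 18, 12, 10, 4, 6, 8, 2, 4, 6, 16, 0, 2, 4, 6, 8, 10, 12, 14] (.cons [16, 6, 14, 10, 4, 6, 8, 0, 2, 4, 6, 14, 16, 12, 8, 10, 4, 6, 8, 2, 4, 6, 14, 0, 2, 4, 6, 8, 10, 12] (.cons [4, 6, 8, 0, 2, 4, 12, 6, 8, 10, 14, 12, 0, 8, 6, 4, 2, 4, 12, 14] .nil .nil) .nil) (.cons [16, 8, 10, 6,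 8, 4, 6, 16, 18, 12, 10, 4, 6, 8, 2, 4, 6, 16, 0, 2, 4, 6, 8, 10, 12, 14] (.cons [6, 14, 16, 12, 10, 6, 8, 4, 6, 14, 10, 12, 6, 8, 10, 4, 6, 8, 2, 4, 6, 14, 16, 10, 6, 8, 2, 4, 6, 14, 0, 2, 4, 6, 8, 10, 12] (.cons [4, 0, 2, 10, 12, 14, 8, 6, 8, 10] .nil .nil) .nil) (.cons [18, 16, 6, 8, 4, 6, 16, 18, 6, 16, 10, 4, 6, 8, 2, 4, 6, 16, 0, 2, 4, 6, 8, 10, 12, 14] (.cons [16, 14, 8, 10, 4, 6, 8, 2, 4, 6, 14, 16, 14, 8, 10, 6, 8, 2, 4, 6, 14, 0, 2, 4, 6, 8, 10, 12] (.cons [14, 2, 4, 6, 12, 8, 10, 6, 4, 2, 4, 14, 12] .nil .nil) .nil) (.cons [4, 6, 8, 0, 2, 4, 6, 16, 18, 16, 10, 4, 6, 8, 2, 4, 6, 16, 0, 2, 4, 6, 8, 10, 12, 14] (.cons [14, 10, 6, 8, 4, 6, 14, 10, 12, 8, 10, 4, 6, 8, 2, 4, 6, 14, 16, 10, 6, 8, 2, 4, 6,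 14, 0, 2, 4, 6, 8, 10, 12] (.cons [8, 6, 8, 4, 2, 6, 8, 4, 6, 8, 10] .nil .nil) .nil) (.cons [10, 6, 8, 0, 2, 4, 6, 16, 18, 16, 10, 4, 6, 8, 2, 4, 6, 16, 0, 2, 4, 6, 8, 10, 12, 14] (.cons [10, 2, 4, 6, 8, 0, 2, 4, 6, 14, 16, 6, 8, 4, 6, 14, 10, 12, 6, 8, 10, 4, 6, 8, 2, 4, 6, 14, 16, 14, 8, 10, 4, 6, 8, 2, 4, 6, 14, 0, 2, 4, 6, 8, 10, 12] (.cons [4, 10, 2, 0, 8, 6, 4, 2, 12, 6, 4, 14, 12] .nil .nil) .nil) (.cons [16, 6, 8, 0, 2, 4, 6, 16, 18, 16, 10, 4, 6, 8, 2, 4, 6, 16, 0, 2, 4, 6, 8, 10, 12, 14] (.cons [14, 16, 6, 14, 16, 6, 8, 2, 4, 6, 14, 10, 12, 8, 10, 6, 8, 0, 2, 4, 6, 14, 16, 8, 2, 4, 6, 14, 0, 2, 4, 6, 8, 10, 12] (.cons [2, 14, 12, 6, 4, 0, 2, 4, 12, 14] .nil .nil) .nil) (.cons [12, 10, 6, 8, 2, 4,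 6, 16, 18, 16, 10, 4, 6, 8, 2, 4, 6, 16, 0, 2, 4, 6, 8, 10, 12, 14] (.cons [16, 14, 10, 12, 6, 8, 10, 2, 4, 6, 8, 0, 2, 4, 6, 14, 16, 12, 10, 4, 6, 8, 2, 4, 6, 14, 0, 2, 4, 6, 8, 10, 12] .nil .nil) (.cons [14, 12, 10, 8, 2, 4, 6, 16, 18, 16, 10, 4, 6, 8, 2, 4, 6, 16, 0, 2, 4, 6, 8, 10, 12, 14] (.cons [6, 8, 2, 4, 6, 14, 16, 10, 8, 10, 6, 2, 4, 6, 14, 8, 10, 12, 6, 8, 10, 4, 6, 8, 0, 2, 4, 6, 14, 16, 6, 8, 4, 6, 14, 0, 2, 4, 6, 8, 10, 12] (.cons [8, 4, 2, 12, 6, 4, 0, 2, 8, 10] .nil .nil) .nil) (.cons [16, 12, 10, 6, 8, 4, 6, 16, 18, 16, 10, 4, 6, 8, 2, 4, 6, 16, 0, 2, 4, 6, 8, 10, 12, 14] (.cons [8, 6, 14, 16, 10, 8, 6, 14, 12, 8, 10, 4, 6, 8, 2, 4, 6, 14, 16, 12, 8, 10, 4, 6, 8, 2, 4, 6, 14, 0, 2, 4, 6, 8,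 10, 12] (.cons [6, 4, 2, 6, 12, 14, 4, 6] .nil .nil) .nil) (.cons [18, 16, 10, 6, 8, 4, 6, 16, 18, 16, 10, 4, 6, 8, 2, 4, 6, 16, 0, 2, 4, 6, 8, 10, 12, 14] .nil (.cons [10, 4, 6, 8, 0, 2, 4, 6, 16, 18, 10, 4, 6, 8, 2, 4, 6, 16, 0, 2, 4, 6, 8, 10, 12, 14] (.cons [16, 14, 10, 4, 6, 8, 2, 4, 6, 14, 16, 14, 10, 4, 6, 8, 2, 4, 6, 14, 0, 2, 4, 6, 8, 10, 12] (.cons [2, 4, 6, 8, 2, 6, 4, 10, 8, 6, 12, 14, 12, 6, 4] .nil .nil) .nil) (.cons [16, 12, 10, 6, 8, 2, 4, 6, 16, 18, 10, 4, 6, 8, 2, 4, 6, 16, 0, 2, 4, 6, 8, 10, 12, 14] (.cons [10, 8, 0, 2, 4, 6, 14, 16, 8, 2, 4, 6, 14, 10, 12, 8, 10, 4, 6, 8, 0, 2, 4, 6, 14, 16, 12, 10, 4, 6, 8, 2, 4, 6, 14, 0, 2, 4, 6, 8, 10, 12] (.cons [12, 14, 2, 12, 6, 4, 2, 10, 8, 6, 8,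 10] (.cons [1, 3, 4] .nil .nil) .nil) .nil) (.cons [18, 16, 10, 6, 8, 2, 4, 6, 16, 18, 10, 4, 6, 8, 2, 4, 6, 16, 0, 2, 4, 6, 8, 10, 12, 14] (.cons [8, 0, 2, 4, 6, 14, 16, 12, 10, 8, 6, 14, 10, 12, 8, 10, 4, 6, 8, 2, 4, 6, 14, 16, 12, 10, 4, 6, 8, 2, 4, 6, 14, 0, 2, 4, 6, 8, 10, 12] (.cons [2, 4, 6, 12, 10, 6, 8, 6, 2, 4, 6, 0, 2, 8, 10, 12, 14] .nil .nil) .nil) (.cons [16, 12, 8, 10, 6, 8, 4, 6, 16, 18, 10, 4, 6, 8, 2, 4, 6, 16, 0, 2, 4, 6, 8, 10, 12, 14] (.cons [14, 10, 8, 6, 4, 2, 14, 10, 12, 8, 10, 6, 8, 4, 6, 14, 16, 10, 6, 8, 4, 6, 14, 0, 2, 4, 6, 8, 10, 12] (.cons [4, 12, 2, 10, 8, 4, 6, 12, 14, 8, 6, 4, 12] .nil .nil) .nil) (.cons [6, 16, 8, 10, 6, 8, 4, 6, 16, 18, 10, 4, 6, 8, 2, 4, 6, 16, 0, 2, 4, 6,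 8, 10, 12, 14] (.cons [14, 6, 8, 4, 6, 14, 16, 10, 8, 4, 6, 14, 8, 10, 12, 6, 8, 10, 4, 6, 8, 0, 2, 4, 6, 14, 16, 10, 4, 6, 8, 2, 4, 6, 14, 0, 2, 4, 6, 8, 10, 12] (.cons [14, 0, 12, 4, 2, 6, 8, 10, 12] .nil .nil) .nil) (.cons [18, 16, 8, 10, 6, 8, 4, 6, 16, 18, 10, 4, 6, 8, 2, 4, 6, 16, 0, 2, 4, 6, 8, 10, 12, 14] (.cons [6, 8, 0, 2, 4, 6, 14, 16, 6, 8, 4, 6, 14, 10, 12, 6, 8, 10, 4, 6, 8, 2, 4, 6, 14, 16, 14, 12, 10, 6, 8, 2, 4, 6, 14, 0, 2, 4, 6, 8, 10, 12] (.cons [14, 2, 4, 6, 8, 0, 4, 12, 6, 4, 2, 8, 10] (.cons [5, 0, 4] .nil .nil) .nil) .nil) (.cons [8, 10, 6, 8, 2, 4, 6, 16, 18, 6, 16, 4, 6, 8, 2, 4, 6, 16, 0, 2, 4, 6, 8, 10, 12, 14] (.cons [10, 8, 6, 14, 16, 12, 10, 14, 6, 2, 4, 6, 14, 8, 10, 12, 6, 8,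 10, 4, 6, 8, 2, 4, 6, 14, 16, 14, 6, 8, 4, 6, 14, 0, 2, 4, 6, 8, 10, 12] .nil .nil) (.cons [12, 10, 6, 8, 2, 4, 6, 16, 18, 6, 16, 4, 6, 8, 2, 4, 6, 16, 0, 2, 4, 6, 8, 10, 12, 14] (.cons [16, 6, 14, 12, 8, 10, 4, 6, 8, 0, 2, 4, 6, 14, 16, 12, 10, 6, 8, 2, 4, 6, 14, 0, 2, 4, 6, 8, 10, 12] (.cons [2, 4, 6, 12, 14, 6, 4, 8, 12, 6, 4, 0, 2, 4, 8, 10] .nil .nil) .nil) (.cons [12, 8, 10, 6, 8, 4, 6, 16, 18, 6, 16, 4, 6, 8, 2, 4, 6, 16, 0, 2, 4, 6, 8, 10, 12, 14] .nil (.cons [12, 10, 4, 6, 8, 2, 4, 6, 16, 18, 16, 4, 6, 8, 2, 4, 6, 16, 0, 2, 4, 6, 8, 10, 12, 14] (.cons [6, 8, 10, 4, 6, 8, 2, 4, 6, 14, 16, 14, 12, 10, 6, 8, 2, 4, 6, 14, 0, 2, 4, 6, 8, 10, 12] .nil .nil) (.cons [16, 8, 10, 6, 8, 2, 4, 6, 16, 18, 16, 4,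 6, 8, 2, 4, 6, 16, 0, 2, 4, 6, 8, 10, 12, 14] (.cons [14, 16, 12, 10, 8, 4, 6, 14, 12, 6, 8, 10, 4, 6, 8, 2, 4, 6, 14, 16, 10, 6, 8, 2, 4, 6, 14, 0, 2, 4, 6, 8, 10, 12] (.cons [12, 10, 2, 14, 12] .nil .nil) .nil) (.cons [16, 12, 10, 6, 8, 2, 4, 6, 16, 18, 16, 4, 6, 8, 2, 4, 6, 16, 0, 2, 4, 6, 8, 10, 12, 14] (.cons [0, 2, 4, 6, 14, 16, 8, 0, 2, 4, 6, 14, 10, 12, 8, 10, 4, 6, 8, 2, 4, 6, 14, 16, 8, 10, 4, 6, 8, 2, 4, 6, 14, 0, 2, 4, 6, 8, 10, 12] (.cons [8, 6, 12, 14, 0, 6, 12, 4, 6, 2, 8, 10, 6, 8, 12] .nil .nil) .nil) (.cons [10, 12, 8, 10, 6, 8, 4, 6, 16, 18, 16, 4, 6, 8, 2, 4, 6, 16, 0, 2, 4, 6, 8, 10, 12, 14] .nil (.cons [18, 16, 8, 10, 6, 8, 4, 6, 16, 18, 16, 4, 6, 8, 2, 4, 6, 16, 0, 2, 4, 6, 8, 10, 12,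 14] (.cons [8, 4, 6, 14, 16, 8, 14, 6, 8, 2, 4, 6, 14, 8, 10, 12, 6, 8, 10, 4, 6, 8, 2, 4, 6, 14, 16, 6, 8, 2, 4, 6, 14, 0, 2, 4, 6, 8, 10, 12] .nil .nil) (.cons [18, 16, 12, 10, 6, 8, 4, 6, 16, 18, 16, 4, 6, 8, 2, 4, 6, 16, 0, 2, 4, 6, 8, 10, 12, 14] .nil (.cons [16, 12, 10, 6, 8, 0, 2, 4, 6, 16, 18, 4, 6, 8, 2, 4, 6, 16, 0, 2, 4, 6, 8, 10, 12, 14] (.cons [14, 16, 6, 14, 4, 8, 6, 14, 10, 8, 6, 4, 2, 6, 14, 12, 8, 10, 6, 8, 4, 6, 14, 16, 12, 10, 8, 4, 6, 14, 0, 2, 4, 6, 8, 10, 12] (.cons [4, 6, 2, 4, 8, 10, 12, 6, 4, 12, 14] .nil .nil) .nil) (.cons [18, 16, 12, 10, 6, 8, 2, 4, 6, 16, 18, 4, 6, 8, 2, 4, 6, 16, 0, 2, 4, 6, 8, 10, 12, 14] (.cons [4, 0, 16, 2, 4, 6, 14, 10, 12, 8, 10, 6, 8, 4, 6, 14, 16, 10, 8,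 2, 4, 6, 14, 0, 2, 4, 6, 8, 10, 12] (.cons [8, 4, 6, 12, 8, 4, 0, 2, 10, 14, 8, 12] (.cons [0, 2, 1, 4, 3] .nil .nil) .nil) .nil) (.cons [4, 6, 16, 8, 10, 6, 8, 4, 6, 16, 18, 4, 6, 8, 2, 4, 6, 16, 0, 2, 4, 6, 8, 10, 12, 14] (.cons [12, 10, 8, 6, 14, 4, 6, 8, 2, 4, 6, 14, 16, 14, 10, 4, 6, 8, 2, 4, 6, 14, 0, 2, 4, 6, 8, 10, 12] (.cons [8, 10, 6, 4, 0, 2, 4, 6, 12, 14, 12] .nil .nil) .nil) (.cons [18, 16, 14, 12, 10, 6, 8, 4, 6, 16, 18, 4, 6, 8, 2, 4, 6, 16, 0, 2, 4, 6, 8, 10, 12, 14] (.cons [2, 4, 6, 14, 16, 12, 8, 10, 6, 8, 0, 2, 4, 6, 14, 12, 8, 10, 6, 8, 0, 2, 4, 6, 14, 16, 12, 10, 8, 2, 4, 6, 14, 0, 2, 4, 6, 8, 10, 12] (.cons [10, 8, 4, 6, 12, 4, 0, 2, 8, 10, 14, 12] .nil .nil) .nil) (.cons [16, 18, 10, 8,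 6, 16, 12, 14, 10, 12, 8, 10, 6, 8, 2, 4, 6, 16, 0, 2, 4, 6, 8, 10, 12, 14] (.cons [6, 14, 16, 8, 4, 6, 14, 8, 10, 12, 6, 8, 10, 4, 6, 8, 0, 2, 4, 6, 14, 16, 12, 10, 4, 6, 8, 2, 4, 6, 14, 0, 2, 4, 6, 8, 10, 12] (.cons [14, 2, 0, 12, 6, 4, 2, 4, 12] .nil .nil) .nil) (.cons [16, 6, 8, 4, 6, 16, 18, 14, 10, 12, 8, 10, 6, 8, 2, 4, 6, 16, 0, 2, 4, 6, 8, 10, 12, 14] .nil (.cons [12, 10, 8, 4, 6, 16, 18, 14, 10, 12, 8, 10, 6, 8, 2, 4, 6, 16, 0, 2, 4, 6, 8, 10, 12, 14] (.cons [14, 10, 4, 6, 8, 2, 4, 6, 14, 16, 10, 8, 4, 6, 14, 8, 10, 12, 6, 8, 10, 4, 6, 8, 2, 4, 6, 14, 16, 12, 10, 4, 6, 8, 2, 4, 6, 14, 0, 2, 4, 6, 8, 10, 12] (.cons [12, 14, 0, 2, 8, 4, 6, 10] .nil .nil) .nil) (.cons [8, 4, 6, 16, 18, 8, 6, 16, 10, 12,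 8, 10, 6, 8, 2, 4, 6, 16, 0, 2, 4, 6, 8, 10, 12, 14] (.cons [10, 8, 6, 14, 16, 8, 2, 4, 6, 14, 10, 12, 6, 8, 10, 4, 6, 8, 2, 4, 6, 14, 16, 12, 10, 6, 8, 2, 4, 6, 14, 0, 2, 4, 6, 8, 10, 12] (.cons [2, 6, 12, 10, 14, 12, 6, 8, 4, 6, 10] .nil .nil) .nil) (.cons [12, 10, 8, 6, 16, 18, 6, 16, 10, 12, 8, 10, 6, 8, 2, 4, 6, 16, 0, 2, 4, 6, 8, 10, 12, 14] (.cons [10, 2, 8, 6, 4, 2, 0, 10, 12, 6, 8, 10, 4, 6, 8, 2, 4, 6, 14, 16, 6, 8, 4, 6, 14, 2, 4, 6, 8, 10, 12] (.cons [14, 6, 8, 10, 12, 8, 6, 12, 2, 4, 0, 2, 14, 12] .nil .nil) .nil) (.cons [16, 10, 6, 8, 4, 6, 16, 18, 10, 12, 8, 10, 6, 8, 2, 4, 6, 16, 0, 2, 4, 6, 8, 10, 12, 14] (.cons [12, 10, 6, 8, 4, 6, 14, 16, 14, 8, 10, 6, 8, 2, 4, 6, 14, 0, 2, 4, 6, 8, 10, 12]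 (.cons [0, 2, 4, 6, 12, 10, 8, 6, 4, 2, 8, 10, 12, 6, 4, 12, 14] (.cons [1, 2, 5, 1, 1, 2] .nil .nil) .nil) .nil) (.cons [6, 8, 2, 4, 6, 16, 18, 16, 14, 12, 8, 10, 6, 8, 2, 4, 6, 16, 0, 2, 4, 6, 8, 10, 12, 14] (.cons [16, 0, 2, 4, 6, 14, 8, 10, 4, 6, 8, 2, 4, 6, 14, 16, 14, 12, 10, 6, 8, 2, 4, 6, 14, 0, 2, 4, 6, 8, 10, 12] (.cons [10, 8, 4, 14, 0, 6, 12, 4, 6, 2, 8, 10, 6, 8, 12] .nil .nil) .nil) (.cons [10, 6, 8, 4, 6, 16, 18, 6, 16, 12, 8, 10, 6, 8, 2, 4, 6, 16, 0, 2, 4, 6, 8, 10, 12, 14] (.cons [2, 4, 6, 14, 8, 10, 12, 6, 8, 10, 4, 6, 8, 2, 4, 6, 14, 16, 14, 8, 10, 4, 6, 8, 2, 4, 6, 14, 0, 2, 4, 6, 8, 10, 12] (.cons [14, 0, 4, 2, 12, 6, 4, 12] .nil .nil) .nil) (.cons [12, 10, 8, 4, 6, 16, 18, 6, 16, 12, 8,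 10, 6, 8, 2, 4, 6, 16, 0, 2, 4, 6, 8, 10, 12, 14] .nil (.cons [14, 12, 10, 8, 6, 16, 18, 6, 16, 12, 8, 10, 6, 8, 2, 4, 6, 16, 0, 2, 4, 6, 8, 10, 12, 14] (.cons [16, 14, 12, 8, 10, 6, 8, 2, 4, 6, 14, 16, 14, 8, 10, 6, 8, 2, 4, 6, 14, 0, 2, 4, 6, 8, 10, 12] (.cons [8, 4, 10, 12, 8, 6, 4, 12, 14] .nil .nil) .nil) (.cons [12, 10, 8, 2, 4, 6, 16, 18, 16, 12, 8, 10, 6, 8, 2, 4, 6, 16, 0, 2, 4, 6, 8, 10, 12, 14] (.cons [10, 8, 10, 6, 14, 6, 4, 2, 8, 4, 6, 14, 10, 12, 8, 10, 6, 8, 4, 6, 14, 16, 8, 2, 4, 6, 14, 0, 2, 4, 6, 8, 10, 12] (.cons [2, 4, 12, 6, 14, 12, 8, 6, 4, 2, 6, 8, 10, 12, 14, 6, 4] .nil .nil) .nil) (.cons [4, 6, 8, 0, 2, 4, 6, 16, 18, 12, 8, 10, 6, 8, 2, 4, 6, 16, 0, 2, 4, 6, 8, 10, 12, 14] (.cons [4,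 6, 14, 16, 10, 8, 2, 4, 6, 14, 0, 2, 4, 6, 8, 10, 12] .nil .nil) (.cons [12, 10, 8, 0, 2, 4, 6, 16, 18, 12, 8, 10, 6, 8, 2, 4, 6, 16, 0, 2, 4, 6, 8, 10, 12, 14] (.cons [6, 8, 2, 4, 6, 14, 10, 12, 8, 10, 6, 8, 2, 4, 6, 14, 16, 10, 6, 8, 2, 4, 6, 14, 0, 2, 4, 6, 8, 10, 12] .nil .nil) (.cons [8, 10, 6, 8, 2, 4, 6, 16, 18, 12, 8, 10, 6, 8, 2, 4, 6, 16, 0, 2, 4, 6, 8, 10, 12, 14] (.cons [12, 10, 6, 8, 2, 4, 6, 14, 16, 14, 12, 10, 6, 8, 4, 6, 14, 0, 2, 4, 6, 8, 10, 12] .nil .nil) (.cons [14, 12, 10, 8, 2, 4, 6, 16, 18, 12, 8, 10, 6, 8, 2, 4, 6, 16, 0, 2, 4, 6, 8, 10, 12, 14] .nil (.cons [8, 10, 6, 8, 4, 6, 16, 18, 6, 16, 8, 10, 6, 8, 2, 4, 6, 16, 0, 2, 4, 6, 8, 10, 12, 14] (.cons [16, 10, 2, 4, 6, 14, 12, 8, 10, 6,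 8, 4, 6, 14, 16, 14, 12, 10, 6, 8, 2, 4, 6, 14, 0, 2, 4, 6, 8, 10, 12] .nil .nil) (.cons [16, 10, 6, 8, 4, 6, 16, 18, 6, 16, 8, 10, 6, 8, 2, 4, 6, 16, 0, 2, 4, 6, 8, 10, 12, 14] .nil (.cons [10, 4, 6, 8, 2, 4, 6, 16, 18, 16, 8, 10, 6, 8, 2, 4, 6, 16, 0, 2, 4, 6, 8, 10, 12, 14] .nil (.cons [14, 12, 10, 8, 2, 4, 6, 16, 18, 16, 8, 10, 6, 8, 2, 4, 6, 16, 0, 2, 4, 6, 8, 10, 12, 14] (.cons [6, 14, 12, 8, 10, 6, 8, 2, 4, 6, 14, 16, 12, 10, 8, 2, 4, 6, 14, 0, 2, 4, 6, 8, 10, 12] (.cons [0, 2, 10, 6, 8, 4, 12, 6, 8, 10] .nil .nil) .nil) (.cons [2, 4, 6, 8, 0, 2, 4, 6, 16, 18, 8, 10, 6, 8, 2, 4, 6, 16, 0, 2, 4, 6, 8, 10, 12, 14] (.cons [6, 14, 12, 8, 10, 6, 8, 4, 6, 14, 16, 8, 2, 4, 6, 14, 0, 2, 4, 6, 8, 10, 12] (.cons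 [10, 8, 6, 12, 14, 4, 6, 8, 10, 12, 6, 4, 2, 4] .nil .nil) .nil) (.cons [16, 4, 6, 8, 0, 2, 4, 6, 16, 18, 8, 10, 6, 8, 2, 4, 6, 16, 0, 2, 4, 6, 8, 10, 12, 14] (.cons [8, 0, 2, 4, 6, 14, 16, 8, 10, 4, 6, 2, 0, 4, 2, 14, 16, 8, 6, 14, 10, 12, 8, 10, 6, 8, 4, 6, 14, 16, 8, 2, 4, 6, 14, 0, 2, 4, 6, 8, 10, 12] (.cons [6, 8, 2, 4, 12, 6, 8, 4, 14, 12, 6, 4, 2, 4, 8, 10, 12, 14] .nil .nil) .nil) (.cons [16, 10, 6, 8, 0, 2, 4, 6, 16, 18, 8, 10, 6, 8, 2, 4, 6, 16, 0, 2, 4, 6, 8, 10, 12, 14] (.cons [12, 10, 8, 4, 6, 14, 12, 8, 10, 4, 6, 8, 2, 4, 6, 14, 16, 14, 12, 10, 4, 6, 8, 2, 4, 6, 14, 0, 2, 4, 6, 8, 10, 12] .nil .nil) (.cons [6, 16, 4, 6, 8, 2, 4, 6, 16, 18, 8, 10, 6, 8, 2, 4, 6, 16, 0, 2, 4, 6, 8, 10, 12, 14] (.cons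 [14, 16, 8, 10, 6, 4, 2, 14, 16, 8, 6, 14, 10, 12, 8, 10, 6, 8, 4, 6, 14, 16, 8, 2, 4, 6, 14, 0, 2, 4, 6, 8, 10, 12] (.cons [4, 0, 2, 0, 4, 12, 6, 8, 4, 2, 10, 8] .nil .nil) .nil) (.cons [18, 16, 4, 6, 8, 2, 4, 6, 16, 18, 8, 10, 6, 8, 2, 4, 6, 16, 0, 2, 4, 6, 8, 10, 12, 14] .nil (.cons [12, 8, 10, 6, 8, 2, 4, 6, 16, 18, 8, 10, 6, 8, 2, 4, 6, 16, 0, 2, 4, 6, 8, 10, 12, 14] (.cons [16, 2, 4, 6, 14, 12, 8, 10, 6, 8, 4, 6, 14, 16, 10, 4, 6, 8, 2, 4, 6, 14, 0, 2, 4, 6, 8, 10, 12] .nil .nil) (.cons [14, 12, 10, 6, 8, 2, 4, 6, 16, 18, 8, 10, 6, 8, 2, 4, 6, 16, 0, 2, 4, 6, 8, 10, 12, 14] (.cons [10, 8, 6, 14, 16, 2, 4, 6, 14, 12, 8, 10, 4, 6, 8, 2, 4, 6, 14, 16, 12, 10, 4, 6, 8, 2, 4, 6, 14, 0, 2, 4, 6, 8, 10, 12] (.cons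 [8, 0, 2, 4, 6, 12, 8, 10, 0, 8, 6, 4, 2, 4, 12, 14] .nil .nil) .nil) (.cons [18, 16, 10, 6, 8, 2, 4, 6, 16, 18, 8, 10, 6, 8, 2, 4, 6, 16, 0, 2, 4, 6, 8, 10, 12, 14] (.cons [10, 8, 6, 14, 16, 10, 14, 6, 4, 8, 6, 14, 10, 12, 8, 10, 4, 6, 8, 0, 2, 4, 6, 14, 16, 10, 8, 2, 4, 6, 14, 0, 2, 4, 6, 8, 10, 12] (.cons [12, 14, 8, 4, 2, 12, 6, 8, 4, 6, 2, 8, 10] .nil .nil) .nil) (.cons [10, 12, 8, 10, 6, 8, 4, 6, 16, 18, 8, 10, 6, 8, 2, 4, 6, 16, 0, 2, 4, 6, 8, 10, 12, 14] (.cons [14, 16, 6, 14, 10, 2, 4, 6, 8, 0, 2, 4, 6, 14, 16, 8, 10, 4, 6, 8, 2, 4, 6, 14, 0, 2, 4, 6, 8, 10, 12] (.cons [6, 8, 2, 6, 10, 8] .nil .nil) .nil) (.cons [18, 16, 8, 10, 6, 8, 4, 6, 16, 18, 8, 10, 6, 8, 2, 4, 6, 16, 0, 2, 4, 6, 8, 10, 12, 14]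 (.cons [10, 6, 8, 2, 4, 6, 14, 16, 10, 12, 8, 10, 6, 8, 4, 6, 14, 0, 2, 4, 6, 8, 10, 12] (.cons [8, 4, 6, 12, 14, 8, 6, 4, 2, 4, 6, 10] .nil .nil) .nil) (.cons [16, 14, 12, 10, 6, 8, 4, 6, 16, 18, 8, 10, 6, 8, 2, 4, 6, 16, 0, 2, 4, 6, 8, 10, 12, 14] (.cons [16, 14, 8, 10, 12, 6, 8, 10, 4, 6, 8, 2, 4, 6, 14, 16, 14, 8, 10, 6, 8, 2, 4, 6, 14, 0, 2, 4, 6, 8, 10, 12] (.cons [6, 8, 6, 2, 10, 12, 14, 6, 4, 2, 8, 6] .nil .nil) .nil) (.cons [18, 16, 12, 10, 6, 8, 4, 6, 16, 18, 8, 10, 6, 8, 2, 4, 6, 16, 0, 2, 4, 6, 8, 10, 12, 14] (.cons [4, 6, 14, 16, 14, 6, 8, 4, 6, 14, 10, 12, 8, 10, 4, 6, 8, 2, 4, 6, 14, 16, 14, 8, 10, 4, 6, 8, 2, 4, 6, 14, 0, 2, 4, 6, 8, 10, 12] .nil .nil) (.cons [6, 8, 0, 2, 4, 6, 16, 18, 16, 14,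 12, 10, 6, 8, 2, 4, 6, 16, 0, 2, 4, 6, 8, 10, 12, 14] (.cons [16, 8, 6, 14, 4, 6, 8, 2, 4, 6, 14, 16, 12, 10, 8, 2, 4, 6, 14, 0, 2, 4, 6, 8, 10, 12] (.cons [2, 8, 10, 14, 6, 4, 8, 6, 12, 6, 4, 14, 12] .nil .nil) .nil) (.cons [8, 10, 6, 8, 4, 6, 16, 18, 16, 14, 12, 10, 6, 8, 2, 4, 6, 16, 0, 2, 4, 6, 8, 10, 12, 14] (.cons [16, 8, 4, 6, 14, 6, 8, 10, 4, 6, 8, 2, 4, 6, 14, 16, 12, 10, 6, 8, 2, 4, 6, 14, 0, 2, 4, 6, 8, 10, 12] (.cons [14, 8, 6, 12, 6, 4, 2, 8, 10, 14, 12] .nil .nil) .nil) (.cons [12, 10, 6, 8, 4, 6, 16, 18, 16, 14, 12, 10, 6, 8, 2, 4, 6, 16, 0, 2, 4, 6, 8, 10, 12, 14] (.cons [4, 6, 14, 8, 10, 6, 8, 2, 4, 6, 14, 16, 14, 8, 10, 6, 8, 2, 4, 6, 14, 0, 2, 4, 6, 8, 10, 12] (.cons [12, 14, 6, 4, 2, 12,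 14, 8, 6, 4, 12] .nil .nil) .nil) (.cons [12, 10, 8, 0, 2, 4, 6, 16, 18, 14, 12, 10, 6, 8, 2, 4, 6, 16, 0, 2, 4, 6, 8, 10, 12, 14] (.cons [16, 14, 12, 10, 8, 6, 4, 2, 14, 10, 12, 8, 10, 6, 8, 4, 6, 14, 16, 10, 6, 8, 4, 6, 14, 0, 2, 4, 6, 8, 10, 12] (.cons [4, 6, 8, 2, 4, 6, 12, 14, 6, 8, 10, 4, 6, 2, 4, 0, 2] .nil .nil) .nil) (.cons [14, 12, 10, 8, 2, 4, 6, 16, 18, 14, 12, 10, 6, 8, 2, 4, 6, 16, 0, 2, 4, 6, 8, 10, 12, 14] (.cons [6, 14, 16, 8, 6, 14, 12, 10, 4, 6, 8, 0, 2, 4, 6, 14, 16, 12, 10, 4, 6, 8, 2, 4, 6, 14, 0, 2, 4, 6, 8, 10, 12] (.cons [14, 12, 6, 4, 0, 2, 4, 6] .nil .nil) .nil) (.cons [16, 12, 10, 6, 8, 4, 6, 16, 18, 14, 12, 10, 6, 8, 2, 4, 6, 16, 0, 2, 4, 6, 8, 10, 12, 14] (.cons [14, 16, 12, 10,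 8, 6, 14, 8, 10, 4, 6, 8, 2, 4, 6, 14, 16, 12, 10, 8, 2, 4, 6, 14, 0, 2, 4, 6, 8, 10, 12] (.cons [10, 8, 12, 6, 8, 4, 2, 4, 6, 12, 14, 8, 6, 10] .nil .nil) .nil) (.cons [16, 6, 8, 0, 2, 4, 6, 16, 18, 16, 12, 10, 6, 8, 2, 4, 6, 16, 0, 2, 4, 6, 8, 10, 12, 14] (.cons [6, 14, 16, 10, 8, 6, 4, 2, 6, 8, 4, 6, 14, 10, 12, 8, 10, 6, 8, 4, 6, 14, 16, 8, 10, 4, 6, 8, 2, 4, 6, 14, 0, 2, 4, 6, 8, 10, 12] (.cons [2, 4, 6, 12, 8, 4, 10, 14, 8, 12] .nil .nil) .nil) (.cons [16, 8, 10, 6, 8, 4, 6, 16, 18, 16, 12, 10, 6, 8, 2, 4, 6, 16, 0, 2, 4, 6, 8, 10, 12, 14] (.cons [16, 14, 4, 6, 8, 0, 2, 4, 6, 14, 16, 6, 14, 12, 10, 4, 6, 8, 2, 4, 6, 14, 0, 2, 4, 6, 8, 10, 12] (.cons [2, 0, 4, 12, 6, 4, 2, 8, 10] (.cons [1, 1, 2, 0, 4]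 .nil .nil) .nil) .nil) (.cons [16, 12, 10, 6, 8, 4, 6, 16, 18, 16, 12, 10, 6, 8, 2, 4, 6, 16, 0, 2, 4, 6, 8, 10, 12, 14] (.cons [8, 12, 10, 8, 6, 14, 16, 4, 6, 14, 8, 10, 12, 6, 8, 10, 4, 6, 8, 2, 4, 6, 14, 16, 6, 8, 4, 6, 14, 0, 2, 4, 6, 8, 10, 12] (.cons [4, 2, 14, 6, 4, 8, 6, 12, 6, 4, 14, 12] .nil .nil) .nil) (.cons [8, 10, 6, 8, 0, 2, 4, 6, 16, 18, 12, 10, 6, 8, 2, 4, 6, 16, 0, 2, 4, 6, 8, 10, 12, 14] (.cons [6, 14, 16, 12, 10, 8, 6, 14, 10, 4, 6, 8, 2, 4, 6, 14, 16, 14, 10, 4, 6, 8, 2, 4, 6, 14, 0, 2, 4, 6, 8, 10, 12] (.cons [0, 10, 6, 8, 4, 2, 6, 4, 12, 6, 8, 10, 14, 12, 6, 4, 2, 12, 14] .nil .nil) .nil) (.cons [14, 12, 10, 8, 0, 2, 4, 6, 16, 18, 12, 10, 6, 8, 2, 4, 6, 16, 0, 2, 4, 6, 8, 10, 12, 14] (.cons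 [12, 10, 6, 8, 4, 6, 14, 16, 6, 8, 4, 6, 14, 10, 12, 8, 10, 4, 6, 8, 2, 4, 6, 14, 16, 12, 10, 4, 6, 8, 2, 4, 6, 14, 0, 2, 4, 6, 8, 10, 12] (.cons [12, 6, 8, 4, 6, 12, 14, 4, 6, 2, 8, 10, 4, 6, 0, 2] .nil .nil) .nil) (.cons [18, 16, 8, 10, 6, 8, 4, 6, 16, 18, 12, 10, 6, 8, 2, 4, 6, 16, 0, 2, 4, 6, 8, 10, 12, 14] (.cons [8, 10, 2, 4, 6, 8, 0, 2, 4, 6, 14, 16, 10, 6, 8, 4, 6, 14, 10, 12, 8, 10, 4, 6, 8, 2, 4, 6, 14, 16, 10, 4, 6, 8, 2, 4, 6, 14, 0, 2, 4, 6, 8, 10, 12] (.cons [8, 6, 12, 14, 4, 2, 0, 4, 12, 6, 4, 2, 8, 10] .nil .nil) .nil) (.cons [10, 4, 6, 8, 0, 2, 4, 6, 16, 18, 16, 10, 6, 8, 2, 4, 6, 16, 0, 2, 4, 6, 8, 10, 12, 14] (.cons [4, 6, 14, 16, 8, 2, 4, 6, 14, 8, 10, 12, 6, 8, 10, 4, 6, 8, 2, 4, 6, 14,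 16, 12, 10, 4, 6, 8, 2, 4, 6, 14, 0, 2, 4, 6, 8, 10, 12] .nil .nil) (.cons [12, 10, 4, 6, 8, 2, 4, 6, 16, 18, 16, 10, 6, 8, 2, 4, 6, 16, 0, 2, 4, 6, 8, 10, 12, 14] (.cons [10, 8, 2, 4, 6, 14, 16, 8, 10, 6, 2, 4, 6, 14, 8, 10, 12, 6, 8, 10, 4, 6, 8, 0, 2, 4, 6, 14, 16, 6, 8, 4, 6, 14, 0, 2, 4, 6, 8, 10, 12] .nil .nil) (.cons [16, 8, 10, 6, 8, 2, 4, 6, 16, 18, 16, 10, 6, 8, 2, 4, 6, 16, 0, 2, 4, 6, 8, 10, 12, 14] (.cons [4, 6, 14, 6, 8, 10, 4, 6, 8, 0, 2, 4, 6, 14, 16, 14, 12, 10, 4, 6, 8, 2, 4, 6, 14, 0, 2, 4, 6, 8, 10, 12] (.cons [12, 0, 4, 8, 10, 6, 4, 2, 12, 6, 4] .nil .nil) .nil) (.cons [14, 12, 10, 6, 8, 2, 4, 6, 16, 18, 16, 10, 6, 8, 2, 4, 6, 16, 0, 2, 4, 6, 8, 10, 12, 14] (.cons [2, 4, 6, 14, 16, 8, 4,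 6, 14, 10, 12, 8, 10, 4, 6, 8, 2, 4, 6, 14, 16, 12, 10, 6, 8, 2, 4, 6, 14, 0, 2, 4, 6, 8, 10, 12] (.cons [12, 14, 10, 4, 6, 8, 10, 6, 4, 2, 8, 6] .nil .nil) .nil) (.cons [16, 12, 10, 6, 8, 2, 4, 6, 16, 18, 16, 10, 6, 8, 2, 4, 6, 16, 0, 2, 4, 6, 8, 10, 12, 14] (.cons [16, 4, 6, 14, 10, 12, 8, 10, 2, 4, 6, 8, 0, 2, 4, 6, 14, 16, 14, 10, 4, 6, 8, 2, 4, 6, 14, 0, 2, 4, 6, 8, 10, 12] .nil .nil) (.cons [18, 16, 10, 6, 8, 2, 4, 6, 16, 18, 16, 10, 6, 8, 2, 4, 6, 16, 0, 2, 4, 6, 8, 10, 12, 14] (.cons [16, 14, 6, 8, 4, 6, 14, 10, 12, 8, 10, 4, 6, 8, 2, 4, 6, 14, 16, 8, 10, 4, 6, 8, 2, 4, 6, 14, 0, 2, 4, 6, 8, 10, 12] (.cons [8, 2, 4, 12, 6, 8, 10, 14, 12, 8, 6, 4, 2, 4, 12, 14] (.cons [3, 0, 4, 1, 5] .nil .nil) .nil)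 .nil) (.cons [14, 12, 8, 10, 6, 8, 4, 6, 16, 18, 16, 10, 6, 8, 2, 4, 6, 16, 0, 2, 4, 6, 8, 10, 12, 14] (.cons [16, 14, 6, 8, 4, 6, 14, 16, 14, 10, 6, 8, 2, 4, 6, 14, 0, 2, 4, 6, 8, 10, 12] (.cons [12, 14, 10, 8, 2, 12, 6, 4, 0, 2, 8, 10] .nil .nil) .nil) (.cons [6, 16, 8, 10, 6, 8, 4, 6, 16, 18, 16, 10, 6, 8, 2, 4, 6, 16, 0, 2, 4, 6, 8, 10, 12, 14] (.cons [16, 14, 12, 10, 8, 6, 4, 2, 0, 10, 14, 12, 8, 10, 6, 8, 4, 6, 14, 16, 12, 10, 6, 8, 4, 6, 14, 2, 4, 6, 8, 10, 12] .nil .nil) (.cons [18, 16, 8, 10, 6, 8, 4, 6, 16, 18, 16, 10, 6, 8, 2, 4, 6, 16, 0, 2, 4, 6, 8, 10, 12, 14] (.cons [6, 14, 12, 8, 10, 4, 6, 8, 0, 2, 4, 6, 14, 16, 14, 10, 6, 8, 2, 4, 6, 14, 0, 2, 4, 6, 8, 10, 12] (.cons [0, 2, 4, 14, 10, 2, 12,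 6, 8, 10, 6, 12, 14, 4, 8, 6, 4, 2] .nil .nil) .nil) (.cons [8, 10, 4, 6, 8, 0, 2, 4, 6, 16, 18, 10, 6, 8, 2, 4, 6, 16, 0, 2, 4, 6, 8, 10, 12, 14] (.cons [8, 4, 6, 14, 16, 10, 8, 4, 6, 14, 10, 12, 8, 10, 4, 6, 8, 0, 2, 4, 6, 14, 16, 12, 10, 4, 6, 8, 2, 4, 6, 14, 0, 2, 4, 6, 8, 10, 12] .nil .nil) (.cons [14, 12, 10, 6, 8, 0, 2, 4, 6, 16, 18, 10, 6, 8, 2, 4, 6, 16, 0, 2, 4, 6, 8, 10, 12, 14] .nil (.cons [18, 16, 10, 6, 8, 0, 2, 4, 6, 16, 18, 10, 6, 8, 2, 4, 6, 16, 0, 2, 4, 6, 8, 10, 12, 14] (.cons [16, 4, 2, 8, 6, 14, 10, 12, 8, 10, 6, 8, 4, 6, 14, 16, 6, 8, 10, 4, 6, 8, 2, 4, 6, 14, 0, 2, 4, 6, 8, 10, 12] (.cons [4, 6, 8, 6, 12, 14, 4, 12, 6, 4, 2, 8, 10] .nil .nil) .nil) (.cons [16, 8, 10, 4, 6, 8, 2, 4, 6,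 16, 18, 10, 6, 8, 2, 4, 6, 16, 0, 2, 4, 6, 8, 10, 12, 14] (.cons [2, 4, 6, 14, 16, 10, 8, 6, 14, 12, 10, 4, 6, 8, 2, 4, 6, 14, 16, 8, 10, 4, 6, 8, 2, 4, 6, 14, 0, 2, 4, 6, 8, 10, 12] (.cons [8, 4, 6, 0, 2, 4, 6, 8, 10] .nil .nil) .nil) (.cons [18, 6, 16, 4, 6, 8, 2, 4, 6, 16, 18, 10, 6, 8, 2, 4, 6, 16, 0, 2, 4, 6, 8, 10, 12, 14] .nil (.cons [14, 12, 8, 10, 6, 8, 2, 4, 6, 16, 18, 10, 6, 8, 2, 4, 6, 16, 0, 2, 4, 6, 8, 10, 12, 14] (.cons [12, 10, 8, 6, 4, 2, 0, 10, 14, 12, 8, 10, 6, 8, 4, 6, 14, 16, 12, 10, 6, 8, 4, 6, 14, 2, 4, 6, 8, 10, 12] (.cons [4, 6, 8, 0, 2, 4, 6, 12, 14, 10, 6, 8, 10, 12, 6, 2, 4, 0, 2] .nil .nil) .nil) (.cons [18, 16, 8, 10, 6, 8, 2, 4, 6, 16, 18, 10, 6, 8, 2, 4, 6, 16, 0, 2, 4, 6, 8,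 10, 12, 14] (.cons [12, 10, 8, 2, 4, 6, 14, 16, 14, 6, 8, 4, 6, 14, 10, 8, 6, 4, 2, 0, 10, 14, 12, 8, 10, 6, 8, 4, 6, 14, 16, 12, 10, 6, 8, 4, 6, 14, 2, 4, 6, 8, 10, 12] .nil .nil) (.cons [14, 12, 10, 4, 6, 8, 2, 4, 6, 16, 18, 16, 6, 8, 2, 4, 6, 16, 0, 2, 4, 6, 8, 10, 12, 14] .nil (.cons [16, 14, 12, 10, 6, 8, 2, 4, 6, 16, 18, 16, 6, 8, 2, 4, 6, 16, 0, 2, 4, 6, 8, 10, 12, 14] (.cons [6, 14, 16, 8, 4, 6, 14, 10, 12, 8, 10, 4, 6, 8, 2, 4, 6, 14, 16, 14, 8, 10, 4, 6, 8, 2, 4, 6, 14, 0, 2, 4, 6, 8, 10, 12] (.cons [6, 8, 12] .nil .nil) .nil) (.cons [16, 14, 12, 8, 10, 6, 8, 4, 6, 16, 18, 16, 6, 8, 2, 4, 6, 16, 0, 2, 4, 6, 8, 10, 12, 14] (.cons [14, 16, 2, 4, 6, 14, 10, 12, 6, 8, 10, 4, 6, 8, 2, 4, 6, 14, 16, 10,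 4, 6, 8, 2, 4, 6, 14, 0, 2, 4, 6, 8, 10, 12] (.cons [8, 2, 10, 8, 6, 4, 12, 14, 6, 4] .nil .nil) .nil) (.cons [18, 16, 12, 8, 10, 6, 8, 4, 6, 16, 18, 16, 6, 8, 2, 4, 6, 16, 0, 2, 4, 6, 8, 10, 12, 14] (.cons [10, 8, 6, 14, 12, 8, 10, 4, 6, 8, 0, 2, 4, 6, 14, 16, 14, 10, 4, 6, 8, 2, 4, 6, 14, 0, 2, 4, 6, 8, 10, 12] .nil .nil) (.cons [16, 12, 8, 10, 4, 6, 8, 2, 4, 6, 16, 18, 6, 8, 2, 4, 6, 16, 0, 2, 4, 6, 8, 10, 12, 14] (.cons [16, 6, 14, 12, 6, 8, 10, 4, 6, 8, 2, 4, 6, 14, 16, 6, 8, 2, 4, 6, 14, 0, 2, 4, 6, 8, 10, 12] (.cons [12, 8, 6, 4, 2, 6, 8, 10, 12] .nil .nil) .nil) (.cons [6, 16, 8, 10, 4, 6, 8, 2, 4, 6, 16, 18, 6, 8, 2, 4, 6, 16, 0, 2, 4, 6, 8, 10, 12, 14] (.cons [16, 6, 14, 8, 10, 4, 6, 8, 2, 4, 6, 14,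 16, 10, 4, 6, 8, 2, 4, 6, 14, 0, 2, 4, 6, 8, 10, 12] (.cons [14, 2, 4, 6, 12, 8, 10, 6, 4, 2, 4, 14, 12] .nil .nil) .nil) (.cons [4, 6, 16, 8, 10, 6, 8, 2, 4, 6, 16, 18, 6, 8, 2, 4, 6, 16, 0, 2, 4, 6, 8, 10, 12, 14] (.cons [6, 8, 2, 4, 6, 14, 16, 14, 6, 8, 4, 6, 14, 10, 12, 6, 8, 10, 4, 6, 8, 2, 4, 6, 14, 16, 8, 10, 6, 8, 2, 4, 6, 14, 0, 2, 4, 6, 8, 10, 12] (.cons [8, 0, 2, 6, 4, 12, 6, 8, 10, 14, 6, 12, 14, 4, 8, 6, 4, 2] .nil .nil) .nil) (.cons [6, 16, 14, 12, 8, 10, 6, 8, 4, 6, 16, 18, 6, 8, 2, 4, 6, 16, 0, 2, 4, 6, 8, 10, 12, 14] (.cons [6, 14, 12, 8, 10, 2, 4, 6, 8, 0, 2, 4, 6, 14, 16, 14, 10, 4, 6, 8, 2, 4, 6, 14, 0, 2, 4, 6, 8, 10, 12] (.cons [4, 2, 8, 6, 12, 14, 12, 6, 4] .nil .nil) .nil) (.cons [4,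 6, 16, 12, 8, 10, 6, 8, 4, 6, 16, 18, 6, 8, 2, 4, 6, 16, 0, 2, 4, 6, 8, 10, 12, 14] (.cons [14, 10, 12, 8, 10, 2, 4, 6, 8, 0, 2, 4, 6, 14, 16, 12, 8, 10, 4, 6, 8, 2, 4, 6, 14, 0, 2, 4, 6, 8, 10, 12] (.cons [10, 12, 6, 8, 10, 4, 6, 12, 14, 8, 6, 4, 2, 8] (.cons [3, 1, 5, 5, 1] .nil .nil) .nil) .nil) (.cons [2, 4, 6, 16, 8, 10, 6, 8, 4, 6, 16, 18, 6, 8, 2, 4, 6, 16, 0, 2, 4, 6, 8, 10, 12, 14] (.cons [2, 4, 6, 8, 14, 6, 4, 6, 14, 16, 8, 6, 14, 10, 12, 8, 10, 6, 8, 2, 4, 6, 14, 16, 8, 10, 6, 8, 2, 4, 6, 14, 0, 2, 4, 6, 8, 10, 12] (.cons [2, 4, 6, 12, 8, 4, 6, 4, 12, 2, 6, 8, 10, 4, 6, 12, 14] .nil .nil) .nil) (.cons [18, 16, 6, 8, 0, 2, 4, 6, 16, 18, 14, 12, 10, 8, 2, 4, 6, 16, 0, 2, 4, 6, 8, 10, 12, 14] (.cons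 [16, 14, 8, 10, 4, 6, 8, 2, 4, 6, 14, 16, 14, 12, 8, 10, 4, 6, 8, 2, 4, 6, 14, 0, 2, 4, 6, 8, 10, 12] (.cons [6, 12, 10, 6, 4, 2, 4, 14, 12] .nil .nil) .nil) (.cons [16, 10, 4, 6, 8, 2, 4, 6, 16, 18, 14, 12, 10, 8, 2, 4, 6, 16, 0, 2, 4, 6, 8, 10, 12, 14] (.cons [14, 10, 6, 8, 4, 6, 14, 16, 12, 10, 6, 8, 4, 6, 14, 0, 2, 4, 6, 8, 10, 12] (.cons [8, 6, 12, 10, 8, 6, 4, 2, 10, 12, 14, 8] .nil .nil) .nil) (.cons [14, 12, 8, 10, 6, 8, 4, 6, 16, 18, 14, 12, 10, 8, 2, 4, 6, 16, 0, 2, 4, 6, 8, 10, 12, 14] (.cons [10, 8, 4, 6, 14, 12, 8, 10, 4, 6, 8, 2, 4, 6, 14, 16, 10, 6, 8, 2, 4, 6, 14, 0, 2, 4, 6, 8, 10, 12] (.cons [4, 6, 8, 10, 4, 2, 0, 6, 4, 2, 8, 6] (.cons [2, 5, 2, 0, 3, 1] .nil .nil) .nil) .nil) (.cons [16, 10,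 4, 6, 8, 0, 2, 4, 6, 16, 18, 12, 10, 8, 2, 4, 6, 16, 0, 2, 4, 6, 8, 10, 12, 14] (.cons [14, 6, 8, 4, 6, 14, 16, 12, 10, 8, 4, 6, 14, 8, 10, 12, 6, 8, 10, 4, 6, 8, 2, 4, 6, 14, 16, 10, 4, 6, 8, 2, 4, 6, 14, 0, 2, 4, 6, 8, 10, 12] (.cons [2, 12, 6, 8, 10] .nil .nil) .nil) (.cons [16, 12, 10, 6, 8, 0, 2, 4, 6, 16, 18, 12, 10, 8, 2, 4, 6, 16, 0, 2, 4, 6, 8, 10, 12, 14] (.cons [10, 6, 8, 2, 4, 6, 14, 16, 6, 8, 4, 6, 14, 10, 12, 6, 8, 10, 4, 6, 8, 0, 2, 4, 6, 14, 16, 12, 10, 4, 6, 8, 2, 4, 6, 14, 0, 2, 4, 6, 8, 10, 12] (.cons [14, 4, 6, 10] .nil .nil) .nil) (.cons [12, 8, 10, 4, 6, 8, 2, 4, 6, 16, 18, 12, 10, 8, 2, 4, 6, 16, 0, 2, 4, 6, 8, 10, 12, 14] (.cons [16, 10, 14, 6, 8, 2, 4, 6, 14, 10, 12, 8, 10, 6, 8, 0,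 2, 4, 6, 14, 16, 8, 2, 4, 6, 14, 0, 2, 4, 6, 8, 10, 12] (.cons [0, 2, 6, 4, 8, 10, 12, 6, 4] .nil .nil) .nil) (.cons [16, 8, 10, 4, 6, 8, 2, 4, 6, 16, 18, 12, 10, 8, 2, 4, 6, 16, 0, 2, 4, 6, 8, 10, 12, 14] (.cons [4, 6, 14, 10, 12, 8, 10, 6, 8, 2, 4, 6, 14, 16, 14, 10, 6, 8, 2, 4, 6, 14, 0, 2, 4, 6, 8, 10, 12] .nil .nil) (.cons [18, 16, 10, 4, 6, 8, 2, 4, 6, 16, 18, 12, 10, 8, 2, 4, 6, 16, 0, 2, 4, 6, 8, 10, 12, 14] (.cons [16, 14, 10, 12, 6, 8, 10, 4, 6, 8, 0, 2, 4, 6, 14, 16, 8, 10, 6, 8, 2, 4, 6, 14, 0, 2, 4, 6, 8, 10, 12] .nil .nil) .nil))))))))))))))))))))))))))))))))))))))))))))))))))))))))))))))))))))))))))))))))))))))))))))))))))))))))))))))))))))))))))))))))))))))))))))))))))))))))))))))))))))))))))))))))))))))))))))))))))))))))))))))))))))))))))))))))))))))))))))))))))))))))))))))))))))))))))))))))))))))))))))))))))))))))))))))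 (⟨cu_l0.b, cu_l0.S, [], cu_R6, 0⟩ :: cu_tl) (0 :: cu_lk) Pd.nil 0 = true := by decide +kernel

end Cfsg.Agent.Fi23C
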